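import Cfsg.Agent.Lib.H53.MS2
import Cfsg.Agent.Lib.H40.SL2Tori

/-!
# The line groups of the members in `T`
-/

set_option autoImplicit false
set_option linter.unusedSectionVars false
set_option linter.unusedVariables false

namespace H53.MS

open Subgroup H51.FF H51.SylowAmb H53.PU H51.OG

section

variable {p : ℕ} [hp : Fact p.Prime] {H V : Type*} [Group H] [Finite H] [AddCommGroup V] [Finite V]
  [DistribMulAction H V] {T M : Subgroup H}

variable (sit : Sit p V T M) (wd : Wd p H V) (fam : H51.OG.Fam p (offs p H V))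

include sit wd fam

/-- the line group is `SL₂(q)` -/
theorem lx_sl {X : Subgroup H} (hX : X ∈ AT p V T) : ∃ (F : Type) (_ : Field F) (_ : Fintype F)
    (ρ : ↥(LX p V T X) ≃* Matrix.SpecialLinearGroup (Fin 2) F) (Ψ : V →+ (Fin 2 → F)), Function.Surjective Ψ ∧
      (∀ v, Ψ v = 0 ↔ v ∈ fx V (LX p V T X)) ∧ (∀ (h : ↥(LX p V T X)) (v : V),
      Ψ ((h : H) • v) = ((ρ h : Matrix.SpecialLinearGroup (Fin 2) F) : Matrix (Fin 2) (Fin 2) F).mulVec (Ψ v)) ∧
      Fintype.card F = Nat.card X := by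
  obtain ⟨Z, hZ, hne, _⟩ := at_exZ sit wd fam hX
  have pq := at_pq sit wd fam hX (at_self sit wd fam hX) hZ hne.symm
  rw [at_lx sit wd fam hX (at_self sit wd fam hX) hZ hne.symm]
  exact pq.main

theorem lx_kern {X : Subgroup H} (hX : X ∈ AT p V T) {g : H} (hg : g ∈ LX p V T X)
    (h : ∀ v : V, g • v - v ∈ fx V (LX p V T X)) : g = 1 := by
  obtain ⟨F, iF, iF', ρ, Ψ, h1, h2, h3, h4⟩ := lx_sl sit wd fam hX
  have h4 : ρ ⟨g, hg⟩ = 1 := by
    have key : ∀ z : Fin 2 → F, ((ρ ⟨g, hg⟩ : Matrix.SpecialLinearGroup (Fin 2) F) : Matrix (Fin 2) (Fin 2) F).mulVec z = z := by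
      intro z
      obtain ⟨v, rfl⟩ := h1 z
      rw [← h3]
      have h5 := (h2 _).2 (h v)
      rw [map_sub] at h5
      exact sub_eq_zero.1 h5
    apply H53.FS.eq_one_of_fix ![1, 0] ![0, 1] (by simp) (key _) (key _)
  have h5 := ρ.injective (h4.trans (map_one ρ).symm)
  exact congrArg Subtype.val h5

theorem le_lx {X : Subgroup H} (hX : X ∈ AT p V T) : X ≤ LX p V T X := le_sSup (at_self sit wd fam hX)

/-- the member is determined by its line group -/
theorem at_uniq_lx {X Y : Subgroup H} (hX : X ∈ AT p V T) (hY : Y ∈ AT p V T) (h : Y ≤ LX p V T X) : Y = X := by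
  by_contra hne
  apply hY.1.2.2.1
  rw [eq_bot_iff]
  intro y hy
  exact Subgroup.mem_bot.2 (lx_kern sit wd fam hX (h hy) (cmt_fx_lx sit wd fam hX hY hne y hy))

/-- a member is a Sylow subgroup of its line group -/
theorem at_sylow {X : Subgroup H} (hX : X ∈ AT p V T) : ¬ p ∣ X.relIndex (LX p V T X) := by
  obtain ⟨F, iF, iF', ρ, Ψ, h1, h2, h3, h4⟩ := lx_sl sit wd fam hX
  have h5 : Nat.card (LX p V T X) = Nat.card X * (Nat.card X - 1) * (Nat.card X + 1) := by
    rw [Nat.card_congr ρ.toEquiv, H40.SL2Tori.card_SL2, h4]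
  have h6 : X.relIndex (LX p V T X) * Nat.card X = Nat.card (LX p V T X) := by
    have h7 := Subgroup.relIndex_mul_relIndex ⊥ X (LX p V T X) bot_le (le_lx sit wd fam hX)
    rwa [Subgroup.relIndex_bot_left, Subgroup.relIndex_bot_left, mul_comm] at h7
  have hX0 : 0 < Nat.card X := Nat.card_pos
  have h7 : X.relIndex (LX p V T X) = (Nat.card X - 1) * (Nat.card X + 1) := by
    apply Nat.eq_of_mul_eq_mul_right hX0
    rw [h6, h5]; ring
  have h8 : p ∣ Nat.card X := by
    obtain ⟨k, hk⟩ := IsPGroup.iff_card.1 hX.1.1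
    have h9 := wd.one_lt hX.1
    rw [hk]
    apply dvd_pow_self
    rintro rfl
    rw [hk, pow_zero] at h9
    omega
  rw [h7]
  intro h9
  rcases (Nat.Prime.dvd_mul hp.out).1 h9 with h10 | h10
  · have h11 := (Nat.dvd_sub h8 h10)
    have e : Nat.card X - (Nat.card X - 1) = 1 := by omega
    rw [e] at h11
    exact hp.out.one_lt.ne' (Nat.dvd_one.1 h11)
  · have h11 := (Nat.dvd_sub h10 h8)
    have e : Nat.card X + 1 - Nat.card X = 1 := by omega
    rw [e] at h11
    exact hp.out.one_lt.ne' (Nat.dvd_one.1 h11)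

/-- generation of the line group -/
theorem at_gen {X : Subgroup H} (hX : X ∈ AT p V T) {g : H} (hg : g ∈ LX p V T X) (hne : cg g X ≠ X) :
    X ⊔ cg g X = LX p V T X := by
  have h1 : cg g X ∈ Wm p H V (DX p V T X) := wm_cg (at_self sit wd fam hX) ((at_cmL sit wd fam hX).le_nz hg)
  exact (at_lx sit wd fam hX (at_self sit wd fam hX) h1 hne.symm).symm

section big

variable (hq : ∀ X ∈ AT p V T, 2 < Nat.card X)
include hq

theorem lx_cm {X Y : Subgroup H} (hX : X ∈ AT p V T) (hY : Y ∈ AT p V T) (hne : X ≠ Y) :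
    Cm (LX p V T X) (LX p V T Y) :=
  cm_of_cmt wd.faith (big_comm sit wd fam hY hX hne.symm (hq Y hY)) (big_comm sit wd fam hX hY hne (hq X hX))

/-- the line groups are normal in their product -/
theorem lx_norm {X : Subgroup H} (hX : X ∈ AT p V T) :
    sSup {L | ∃ Y ∈ AT p V T, L = LX p V T Y} ≤ normalizer ((LX p V T X : Subgroup H) : Set H) := by
  apply sSup_le
  rintro _ ⟨Y, hY, rfl⟩
  by_cases h : Y = X
  · rw [h]; exact Subgroup.le_normalizer
  · exact (lx_cm sit wd fam hq hY hX h).le_nz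

theorem lx_inf_bot {X : Subgroup H} (hX : X ∈ AT p V T) {𝒯 : Set (Subgroup H)} (h𝒯 : 𝒯 ⊆ AT p V T) (hX𝒯 : X ∉ 𝒯) :
    LX p V T X ⊓ sSup ((LX p V T) '' 𝒯) = ⊥ := by
  rw [eq_bot_iff]
  rintro g ⟨h1, h2⟩
  refine Subgroup.mem_bot.2 (lx_kern sit wd fam hX h1 ?_)
  refine cmt_sSup (𝒯 := (LX p V T) '' 𝒯) ?_ g h2
  rintro _ ⟨Y, hY, rfl⟩
  exact big_comm sit wd fam hX (h𝒯 hY) (fun h => hX𝒯 (h ▸ hY)) (hq X hX)

/-- `p`-elements normalizing all the members -/
theorem m3_aux (s : Finset (Subgroup H)) : ((s : Set (Subgroup H)) ⊆ AT p V T) →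
    ∀ n ∈ sSup ((LX p V T) '' (s : Set (Subgroup H))), (∃ k : ℕ, n ^ p ^ k = 1) → (∀ X ∈ s, cg n X = X) →
      n ∈ sSup (s : Set (Subgroup H)) := by
  classical
  induction s using Finset.induction_on with
  | empty =>
    intro _ n hn _ _
    rw [Finset.coe_empty, Set.image_empty] at hn
    rw [Finset.coe_empty]
    exact hn
  | insert X s hX ih =>
    intro hs n hn hpn hnorm
    rw [Finset.coe_insert, Set.insert_subset_iff] at hs
    rw [Finset.coe_insert, Set.image_insert_eq, sSup_insert] at hn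
    rw [Finset.coe_insert, sSup_insert]
    have hcm : Cm (LX p V T X) (sSup ((LX p V T) '' (s : Set (Subgroup H)))) := by
      refine (cm_sSup ?_).symm
      rintro _ ⟨Y, hY, rfl⟩
      exact lx_cm sit wd fam hq (hs.2 hY) hs.1 (fun h => hX (h ▸ hY))
    obtain ⟨l, hl, m, hm, rfl⟩ := (H13.Norm.mem_sup_of_le_normalizer hcm.le_nz).1 hn
    have hlm : Commute l m := hcm l hl m hm
    obtain ⟨k, hk⟩ := hpn
    rw [hlm.mul_pow] at hk
    have hinf := lx_inf_bot sit wd fam hq hs.1 hs.2 (fun h => hX (Finset.mem_coe.1 h))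
    have hl1 : l ^ p ^ k = 1 := by
      have h1 : l ^ p ^ k ∈ LX p V T X ⊓ sSup ((LX p V T) '' (s : Set (Subgroup H))) := by
        refine ⟨pow_mem hl _, ?_⟩
        rw [eq_inv_of_mul_eq_one_left hk]
        exact Subgroup.inv_mem _ (pow_mem hm _)
      rw [hinf] at h1
      exact Subgroup.mem_bot.1 h1
    have hm1 : m ^ p ^ k = 1 := by rwa [hl1, one_mul] at hk
    have hmX : cg m X = X := mem_nz_iff.1 ((hcm.mono (le_lx sit wd fam hs.1) le_rfl).symm.le_nz hm)
    have hlX : cg l X = X := by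
      have h1 := hnorm X (Finset.mem_insert_self X s)
      rwa [← cg_cg, hmX] at h1
    have hlmem : l ∈ X := by
      have h1 : IsPGroup p (zpowers l) := by
        rintro ⟨_, i, rfl⟩
        refine ⟨k, Subtype.ext ?_⟩
        show (l ^ i) ^ p ^ k = 1
        rw [← zpow_natCast, ← zpow_mul, mul_comm, zpow_mul, zpow_natCast, hl1, one_zpow]
      have h2 : IsPGroup p ↥(zpowers l ⊔ X) := h1.to_sup_of_normal_right' hs.1.1.1 (by
        rw [zpowers_le]; exact mem_nz_iff.2 hlX)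
      have h3 : X = zpowers l ⊔ X := eq_of_syl (p := p) (K := LX p V T X) le_sup_right (sup_le ((zpowers_le).2 hl)
        (le_lx sit wd fam hs.1)) h2 (at_sylow sit wd fam hs.1)
      rw [h3]
      exact Subgroup.mem_sup_left (mem_zpowers l)
    refine mul_mem (Subgroup.mem_sup_left hlmem) (Subgroup.mem_sup_right ?_)
    apply ih hs.2 m hm ⟨k, hm1⟩
    intro Y hY
    have hYX : Y ≠ X := fun h => hX (h ▸ hY)
    have h1 : cg l Y = Y := mem_nz_iff.1 (((lx_cm sit wd fam hq hs.1 (hs.2 hY) hYX.symm).mono le_rfl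
      (le_lx sit wd fam (hs.2 hY))).le_nz hl)
    have h2 := hnorm Y (Finset.mem_insert_of_mem hY)
    rw [hlm.eq, ← cg_cg, h1] at h2
    exact h2

/-- **M3** -/
theorem m3 : T ⊓ sSup {L | ∃ Y ∈ AT p V T, L = LX p V T Y} ≤ sSup (AT p V T) := by
  rintro t ⟨ht, htN⟩
  have e1 : {L | ∃ Y ∈ AT p V T, L = LX p V T Y} = (LX p V T) '' (AT p V T) := by
    ext L
    exact ⟨fun ⟨Y, hY, h⟩ => ⟨Y, hY, h.symm⟩, fun ⟨Y, hY, h⟩ => ⟨Y, hY, h.symm⟩⟩
  have h1 : ∀ X ∈ AT p V T, cg t X = X := by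
    intro X hX
    apply at_uniq_lx sit wd fam hX (at_cg hX ht)
    rw [cg_le_iff]
    have h2 := mem_nz_iff.1 (lx_norm sit wd fam hq hX (inv_mem htN))
    rw [h2]
    exact le_lx sit wd fam hX
  have h2 := m3_aux sit wd fam hq (Set.toFinite (AT p V T)).toFinset (by rw [Set.Finite.coe_toFinset]) t (by
    rw [Set.Finite.coe_toFinset, ← e1]; exact htN) (by
      obtain ⟨k, hk⟩ := sit.ms.pgT ⟨t, ht⟩
      exact ⟨k, congrArg Subtype.val hk⟩) (by
      intro X hX
      exact h1 X ((Set.Finite.mem_toFinset _).1 hX))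
  rwa [Set.Finite.coe_toFinset] at h2

end big

omit sit fam in
theorem two_lt_of_odd (hp2 : p ≠ 2) : ∀ X ∈ AT p V T, 2 < Nat.card X := by
  intro X hX
  have h1 := wd.one_lt hX.1
  obtain ⟨n, hn⟩ := IsPGroup.iff_card.1 hX.1.1
  have h2 : Nat.card X ≠ 2 := by
    intro h
    rw [h] at hn
    have hn0 : n ≠ 0 := by rintro rfl; simp at hn
    have h3 : p ∣ 2 := by rw [hn]; exact dvd_pow_self p hn0
    exact hp2 ((Nat.prime_dvd_prime_iff_eq hp.out Nat.prime_two).1 h3)
  omega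

end

end H53.MS
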