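import Cfsg.Agent.Lib.H53.PU13
import Cfsg.Agent.Lib.H55.CLFinal

/-!
Transport of the characteristic subgroups of pushing up along an embedding, and the output of the core theorem.
-/

set_option autoImplicit false

open Subgroup H51.ThompsonA H53.PU

universe u

namespace H53.GN

variable {S G : Type*} [Group S] [Group G]

theorem map_cent (j : S →* G) (hj : Function.Injective j) (H : Subgroup S) :
    (centralizer (H : Set S)).map j = j.range ⊓ centralizer ((H.map j : Subgroup G) : Set G) := by
  ext x
  constructor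
  · rintro ⟨y, hy, rfl⟩
    refine ⟨⟨y, rfl⟩, mem_centralizer_iff.mpr ?_⟩
    rintro _ ⟨h, hh, rfl⟩
    have := mem_centralizer_iff.mp hy h hh
    rw [← map_mul, ← map_mul, this]
  · rintro ⟨⟨y, rfl⟩, hy⟩
    refine ⟨y, mem_centralizer_iff.mpr ?_, rfl⟩
    intro h hh
    have := mem_centralizer_iff.mp hy (j h) ⟨h, hh, rfl⟩
    rw [← map_mul, ← map_mul] at this
    exact hj this

theorem map_top' (j : S →* G) : (⊤ : Subgroup S).map j = j.range := (MonoidHom.range_eq_map j).symm

theorem map_center (j : S →* G) (hj : Function.Injective j) :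
    (center S).map j = j.range ⊓ centralizer (j.range : Set G) := by
  have h := map_cent j hj ⊤
  rw [map_top'] at h
  rw [← h]
  congr 1
  ext x
  rw [mem_center_iff, mem_centralizer_iff]
  exact ⟨fun h y _ => h y, fun h y => h y (mem_top y)⟩

theorem ab_map_iff (j : S →* G) (hj : Function.Injective j) {A : Subgroup S} :
    Ab (A.map j) ↔ Ab A := by
  constructor
  · intro h a ha b hb
    have := h (j a) ⟨a, ha, rfl⟩ (j b) ⟨b, hb, rfl⟩
    rw [← map_mul, ← map_mul] at this
    exact hj this
  · intro h
    exact h.map j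

theorem map_maxAb (j : S →* G) (hj : Function.Injective j) {A P : Subgroup S} :
    MaxAb (A.map j) (P.map j) ↔ MaxAb A P := by
  constructor
  · rintro ⟨h1, h2, h3⟩
    refine ⟨(map_le_map_iff_of_injective hj).mp h1, (ab_map_iff j hj).mp h2, fun B hB hBa => ?_⟩
    have := h3 (B.map j) (map_mono hB) (hBa.map j)
    rwa [card_map_of_injective hj, card_map_of_injective hj] at this
  · rintro ⟨h1, h2, h3⟩
    refine ⟨map_mono h1, h2.map j, fun B hB hBa => ?_⟩
    have hBr : B ≤ j.range := hB.trans (map_le_range j P)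
    have e : (B.comap j).map j = B := by rw [map_comap_eq, inf_eq_right.mpr hBr]
    have h4 : B.comap j ≤ P := by
      rw [← map_le_map_iff_of_injective hj, e]
      exact hB
    have := h3 (B.comap j) h4 ((ab_map_iff j hj).mp (by rw [e]; exact hBa))
    rw [← e, card_map_of_injective hj, card_map_of_injective hj]
    exact this

theorem map_J' (j : S →* G) (hj : Function.Injective j) (P : Subgroup S) :
    (J P).map j = J (P.map j) := by
  apply le_antisymm
  · rw [map_le_iff_le_comap]
    apply sSup_le
    intro A hA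
    rw [← map_le_iff_le_comap]
    exact MaxAb.le_J ((map_maxAb j hj).mpr hA)
  · apply sSup_le
    intro A hA
    have hAr : A ≤ j.range := hA.1.trans (map_le_range j P)
    have e : (A.comap j).map j = A := by rw [map_comap_eq, inf_eq_right.mpr hAr]
    rw [← e]
    apply map_mono
    apply MaxAb.le_J
    rw [← map_maxAb j hj, e]
    exact hA

theorem thompson_eq : Cfsg.thompsonSubgroupA S = J (⊤ : Subgroup S) := by
  unfold Cfsg.thompsonSubgroupA J
  congr 1
  ext A
  constructor
  · rintro ⟨h1, h2⟩
    exact ⟨le_top, ab_iff.mpr h1, fun B _ hB => h2 B (ab_iff.mp hB)⟩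
  · rintro ⟨-, h1, h2⟩
    exact ⟨ab_iff.mp h1, fun B hB => h2 B le_top (ab_iff.mpr hB)⟩

theorem map_thompson (j : S →* G) (hj : Function.Injective j) :
    (Cfsg.thompsonSubgroupA S).map j = Cfsg.thompsonSubgroupAOf j.range := by
  rw [thompson_eq, thompsonSubgroupAOf_eq, map_J' j hj, map_top']

/-- `Z(J(S))` -/
def ZJ (S : Type*) [Group S] : Subgroup S :=
  Cfsg.thompsonSubgroupA S ⊓ centralizer (Cfsg.thompsonSubgroupA S : Set S)

theorem map_ZJ (j : S →* G) (hj : Function.Injective j) :
    (ZJ S).map j = Cfsg.centerThompsonAOf j.range := by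
  unfold ZJ Cfsg.centerThompsonAOf
  rw [map_inf_eq _ _ _ hj, map_cent j hj, map_thompson j hj]
  apply le_antisymm
  · exact inf_le_inf le_rfl inf_le_right
  · refine le_inf inf_le_left (le_inf ?_ inf_le_right)
    rw [thompsonSubgroupAOf_eq]
    exact inf_le_left.trans (J_le _)

theorem map_powerClosure (p n : ℕ) (j : S →* G) (H : Subgroup S) :
    (Cfsg.powerClosure p n H).map j = Cfsg.powerClosure p n (H.map j) := by
  unfold Cfsg.powerClosure
  rw [MonoidHom.map_closure]
  congr 1
  ext x
  constructor
  · rintro ⟨_, ⟨y, hy, rfl⟩, rfl⟩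
    exact ⟨j y, ⟨y, hy, rfl⟩, by simp⟩
  · rintro ⟨_, ⟨y, hy, rfl⟩, rfl⟩
    exact ⟨y ^ p ^ n, ⟨y, hy, rfl⟩, by simp⟩

theorem isElem_map_iff {p : ℕ} (j : S →* G) (hj : Function.Injective j) {A : Subgroup S} :
    Cfsg.IsElementaryAbelian p (A.map j) ↔ Cfsg.IsElementaryAbelian p A := by
  constructor
  · rintro ⟨h1, h2⟩
    refine ⟨ab_iff.mp ((ab_map_iff j hj).mp (ab_iff.mpr h1)), fun x hx => ?_⟩
    have := h2 (j x) ⟨x, hx, rfl⟩
    rw [← map_pow] at this
    exact (map_eq_one_iff j hj).mp this
  · rintro ⟨h1, h2⟩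
    refine ⟨ab_iff.mp ((ab_map_iff j hj).mpr (ab_iff.mpr h1)), ?_⟩
    rintro _ ⟨x, hx, rfl⟩
    rw [← map_pow, h2 x hx, map_one]

/-! characteristic subgroups -/

theorem char_thompson : (Cfsg.thompsonSubgroupA S).Characteristic := by
  rw [characteristic_iff_map_eq]
  intro φ
  have h := map_J (φ : S ≃* S) (⊤ : Subgroup S)
  rw [thompson_eq]
  rw [h]
  congr 1
  exact map_top_of_surjective _ φ.surjective

theorem char_centralizer {H : Subgroup S} (h : H.Characteristic) : (centralizer (H : Set S)).Characteristic := by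
  infer_instance

theorem char_inf {H K : Subgroup S} (hH : H.Characteristic) (hK : K.Characteristic) :
    (H ⊓ K).Characteristic := by
  rw [characteristic_iff_comap_eq] at *
  intro φ
  rw [comap_inf, hH, hK]

theorem char_sup {H K : Subgroup S} (hH : H.Characteristic) (hK : K.Characteristic) :
    (H ⊔ K).Characteristic := by
  rw [characteristic_iff_map_eq] at *
  intro φ
  rw [Subgroup.map_sup, hH, hK]

theorem char_comm {H K : Subgroup S} (hH : H.Characteristic) (hK : K.Characteristic) :
    (⁅H, K⁆).Characteristic := by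
  rw [characteristic_iff_map_eq] at *
  intro φ
  rw [map_commutator, hH, hK]

theorem char_ZJ : (ZJ S).Characteristic := char_inf char_thompson (char_centralizer char_thompson)

theorem char_top : (⊤ : Subgroup S).Characteristic := inferInstance

theorem char_powerClosure {p n : ℕ} {H : Subgroup S} (hH : H.Characteristic) :
    (Cfsg.powerClosure p n H).Characteristic := by
  rw [characteristic_iff_map_eq] at *
  intro φ
  rw [map_powerClosure, hH]

theorem char_subgroupOf_of_eq_top {H K : Subgroup S} (hK : K = ⊤) (hH : H.Characteristic) :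
    (H.subgroupOf K).Characteristic := by
  subst hK
  rw [characteristic_iff_comap_le] at *
  intro φ x hx
  rw [mem_comap, mem_subgroupOf] at hx
  rw [mem_subgroupOf]
  have h1 := hH ((topEquiv.symm.trans φ).trans topEquiv)
  exact h1 (x := (x : S)) (by
    rw [mem_comap]
    exact hx)

theorem char_subgroupOf_self {H : Subgroup S} : (H.subgroupOf H).Characteristic := by
  rw [subgroupOf_self]
  infer_instance

/-- the output of the core theorem of pushing up -/
def CoreOut (p : ℕ) (S : Type u) [Group S] : Prop :=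
  ∃ S₁ N : Subgroup S, S₁ ≠ ⊥ ∧ S₁.Characteristic ∧ S₁ ≤ center S ∧ N.Characteristic ∧
    ∀ (G : Type u) [Group G] [Finite G] (j : S →* G), Function.Injective j →
      Cfsg.IsPushingUpSituation p j.range → (S₁.map j).Normal ∨
        ((N.map j).Normal ∧ PSit.VS j.range ≤ N.map j ∧ N.map j ≤ Cfsg.pCore p G)

end H53.GN
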