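import Cfsg.Agent.Lib.H53.GN12

/-!
Assembly of the pushing up theorems with two characteristic subgroups: S2991 and S2988 from the core theorem.
-/

set_option autoImplicit false

open Subgroup H53.PU H55.CD H51.ThompsonA
open scoped Pointwise commutatorElement

universe u

namespace H53.GN

variable {S : Type u} [Group S] [Finite S] {p : ℕ} [hp : Fact p.Prime]

omit [Finite S] hp in
theorem Pair.apply {S₁ S₂ : Subgroup S} (h : Pair p S S₁ S₂) (G : Type u) [Group G] [Finite G]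
    (P : Subgroup G) (e : S ≃* ↥P) (hE : Cfsg.IsPushingUpSituation p P) :
    ((S₁).map ((P.subtype).comp (e : S ≃* ↥P).toMonoidHom)).Normal ∨
      ((S₂).map ((P.subtype).comp (e : S ≃* ↥P).toMonoidHom)).Normal := by
  have hj : Function.Injective ((P.subtype).comp (e : S ≃* ↥P).toMonoidHom) :=
    P.subtype_injective.comp e.injective
  have hr : ((P.subtype).comp (e : S ≃* ↥P).toMonoidHom).range = P := by
    rw [MonoidHom.range_comp, MonoidHom.range_eq_top.mpr e.surjective, ← MonoidHom.range_eq_map,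
      range_subtype]
  exact h G _ hj (by rw [hr]; exact hE)

theorem center_ne_bot [Nontrivial S] (hS : IsPGroup p S) : center S ≠ ⊥ := by
  intro h0
  have := hS.center_nontrivial
  exact (Subgroup.nontrivial_iff_ne_bot _).mp this h0

/-- the full conclusion -/
def Concl (p : ℕ) (S : Type u) [Group S] (S₁ S₂ : Subgroup S) : Prop :=
  S₁ ≠ ⊥ ∧ S₂ ≠ ⊥ ∧ S₁.Characteristic ∧ S₂.Characteristic ∧ S₁ ≤ center S ∧
    S₂ ≤ centralizer (ZJ S : Set S) ∧ (S₂.subgroupOf (centralizer (ZJ S : Set S))).Characteristic ∧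
    Pair p S S₁ S₂

omit hp in
theorem cent_ZJ_top (h : ⁅ZJ S, (⊤ : Subgroup S)⁆ = ⊥) : ZJ S ≤ center S ∧ centralizer (ZJ S : Set S) = ⊤ := by
  have h1 : ZJ S ≤ center S := by
    intro a ha
    rw [mem_center_iff]
    intro g
    have h1 : ⁅a, g⁆ ∈ ⁅ZJ S, (⊤ : Subgroup S)⁆ := commutator_mem_commutator ha (mem_top g)
    rw [h, mem_bot] at h1
    exact (commutatorElement_eq_one_iff_mul_comm.mp h1).symm
  refine ⟨h1, ?_⟩
  rw [eq_top_iff]
  intro x _
  rw [mem_centralizer_iff]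
  intro z hz
  exact (mem_center_iff.mp (h1 hz) x).symm

omit hp in
theorem comm_case [Nontrivial S] (h : IsMulCommutative S) : Concl p S ⊤ ⊤ ∧
    Cfsg.maxCentralProduct (⊤ : Subgroup S) = Cfsg.maxCentralProduct (centralizer (ZJ S : Set S)) := by
  have hc : ∀ a b : S, a * b = b * a := fun a b => h.is_comm.comm a b
  have hcen : center S = ⊤ := by
    rw [eq_top_iff]
    intro x _
    exact mem_center_iff.mpr fun g => hc g x
  have hct : centralizer (ZJ S : Set S) = ⊤ := by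
    rw [eq_top_iff, ← hcen]
    exact center_le_cent _
  refine ⟨⟨top_ne_bot, top_ne_bot, inferInstance, inferInstance, hcen.ge, hct.ge,
    char_subgroupOf_of_eq_top hct inferInstance, ?_⟩, by rw [hct]⟩
  intro G _ _ j hj hE
  left
  rw [map_top']
  obtain ⟨-, ⟨T, hT⟩, hC, -⟩ := id hE
  have h1 : Cfsg.pCore p G ≤ j.range := by
    rw [← hT]
    exact H1.Cores.pCore_le_sylow T
  have h2 : j.range ≤ Cfsg.pCore p G := by
    refine le_trans ?_ hC
    rintro _ ⟨x, rfl⟩
    rw [mem_centralizer_iff]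
    intro q hq
    obtain ⟨y, rfl⟩ := h1 hq
    rw [← map_mul, ← map_mul, hc]
  rw [le_antisymm h2 h1]
  infer_instance

/-- the core hypothesis -/
def CoreHyp (p : ℕ) (S : Type u) [Group S] : Prop :=
  ZJ S ≤ center S → (∀ z ∈ center S, z ^ p = 1) → H52.PM.S0 p (⊤ : Subgroup S) ≠ ⊥ → CoreOut p S

theorem s2991_aux [Nontrivial S] (hS : IsPGroup p S) (core : CoreHyp p S)
    (hexc : ¬ (¬ IsMulCommutative S ∧ Cfsg.thompsonSubgroupA S = ⊤ ∧
      Cfsg.IsElementaryAbelian p (Subgroup.center S) ∧ Cfsg.IsElementaryAbelian p (frattini S) ∧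
      (p = 2 → frattini S ≤ Subgroup.center S) ∧ (p = 3 → frattini S ≤ Subgroup.upperCentralSeries S 2) ∧
      (3 < p → frattini S ≤ Subgroup.center S ∧ Monoid.exponent S = p) ∧
      (∀ A ∈ Cfsg.maxAbelianSubgroups S, ∀ B ∈ Cfsg.maxAbelianSubgroups S, ∀ Q : Subgroup S,
        Nat.card ↥A ^ 2 = Nat.card S * Nat.card ↥(Subgroup.center S) ∧
        Nat.card ↥Q * Nat.card ↥(Subgroup.center ↥Q) ≤ Nat.card S * Nat.card ↥(Subgroup.center S) ∧
        ((A ⊔ B : Subgroup S) : Set S) = (A : Set S) * (B : Set S) ∧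
        A ⊔ B = Subgroup.centralizer ((A ⊓ B : Subgroup S) : Set S)))) :
    ∃ S₁ S₂ : Subgroup S, Concl p S S₁ S₂ ∧
      Cfsg.maxCentralProduct S₂ = Cfsg.maxCentralProduct (centralizer (ZJ S : Set S)) := by
  have hcb := center_ne_bot hS
  by_cases c1 : ⁅ZJ S, (⊤ : Subgroup S)⁆ = ⊥
  swap
  · refine ⟨⁅ZJ S, (⊤ : Subgroup S)⁆ ⊓ center S, centralizer (ZJ S : Set S), ⟨?_, ?_, ?_, ?_, inf_le_right,
      le_rfl, char_subgroupOf_self, case_i c1⟩, rfl⟩
    · have : (⁅ZJ S, (⊤ : Subgroup S)⁆).Normal := by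
        have := char_comm (S := S) char_ZJ char_top
        infer_instance
      exact H65.PBasic.inf_center_ne_bot hS _ c1
    · intro h0
      exact hcb (by rw [eq_bot_iff, ← h0]; exact center_le_cent _)
    · exact char_inf (char_comm char_ZJ char_top) inferInstance
    · exact char_centralizer char_ZJ
  obtain ⟨hZ, hCT⟩ := cent_ZJ_top c1
  by_cases c2 : Cfsg.IsElementaryAbelian p (center S)
  swap
  · refine ⟨Cfsg.powerClosure p 1 (center S), centralizer (ZJ S : Set S), ⟨?_, ?_, ?_, ?_, ?_,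
      le_rfl, char_subgroupOf_self, case_ii c2⟩, rfl⟩
    · intro h0
      apply c2
      refine ⟨⟨⟨?_⟩⟩, fun x hx => ?_⟩
      · rintro ⟨x, hx⟩ ⟨y, hy⟩
        exact Subtype.ext (mem_center_iff.mp hy x)
      · have h1 : x ^ p ∈ Cfsg.powerClosure p 1 (center S) :=
          subset_closure ⟨x, hx, by rw [pow_one]⟩
        rwa [h0, mem_bot] at h1
    · intro h0
      exact hcb (by rw [eq_bot_iff, ← h0]; exact center_le_cent _)
    · exact char_powerClosure inferInstance
    · exact char_centralizer char_ZJ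
    · unfold Cfsg.powerClosure
      rw [closure_le]
      rintro _ ⟨x, hx, rfl⟩
      exact pow_mem hx _
  obtain ⟨R₀, hR₀⟩ := H55.CL.exists_isCentrallyLarge S
  obtain ⟨R, hR, -⟩ := H55.CL.exists_minimal_le R₀ hR₀
  by_cases c3 : ⁅R, R⁆ = ⊥
  swap
  · have hRl : R ≤ Cfsg.minimalCentrallyLargeJoin S := le_sSup hR
    refine ⟨center S ⊓ ⁅R, R⁆, Cfsg.minimalCentrallyLargeJoin S, ⟨?_, ?_, ?_, char_join, inf_le_left,
      ?_, char_subgroupOf_of_eq_top hCT char_join, case_iii hCT hR⟩, ?_⟩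
    · rw [inf_comm]
      have : (⁅R, R⁆).Normal := by
        have := char_derived hR
        infer_instance
      exact H65.PBasic.inf_center_ne_bot hS _ c3
    · intro h0
      apply c3
      rw [eq_bot_iff, ← h0]
      exact (commutator_le_self R).trans hRl
    · exact char_inf inferInstance (char_derived hR)
    · rw [hCT]; exact le_top
    · rw [max_eq_top hR.1 hRl, max_eq_top hR.1 (by rw [hCT]; exact le_top)]
  have hab : IsMulCommutative R := by
    refine ⟨⟨?_⟩⟩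
    rintro ⟨x, hx⟩ ⟨y, hy⟩
    have h3 : ⁅x, y⁆ ∈ ⁅R, R⁆ := commutator_mem_commutator hx hy
    rw [c3, mem_bot] at h3
    exact Subtype.ext (commutatorElement_eq_one_iff_mul_comm.mp h3)
  obtain ⟨hm, hJ, hA⟩ := red hZ hR hab
  by_cases c4 : IsMulCommutative S
  · obtain ⟨h1, h2⟩ := comm_case (p := p) c4
    exact ⟨⊤, ⊤, h1, h2⟩
  by_cases c5 : H52.PM.S0 p (⊤ : Subgroup S) = ⊥
  · exfalso
    obtain ⟨e1, e2, e3, e4⟩ := exc_of_S0 hS c5
    exact hexc ⟨c4, hJ, c2, e1, e2, e3, e4, exc_ab hm hA⟩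
  obtain ⟨S₁, S₂, h1, h2, h3, h4, h5, h6, h7⟩ :=
    main_case hS hZ hm hJ (core hZ (fun z hz => c2.2 z hz) c5)
  refine ⟨S₁, S₂, ⟨h1, h2, h3, h4, h5, ?_, char_subgroupOf_of_eq_top hCT h4, h7⟩, ?_⟩
  · rw [hCT]; exact le_top
  · rw [max_eq_top h6 le_rfl, max_eq_top h6 (by rw [hCT]; exact le_top)]

end H53.GN
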