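import Cfsg.Agent.Lib.H56.BmP
import Cfsg.Agent.Lib.H3.CardSup

/-!
S2987, piece G3: a Sylow subgroup `T''` with `B(T'') = B(T')` for which `E` is a block.
-/

set_option autoImplicit false
set_option linter.all false

namespace H53.BZ

open Subgroup Cfsg H51.FF H51.OG H52.PRes H52.PCore H51.Bau H1.Coprime2 H56.BmP
open scoped commutatorElement Pointwise

variable {G : Type*} [Group G] [Finite G] {p : ℕ} [hp : Fact p.Prime]
variable {T : Sylow p G} {E : Subgroup G}

theorem cgcomm (g : G) (A B : Subgroup G) : cg g ⁅A, B⁆ = ⁅cg g A, cg g B⁆ := Subgroup.map_commutator _ _ _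

omit [Finite G] hp in
theorem omegaCenter_cg (g : G) (K : Subgroup G) : cg g (omegaOneCenter p K) = omegaOneCenter p (cg g K) := by
  unfold omegaOneCenter
  rw [omegaOne_cg, cg_inf, map_centralizer]

/-- a block for `S` normalised by `g` is a block for the conjugate of `S` -/
theorem block_conj {S : Subgroup G} (hE : IsBaumannBlock p S E) {g : G} (hg : g ∈ normalizer (E : Set G)) :
    IsBaumannBlock p (cg g S) E := by
  have hgE := mem_nz_iff.1 hg
  have hgQ : cg g (pCoreOf p E) = pCoreOf p E := mem_nz_iff.1 (normalizer_le_normalizer_pCoreOf E hg)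
  have hgW : cg g (omegaOneCenter p (pCoreOf p E)) = omegaOneCenter p (pCoreOf p E) := mem_nz_iff.1 (nz_omegaOneCenter hg)
  obtain ⟨h1, h2, h3, h4, h5⟩ := hE
  refine ⟨h1, ?_, h3, ?_, ?_⟩
  · have e : ⁅E, baumannSubgroupOf p (cg g S)⁆ = cg g ⁅E, baumannSubgroupOf p S⁆ := by
      rw [cgcomm, bau_cg, hgE]
    rw [e, h2, hgE]
  · intro h
    apply h4
    have e : cg g ⁅E, omegaOneCenter p S⁆ = cg g ⊥ := by
      rw [cgcomm, omegaCenter_cg, hgE, h, cg_bot]
    exact cg_inj.1 e
  · rcases h5 with ⟨F, i1, i2, n, hc, hiso, hact, hQ⟩ | h5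
    · refine Or.inl ⟨F, i1, i2, n, hc, hiso, hact, ?_⟩
      rcases hQ with hQ | ⟨a1, a2, a3, a4, a5, a6, hb⟩
      · exact Or.inl hQ
      · refine Or.inr ⟨a1, a2, a3, a4, a5, a6, ?_⟩
        intro b hb1 hb2 hb3
        refine hb (g⁻¹ * b * g) ?_ ?_ ?_
        · rw [← bau_cg, mem_cg] at hb1
          exact hb1
        · intro h
          apply hb2
          have h6 : b ∈ cg g (centralizer (omegaOneCenter p (pCoreOf p E) : Set G)) := mem_cg.2 h
          rw [map_centralizer, hgW] at h6
          exact h6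
        · rw [← cg_le_cg (g := g), cgcomm, cgcomm, hgQ, cg_inf, map_centralizer, hgE]
          have e : cg g (zpowers (g⁻¹ * b * g)) = zpowers b := by
            unfold cg
            rw [MonoidHom.map_zpowers]
            congr 1
            show g * (g⁻¹ * b * g) * g⁻¹ = b
            group
          rw [e]
          exact hb3
    · exact Or.inr h5

theorem relIdx (S : Sylow p G) {K : Subgroup G} (hSK : (S : Subgroup G) ≤ normalizer (K : Set G)) :
    ¬ p ∣ ((S : Subgroup G) ⊓ K).relIndex K := by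
  intro h
  have h1 := H3.CardSup.card_sup_mul_card_inf (S : Subgroup G) K hSK
  have h2 : Nat.card ↥((S : Subgroup G) ⊓ K) * ((S : Subgroup G) ⊓ K).relIndex K = Nat.card K := by
    have h1 := Subgroup.card_mul_index (((S : Subgroup G) ⊓ K).subgroupOf K)
    rw [Nat.card_congr (Subgroup.subgroupOfEquivOfLe inf_le_right).toEquiv] at h1
    exact h1
  have hpos : 0 < Nat.card ↥((S : Subgroup G) ⊓ K) := Nat.card_pos
  have h3 : Nat.card ↥((S : Subgroup G) ⊔ K) = Nat.card (S : Subgroup G) * ((S : Subgroup G) ⊓ K).relIndex K := by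
    apply Nat.eq_of_mul_eq_mul_right hpos
    rw [h1, ← h2]; ring
  have h4 : Nat.card (S : Subgroup G) * ((S : Subgroup G) ⊓ K).relIndex K ∣
      Nat.card (S : Subgroup G) * (S : Subgroup G).index := by
    rw [← h3, Subgroup.card_mul_index]
    exact Subgroup.card_subgroup_dvd_card _
  have h5 := (Nat.mul_dvd_mul_iff_left (Nat.card_pos (α := (S : Subgroup G)))).1 h4
  exact S.not_dvd_index (h.trans h5)

theorem conjP (H Q : Subgroup G) (hQH : Q ≤ H) (hQp : IsPGroup p Q)
    (hidx : ¬ p ∣ Q.relIndex H) {E : Subgroup G} (hE : E ≤ H) (hEp : IsPGroup p E) :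
    ∃ h ∈ H, ∀ x ∈ E, h * x * h⁻¹ ∈ Q := by
  set P : Sylow p H := IsPGroup.toSylow (hQp.comap_subtype (K := H)) hidx with hP
  obtain ⟨R, hR⟩ := (hEp.comap_subtype (K := H)).exists_le_sylow
  obtain ⟨s, hs⟩ := MulAction.exists_smul_eq H R P
  have h5 : MulAut.conj s • (R : Subgroup H) = (P : Subgroup H) :=
    congrArg (fun Q : Sylow p H => (Q : Subgroup H)) hs
  refine ⟨s, s.2, fun x hx => ?_⟩
  have h7 : (⟨x, hE hx⟩ : H) ∈ (R : Subgroup H) := hR hx
  have h8 := Subgroup.smul_mem_pointwise_smul _ (MulAut.conj s) _ h7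
  rw [h5] at h8
  exact h8

theorem sameB (hG : centralizer (pCore p G : Set G) ≤ pCore p G) (hE : IsBaumannBlock p (T : Subgroup G) E)
    (hJ : ∀ T' : Sylow p G, thompsonSubgroupOf p (T' : Subgroup G) ≤ normalizer (E : Set G))
    (hC : ∀ T' : Sylow p G, IsBaumannBlock p (T' : Subgroup G) E →
      centralizer (omegaOne p (centerThompsonOf p (T' : Subgroup G)) : Set G) ≤ normalizer (E : Set G))
    (T' : Sylow p G) :
    ∃ T'' : Sylow p G, IsBaumannBlock p (T'' : Subgroup G) E ∧
      thompsonSubgroupOf p (T'' : Subgroup G) = thompsonSubgroupOf p (T' : Subgroup G) ∧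
      baumannSubgroupOf p (T'' : Subgroup G) = baumannSubgroupOf p (T' : Subgroup G) := by
  set K := (normalizer (E : Set G)).normalCore with hK
  have hKn : K.Normal := Subgroup.normalCore_normal _
  have hKE : K ≤ normalizer (E : Set G) := Subgroup.normalCore_le _
  have coe : ∀ (g : G) (S : Sylow p G), ((g • S : Sylow p G) : Subgroup G) = cg g (S : Subgroup G) := fun g S => rfl
  have hJK : thompsonSubgroupOf p (T : Subgroup G) ≤ K := by
    intro x hx g
    apply hJ (g • T)
    rw [coe, ← thompson_cg, mem_cg]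
    have e : g⁻¹ * (g * x * g⁻¹) * g = x := by group
    rw [e]; exact hx
  have hJp : IsPGroup p (thompsonSubgroupOf p (T : Subgroup G)) :=
    T.isPGroup'.to_le (H13.SylowN.thompsonOf_le _)
  obtain ⟨k, hkK, hk⟩ := conjP K ((T' : Subgroup G) ⊓ K) inf_le_right (T'.isPGroup'.to_le inf_le_left)
    (relIdx T' (by rw [Subgroup.normalizer_eq_top]; exact le_top)) hJK hJp
  have hJ3 : thompsonSubgroupOf p (T' : Subgroup G) = thompsonSubgroupOf p ((k • T : Sylow p G) : Subgroup G) := by
    apply thompson_eq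
    rw [coe, ← thompson_cg]
    intro x hx
    rw [mem_cg] at hx
    have h1 := (hk _ hx).1
    have e : k * (k⁻¹ * x * k) * k⁻¹ = x := by group
    rw [e] at h1
    exact h1
  have hb3 : IsBaumannBlock p ((k • T : Sylow p G) : Subgroup G) E := by
    rw [coe]; exact block_conj hE (hKE hkK)
  have hcen : centerThompsonOf p ((k • T : Sylow p G) : Subgroup G) = centerThompsonOf p (T' : Subgroup G) := by
    unfold centerThompsonOf; rw [hJ3]
  set C := centralizer (omegaOne p (centerThompsonOf p (T' : Subgroup G)) : Set G) with hCdef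
  have hTC : (T' : Subgroup G) ≤ normalizer (C : Set G) := by
    intro g hg
    rw [mem_nz_iff, hCdef, map_centralizer, omegaOne_cg, center_cg, cg_eq_self hg]
  obtain ⟨c, hc, hc2⟩ := conjP C ((T' : Subgroup G) ⊓ C) inf_le_right (T'.isPGroup'.to_le inf_le_left) (relIdx T' hTC)
    (E := baumannSubgroupOf p ((k • T : Sylow p G) : Subgroup G))
    (by rw [hCdef, ← hcen]; exact bau_le_centralizer _) ((k • T : Sylow p G).isPGroup'.to_le (bau_le _))
  have hcE : c ∈ normalizer (E : Set G) := by
    apply hC _ hb3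
    rw [hcen]; exact hc
  have hle : baumannSubgroupOf p ((c • (k • T) : Sylow p G) : Subgroup G) ≤ (T' : Subgroup G) := by
    rw [coe c, ← bau_cg]
    intro x hx
    rw [mem_cg] at hx
    have h1 := (hc2 _ hx).1
    have e : c * (c⁻¹ * x * c) * c⁻¹ = x := by group
    rw [e] at h1
    exact h1
  refine ⟨c • (k • T), ?_, ?_, ?_⟩
  · rw [coe c]; exact block_conj hb3 hcE
  · exact (thompson_eq ((thompson_le_bau _).trans hle)).symm
  · exact (bau_eq hle).symm

end H53.BZ
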