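import Cfsg.Agent.Lib.H52.Irr
import Cfsg.Agent.Lib.H52.YL2
import Mathlib

set_option autoImplicit false
set_option linter.unusedSectionVars false

/-! The groups `L ∈ 𝔏_G(Y)`: the module `A/C`. -/

namespace H53.FL

open Subgroup Cfsg H52.PCore H52.Syl H52.Irr
open scoped commutatorElement

variable {L : Type*} [Group L] [Finite L] {p : ℕ} [Fact p.Prime] {Y : Subgroup L}

structure Cfg (p : ℕ) {L : Type*} [Group L] (Y : Subgroup L) : Prop where
  comm : Y ≤ centralizer (Y : Set L)
  pow : ∀ x ∈ Y, x ^ p = 1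
  mn : IsMinimalOver Y
  hA : pCore p L = normalClosure ((Y ⊓ pCore p L : Subgroup L) : Set L)
  AN : pCore p L ≤ normalizer (Y : Set L)
  charp : centralizer (pCore p L : Set L) ≤ pCore p L
  ctm : IsCoatom (normalizer (Y : Set L))

namespace Cfg

variable (h : Cfg p Y)
include h

theorem isPGroup : IsPGroup p Y := fun x => ⟨1, by
  rw [pow_one]; exact Subtype.ext (h.pow x x.2)⟩

theorem gen {g : L} (hg : g ∉ normalizer (Y : Set L)) : Y ⊔ cj g Y = ⊤ :=
  sup_cj_eq_top_of_minimal h.mn h.ctm le_normalizer hg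

theorem exists_notMem : ∃ g : L, g ∉ normalizer (Y : Set L) := by
  by_contra hcon
  push Not at hcon
  exact h.ctm.1 (eq_top_iff.2 fun g _ => hcon g)

/-- generation by two different conjugates -/
theorem gen2 {a b : L} (hab : cj a Y ≠ cj b Y) : cj a Y ⊔ cj b Y = ⊤ := by
  have h1 : a⁻¹ * b ∉ normalizer (Y : Set L) := by
    intro h1
    apply hab
    have := cj_eq_of_mem_normalizer h1
    rw [← cj_cj] at this
    have h2 := congrArg (cj a) this
    rw [cj_cj_inv] at h2
    exact h2.symm
  have h2 := h.gen h1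
  have h3 := congrArg (cj a) h2
  rw [cj_sup, cj_cj, mul_inv_cancel_left] at h3
  rw [h3, eq_top_iff]
  intro x _
  rw [mem_cj]; exact mem_top _

omit h in
theorem cj_center (g : L) : cj g (center L) = center L := cj_normal inferInstance

omit h in
theorem cj_inf_center (g : L) : cj g Y ⊓ center L = Y ⊓ center L := by
  ext x
  simp only [mem_inf, mem_cj]
  constructor
  · rintro ⟨h1, h2⟩
    have : g⁻¹ * x * g = x := by
      rw [mul_assoc, ← mem_center_iff.1 h2 g, inv_mul_cancel_left]
    rw [this] at h1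
    exact ⟨h1, h2⟩
  · rintro ⟨h1, h2⟩
    have : g⁻¹ * x * g = x := by
      rw [mul_assoc, ← mem_center_iff.1 h2 g, inv_mul_cancel_left]
    rw [this]
    exact ⟨h1, h2⟩

theorem inf_le {a b : L} (hab : cj a Y ≠ cj b Y) : cj a Y ⊓ cj b Y ≤ Y ⊓ center L := by
  have h1 : cj a Y ⊓ cj b Y ≤ center L := by
    have h2 : cj a Y ⊓ cj b Y ≤ centralizer ((cj a Y ⊔ cj b Y : Subgroup L) : Set L) := by
      rw [H52.YL2.centralizer_sup]
      refine inf_le_inf ?_ ?_
      · have := cj_mono (g := a) h.comm
        rwa [cj_centralizer] at this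
      · have := cj_mono (g := b) h.comm
        rwa [cj_centralizer] at this
    rw [h.gen2 hab] at h2
    intro x hx
    rw [mem_center_iff]
    intro g
    exact mem_centralizer_iff.1 (h2 hx) g (mem_top _)
  intro x hx
  rw [← cj_inf_center a]
  exact mem_inf.2 ⟨(mem_inf.1 hx).1, h1 hx⟩

theorem normal_C : (Y ⊓ center L).Normal := by
  constructor
  intro x hx g
  have : g * x * g⁻¹ = x := by
    rw [mem_center_iff.1 hx.2 g, mul_inv_cancel_right]
  rw [this]; exact hx

theorem C_le : Y ⊓ center L ≤ pCore p L := by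
  apply le_pCore h.normal_C
  exact h.isPGroup.to_le inf_le_left

theorem le_normalizer_A (X : Subgroup L) : X ≤ normalizer ((pCore p L : Subgroup L) : Set L) := by
  intro x _
  have : (pCore p L).Normal := inferInstance
  rw [normalizer_eq_top_iff.2 this]; exact mem_top _

theorem A_le (a : L) : pCore p L ≤ normalizer ((cj a Y : Subgroup L) : Set L) := by
  have := cj_mono (g := a) h.AN
  rwa [cj_normal (inferInstance : (pCore p L).Normal), cj_normalizer] at this

/-- `[A, Y^a] ≤ Y^a ∩ A` -/
theorem comm_le (a : L) : ⁅pCore p L, cj a Y⁆ ≤ cj a Y ⊓ pCore p L := by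
  refine le_inf ?_ ?_
  · exact commutator_le_right_of_le_normalizer' (h.A_le a)
  · exact commutator_le_left' 
where
  commutator_le_right_of_le_normalizer' {A B : Subgroup L} (hAB : A ≤ normalizer (B : Set L)) : ⁅A, B⁆ ≤ B := by
    rw [commutator_le]
    intro x hx y hy
    rw [commutatorElement_def]
    exact B.mul_mem ((mem_normalizer_iff.1 (hAB hx) y).1 hy) (B.inv_mem hy)
  commutator_le_left' {B : Subgroup L} : ⁅pCore p L, B⁆ ≤ pCore p L := commutator_le_left _ _

theorem inf_normal_A (a : L) : pCore p L ≤ normalizer ((cj a Y ⊓ pCore p L : Subgroup L) : Set L) :=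
  (le_inf (h.A_le a) le_normalizer).trans normalizer_inf_le

theorem A_eq {a b : L} (hab : cj a Y ≠ cj b Y) :
    pCore p L = (cj a Y ⊓ pCore p L) ⊔ (cj b Y ⊓ pCore p L) := by
  set B := (cj a Y ⊓ pCore p L) ⊔ (cj b Y ⊓ pCore p L) with hB
  apply le_antisymm
  · have hBn : B.Normal := by
      rw [normal_iff_top_le_normalizer, ← h.gen2 hab]
      have key : ∀ c : L, (cj c Y ⊓ pCore p L ≤ B) → cj c Y ≤ normalizer (B : Set L) := by
        intro c hc y hy
        have hBA : B ≤ pCore p L := sup_le inf_le_right inf_le_right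
        apply mem_normalizer_of_cj_le
        intro x hx
        rw [mem_cj] at hx
        have h1 : ⁅y⁻¹ * x * y, y⁆ ∈ B := hc (h.comm_le c (commutator_mem_commutator (hBA hx) hy))
        have h2 : x = ⁅y⁻¹ * x * y, y⁆⁻¹ * (y⁻¹ * x * y) := by
          rw [commutatorElement_def]; group
        rw [h2]
        exact B.mul_mem (B.inv_mem h1) hx
      exact sup_le (key a le_sup_left) (key b le_sup_right)
    have h1 : Y ⊓ pCore p L ≤ B := by
      have h2 : cj a (Y ⊓ pCore p L) ≤ B := by
        rw [cj_inf, cj_normal (inferInstance : (pCore p L).Normal)]; exact le_sup_left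
      rw [← cj_normal (g := a) hBn, cj_le_cj_iff] at h2
      exact h2
    conv_lhs => rw [h.hA]
    exact normalClosure_le_normal h1
  · exact sup_le inf_le_right inf_le_right

theorem comm_AA : ⁅pCore p L, pCore p L⁆ ≤ Y ⊓ center L := by
  obtain ⟨g, hg⟩ := h.exists_notMem
  have hab : cj 1 Y ≠ cj g Y := by
    rw [cj_one]; intro h1; exact hg (mem_normalizer_of_cj_eq h1.symm)
  have hn := h.normal_C
  set π := QuotientGroup.mk' (Y ⊓ center L) with hπ
  have hker : π.ker = Y ⊓ center L := QuotientGroup.ker_mk' _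
  rw [← hker, ← Subgroup.map_eq_bot_iff, map_commutator, commutator_eq_bot_iff_le_centralizer]
  have hc : ∀ c : L, (cj c Y ⊓ pCore p L).map π ≤ centralizer ((cj c Y ⊓ pCore p L).map π : Set _) := by
    intro c
    rw [← commutator_eq_bot_iff_le_centralizer, ← map_commutator, Subgroup.map_eq_bot_iff]
    have h1 : ⁅cj c Y ⊓ pCore p L, cj c Y ⊓ pCore p L⁆ = ⊥ := by
      rw [commutator_eq_bot_iff_le_centralizer]
      have := cj_mono (g := c) h.comm
      rw [cj_centralizer] at this
      exact inf_le_left.trans (this.trans (centralizer_le (inf_le_left)))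
    rw [h1]; exact bot_le
  have hd : (cj 1 Y ⊓ pCore p L).map π ≤ centralizer ((cj g Y ⊓ pCore p L).map π : Set _) := by
    rw [← commutator_eq_bot_iff_le_centralizer, ← map_commutator, Subgroup.map_eq_bot_iff, hker]
    refine le_trans ?_ (h.inf_le hab)
    refine le_inf ?_ ?_
    · refine (commutator_mono inf_le_left inf_le_right).trans ?_
      rw [commutator_comm]
      exact (h.comm_le 1).trans inf_le_left
    · refine (commutator_mono inf_le_right inf_le_left).trans ?_
      exact (h.comm_le g).trans inf_le_left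
  have hA := congrArg (Subgroup.map π) (h.A_eq hab)
  rw [Subgroup.map_sup] at hA
  rw [hA, H52.YL2.centralizer_sup]
  refine sup_le (_root_.le_inf (hc 1) hd) (_root_.le_inf ?_ (hc g))
  exact Subgroup.le_centralizer_iff.1 hd

/-- elements acting trivially on `A/C` lie in `A` -/
theorem mem_of_trivial {x : L} (hx : ∀ a ∈ pCore p L, ⁅x, a⁆ ∈ Y ⊓ center L) : x ∈ pCore p L := by
  set D : Subgroup L := 
    { carrier := {x | ∀ a ∈ pCore p L, ⁅x, a⁆ ∈ Y ⊓ center L}
      one_mem' := fun a _ => by rw [commutatorElement_one_left]; exact one_mem _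
      mul_mem' := by
        intro x y hx hy a ha
        have h1 := hx a ha
        have h2 := hy a ha
        have e : ⁅x * y, a⁆ = ⁅x, a⁆ * ⁅y, a⁆ := by
          have e1 : ⁅x * y, a⁆ = x * ⁅y, a⁆ * x⁻¹ * ⁅x, a⁆ := by
            simp only [commutatorElement_def]; group
          have e2 : x * ⁅y, a⁆ * x⁻¹ = ⁅y, a⁆ := by
            rw [mem_center_iff.1 h2.2 x, mul_inv_cancel_right]
          rw [e1, e2]
          exact (mem_center_iff.1 h1.2 _)
        rw [e]
        exact mul_mem h1 h2
      inv_mem' := by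
        intro x hx a ha
        have h1 := hx a ha
        have e : ⁅x⁻¹, a⁆ = ⁅x, a⁆⁻¹ := by
          have e1 : ⁅x⁻¹, a⁆ = x⁻¹ * ⁅x, a⁆⁻¹ * x := by
            simp only [commutatorElement_def]; group
          have e2 : x⁻¹ * ⁅x, a⁆⁻¹ * x = ⁅x, a⁆⁻¹ := by
            rw [mul_assoc, ← mem_center_iff.1 ((center L).inv_mem h1.2) x, inv_mul_cancel_left]
          rw [e1, e2]
        rw [e]
        exact inv_mem h1 } with hD
  have hDn : D.Normal := by
    constructor
    intro x hx g a ha
    have hn := h.normal_C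
    have h1 : g⁻¹ * a * g ∈ pCore p L := by
      have := (inferInstance : (pCore p L).Normal).conj_mem a ha g⁻¹
      rwa [inv_inv] at this
    have h2 := hn.conj_mem _ (hx _ h1) g
    have e : ⁅g * x * g⁻¹, a⁆ = g * ⁅x, g⁻¹ * a * g⁆ * g⁻¹ := by
      simp only [commutatorElement_def]; group
    rw [e]; exact h2
  have hDp : IsPGroup p D := by
    rintro ⟨x, hx⟩
    -- `x ^ p` centralizes `A`
    have h1 : ∀ n : ℕ, ∀ a ∈ pCore p L, ⁅x ^ n, a⁆ = ⁅x, a⁆ ^ n := by
      intro n a ha
      induction n with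
      | zero => rw [pow_zero, pow_zero, commutatorElement_one_left]
      | succ n ih =>
        have e1 : ⁅x ^ (n + 1), a⁆ = x * ⁅x ^ n, a⁆ * x⁻¹ * ⁅x, a⁆ := by
          rw [pow_succ']; simp only [commutatorElement_def]; group
        have e2 : ⁅x ^ n, a⁆ ∈ center L := by
          rw [ih]; exact pow_mem (hx a ha).2 n
        rw [e1, mem_center_iff.1 e2 x, mul_inv_cancel_right, ih, pow_succ]
    have h2 : x ^ p ∈ pCore p L := by
      apply h.charp
      rw [mem_centralizer_iff]
      intro a ha
      have h3 := h1 p a ha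
      rw [h.pow _ (hx a ha).1, commutatorElement_eq_one_iff_mul_comm] at h3
      exact h3.symm
    obtain ⟨k, hk⟩ := (isPGroup_pCore : IsPGroup p (pCore p L)) ⟨x ^ p, h2⟩
    refine ⟨k + 1, ?_⟩
    apply Subtype.ext
    have h4 := congrArg Subtype.val hk
    simp only [SubmonoidClass.coe_pow, OneMemClass.coe_one] at h4 ⊢
    rw [pow_succ', pow_mul]; exact h4
  exact le_pCore hDn hDp hx

/-- fixed points of `L` -/
theorem mem_C_of_fixed {a : L} (ha : a ∈ Y) (hx : ∀ x : L, ⁅x, a⁆ ∈ Y ⊓ center L) : a ∈ Y ⊓ center L := by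
  set K : Subgroup L := centralizer {a} with hK
  have hYK : Y ≤ K := by
    intro y hy
    rw [hK, mem_centralizer_singleton_iff]
    exact (mem_centralizer_iff.1 (h.comm ha) y hy)
  have hKn : K.Normal := by
    constructor
    intro x hxK g
    rw [hK, mem_centralizer_singleton_iff] at hxK ⊢
    have h1 := (hx g⁻¹).2
    have e0 : g⁻¹ * a * g = ⁅g⁻¹, a⁆ * a := by simp only [commutatorElement_def]; group
    have e1 : x * (g⁻¹ * a * g) = (g⁻¹ * a * g) * x := by
      rw [e0, ← mul_assoc, mem_center_iff.1 h1 x, mul_assoc, hxK, mul_assoc]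
    calc g * x * g⁻¹ * a = g * (x * (g⁻¹ * a * g)) * g⁻¹ := by group
      _ = g * ((g⁻¹ * a * g) * x) * g⁻¹ := by rw [e1]
      _ = a * (g * x * g⁻¹) := by group
  have hKt : K = ⊤ := eq_top_of_normal_of_minimal h.mn hKn hYK
  refine mem_inf.2 ⟨ha, ?_⟩
  rw [mem_center_iff]
  intro g
  have : g ∈ K := hKt ▸ mem_top g
  rw [hK, mem_centralizer_singleton_iff] at this
  exact this

end Cfg

end H53.FL
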