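import Cfsg.Agent.Lib.H53.FL
import Mathlib

set_option autoImplicit false
set_option linter.unusedSectionVars false

/-! The groups `L ∈ 𝔏_G(Y)`: the module `A/C`, additive form. -/

namespace H53.FL

open Subgroup Cfsg H52.PCore H52.Syl H52.Irr
open scoped commutatorElement

structure IsMod {L : Type*} [Group L] (A C : Subgroup L) (V : Type*) [AddCommGroup V] [DistribMulAction L V]
    (π : A → V) : Prop where
  surj : Function.Surjective π
  map_mul : ∀ a b, π (a * b) = π a + π b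
  zero_iff : ∀ a : A, π a = 0 ↔ (a : L) ∈ C
  act : ∀ (x : L) (a b : A), (b : L) = x * a * x⁻¹ → x • π a = π b

universe u

/-- existence of the module -/
theorem exists_module {L : Type u} [Group L] (A C : Subgroup L) [hA : A.Normal] [hC : C.Normal] (hc : ⁅A, A⁆ ≤ C) :
    ∃ (V : Type u) (_ : AddCommGroup V) (_ : DistribMulAction L V) (π : A → V), IsMod A C V π := by
  set f := QuotientGroup.mk' C with hf
  set V0 : Subgroup (L ⧸ C) := A.map f with hV0
  have hn : V0.Normal := hA.map f (QuotientGroup.mk'_surjective C)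
  have hcomm : ∀ x y : V0, x * y = y * x := by
    rintro ⟨_, ⟨a, ha, rfl⟩⟩ ⟨_, ⟨b, hb, rfl⟩⟩
    apply Subtype.ext
    show f a * f b = f b * f a
    have h1 : f ⁅a, b⁆ = 1 := by
      rw [← MonoidHom.mem_ker, hf, QuotientGroup.ker_mk']
      exact hc (commutator_mem_commutator ha hb)
    rw [map_commutatorElement, commutatorElement_eq_one_iff_mul_comm] at h1
    exact h1
  letI i1 : CommGroup V0 := { (inferInstance : Group V0) with mul_comm := hcomm }
  letI i2 : DistribMulAction L (Additive V0) :=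
    { smul := fun x v => Additive.ofMul (MulAut.conjNormal (f x) v.toMul)
      one_smul := fun v => by
        show Additive.ofMul (MulAut.conjNormal (f 1) v.toMul) = v
        rw [map_one, map_one]; rfl
      mul_smul := fun x y v => by
        show Additive.ofMul (MulAut.conjNormal (f (x * y)) v.toMul) =
          Additive.ofMul (MulAut.conjNormal (f x) (MulAut.conjNormal (f y) v.toMul))
        rw [map_mul, map_mul]; rfl
      smul_zero := fun x => by
        show Additive.ofMul (MulAut.conjNormal (f x) (1 : V0)) = 0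
        rw [map_one]; rfl
      smul_add := fun x v w => by
        show Additive.ofMul (MulAut.conjNormal (f x) (v.toMul * w.toMul)) = _
        rw [_root_.map_mul]; rfl }
  refine ⟨Additive V0, inferInstance, i2, fun a => Additive.ofMul ⟨f a, mem_map_of_mem f a.2⟩, ?_, ?_, ?_, ?_⟩
  · rintro v
    obtain ⟨a, ha, hav⟩ := v.toMul.2
    exact ⟨⟨a, ha⟩, congrArg Additive.ofMul (Subtype.ext hav)⟩
  · intro a b
    apply congrArg Additive.ofMul
    apply Subtype.ext
    show f (a * b) = f a * f b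
    rw [_root_.map_mul]
  · intro a
    constructor
    · intro h1
      have h2 : (⟨f a, mem_map_of_mem f a.2⟩ : V0) = 1 := h1
      have h3 : f a = 1 := congrArg Subtype.val h2
      rwa [← MonoidHom.mem_ker, hf, QuotientGroup.ker_mk'] at h3
    · intro h1
      have h3 : f a = 1 := by rwa [← MonoidHom.mem_ker, hf, QuotientGroup.ker_mk']
      have h2 : (⟨f a, mem_map_of_mem f a.2⟩ : V0) = 1 := Subtype.ext h3
      exact h2
  · intro x a b hb
    apply congrArg Additive.ofMul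
    apply Subtype.ext
    show f x * f a * (f x)⁻¹ = f b
    rw [hb, _root_.map_mul, _root_.map_mul, map_inv]

namespace IsMod

variable {L : Type*} [Group L] {A C : Subgroup L} [hAn : A.Normal] {V : Type*} [AddCommGroup V] [DistribMulAction L V]
    {π : A → V} (m : IsMod A C V π)
include m

theorem map_one : π 1 = 0 := by
  have := m.map_mul 1 1
  rw [one_mul] at this
  exact add_eq_left.1 this.symm

theorem map_inv (a : A) : π a⁻¹ = - π a := by
  have := m.map_mul a⁻¹ a
  rw [inv_mul_cancel, m.map_one] at this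
  exact eq_neg_of_add_eq_zero_left this.symm

theorem act' (x : L) (a : A) : x • π a = π ⟨x * a * x⁻¹, hAn.conj_mem a a.2 x⟩ := m.act x a _ rfl

theorem smul_sub_self (x : L) (a : A) : x • π a - π a = π ⟨⁅x, (a : L)⁆, by
    rw [commutatorElement_def]; exact A.mul_mem (hAn.conj_mem a a.2 x) (A.inv_mem a.2)⟩ := by
  rw [m.act', sub_eq_add_neg, ← m.map_inv, ← m.map_mul]
  congr 1

theorem fixed_iff (x : L) (a : A) : x • π a = π a ↔ ⁅x, (a : L)⁆ ∈ C := by
  rw [← sub_eq_zero, m.smul_sub_self, m.zero_iff]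

end IsMod

variable {L : Type*} [Group L] [Finite L] {p : ℕ} [Fact p.Prime] {Y : Subgroup L}
variable {V : Type*} [AddCommGroup V] [DistribMulAction L V] {π : pCore p L → V}

/-- the image of `X ∩ A` -/
def Im (π : pCore p L → V) (X : Subgroup L) (v : V) : Prop := ∃ a : pCore p L, (a : L) ∈ X ∧ π a = v

namespace Cfg

variable (h : Cfg p Y) (m : IsMod (pCore p L) (Y ⊓ center L) V π)
include h m

theorem finite_V : Finite V := Finite.of_surjective _ m.surj

theorem split {a b : L} (hab : cj a Y ≠ cj b Y) (v : V) :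
    ∃ v₁ v₂, v = v₁ + v₂ ∧ Im π (cj a Y) v₁ ∧ Im π (cj b Y) v₂ := by
  obtain ⟨c, rfl⟩ := m.surj v
  have h1 : (c : L) ∈ (cj a Y ⊓ pCore p L) ⊔ (cj b Y ⊓ pCore p L) := (h.A_eq hab).le c.2
  rw [H52.YL2.mem_sup_iff_of_le_normalizer (inf_le_right.trans (h.inf_normal_A b))] at h1
  obtain ⟨x, hx, y, hy, hxy⟩ := h1
  refine ⟨π ⟨x, hx.2⟩, π ⟨y, hy.2⟩, ?_, ⟨_, hx.1, rfl⟩, ⟨_, hy.1, rfl⟩⟩
  rw [← m.map_mul]
  congr 1
  exact Subtype.ext hxy.symm

theorem smul_of_im {a : L} {t : L} (ht : t ∈ cj a Y) {v : V} (hv : Im π (cj a Y) v) : t • v = v := by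
  obtain ⟨c, hc, rfl⟩ := hv
  rw [m.fixed_iff]
  have h1 := cj_mono (g := a) h.comm
  rw [cj_centralizer] at h1
  have h2 : t * c = c * t := (mem_centralizer_iff.1 (h1 ht) c hc).symm
  rw [(commutatorElement_eq_one_iff_mul_comm).2 h2]
  exact one_mem _

theorem smul_sub_im {a : L} {t : L} (ht : t ∈ cj a Y) (v : V) : Im π (cj a Y) (t • v - v) := by
  obtain ⟨c, rfl⟩ := m.surj v
  rw [m.smul_sub_self]
  refine ⟨_, ?_, rfl⟩
  have h1 := (h.comm_le a (commutator_mem_commutator c.2 ht)).1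
  show ⁅t, (c : L)⁆ ∈ _
  rw [← commutatorElement_inv]
  exact inv_mem h1

theorem eq_zero_of_im {a b : L} (hab : cj a Y ≠ cj b Y) {v : V} (h1 : Im π (cj a Y) v) (h2 : Im π (cj b Y) v) :
    v = 0 := by
  obtain ⟨c, hc, rfl⟩ := h1
  obtain ⟨d, hd, hcd⟩ := h2
  have h3 : π (d⁻¹ * c) = 0 := by rw [m.map_mul, m.map_inv, hcd]; abel
  rw [m.zero_iff] at h3
  rw [m.zero_iff]
  apply h.inf_le hab
  refine mem_inf.2 ⟨hc, ?_⟩
  have h4 : (c : L) = d * ((d⁻¹ * c : pCore p L) : L) := by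
    rw [← Subgroup.coe_mul, mul_inv_cancel_left]
  rw [h4]
  refine mul_mem hd ?_
  have h5 : ((d⁻¹ * c : pCore p L) : L) ∈ cj b Y ⊓ center L := by rw [cj_inf_center]; exact h3
  exact h5.1

omit h in
theorem smul_im {a x : L} {v : V} (hv : Im π (cj a Y) v) : Im π (cj (x * a) Y) (x • v) := by
  obtain ⟨c, hc, rfl⟩ := hv
  rw [m.act']
  refine ⟨_, ?_, rfl⟩
  rw [← cj_cj]
  exact conj_mem_cj hc

theorem mem_normalizer_of_fixed {a x : L} {v : V} (hv : Im π (cj a Y) v) (hx : x • v = v) (hv0 : v ≠ 0) :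
    x ∈ normalizer ((cj a Y : Subgroup L) : Set L) := by
  by_contra hcon
  apply hv0
  have h1 := smul_im m (x := x) hv
  rw [hx] at h1
  refine h.eq_zero_of_im m (a := a) (b := x * a) ?_ hv h1
  intro h2
  apply hcon
  apply mem_normalizer_of_cj_eq
  rw [cj_cj, ← h2]

theorem im_neg {a : L} {v : V} (hv : Im π (cj a Y) v) : Im π (cj a Y) (-v) := by
  obtain ⟨c, hc, rfl⟩ := hv
  exact ⟨c⁻¹, inv_mem hc, m.map_inv c⟩

theorem im_add {a : L} {v w : V} (hv : Im π (cj a Y) v) (hw : Im π (cj a Y) w) : Im π (cj a Y) (v + w) := by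
  obtain ⟨c, hc, rfl⟩ := hv
  obtain ⟨d, hd, rfl⟩ := hw
  exact ⟨c * d, mul_mem hc hd, m.map_mul c d⟩

theorem im_sub {a : L} {v w : V} (hv : Im π (cj a Y) v) (hw : Im π (cj a Y) w) : Im π (cj a Y) (v - w) := by
  rw [sub_eq_add_neg]; exact h.im_add m hv (h.im_neg m hw)

omit h m in
theorem smul_eq_of_closure {S : Set L} {v : V} (hS : ∀ x ∈ S, x • v = v) : ∀ x ∈ closure S, x • v = v := by
  intro x hx
  have : closure S ≤ MulAction.stabilizer L v := (closure_le _).2 hS
  exact this hx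

/-- if `v` is fixed by two different conjugates of `Y` then `v = 0` -/
theorem eq_zero_of_fixed {a b : L} (hab : cj a Y ≠ cj b Y) {v : V} (h1 : ∀ t ∈ cj a Y, t • v = v)
    (h2 : ∀ t ∈ cj b Y, t • v = v) : v = 0 := by
  have hall : ∀ c : L, ∀ w : V, Im π (cj c Y) w → (∀ x : L, x • w = w) → w = 0 := by
    rintro c _ ⟨d, hd, rfl⟩ hw
    have hn := h.normal_C
    rw [m.zero_iff]
    have h3 : (c⁻¹ * d * c) ∈ Y ⊓ center L := by
      apply h.mem_C_of_fixed (mem_cj.1 hd)
      intro x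
      have h4 := (m.fixed_iff (c * x * c⁻¹) d).1 (hw _)
      have h5 := hn.conj_mem _ h4 c⁻¹
      have e : c⁻¹ * ⁅c * x * c⁻¹, (d : L)⁆ * c⁻¹⁻¹ = ⁅x, c⁻¹ * d * c⁆ := by
        simp only [commutatorElement_def]; group
      rwa [e] at h5
    have h4 := hn.conj_mem _ h3 c
    have e : c * (c⁻¹ * ↑d * c) * c⁻¹ = d := by group
    rwa [e] at h4
  obtain ⟨v₁, v₂, rfl, hv₁, hv₂⟩ := h.split m hab v
  have e2 : ∀ t ∈ cj a Y, t • v₂ = v₂ := by
    intro t ht
    have := h1 t ht
    rw [smul_add, h.smul_of_im m ht hv₁] at this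
    exact add_left_cancel this
  have e1 : ∀ t ∈ cj b Y, t • v₁ = v₁ := by
    intro t ht
    have := h2 t ht
    rw [smul_add, h.smul_of_im m ht hv₂] at this
    exact add_right_cancel this
  have hgen : ∀ w : V, (∀ t ∈ cj a Y, t • w = w) → (∀ t ∈ cj b Y, t • w = w) → ∀ x : L, x • w = w := by
    intro w ha hb x
    have h3 : cj a Y ⊔ cj b Y ≤ MulAction.stabilizer L w := sup_le ha hb
    rw [h.gen2 hab] at h3
    exact h3 (mem_top x)
  have f1 : v₁ = 0 := hall a v₁ hv₁ (hgen v₁ (fun t ht => h.smul_of_im m ht hv₁) e1)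
  have f2 : v₂ = 0 := hall b v₂ hv₂ (hgen v₂ e2 (fun t ht => h.smul_of_im m ht hv₂))
  rw [f1, f2, add_zero]

theorem trivial_iff {x : L} : (∀ v : V, x • v = v) ↔ x ∈ pCore p L := by
  constructor
  · intro hx
    apply h.mem_of_trivial
    intro a ha
    exact (m.fixed_iff x ⟨a, ha⟩).1 (hx _)
  · intro hx v
    obtain ⟨a, rfl⟩ := m.surj v
    rw [m.fixed_iff]
    exact h.comm_AA (commutator_mem_commutator hx a.2)

/-- `t ∈ Y^a ∖ A` has fixed points `V_a` -/
theorem im_of_fixed {a t : L} (ht : t ∈ cj a Y) (htA : t ∉ pCore p L) {v : V} (hv : t • v = v) :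
    Im π (cj a Y) v := by
  obtain ⟨g, hg⟩ := h.exists_notMem
  have hab : cj a Y ≠ cj (a * g) Y := by
    intro h1
    rw [← cj_cj, cj_inj] at h1
    exact hg (mem_normalizer_of_cj_eq h1.symm)
  set b := a * g with hb
  obtain ⟨v₁, v₂, rfl, hv₁, hv₂⟩ := h.split m hab v
  by_cases hv20 : v₂ = 0
  · rw [hv20, add_zero]; exact hv₁
  exfalso
  apply htA
  have h1 : t • v₂ = v₂ := by
    rw [smul_add, h.smul_of_im m ht hv₁] at hv
    exact add_left_cancel hv
  have h2 := h.mem_normalizer_of_fixed m hv₂ h1 hv20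
  rw [← h.trivial_iff m]
  intro w
  obtain ⟨w₁, w₂, rfl, hw₁, hw₂⟩ := h.split m hab w
  rw [smul_add, h.smul_of_im m ht hw₁]
  congr 1
  have h3 : Im π (cj a Y) (t • w₂ - w₂) := h.smul_sub_im m ht w₂
  have h4 : Im π (cj b Y) (t • w₂ - w₂) := by
    have h5 := smul_im m (x := t) hw₂
    rw [← cj_cj, cj_eq_of_mem_normalizer h2] at h5
    exact h.im_sub m h5 hw₂
  exact sub_eq_zero.1 (h.eq_zero_of_im m hab h3 h4)

end Cfg

end H53.FL
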