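import Cfsg.Agent.Lib.H85.SL2
import Mathlib

set_option autoImplicit false

/-! Quadratic `SL₂(F)`-modules `V = C_V(up) ⊕ C_V(lo)`: elements of trace `≠ 2` act without fixed points. -/

namespace H53.NatMod

open Matrix H85.SL2
open scoped MatrixGroups

variable {F : Type*} [Field F]

/-- the antidiagonal element -/
def wt (b : F) (hb : b ≠ 0) : SL(2, F) := ⟨!![0, b; -b⁻¹, 0], by simp [hb]⟩

/-- the diagonal element -/
def hh (b : F) (hb : b ≠ 0) : SL(2, F) := ⟨!![b, 0; 0, b⁻¹], by simp [hb]⟩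

@[simp] theorem wt_coe (b : F) (hb : b ≠ 0) : (wt b hb).1 = !![0, b; -b⁻¹, 0] := rfl

/-- the standard antidiagonal element -/
abbrev w0 (F : Type*) [Field F] : SL(2, F) := wt 1 one_ne_zero

@[simp] theorem hh_coe (b : F) (hb : b ≠ 0) : (hh b hb).1 = !![b, 0; 0, b⁻¹] := rfl

theorem ext2 {A B : SL(2, F)} (h00 : A.1 0 0 = B.1 0 0) (h01 : A.1 0 1 = B.1 0 1) (h10 : A.1 1 0 = B.1 1 0)
    (h11 : A.1 1 1 = B.1 1 1) : A = B := by
  apply Subtype.ext
  ext i j
  fin_cases i <;> fin_cases j <;> assumption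

theorem mul_apply2 (A B : SL(2, F)) (i j : Fin 2) :
    (A * B).1 i j = A.1 i 0 * B.1 0 j + A.1 i 1 * B.1 1 j := by
  show (A.1 * B.1) i j = _
  rw [Matrix.mul_apply, Fin.sum_univ_two]

theorem one_apply2 (i j : Fin 2) : (1 : SL(2, F)).1 i j = if i = j then 1 else 0 := by
  show (1 : Matrix (Fin 2) (Fin 2) F) i j = _
  rw [Matrix.one_apply]

theorem wt_eq {b : F} (hb : b ≠ 0) : wt b hb = up b * lo (-b⁻¹) * up b := by
  apply ext2 <;> simp [mul_apply2, hb]

theorem lo_mul_wt {b : F} (hb : b ≠ 0) (c : F) : lo c * wt b hb = wt b hb * up (-(b ^ 2 * c)) := by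
  apply ext2 <;> simp [mul_apply2]
  field_simp

theorem up_mul_wt {b : F} (hb : b ≠ 0) (c : F) : up c * wt b hb = wt b hb * lo (-(c / b ^ 2)) := by
  apply ext2 <;> simp [mul_apply2]
  field_simp

theorem wt_eq_mul {b : F} (hb : b ≠ 0) : wt b hb = w0 F * hh b⁻¹ (inv_ne_zero hb) := by
  apply ext2 <;> simp [mul_apply2]

theorem hh_mul {b c : F} (hb : b ≠ 0) (hc : c ≠ 0) : hh b hb * hh c hc = hh (b * c) (mul_ne_zero hb hc) := by
  apply ext2 <;> simp [mul_apply2]
  ring

theorem hh_one : hh (1 : F) one_ne_zero = 1 := by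
  apply ext2 <;> simp [one_apply2]

theorem up_mul_hh {b : F} (hb : b ≠ 0) (c : F) : up c * hh b hb = hh b hb * up (c / b ^ 2) := by
  apply ext2 <;> simp [mul_apply2]
  field_simp

theorem hh_mul_wt {b : F} (hb : b ≠ 0) : hh b hb * w0 F = w0 F * hh b⁻¹ (inv_ne_zero hb) := by
  apply ext2 <;> simp [mul_apply2]

theorem wt_mul_wt {b : F} (hb : b ≠ 0) : wt b hb * wt b hb = hh (-1) (neg_ne_zero.2 one_ne_zero) := by
  apply ext2 <;> simp [mul_apply2, hb]

/-- The hypothesis on the module. -/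
structure Hyp (F V : Type*) [Field F] [AddCommGroup V] [DistribMulAction SL(2, F) V] : Prop where
  quad : ∀ (b b' : F) (v : V), (up b : SL(2, F)) • ((up b' : SL(2, F)) • v - v) = (up b' : SL(2, F)) • v - v
  split : ∀ v : V, ∃ v₁ v₂, v = v₁ + v₂ ∧ (∀ b : F, (up b : SL(2, F)) • v₁ = v₁) ∧ (∀ b : F, (lo b : SL(2, F)) • v₂ = v₂)
  fix : ∀ v : V, (∀ b : F, (up b : SL(2, F)) • v = v) → (∀ b : F, (lo b : SL(2, F)) • v = v) → v = 0

namespace Hyp

variable {V : Type*} [AddCommGroup V] [DistribMulAction SL(2, F) V] (H : Hyp F V)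

/-- fixed by the upper root group -/
def Fu (F : Type*) [Field F] {V : Type*} [AddCommGroup V] [DistribMulAction SL(2, F) V] (v : V) : Prop :=
  ∀ b : F, (up b : SL(2, F)) • v = v

/-- fixed by the lower root group -/
def Fl (F : Type*) [Field F] {V : Type*} [AddCommGroup V] [DistribMulAction SL(2, F) V] (v : V) : Prop :=
  ∀ b : F, (lo b : SL(2, F)) • v = v

theorem Fu.sub {u v : V} (hu : Fu F u) (hv : Fu F v) : Fu F (u - v) := fun b => by
  rw [smul_sub, hu b, hv b]

theorem Fu.add {u v : V} (hu : Fu F u) (hv : Fu F v) : Fu F (u + v) := fun b => by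
  rw [smul_add, hu b, hv b]

theorem Fu.neg {u : V} (hu : Fu F u) : Fu F (-u) := fun b => by
  rw [smul_neg, hu b]

theorem Fl.sub {u v : V} (hu : Fl F u) (hv : Fl F v) : Fl F (u - v) := fun b => by
  rw [smul_sub, hu b, hv b]

theorem Fu.hh {u : V} (hu : Fu F u) {b : F} (hb : b ≠ 0) : Fu F (hh b hb • u) := fun c => by
  rw [← mul_smul, up_mul_hh, mul_smul, hu]

theorem Fu.wt {u : V} (hu : Fu F u) {b : F} (hb : b ≠ 0) : Fl F (wt b hb • u) := fun c => by
  rw [← mul_smul, lo_mul_wt, mul_smul, hu]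

theorem Fl.wt {u : V} (hu : Fl F u) {b : F} (hb : b ≠ 0) : Fu F (wt b hb • u) := fun c => by
  rw [← mul_smul, up_mul_wt, mul_smul, hu]

include H

theorem quadl (c c' : F) (v : V) : (lo c : SL(2, F)) • ((lo c' : SL(2, F)) • v - v) = (lo c' : SL(2, F)) • v - v := by
  have h1 : (1 : F) ≠ 0 := one_ne_zero
  obtain ⟨w, rfl⟩ : ∃ w, v = wt 1 h1 • w := ⟨(wt 1 h1)⁻¹ • v, by rw [smul_inv_smul]⟩
  rw [← mul_smul, lo_mul_wt, mul_smul, ← smul_sub, ← mul_smul, lo_mul_wt, mul_smul, H.quad]

/-- the key computation -/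
theorem key {u : V} (hu : Fu F u) {b : F} (hb : b ≠ 0) :
    (up b : SL(2, F)) • (wt b hb • u) - wt b hb • u = - u := by
  set m : V := (lo (-b⁻¹) : SL(2, F)) • u - u with hm
  have hm2 : Fl F m := fun c => H.quadl c _ u
  set n : V := (up b : SL(2, F)) • m - m with hn
  have hn2 : Fu F n := fun c => H.quad c _ m
  have e1 : wt b hb • u = u + m + n := by
    rw [wt_eq, mul_smul, mul_smul, hu b, show (lo (-b⁻¹) : SL(2, F)) • u = u + m by rw [hm]; abel,
      smul_add, hu b, show (up b : SL(2, F)) • m = m + n by rw [hn]; abel]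
    abel
  have e2 : wt b hb • u - m = 0 := by
    apply H.fix
    · have : wt b hb • u - m = u + n := by rw [e1]; abel
      rw [this]; exact hu.add hn2
    · exact (hu.wt hb).sub hm2
  have e3 : wt b hb • u = m := sub_eq_zero.1 e2
  have e4 : u + n = 0 := by
    have h5 : u + n = wt b hb • u - m := by rw [e1]; abel
    rw [h5, e2]
  rw [e3, ← hn]
  exact eq_neg_of_add_eq_zero_right e4

/-- `D(b)` -/
theorem D_eq {u : V} (hu : Fu F u) {b : F} (hb : b ≠ 0) :
    w0 F • u - (up b : SL(2, F)) • (w0 F • u) = hh b hb • u := by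
  have h1 := H.key (hu.hh hb) hb
  have e1 : wt b hb • hh b hb • u = w0 F • u := by
    rw [wt_eq_mul hb, mul_smul, ← mul_smul (hh b⁻¹ _), hh_mul]
    have : b⁻¹ * b = 1 := inv_mul_cancel₀ hb
    simp_rw [this]
    rw [hh_one, one_smul]
  rw [e1] at h1
  have h2 := congrArg (fun x => - x) h1
  simp only [neg_neg, neg_sub] at h2
  exact h2

theorem D_add (u : V) (b c : F) :
    u - (up (b + c) : SL(2, F)) • u = (u - (up b : SL(2, F)) • u) + (u - (up c : SL(2, F)) • u) := by
  have h1 := H.quad b c u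
  rw [up_add, mul_smul]
  rw [smul_sub] at h1
  have h2 : (up b : SL(2, F)) • (up c : SL(2, F)) • u = (up c : SL(2, F)) • u - u + (up b : SL(2, F)) • u := by
    rw [← h1]; abel
  rw [h2]; abel

theorem hh_fixed {u : V} (hu : Fu F u) {b : F} (hb : b ≠ 0) (hb1 : b ≠ 1) (h : hh b hb • u = u) : u = 0 := by
  have hb2 : b - 1 ≠ 0 := sub_ne_zero.2 hb1
  have h1 := H.D_add (w0 F • u) (b - 1) 1
  rw [sub_add_cancel, H.D_eq hu hb, h, H.D_eq hu hb2, H.D_eq hu one_ne_zero, hh_one, one_smul] at h1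
  have h2 : hh (b - 1) hb2 • u = 0 := by
    have : u = hh (b - 1) hb2 • u + u := h1
    exact add_eq_right.1 this.symm
  have h3 := congrArg (fun x => (hh (b - 1) hb2)⁻¹ • x) h2
  simpa using h3

theorem hh_neg_one {u : V} (hu : Fu F u) : hh (-1 : F) (neg_ne_zero.2 one_ne_zero) • u = - u := by
  have h1 := H.D_add (w0 F • u) (-1) 1
  rw [neg_add_cancel, H.D_eq hu (neg_ne_zero.2 one_ne_zero), H.D_eq hu one_ne_zero, hh_one, one_smul, up_zero,
    one_smul, sub_self] at h1
  exact eq_neg_of_add_eq_zero_left h1.symm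

/-- The main statement. -/
theorem fixed_eq_zero (g : SL(2, F)) (hg : g.1 0 0 + g.1 1 1 ≠ 2) (v : V) (hv : g • v = v) : v = 0 := by
  have hdet : g.1 0 0 * g.1 1 1 - g.1 0 1 * g.1 1 0 = 1 := by
    have := g.2; rwa [Matrix.det_fin_two] at this
  by_cases hc : g.1 1 0 = 0
  · -- upper triangular case
    have ha : g.1 0 0 ≠ 0 := by
      intro h; rw [h, hc] at hdet; simp at hdet
    have hd : g.1 1 1 = (g.1 0 0)⁻¹ := by
      rw [hc, mul_zero, sub_zero] at hdet
      exact eq_inv_of_mul_eq_one_right hdet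
    have ha1 : g.1 0 0 ≠ 1 := by
      intro h; apply hg; rw [hd, h, inv_one]; norm_num
    have hge : g = up (g.1 0 0 * g.1 0 1) * hh _ ha := by
      apply ext2 <;> simp [mul_apply2, hc, hd]
      field_simp
    obtain ⟨v₁, v₂, rfl, h1, h2⟩ := H.split v
    -- the V₂ component
    have h2' : Fl F v₂ := h2
    have h1' : Fu F v₁ := h1
    obtain ⟨w, hw⟩ : ∃ w, v₂ = w0 F • w := ⟨(w0 F)⁻¹ • v₂, by rw [smul_inv_smul]⟩
    have hwF : Fu F w := by
      have e : w = wt (-1 : F) (neg_ne_zero.2 one_ne_zero) • v₂ := by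
        rw [hw, ← mul_smul]
        have : wt (-1 : F) (neg_ne_zero.2 one_ne_zero) * w0 F = 1 := by
          apply ext2 <;> simp [mul_apply2, one_apply2]
        rw [this, one_smul]
      rw [e]; exact h2'.wt _
    have e3 : hh _ ha • v₂ = w0 F • hh _ (inv_ne_zero ha) • w := by
      rw [hw, ← mul_smul, hh_mul_wt, mul_smul]
    have hFl : Fl F (hh _ ha • v₂) := by
      rw [e3]; exact (hwF.hh _).wt _
    have h4 : g • (v₁ + v₂) = (hh _ ha • v₁ + ((up (g.1 0 0 * g.1 0 1) : SL(2, F)) • (hh _ ha • v₂) - hh _ ha • v₂))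
        + hh _ ha • v₂ := by
      conv_lhs => rw [hge]
      rw [mul_smul, smul_add, smul_add, (h1'.hh ha) _]
      abel
    rw [hv] at h4
    have h5 : hh _ ha • v₂ - v₂ = 0 := by
      apply H.fix
      · have : hh _ ha • v₂ - v₂ = v₁ - (hh _ ha • v₁ + ((up (g.1 0 0 * g.1 0 1) : SL(2, F)) • (hh _ ha • v₂) - hh _ ha • v₂)) := by
          have := h4
          rw [sub_eq_sub_iff_add_eq_add, add_comm, ← this]
        rw [this]
        exact h1'.sub ((h1'.hh ha).add (fun c => H.quad c _ _))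
      · exact hFl.sub h2'
    have h6 : v₂ = 0 := by
      have h7 : hh _ (inv_ne_zero ha) • w = w := by
        have := sub_eq_zero.1 h5
        rw [e3] at this
        conv_rhs at this => rw [hw]
        exact smul_left_cancel _ this
      have h8 := H.hh_fixed hwF (inv_ne_zero ha) (by rwa [ne_eq, inv_eq_one]) h7
      rw [hw, h8, smul_zero]
    subst h6
    rw [add_zero] at hv ⊢
    rw [hge, mul_smul, (h1'.hh ha) _] at hv
    exact H.hh_fixed h1' ha ha1 hv
  · -- the big cell
    set s : F := g.1 0 0 / g.1 1 0 with hs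
    set t : F := g.1 1 1 / g.1 1 0 with ht
    set e : F := -(g.1 1 0)⁻¹ with he
    have he0 : e ≠ 0 := neg_ne_zero.2 (inv_ne_zero hc)
    have hge : g = up s * wt e he0 * up t := by
      apply ext2 <;> simp [mul_apply2, hs, ht, he, hc]
      · field_simp
        linear_combination -hdet
      · field_simp
    -- conjugate by `up s`
    obtain ⟨v', rfl⟩ : ∃ v', v = (up s : SL(2, F)) • v' := ⟨(up s : SL(2, F))⁻¹ • v, by rw [smul_inv_smul]⟩
    have hv' : (wt e he0 * up (t + s)) • v' = v' := by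
      apply smul_left_cancel (up s : SL(2, F))
      rw [← mul_smul, up_add, ← mul_assoc, ← mul_assoc, ← hge, mul_smul, hv]
    have htr : (t + s) / e ≠ - 2 := by
      intro h
      apply hg
      have h1 : t + s = - 2 * e := by rw [← h]; field_simp
      rw [hs, ht, he] at h1
      field_simp at h1
      rw [add_comm, h1]
    suffices v' = 0 by rw [this, smul_zero]
    obtain ⟨u₁, v₂, rfl, h1, h2⟩ := H.split v'
    have h1' : Fu F u₁ := h1
    have h2' : Fl F v₂ := h2
    obtain ⟨u₂, hu₂⟩ : ∃ u₂, v₂ = wt e he0 • u₂ := ⟨(wt e he0)⁻¹ • v₂, by rw [smul_inv_smul]⟩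
    have hu₂F : Fu F u₂ := by
      have e' : u₂ = wt (-e) (neg_ne_zero.2 he0) • v₂ := by
        rw [hu₂, ← mul_smul]
        have : wt (-e) (neg_ne_zero.2 he0) * wt e he0 = 1 := by
          apply ext2 <;> simp [mul_apply2, one_apply2, he0]
        rw [this, one_smul]
      rw [e']; exact h2'.wt _
    set y : F := t + s with hy
    have hDe : v₂ - (up y : SL(2, F)) • v₂ = w0 F • (hh e⁻¹ (inv_ne_zero he0) • u₂) - (up y : SL(2, F)) • w0 F • (hh e⁻¹ (inv_ne_zero he0) • u₂) := by
      rw [hu₂, wt_eq_mul he0, mul_smul]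
    set d : V := v₂ - (up y : SL(2, F)) • v₂ with hd
    have hdF : Fu F d := by
      have : d = - ((up y : SL(2, F)) • v₂ - v₂) := by rw [hd]; abel
      rw [this]; exact Fu.neg (fun c => H.quad c _ _)
    clear_value d
    have e5 : (wt e he0 * up y) • (u₁ + v₂) = - u₂ + (wt e he0 • (u₁ - d)) := by
      have e60 : (up y : SL(2, F)) • v₂ = v₂ - d := by rw [hd]; abel
      rw [mul_smul, smul_add, h1, e60, smul_add, smul_sub, smul_sub]
      have e6 : wt e he0 • v₂ = - u₂ := by
        rw [hu₂, ← mul_smul, wt_mul_wt, H.hh_neg_one hu₂F]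
      rw [e6]; abel
    rw [hv'] at e5
    have e7 : u₁ + u₂ = 0 := by
      apply H.fix
      · exact h1'.add hu₂F
      · have : u₁ + u₂ = wt e he0 • (u₁ - d) - v₂ := by
          have := e5
          have h3 : u₁ = - u₂ + (wt e he0 • (u₁ - d)) - v₂ := by rw [← e5]; abel
          nth_rewrite 1 [h3]; abel
        rw [this]
        exact ((h1'.sub hdF).wt _).sub h2'
    have e8 : u₁ - d = u₂ := by
      apply smul_left_cancel (wt e he0)
      rw [← hu₂]
      have h3 : v₂ = - (u₁ + u₂) + wt e he0 • (u₁ - d) := by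
        have h4 : v₂ = (u₁ + v₂) - u₁ := by abel
        rw [h4, e5]; abel
      rw [e7, neg_zero, zero_add] at h3
      exact h3.symm
    have e9 : d = - u₂ - u₂ := by
      have : u₁ = - u₂ := eq_neg_of_add_eq_zero_left e7
      rw [← this, ← e8]; abel
    have hu20 : u₂ = 0 := by
      set u' : V := hh e⁻¹ (inv_ne_zero he0) • u₂ with hu'
      have hu'F : Fu F u' := hu₂F.hh _
      have hinv : hh e he0 • u' = u₂ := by
        rw [hu', ← mul_smul, hh_mul]
        have : e * e⁻¹ = 1 := mul_inv_cancel₀ he0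
        simp_rw [this]
        rw [hh_one, one_smul]
      -- `D(y) u' = d`, `D(e) u' = u₂`
      have f1 := H.D_add (w0 F • u') y (e + e)
      have f2 := H.D_add (w0 F • u') e e
      rw [H.D_eq hu'F he0, hinv] at f2
      rw [← hDe, f2, e9] at f1
      have f3 : w0 F • u' - (up (y + (e + e)) : SL(2, F)) • w0 F • u' = 0 := by rw [f1]; abel
      have hne : y + (e + e) ≠ 0 := by
        intro h
        apply htr
        have : y = - 2 * e := by linear_combination h
        rw [this]; field_simp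
      rw [H.D_eq hu'F hne] at f3
      have f4 : u' = 0 := by
        have h3 := congrArg (fun x => (hh _ hne)⁻¹ • x) f3
        simpa using h3
      rw [← hinv, f4, smul_zero]
    have hu10 : u₁ = 0 := by rw [hu20, add_zero] at e7; exact e7
    rw [hu10, hu₂, hu20, smul_zero, add_zero]

end Hyp

end H53.NatMod
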