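import Cfsg.Agent.Lib.H53.FL2
import Cfsg.Agent.Lib.H53.NatMod
import Cfsg.Agent.Lib.H51.NatSL2
import Mathlib

set_option autoImplicit false
set_option linter.unusedSectionVars false

/-! The groups `L ∈ 𝔏_G(Y)`: the case `L/A = SL₂(q)`. -/

namespace H53.FL

open Subgroup Cfsg H52.PCore H52.Syl H52.Irr Matrix H85.SL2
open scoped commutatorElement MatrixGroups

/-- transport of an action along a surjection -/
noncomputable def actOf {Γ S V : Type*} [Group Γ] [Group S] [AddCommGroup V] [DistribMulAction Γ V] (f : Γ →* S)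
    (hf : Function.Surjective f) (hk : ∀ γ, f γ = 1 → ∀ v : V, γ • v = v) : DistribMulAction S V where
  smul s v := (Function.surjInv hf s) • v
  one_smul v := hk _ (Function.surjInv_eq hf 1) v
  mul_smul s t v := by
    show Function.surjInv hf (s * t) • v = Function.surjInv hf s • Function.surjInv hf t • v
    have h1 : f ((Function.surjInv hf s * Function.surjInv hf t)⁻¹ * Function.surjInv hf (s * t)) = 1 := by
      rw [map_mul, map_inv, map_mul, Function.surjInv_eq hf, Function.surjInv_eq hf, Function.surjInv_eq hf,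
        inv_mul_cancel]
    have h2 := hk _ h1 v
    rw [mul_smul] at h2
    have h3 := congrArg (fun w => (Function.surjInv hf s * Function.surjInv hf t) • w) h2
    simp only [smul_inv_smul] at h3
    rw [h3, mul_smul]
  smul_zero s := smul_zero _
  smul_add s v w := smul_add _ v w

theorem actOf_apply {Γ S V : Type*} [Group Γ] [Group S] [AddCommGroup V] [DistribMulAction Γ V] (f : Γ →* S)
    (hf : Function.Surjective f) (hk : ∀ γ, f γ = 1 → ∀ v : V, γ • v = v) (γ : Γ) (v : V) :
    (actOf f hf hk).toMulAction.toSMul.smul (f γ) v = γ • v := by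
  show Function.surjInv hf (f γ) • v = γ • v
  have h1 : f (γ⁻¹ * Function.surjInv hf (f γ)) = 1 := by
    rw [map_mul, map_inv, Function.surjInv_eq hf, inv_mul_cancel]
  have h2 := hk _ h1 v
  rw [mul_smul] at h2
  have h3 := congrArg (fun w => γ • w) h2
  simp only [smul_inv_smul] at h3
  exact h3

variable {L : Type*} [Group L] [Finite L] {p : ℕ} [Fact p.Prime] {Y : Subgroup L}

theorem isPElement_of_pow_mem {x : L} {n : ℕ} (hx : x ^ p ^ n ∈ pCore p L) : ∃ k, orderOf x = p ^ k := by
  obtain ⟨k, hk⟩ := (isPGroup_pCore : IsPGroup p (pCore p L)) ⟨_, hx⟩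
  have h4 := congrArg Subtype.val hk
  simp only [SubmonoidClass.coe_pow, OneMemClass.coe_one] at h4
  rw [← pow_mul, ← pow_add] at h4
  obtain ⟨j, _, hj⟩ := (Nat.dvd_prime_pow (Fact.out : p.Prime)).1 (orderOf_dvd_of_pow_eq_one h4)
  exact ⟨j, hj⟩

/-- coordinates for the `SL₂` case -/
structure SLC (p : ℕ) {L : Type*} [Group L] (Y : Subgroup L) (F : Type*) [Field F] (f : L →* SL(2, F)) : Prop where
  surj : Function.Surjective f
  ker : f.ker = pCore p L
  up_iff : ∀ y, (∃ b, y = (up b : SL(2, F))) ↔ ∃ t ∈ Y, f t = y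

theorem exists_slc {F : Type*} [Field F] [Fintype F] (h : Cfg p Y)
    (hF : Fintype.card F = (Y ⊓ pCore p L).relIndex Y) (e : L ⧸ pCore p L ≃* SL(2, F)) :
    CharP F p ∧ ∃ f : L →* SL(2, F), SLC p Y F f := by
  classical
  set f₀ : L →* SL(2, F) := e.toMonoidHom.comp (QuotientGroup.mk' (pCore p L)) with hf₀
  have hs : Function.Surjective f₀ := e.surjective.comp (QuotientGroup.mk'_surjective _)
  have hk : f₀.ker = pCore p L := by
    ext x
    rw [MonoidHom.mem_ker]
    show e (QuotientGroup.mk' _ x) = 1 ↔ _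
    rw [map_eq_one_iff e e.injective, ← MonoidHom.mem_ker, QuotientGroup.ker_mk']
  have hpY : IsPGroup p (Y.map f₀) := h.isPGroup.map f₀
  have hcard : Nat.card (Y.map f₀) = Fintype.card F := by
    rw [hF, inf_relIndex_left, ← relIndex_ker, hk]
  obtain ⟨n, hn⟩ := IsPGroup.iff_card.1 hpY
  have hCF : CharP F p := H51.NatSL2.charP_of_card p (n := n) (by rw [← hcard, hn])
  refine ⟨hCF, ?_⟩
  have hfinSL : Finite SL(2, F) := inferInstance
  obtain ⟨P, hP⟩ := hpY.exists_le_sylow
  obtain ⟨g, hg⟩ := H51.NatSL2.exists_conj_up p P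
  have hPeq : Y.map f₀ = (P : Subgroup SL(2, F)) := by
    apply Subgroup.eq_of_le_of_card_ge hP
    rw [hcard, ← Nat.card_eq_fintype_card]
    apply Nat.card_le_card_of_injective (fun x : (P : Subgroup SL(2, F)) => ((hg x).1 x.2).choose)
    intro x y hxy
    have h1 := ((hg x).1 x.2).choose_spec
    have h2 := ((hg y).1 y.2).choose_spec
    simp only at hxy
    rw [hxy, ← h2] at h1
    have h3 : (x : SL(2, F)) = y := by
      have := mul_right_cancel h1
      exact mul_left_cancel this
    exact Subtype.ext h3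
  refine ⟨(MulAut.conj g⁻¹).toMonoidHom.comp f₀, ?_, ?_, ?_⟩
  · exact (MulAut.conj g⁻¹).surjective.comp hs
  · ext x
    rw [MonoidHom.mem_ker, ← hk, MonoidHom.mem_ker]
    show MulAut.conj g⁻¹ (f₀ x) = 1 ↔ _
    rw [map_eq_one_iff _ (MulAut.conj g⁻¹).injective]
  · intro y
    have h1 := hg (g * y * g⁻¹)
    have e1 : g⁻¹ * (g * y * g⁻¹) * g = y := by group
    rw [e1, ← hPeq] at h1
    rw [← h1]
    constructor
    · rintro ⟨t, ht, hty⟩
      refine ⟨t, ht, ?_⟩
      show MulAut.conj g⁻¹ (f₀ t) = y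
      rw [hty, MulAut.conj_apply]; group
    · rintro ⟨t, ht, hty⟩
      refine ⟨t, ht, ?_⟩
      have h2 : MulAut.conj g⁻¹ (f₀ t) = y := hty
      rw [MulAut.conj_apply] at h2
      rw [← h2]; group

/-- trace two elements have order dividing `p` -/
theorem pow_eq_one_of_trace {F : Type*} [Field F] [CharP F p] {g : SL(2, F)} (hg : g.1 0 0 + g.1 1 1 = 2) :
    g ^ p = 1 := by
  have hdet : g.1 0 0 * g.1 1 1 - g.1 0 1 * g.1 1 0 = 1 := by
    have := g.2; rwa [Matrix.det_fin_two] at this
  have hp2 : 2 ≤ p := (Fact.out : p.Prime).two_le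
  have h1 : (g.1 - 1) ^ 2 = 0 := by
    have hd : g.1 1 1 = 2 - g.1 0 0 := by linear_combination hg
    rw [hd] at hdet
    ext i j
    rw [pow_two, Matrix.mul_apply, Fin.sum_univ_two]
    fin_cases i <;> fin_cases j <;> simp [hd] <;> first | linear_combination hdet | linear_combination -hdet | ring
  have h2 : (g.1 - 1) ^ p = 0 := by
    rw [← Nat.sub_add_cancel hp2, pow_add, h1, mul_zero]
  have h3 : g.1 ^ p = 1 := by
    have h4 : g.1 = (g.1 - 1) + 1 := by rw [sub_add_cancel]
    rw [h4, add_pow_char_of_commute p (Commute.one_right _), h2, one_pow, zero_add]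
  apply Subtype.ext
  rw [Matrix.SpecialLinearGroup.coe_pow, h3]; rfl

variable {V : Type*} [AddCommGroup V] [DistribMulAction L V] {π : pCore p L → V}

theorem SLC.fpf {F : Type*} [Field F] [CharP F p] {f : L →* SL(2, F)} (s : SLC p Y F f) (h : Cfg p Y)
    (m : IsMod (pCore p L) (Y ⊓ center L) V π) {x : L} (hx : ¬ ∃ k, orderOf x = p ^ k) {v : V} (hv : x • v = v) :
    v = 0 := by
  have hk : ∀ γ, f γ = 1 → ∀ v : V, γ • v = v := by
    intro γ hγ
    rw [h.trivial_iff m, ← s.ker, MonoidHom.mem_ker]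
    exact hγ
  let i1 : DistribMulAction SL(2, F) V := actOf f s.surj hk
  have hact : ∀ (γ : L) (v : V), f γ • v = γ • v := actOf_apply f s.surj hk
  obtain ⟨g, hg⟩ := s.surj (NatMod.w0 F)
  have hab : cj 1 Y ≠ cj g Y := by
    intro h1
    rw [cj_one] at h1
    have h2 : g ∈ normalizer (Y : Set L) := mem_normalizer_of_cj_eq h1.symm
    obtain ⟨t, ht, hft⟩ := (s.up_iff (up 1)).1 ⟨1, rfl⟩
    obtain ⟨b, hb⟩ := (s.up_iff (f (g * t * g⁻¹))).2 ⟨_, (mem_normalizer_iff.1 h2 t).1 ht, rfl⟩
    rw [map_mul, map_mul, map_inv, hg, hft] at hb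
    have h3 : NatMod.w0 F * up 1 = up b * NatMod.w0 F := by rw [← hb]; group
    have h4 := congrArg (fun A : SL(2, F) => A.1 1 1) h3
    simp [NatMod.mul_apply2] at h4
  have hup : ∀ b : F, ∃ t ∈ Y, f t = up b := fun b => (s.up_iff _).1 ⟨b, rfl⟩
  have hlo : ∀ c : F, ∃ t ∈ cj g Y, f t = lo c := by
    intro c
    obtain ⟨t, ht, hft⟩ := hup (-c)
    refine ⟨g * t * g⁻¹, conj_mem_cj ht, ?_⟩
    rw [map_mul, map_mul, map_inv, hg, hft]
    have h3 : lo c * NatMod.w0 F = NatMod.w0 F * up (-c) := by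
      have := NatMod.lo_mul_wt (one_ne_zero (α := F)) c
      rwa [one_pow, one_mul] at this
    rw [← h3, mul_inv_cancel_right]
  have H : NatMod.Hyp F V := by
    refine ⟨?_, ?_, ?_⟩
    · intro b b' v
      obtain ⟨t, ht, hft⟩ := hup b
      obtain ⟨t', ht', hft'⟩ := hup b'
      rw [← hft, ← hft', hact, hact]
      have h1 := h.smul_sub_im m (a := 1) (by rw [cj_one]; exact ht') v
      exact h.smul_of_im m (a := 1) (by rw [cj_one]; exact ht) h1
    · intro v
      obtain ⟨v₁, v₂, hv, h1, h2⟩ := h.split m hab v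
      refine ⟨v₁, v₂, hv, ?_, ?_⟩
      · intro b
        obtain ⟨t, ht, hft⟩ := hup b
        rw [← hft, hact]
        exact h.smul_of_im m (a := 1) (by rw [cj_one]; exact ht) h1
      · intro b
        obtain ⟨t, ht, hft⟩ := hlo b
        rw [← hft, hact]
        exact h.smul_of_im m ht h2
    · intro v h1 h2
      apply h.eq_zero_of_fixed m hab
      · intro t ht
        rw [cj_one] at ht
        obtain ⟨b, hb⟩ := (s.up_iff (f t)).2 ⟨t, ht, rfl⟩
        rw [← hact, hb]; exact h1 b
      · intro t ht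
        obtain ⟨y, hy, rfl⟩ := ht
        obtain ⟨b, hb⟩ := (s.up_iff (f y)).2 ⟨y, hy, rfl⟩
        have e : (MulAut.conj g).toMonoidHom y = g * y * g⁻¹ := rfl
        rw [e, ← hact, map_mul, map_mul, map_inv, hg, hb]
        have h3 : lo (-b) * NatMod.w0 F = NatMod.w0 F * up b := by
          have := NatMod.lo_mul_wt (one_ne_zero (α := F)) (-b)
          rwa [one_pow, one_mul, neg_neg] at this
        rw [← h3, mul_inv_cancel_right]
        exact h2 _
  apply H.fixed_eq_zero (f x) ?_ v (by rw [hact]; exact hv)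
  intro htr
  apply hx
  have h1 := pow_eq_one_of_trace (p := p) htr
  rw [← map_pow, ← MonoidHom.mem_ker, s.ker] at h1
  exact isPElement_of_pow_mem (n := 1) (by rw [pow_one]; exact h1)

end H53.FL
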