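import Cfsg.Agent.Lib.H53.FL3
import Mathlib

set_option autoImplicit false
set_option linter.unusedSectionVars false

/-! The groups `L ∈ 𝔏_G(Y)`: elements of odd order inverted by conjugates of elements of `Y`. -/

namespace H53.FL

open Subgroup Cfsg H52.PCore H52.Syl H52.Irr
open scoped commutatorElement

variable {L : Type*} [Group L] [Finite L] {Y : Subgroup L}
variable {V : Type*} [AddCommGroup V] [DistribMulAction L V]

section
variable {p : ℕ} [Fact p.Prime] {π : pCore p L → V}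

theorem Cfg.smul_eq_zero (h : Cfg p Y) (m : IsMod (pCore p L) (Y ⊓ center L) V π) (v : V) : p • v = 0 := by
  have key : ∀ a : L, ∀ v, Im π (cj a Y) v → p • v = 0 := by
    rintro a _ ⟨c, hc, rfl⟩
    have h1 : ∀ n : ℕ, n • π c = π (c ^ n) := by
      intro n
      induction n with
      | zero => rw [zero_smul, pow_zero, m.map_one]
      | succ n ih => rw [succ_nsmul, ih, pow_succ, m.map_mul]
    rw [h1]
    have h2 : c ^ p = 1 := by
      apply Subtype.ext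
      rw [SubmonoidClass.coe_pow, OneMemClass.coe_one]
      obtain ⟨y, hy, hyc⟩ := hc
      rw [← hyc]
      show (a * y * a⁻¹) ^ p = 1
      rw [conj_pow, h.pow y hy, mul_one, mul_inv_cancel]
    rw [h2, m.map_one]
  obtain ⟨g, hg⟩ := h.exists_notMem
  have hab : cj 1 Y ≠ cj g Y := by
    rw [cj_one]; intro h1; exact hg (mem_normalizer_of_cj_eq h1.symm)
  obtain ⟨v₁, v₂, rfl, h1, h2⟩ := h.split m hab v
  rw [smul_add, key _ _ h1, key _ _ h2, add_zero]

theorem Cfg.pow_cj (h : Cfg p Y) {a t : L} (ht : t ∈ cj a Y) : t ^ p = 1 := by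
  obtain ⟨y, hy, rfl⟩ := ht
  show (a * y * a⁻¹) ^ p = 1
  rw [conj_pow, h.pow y hy, mul_one, mul_inv_cancel]

end

variable {π : pCore 2 L → V}

/-- reality hypothesis -/
def Real (Y : Subgroup L) : Prop :=
  ∀ x : L, x ∉ pCore 2 L → (∃ n, Odd n ∧ x ^ n ∈ pCore 2 L) →
    ∃ a t : L, t ∈ cj a Y ∧ t ∉ pCore 2 L ∧ t * x * t⁻¹ * x ∈ pCore 2 L

theorem fpf_odd (h : Cfg 2 Y) (hR : Real Y) (m : IsMod (pCore 2 L) (Y ⊓ center L) V π) {x : L}
    (hxA : x ∉ pCore 2 L) (hodd : ∃ n, Odd n ∧ x ^ n ∈ pCore 2 L) {v : V} (hv : x • v = v) : v = 0 := by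
  have hf2 : Fact (Nat.Prime 2) := ⟨Nat.prime_two⟩
  obtain ⟨a, t, ht, htA, hinv⟩ := hR x hxA hodd
  by_contra hv0
  have htt : t * t = 1 := by rw [← pow_two]; exact h.pow_cj ht
  have hti : t⁻¹ = t := inv_eq_of_mul_eq_one_right htt
  have hAn : (pCore 2 L).Normal := inferInstance
  -- `t` preserves the fixed points of `x`
  have hpres : ∀ w : V, x • w = w → x • (t • w) = t • w := by
    intro w hw
    -- `x = t x⁻¹ t * b` with `b ∈ A`
    have h1 : t⁻¹ * (t * x * t⁻¹ * x) * t ∈ pCore 2 L := by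
      have := hAn.conj_mem _ hinv t⁻¹
      rwa [inv_inv] at this
    have h2 : (t⁻¹ * (t * x * t⁻¹ * x) * t) • w = w := (h.trivial_iff m).2 h1 w
    have e : t⁻¹ * (t * x * t⁻¹ * x) * t = x * (t⁻¹ * x * t) := by group
    rw [e, mul_smul, mul_smul, mul_smul, hti] at h2
    have h3 := congrArg (fun u => x⁻¹ • u) h2
    simp only [inv_smul_smul] at h3
    have h4 : x⁻¹ • w = w := by rw [inv_smul_eq_iff, hw]
    rw [h4] at h3
    have h5 : t • (t • x • t • w) = t • w := by rw [h3]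
    rw [← mul_smul t t, htt, one_smul] at h5
    exact h5
  obtain ⟨w, hw0, hxw, htw⟩ : ∃ w : V, w ≠ 0 ∧ x • w = w ∧ t • w = w := by
    by_cases h1 : v + t • v = 0
    · refine ⟨v, hv0, hv, ?_⟩
      have h2 : t • v = - v := eq_neg_of_add_eq_zero_right h1
      have h3 : (2 : ℕ) • v = 0 := h.smul_eq_zero m v
      rw [two_nsmul] at h3
      rw [h2]
      exact neg_eq_of_add_eq_zero_left h3
    · refine ⟨v + t • v, h1, ?_, ?_⟩
      · rw [smul_add, hv, hpres v hv]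
      · rw [smul_add, ← mul_smul, htt, one_smul, add_comm]
  have h1 : Im π (cj a Y) w := h.im_of_fixed m ht htA htw
  have h2 := h.mem_normalizer_of_fixed m h1 hxw hw0
  -- `u = t x t⁻¹ x⁻¹ ∈ Y^a`
  have h3 : t * x * t⁻¹ * x⁻¹ ∈ cj a Y := by
    have h4 := (mem_normalizer_iff.1 h2 t⁻¹).1 (inv_mem ht)
    have e : t * x * t⁻¹ * x⁻¹ = t * (x * t⁻¹ * x⁻¹) := by group
    rw [e]; exact mul_mem ht h4
  set u := t * x * t⁻¹ * x⁻¹ with hu
  have huu : u * u = 1 := by rw [← pow_two]; exact h.pow_cj h3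
  have h4 : u * x ^ 2 ∈ pCore 2 L := by
    have e : u * x ^ 2 = t * x * t⁻¹ * x := by rw [hu]; group
    rw [e]; exact hinv
  have h5 : x ^ 4 ∈ pCore 2 L := by
    have e : x ^ 4 = (u⁻¹ * (u * x ^ 2) * u⁻¹⁻¹) * (u * x ^ 2) := by
      have hui : u⁻¹ = u := inv_eq_of_mul_eq_one_right huu
      rw [inv_inv]
      calc x ^ 4 = x ^ 2 * x ^ 2 := by rw [← pow_add]
        _ = x ^ 2 * (u * u) * x ^ 2 := by rw [huu, mul_one]
        _ = _ := by group
    rw [e]
    exact mul_mem (hAn.conj_mem _ h4 u⁻¹) h4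
  obtain ⟨n, hn, hxn⟩ := hodd
  apply hxA
  have hcop : Nat.Coprime 4 n := by
    have : Nat.Coprime 2 n := (Nat.coprime_two_left).2 hn
    exact Nat.Coprime.pow_left 2 this
  have h6 := Nat.gcd_eq_gcd_ab 4 n
  rw [hcop.gcd_eq_one] at h6
  have h7 : x = (x ^ 4) ^ (Nat.gcdA 4 n) * (x ^ n) ^ (Nat.gcdB 4 n) := by
    rw [← zpow_natCast, ← zpow_natCast, ← zpow_mul, ← zpow_mul, ← zpow_add, ← h6, Nat.cast_one, zpow_one]
  rw [h7]
  exact mul_mem (zpow_mem h5 _) (zpow_mem hxn _)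

theorem fpf_real (h : Cfg 2 Y) (hR : Real Y) (m : IsMod (pCore 2 L) (Y ⊓ center L) V π) {x : L}
    (hx : ¬ ∃ k, orderOf x = 2 ^ k) {v : V} (hv : x • v = v) : v = 0 := by
  have hf2 : Fact (Nat.Prime 2) := ⟨Nat.prime_two⟩
  obtain ⟨k, n, hn, hkn⟩ := Nat.exists_eq_two_pow_mul_odd (orderOf_pos x).ne'
  have h1 : x ^ 2 ^ k ∉ pCore 2 L := fun h1 => hx (isPElement_of_pow_mem h1)
  refine fpf_odd h hR m h1 ⟨n, hn, ?_⟩ (v := v) ?_
  · rw [← pow_mul, ← hkn, pow_orderOf_eq_one]; exact one_mem _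
  · have : x ^ 2 ^ k ∈ MulAction.stabilizer L v := pow_mem (show x ∈ MulAction.stabilizer L v from hv) _
    exact this

/-! ### generated by two involutions -/

theorem cases_of_closure {Q : Type*} [Group Q] {a b : Q} (ha : a * a = 1) (hb : b * b = 1) {x : Q}
    (hx : x ∈ closure ({a, b} : Set Q)) : ∃ k : ℤ, x = (a * b) ^ k ∨ x = (a * b) ^ k * a := by
  have hai : a⁻¹ = a := inv_eq_of_mul_eq_one_right ha
  have hbi : b⁻¹ = b := inv_eq_of_mul_eq_one_right hb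
  have e0 : a * (a * b) * a⁻¹ = (a * b)⁻¹ := by
    rw [mul_inv_rev, hai, hbi, ← mul_assoc, ha, one_mul]
  have hconj : ∀ k : ℤ, a * (a * b) ^ k = (a * b) ^ (-k) * a := by
    intro k
    have h1 : a * (a * b) ^ k * a⁻¹ = (a * b) ^ (-k) := by
      rw [← conj_zpow, e0, inv_zpow, zpow_neg]
    rw [← h1, inv_mul_cancel_right]
  have hb' : b = (a * b) ^ (-1 : ℤ) * a := by
    rw [zpow_neg_one, mul_inv_rev, hai, hbi, mul_assoc, ha, mul_one]
  induction hx using closure_induction with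
  | mem x hx =>
    rcases hx with rfl | hx
    · exact ⟨0, Or.inr (by rw [zpow_zero, one_mul])⟩
    · rw [Set.mem_singleton_iff] at hx
      subst hx
      exact ⟨-1, Or.inr hb'⟩
  | one => exact ⟨0, Or.inl (by rw [zpow_zero])⟩
  | mul x y _ _ hx hy =>
    obtain ⟨k, hk⟩ := hx
    obtain ⟨l, hl⟩ := hy
    rcases hk with rfl | rfl <;> rcases hl with rfl | rfl
    · exact ⟨k + l, Or.inl (by rw [zpow_add])⟩
    · exact ⟨k + l, Or.inr (by rw [zpow_add, mul_assoc])⟩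
    · exact ⟨k - l, Or.inr (by rw [mul_assoc, hconj, ← mul_assoc, ← zpow_add, sub_eq_add_neg])⟩
    · refine ⟨k - l, Or.inl ?_⟩
      rw [mul_assoc, ← mul_assoc a, hconj, mul_assoc _ a a, ha, mul_one, ← zpow_add, sub_eq_add_neg]
  | inv x _ hx =>
    obtain ⟨k, hk⟩ := hx
    rcases hk with rfl | rfl
    · exact ⟨-k, Or.inl (by rw [zpow_neg])⟩
    · refine ⟨k, Or.inr ?_⟩
      rw [mul_inv_rev, hai, ← zpow_neg, hconj, neg_neg]

end H53.FL
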