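import Cfsg.Agent.Lib.H8.SuzTorus3
import Mathlib

set_option autoImplicit false

/-! Suzuki groups: elements of odd order are inverted by involutions; involutions are conjugate. -/

namespace H53.SzReal

open Cfsg H8.SuzOvoid H8.SuzField H8.SuzMat H8.SuzStab H8.SuzGroup H8.SuzSylow H8.SuzCent H8.TICount H8.SuzTorus
open Subgroup

variable {F : Type*} [Field F] [Fintype F] {m : ℕ}

/-- in a group: an abelian subgroup of odd order with `C(u) = U` whose normalizer has even order is inverted by an involution -/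
theorem exists_inverting_of_torus {G : Type*} [Group G] [Finite G] {U : Subgroup G}
    (hcomm : ∀ a ∈ U, ∀ b ∈ U, a * b = b * a) (hcen : ∀ u ∈ U, u ≠ 1 → Subgroup.centralizer ({u} : Set G) = U)
    (hodd : ¬ 2 ∣ Nat.card U) (heven : 2 ∣ Nat.card (normalizer (U : Set G))) :
    ∃ t : G, t * t = 1 ∧ t ≠ 1 ∧ ∀ u ∈ U, t * u * t⁻¹ = u⁻¹ := by
  have hf2 : Fact (Nat.Prime 2) := ⟨Nat.prime_two⟩
  obtain ⟨t, ht⟩ := exists_prime_orderOf_dvd_card' (G := normalizer (U : Set G)) 2 heven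
  have htt : (t : G) * t = 1 := by
    have := pow_orderOf_eq_one t
    rw [ht, pow_two] at this
    exact congrArg Subtype.val this
  have ht1 : (t : G) ≠ 1 := by
    intro h1
    have : t = 1 := Subtype.ext h1
    rw [this, orderOf_one] at ht
    norm_num at ht
  have htU : (t : G) ∉ U := by
    intro hU
    apply hodd
    have h1 := orderOf_dvd_natCard (⟨t, hU⟩ : U)
    have h2 : orderOf (⟨t, hU⟩ : U) = 2 := by
      rw [← ht, ← Subgroup.orderOf_coe, ← Subgroup.orderOf_coe]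
    rwa [h2] at h1
  refine ⟨t, htt, ht1, ?_⟩
  intro u hu
  have hti : (t : G)⁻¹ = t := inv_eq_of_mul_eq_one_right htt
  have h1 : (t : G) * u * (t : G)⁻¹ ∈ U := (mem_normalizer_iff.1 t.2 u).1 hu
  by_contra hne
  have h2 : (t : G) * u * (t : G)⁻¹ * u ≠ 1 := fun h => hne (eq_inv_of_mul_eq_one_left h)
  have h3 : (t : G) * u * (t : G)⁻¹ * u ∈ U := mul_mem h1 hu
  have h4 := hcen _ h3 h2
  apply htU
  apply h4.le
  rw [mem_centralizer_singleton_iff]
  have h5 := hcomm _ h1 _ hu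
  calc (t : G) * ((t : G) * u * (t : G)⁻¹ * u) = ((t : G) * t) * u * (t : G)⁻¹ * u := by group
    _ = u * (t : G)⁻¹ * u := by rw [htt, one_mul]
    _ = u * ((t : G) * u * (t : G)⁻¹) * (t : G) := by rw [hti]; simp only [mul_assoc, htt, mul_one]
    _ = (t : G) * u * (t : G)⁻¹ * u * (t : G) := by rw [h5]

theorem exists_inverting (hm : 1 ≤ m) (hF : Fintype.card F = 2 ^ (2 * m + 1)) {g : Sz F m} (hg : g ≠ 1)
    (hodd : Odd (orderOf g)) : ∃ t : Sz F m, t * t = 1 ∧ t ≠ 1 ∧ t * g * t⁻¹ = g⁻¹ := by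
  have hconj : ∀ x t : Sz F m, t * t = 1 ∧ t ≠ 1 ∧ t * (x * g * x⁻¹) * t⁻¹ = (x * g * x⁻¹)⁻¹ →
      ∃ t : Sz F m, t * t = 1 ∧ t ≠ 1 ∧ t * g * t⁻¹ = g⁻¹ := by
    rintro x t ⟨h1, h2, h3⟩
    refine ⟨x⁻¹ * t * x, ?_, ?_, ?_⟩
    · calc x⁻¹ * t * x * (x⁻¹ * t * x) = x⁻¹ * (t * t) * x := by group
        _ = 1 := by rw [h1]; group
    · intro h4
      apply h2
      calc t = x * (x⁻¹ * t * x) * x⁻¹ := by group
        _ = 1 := by rw [h4]; group
    · calc x⁻¹ * t * x * g * (x⁻¹ * t * x)⁻¹ = x⁻¹ * (t * (x * g * x⁻¹) * t⁻¹) * x := by group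
        _ = g⁻¹ := by rw [h3]; group
  rcases cases_elem hm hF hg with h1 | h1 | ⟨r, hr, hrg, hrq⟩
  · exfalso
    obtain ⟨_, x, hx⟩ := h1
    obtain ⟨k, hk⟩ := isPGroup_TT (m := m) hF ⟨_, hx⟩
    have h2 : (x * g * x⁻¹) ^ 2 ^ k = 1 := congrArg Subtype.val hk
    rw [conj_pow] at h2
    have h3 : g ^ 2 ^ k = 1 := by
      have h4 : g ^ 2 ^ k = x⁻¹ * (x * g ^ 2 ^ k * x⁻¹) * x := by group
      rw [h4, h2]; group
    have h4 := orderOf_dvd_of_pow_eq_one h3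
    obtain ⟨j, _, hj⟩ := (Nat.dvd_prime_pow Nat.prime_two).1 h4
    rcases Nat.eq_zero_or_pos j with rfl | hj0
    · rw [pow_zero, orderOf_eq_one_iff] at hj
      exact hg hj
    · rw [hj] at hodd
      exact (Nat.not_odd_iff_even.2 ((Nat.even_pow.2 ⟨even_two, hj0.ne'⟩))) hodd
  · obtain ⟨_, x, hx⟩ := h1
    obtain ⟨k, hk⟩ := hx
    apply hconj x (wG (m := m) hF)
    refine ⟨wG_mul hF, ?_, ?_⟩
    · intro h2
      have h3 := W_D (m := m) hF k
      rw [h2, one_mul, mul_one] at h3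
      have h4 : x * g * x⁻¹ * (x * g * x⁻¹) = 1 := by
        rw [← hk]
        nth_rewrite 1 [h3]
        rw [← _root_.map_mul, inv_mul_cancel, map_one]
      have h5 : g ^ 2 = 1 := by
        have h6 : g ^ 2 = x⁻¹ * (x * g * x⁻¹ * (x * g * x⁻¹)) * x := by rw [pow_two]; group
        rw [h6, h4]; group
      have h6 := orderOf_dvd_of_pow_eq_one h5
      rcases (Nat.dvd_prime Nat.prime_two).1 h6 with h7 | h7
      · exact hg (orderOf_eq_one_iff.1 h7)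
      · rw [h7] at hodd
        exact absurd hodd (by decide)
    · rw [← hk, W_D, mul_assoc, mul_inv_cancel, mul_one, map_inv]
  · obtain ⟨U, V, hU, hV, hcU, hcV, hprod, _⟩ := exists_two_tori hm hF
    have key : ∀ W : Subgroup (Sz F m), Tor W → Nat.card (normalizer (W : Set (Sz F m))) = 4 * Nat.card W →
        r ∣ Nat.card W → ∃ t : Sz F m, t * t = 1 ∧ t ≠ 1 ∧ t * g * t⁻¹ = g⁻¹ := by
      intro W hW hcW hrW
      obtain ⟨_, x, hx⟩ := hW.mem_cl hm hF hr hrW hrg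
      obtain ⟨t, h1, h2, h3⟩ := exists_inverting_of_torus (U := W) (fun a ha b hb => hW.comm hF ha hb)
        (fun u hu hu1 => hW.centralizer hm hF hu hu1) (fun h2 => ne_two (m := m) Nat.prime_two (hW.dvd_of_prime hm hF Nat.prime_two h2) rfl)
        (by rw [hcW]; exact ⟨2 * Nat.card W, by ring⟩)
      exact hconj x t ⟨h1, h2, h3 _ hx⟩
    rw [← hprod] at hrq
    rcases (Nat.Prime.dvd_mul hr).1 hrq with h1 | h1
    · exact key U hU hcU h1
    · exact key V hV hcV h1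

theorem tG_of_sq (hF : Fintype.card F = 2 ^ (2 * m + 1)) {g : Sz F m} (hg : g ∈ TT (m := m) hF) (h2 : g * g = 1) :
    ∃ b, g = tG hF 0 b := by
  obtain ⟨a, b, rfl⟩ := hg
  have h3 := tG_sq (m := m) hF a b
  rw [pow_two, h2, ← tG_one hF] at h3
  have h4 := (tG_inj hF h3).2
  have ha : a = 0 := by
    rcases mul_eq_zero.1 h4.symm with h5 | h5
    · exact th_eq_zero.1 h5
    · exact h5
  exact ⟨b, by rw [ha]⟩

theorem conj_tG (hF : Fintype.card F = 2 ^ (2 * m + 1)) {b c : F} (hb : b ≠ 0) (hc : c ≠ 0) :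
    ∃ k : Fˣ, dG (m := m) hF k * tG hF 0 b * (dG hF k)⁻¹ = tG hF 0 c := by
  obtain ⟨a, ha, hac⟩ := exists_norm (m := m) hF (u := c / b) (div_ne_zero hc hb)
  refine ⟨Units.mk0 a ha, ?_⟩
  rw [D_T, mul_inv_cancel_right, mul_zero]
  congr 1
  rw [Units.val_mk0, hac, div_mul_cancel₀ _ hb]

theorem exists_conj_tG (hm : 1 ≤ m) (hF : Fintype.card F = 2 ^ (2 * m + 1)) {g : Sz F m} (hg : g ≠ 1)
    (h2 : g * g = 1) : ∃ x : Sz F m, ∃ b : F, b ≠ 0 ∧ x * g * x⁻¹ = tG hF 0 b := by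
  have hf2 : Fact (Nat.Prime 2) := ⟨Nat.prime_two⟩
  obtain ⟨x, hx⟩ := conj_mem_TT hm hF (orderOf_eq_prime (by rw [pow_two]; exact h2) hg)
  have h3 := hx g rfl
  obtain ⟨b, hb⟩ := tG_of_sq hF h3 (by
    calc x * g * x⁻¹ * (x * g * x⁻¹) = x * (g * g) * x⁻¹ := by group
      _ = 1 := by rw [h2]; group)
  refine ⟨x, b, ?_, hb⟩
  rintro rfl
  rw [tG_one] at hb
  apply hg
  calc g = x⁻¹ * (x * g * x⁻¹) * x := by group
    _ = 1 := by rw [hb]; group

theorem conj_involutions (hm : 1 ≤ m) (hF : Fintype.card F = 2 ^ (2 * m + 1)) {g t : Sz F m} (hg : g ≠ 1)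
    (h2 : g * g = 1) (ht : t ≠ 1) (ht2 : t * t = 1) : ∃ x : Sz F m, x * g * x⁻¹ = t := by
  obtain ⟨x, b, hb, hx⟩ := exists_conj_tG hm hF hg h2
  obtain ⟨y, c, hc, hy⟩ := exists_conj_tG hm hF ht ht2
  obtain ⟨k, hk⟩ := conj_tG (m := m) hF hb hc
  refine ⟨y⁻¹ * dG hF k * x, ?_⟩
  calc y⁻¹ * dG hF k * x * g * (y⁻¹ * dG hF k * x)⁻¹ = y⁻¹ * (dG hF k * (x * g * x⁻¹) * (dG hF k)⁻¹) * y := by group
    _ = y⁻¹ * (y * t * y⁻¹) * y := by rw [hx, hk, hy]
    _ = t := by group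

end H53.SzReal
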