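import Cfsg.Agent.Lib.H53.FL4
import Cfsg.Agent.Lib.H53.SzReal
import Cfsg.Agent.Lib.H24.SzIso
import Mathlib

set_option autoImplicit false
set_option linter.unusedSectionVars false

/-! The groups `L ∈ 𝔏_G(Y)`: dihedral and Suzuki cases. -/

namespace H53.FL

open Subgroup Cfsg H52.PCore H52.Syl H52.Irr
open scoped commutatorElement

section gen
variable {L : Type*} [Group L] [Finite L] {p : ℕ} [Fact p.Prime] {Y : Subgroup L}

theorem Cfg.not_le (h : Cfg p Y) : ¬ Y ≤ pCore p L := by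
  intro h1
  have h2 : pCore p L = ⊤ := eq_top_of_normal_of_minimal h.mn inferInstance h1
  apply h.ctm.1
  rw [eq_top_iff, ← h2]; exact h.AN

theorem Cfg.normalizer_sup_le (h : Cfg p Y) :
    normalizer ((Y ⊔ pCore p L : Subgroup L) : Set L) ≤ normalizer (Y : Set L) := by
  apply le_of_minimal h.mn h.ctm le_normalizer (le_sup_left.trans le_normalizer)
  intro h1
  apply h.not_le
  have h2 : (Y ⊔ pCore p L).Normal := normalizer_eq_top_iff.1 h1
  exact le_sup_left.trans (le_pCore h2 (h.isPGroup.to_sup_of_normal_right isPGroup_pCore))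

/-- elements normalizing the image of `Y` normalize `Y` -/
theorem Cfg.mem_of_map (h : Cfg p Y) {S : Type*} [Group S] {f : L →* S} (hk : f.ker = pCore p L) {x : L}
    (hx : f x ∈ normalizer ((Y.map f : Subgroup S) : Set S)) : x ∈ normalizer (Y : Set L) := by
  apply h.normalizer_sup_le
  have h1 : (Y.map f).comap f = Y ⊔ pCore p L := by rw [comap_map_eq, hk]
  rw [← h1]
  have h2 : x ∈ (normalizer ((Y.map f : Subgroup S) : Set S)).comap f := hx
  exact Subgroup.le_normalizer_comap f h2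

end gen

variable {L : Type*} [Group L] [Finite L] {Y : Subgroup L}

/-- coordinates in the case `|Y : Y ∩ A| = 2` -/
theorem exists_two (h : Cfg 2 Y) (hidx : (Y ⊓ pCore 2 L).relIndex Y = 2) :
    ∃ t ∈ Y, t ∉ pCore 2 L ∧ (∀ y ∈ Y, y ∈ pCore 2 L ∨ y⁻¹ * t ∈ pCore 2 L) := by
  rw [relIndex_eq_two_iff] at hidx
  obtain ⟨a, ha, hall⟩ := hidx
  have haA : a ∉ pCore 2 L := by
    intro h1
    have := hall 1 (one_mem _)
    rw [one_mul] at this
    rcases this with ⟨_, h3⟩ | ⟨_, h3⟩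
    · exact h3 (one_mem _)
    · exact h3 (mem_inf.2 ⟨ha, h1⟩)
  refine ⟨a, ha, haA, ?_⟩
  intro y hy
  rcases hall y⁻¹ (inv_mem hy) with ⟨h1, _⟩ | ⟨h1, _⟩
  · right; exact h1.2
  · left; exact (inv_mem_iff).1 h1.2

/-- image of a power is one -/
theorem mk_eq_iff {x y : L} : QuotientGroup.mk' (pCore 2 L) x = QuotientGroup.mk' (pCore 2 L) y ↔
    x⁻¹ * y ∈ pCore 2 L := by
  rw [QuotientGroup.mk'_eq_mk']
  constructor
  · rintro ⟨z, hz, hzy⟩
    rw [← hzy, inv_mul_cancel_left]; exact hz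
  · intro h1
    exact ⟨_, h1, by rw [mul_inv_cancel_left]⟩

structure Dih (Q : Type*) [Group Q] (a b : Q) : Prop where
  ha : a * a = 1
  hb : b * b = 1
  gen : closure ({a, b} : Set Q) = ⊤

theorem exists_dih (h : Cfg 2 Y) (hidx : (Y ⊓ pCore 2 L).relIndex Y = 2) :
    ∃ t ∈ Y, t ∉ pCore 2 L ∧ (∀ y ∈ Y, y ∈ pCore 2 L ∨ y⁻¹ * t ∈ pCore 2 L) ∧
      ∃ b, Dih (L ⧸ pCore 2 L) (QuotientGroup.mk' _ t) b := by
  obtain ⟨t, ht, htA, hall⟩ := exists_two h hidx
  refine ⟨t, ht, htA, hall, ?_⟩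
  obtain ⟨g, hg⟩ := h.exists_notMem
  set f := QuotientGroup.mk' (pCore 2 L) with hf
  have htt : t * t = 1 := by rw [← pow_two]; exact h.pow t ht
  refine ⟨f (g * t * g⁻¹), ?_, ?_, ?_⟩
  · rw [← map_mul, htt, map_one]
  · rw [← map_mul]
    have : g * t * g⁻¹ * (g * t * g⁻¹) = g * (t * t) * g⁻¹ := by group
    rw [this, htt, mul_one, mul_inv_cancel, map_one]
  · set D := closure ({f t, f (g * t * g⁻¹)} : Set (L ⧸ pCore 2 L)) with hD
    have h1 : f t ∈ D := subset_closure (by simp)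
    have h2 : f (g * t * g⁻¹) ∈ D := subset_closure (by simp)
    have h3 : Y ≤ D.comap f := by
      intro y hy
      rcases hall y hy with h4 | h4
      · have : f y = 1 := by rw [← MonoidHom.mem_ker, hf, QuotientGroup.ker_mk']; exact h4
        rw [mem_comap, this]; exact one_mem _
      · rw [mem_comap, mk_eq_iff.2 h4]; exact h1
    have h4 : cj g Y ≤ D.comap f := by
      rintro _ ⟨y, hy, rfl⟩
      rw [mem_comap]
      have e : (MulAut.conj g).toMonoidHom y = g * y * g⁻¹ := rfl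
      rw [e, map_mul, map_mul]
      rcases hall y hy with h4 | h4
      · have : f y = 1 := by rw [← MonoidHom.mem_ker, hf, QuotientGroup.ker_mk']; exact h4
        rw [this, mul_one, ← map_mul, mul_inv_cancel, map_one]; exact one_mem _
      · rw [mk_eq_iff.2 h4, ← map_mul, ← map_mul]; exact h2
    have h5 : D.comap f = ⊤ := by rw [eq_top_iff, ← h.gen hg]; exact sup_le h3 h4
    rw [eq_top_iff]
    rintro x -
    obtain ⟨y, rfl⟩ := QuotientGroup.mk'_surjective _ x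
    have : y ∈ D.comap f := h5 ▸ mem_top y
    exact this

theorem Dih.conj {Q : Type*} [Group Q] {a b : Q} (d : Dih Q a b) (k : ℤ) :
    a * (a * b) ^ k * a⁻¹ = (a * b) ^ (-k) := by
  have hai : a⁻¹ = a := inv_eq_of_mul_eq_one_right d.ha
  have hbi : b⁻¹ = b := inv_eq_of_mul_eq_one_right d.hb
  have e0 : a * (a * b) * a⁻¹ = (a * b)⁻¹ := by
    rw [mul_inv_rev, hai, hbi, ← mul_assoc, d.ha, one_mul]
  rw [← conj_zpow, e0, inv_zpow, zpow_neg]

theorem Dih.sq {Q : Type*} [Group Q] {a b : Q} (d : Dih Q a b) (k : ℤ) :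
    ((a * b) ^ k * a) * ((a * b) ^ k * a) = 1 := by
  have hai : a⁻¹ = a := inv_eq_of_mul_eq_one_right d.ha
  have := d.conj k
  rw [hai] at this
  calc ((a * b) ^ k * a) * ((a * b) ^ k * a) = (a * b) ^ k * (a * (a * b) ^ k * a) := by group
    _ = 1 := by rw [this, ← zpow_add, add_neg_cancel, zpow_zero]

theorem eq_one_of_odd {Q : Type*} [Group Q] {x : Q} (h2 : x * x = 1) {n : ℕ} (hn : Odd n) (hx : x ^ n = 1) : x = 1 := by
  obtain ⟨k, rfl⟩ := hn
  rw [pow_add, pow_mul, pow_two, h2, one_pow, one_mul, pow_one] at hx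
  exact hx

theorem real_of_two (h : Cfg 2 Y) (hidx : (Y ⊓ pCore 2 L).relIndex Y = 2) : Real Y := by
  obtain ⟨t, ht, htA, hall, b, d⟩ := exists_dih h hidx
  set f := QuotientGroup.mk' (pCore 2 L) with hf
  have hker : ∀ x, f x = 1 ↔ x ∈ pCore 2 L := fun x => by
    rw [← MonoidHom.mem_ker, hf, QuotientGroup.ker_mk']
  rintro x hx ⟨n, hn, hxn⟩
  refine ⟨1, t, by rw [cj_one]; exact ht, htA, ?_⟩
  obtain ⟨k, hk⟩ := cases_of_closure d.ha d.hb (x := f x) (by rw [d.gen]; exact mem_top _)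
  rcases hk with hk | hk
  · rw [← hker, map_mul, map_mul, map_mul, map_inv, hk, d.conj, ← zpow_add, neg_add_cancel, zpow_zero]
  · exfalso
    apply hx
    rw [← hker]
    apply eq_one_of_odd (n := n) _ hn
    · rw [← map_pow, hker]; exact hxn
    · rw [hk]; exact d.sq k

theorem idx_of_dihedral (h : Cfg 2 Y) {r : ℕ} (hr : r.Prime) (hr2 : r ≠ 2)
    (e : L ⧸ pCore 2 L ≃* DihedralGroup r) : (Y ⊓ pCore 2 L).relIndex Y = 2 := by
  have hf2 : Fact (Nat.Prime 2) := ⟨Nat.prime_two⟩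
  have : NeZero r := ⟨hr.ne_zero⟩
  set f := QuotientGroup.mk' (pCore 2 L) with hf
  have h1 : Nat.card (Y.map f) = (Y ⊓ pCore 2 L).relIndex Y := by
    rw [inf_relIndex_left, ← relIndex_ker, hf, QuotientGroup.ker_mk']
  obtain ⟨n, hn⟩ := IsPGroup.iff_card.1 (h.isPGroup.map f)
  have h2 : Nat.card (Y.map f) ∣ 2 * r := by
    have := Subgroup.card_subgroup_dvd_card (Y.map f)
    rwa [Nat.card_congr e.toEquiv, DihedralGroup.nat_card] at this
  rw [← h1, hn]
  rw [hn] at h2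
  have hn0 : n ≠ 0 := by
    rintro rfl
    rw [pow_zero, Subgroup.card_eq_one, Subgroup.map_eq_bot_iff, hf, QuotientGroup.ker_mk'] at hn
    exact h.not_le hn
  have hn1 : n < 2 := by
    by_contra hcon
    push Not at hcon
    have h3 : 2 ^ 2 ∣ 2 * r := (pow_dvd_pow 2 hcon).trans h2
    rw [pow_two] at h3
    have h4 := Nat.dvd_of_mul_dvd_mul_left (by norm_num) h3
    exact hr2 ((Nat.prime_dvd_prime_iff_eq Nat.prime_two hr).1 h4).symm
  have : n = 1 := by omega
  rw [this, pow_one]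

theorem real_of_suzuki (h : Cfg 2 Y) {F : Type*} [Field F] [Fintype F] {m : ℕ} (hm : 1 ≤ m)
    (hF : Fintype.card F = 2 ^ (2 * m + 1)) {f : L →* Cfsg.Sz F m} (hs : Function.Surjective f)
    (hk : f.ker = pCore 2 L) : Real Y := by
  have hker : ∀ x, f x = 1 ↔ x ∈ pCore 2 L := fun x => by rw [← MonoidHom.mem_ker, hk]
  obtain ⟨s, hs1, hs2⟩ := SetLike.not_le_iff_exists.1 h.not_le
  rintro x hx ⟨n, hn, hxn⟩
  have hodd : Odd (orderOf (f x)) := by
    have h1 : orderOf (f x) ∣ n := orderOf_dvd_of_pow_eq_one (by rw [← map_pow, hker]; exact hxn)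
    exact hn.of_dvd_nat h1
  obtain ⟨τ, h1, h2, h3⟩ := SzReal.exists_inverting hm hF (fun h0 => hx ((hker x).1 h0)) hodd
  obtain ⟨y, hy⟩ := SzReal.conj_involutions hm hF (g := f s) (t := τ) (fun h0 => hs2 ((hker s).1 h0))
    (by rw [← map_mul, ← pow_two, h.pow s hs1, map_one]) h2 h1
  obtain ⟨a, rfl⟩ := hs y
  refine ⟨a, a * s * a⁻¹, conj_mem_cj hs1, ?_, ?_⟩
  · intro h4
    apply hs2
    have := (inferInstance : (pCore 2 L).Normal).conj_mem _ h4 a⁻¹
    have e : a⁻¹ * (a * s * a⁻¹) * a⁻¹⁻¹ = s := by group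
    rwa [e] at this
  · rw [← hker]
    have e : f (a * s * a⁻¹) = τ := by rw [map_mul, map_mul, map_inv]; exact hy
    rw [map_mul, map_mul, map_mul, map_inv, e, h3, inv_mul_cancel]

end H53.FL
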