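import Cfsg.Agent.Lib.H53.FL5
import Cfsg.Agent.Lib.H52.PRed
import Mathlib

set_option autoImplicit false
set_option linter.unusedSectionVars false

/-! The groups `L ∈ 𝔏_G(Y)`: bridging. -/

namespace H53.FL

open Subgroup Cfsg H52.PCore H52.Syl H52.Irr
open scoped commutatorElement

variable {G : Type*} [Group G] [Finite G] {p : ℕ} [Fact p.Prime] {M L : Subgroup G}

theorem subgroupOf_inf_normalizer {L Y : Subgroup G} (hYL : Y ≤ L) :
    normalizer ((Y.subgroupOf L : Subgroup L) : Set L) = (L ⊓ normalizer (Y : Set G)).subgroupOf L := by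
  ext x
  rw [mem_subgroupOf, mem_inf, mem_normalizer_iff, mem_normalizer_iff]
  constructor
  · intro h
    refine ⟨x.2, fun g => ?_⟩
    constructor
    · intro hg
      have := (h ⟨g, hYL hg⟩).1 (mem_subgroupOf.2 hg)
      exact mem_subgroupOf.1 this
    · intro hg
      have h1 : g ∈ L := by
        have h2 : (x : G) * g * (x : G)⁻¹ ∈ L := hYL hg
        have h3 := L.mul_mem (L.mul_mem (L.inv_mem x.2) h2) x.2
        have e : (x : G)⁻¹ * ((x : G) * g * (x : G)⁻¹) * x = g := by group
        rwa [e] at h3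
      exact mem_subgroupOf.1 ((h ⟨g, h1⟩).2 (mem_subgroupOf.2 hg))
  · rintro ⟨_, h⟩ g
    exact h g

theorem cfg_of_frakL (h : IsInFrakL p M L) : Cfg p ((largestPReducedOf p M).subgroupOf L) := by
  obtain ⟨h1, h2, h3, h4, h5, ⟨h6, h7⟩, _⟩ := h
  have hP := H52.Red.pRed_largestPReducedOf (p := p) M
  have hAe : (pCoreOf p L).subgroupOf L = pCore p L := pCoreOf_subgroupOf L
  refine ⟨?_, ?_, h4, ?_, ?_, h5, ?_⟩
  · intro x hx
    rw [mem_centralizer_iff]
    intro y hy
    have h8 := hP.ea.1.is_comm.comm ⟨_, mem_subgroupOf.1 hy⟩ ⟨_, mem_subgroupOf.1 hx⟩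
    have h9 : (y : G) * (x : G) = (x : G) * (y : G) := congrArg Subtype.val h8
    exact Subtype.ext h9
  · intro x hx
    exact Subtype.ext (hP.ea.2 _ (mem_subgroupOf.1 hx))
  · have h8 : (pCoreOf p L).subgroupOf L = _ := congrArg (fun X => X.subgroupOf L) h2
    rw [hAe] at h8
    conv_lhs => rw [h8]
    unfold subgroupOf
    rw [comap_map_eq_self_of_injective L.subtype_injective, comap_inf]
    congr 2
    congr 1
  · rw [subgroupOf_inf_normalizer h1, ← hAe]
    exact comap_mono (le_inf (pCoreOf_le L) h3)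
  · rw [subgroupOf_inf_normalizer h1]
    constructor
    · intro h8
      rw [subgroupOf_eq_top] at h8
      exact absurd (lt_of_lt_of_le h6 h8) (lt_irrefl _)
    · intro K hK
      by_contra hne
      have h8 : K.map L.subtype < L := by
        refine lt_of_le_of_ne (map_subtype_le K) ?_
        intro h9
        apply hne
        rw [eq_top_iff]
        intro x _
        have h10 : (x : G) ∈ K.map L.subtype := h9.symm ▸ x.2
        obtain ⟨y, hy, hyx⟩ := h10
        have : y = x := Subtype.ext hyx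
        exact this ▸ hy
      have h9 := h7 _ (by
        intro y hy
        refine ⟨⟨y, h1 hy⟩, hK.le ?_, rfl⟩
        rw [mem_subgroupOf]
        exact mem_inf.2 ⟨h1 hy, le_normalizer hy⟩) h8
      apply not_lt_of_ge _ hK
      intro x hx
      rw [mem_subgroupOf]
      exact h9 ⟨x, hx, rfl⟩

theorem cases_of_frakL (h : IsInFrakL p M L) :
    (∃ (F : Type) (_ : Field F) (_ : Fintype F),
        Fintype.card F = ((largestPReducedOf p M).subgroupOf L ⊓ pCore p L).relIndex ((largestPReducedOf p M).subgroupOf L) ∧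
          Nonempty (↥L ⧸ pCore p ↥L ≃* Matrix.SpecialLinearGroup (Fin 2) F)) ∨
      (p = 2 ∧ ((largestPReducedOf p M).subgroupOf L ⊓ pCore p L).relIndex ((largestPReducedOf p M).subgroupOf L) = 2) ∨
      (p = 2 ∧ ∃ (F : Type) (_ : Field F) (_ : Fintype F) (m : ℕ), 1 ≤ m ∧ 
        Fintype.card F = 2 ^ (2 * m + 1) ∧
        Fintype.card F = ((largestPReducedOf p M).subgroupOf L ⊓ pCore p L).relIndex ((largestPReducedOf p M).subgroupOf L) ∧
          ∃ f : L →* Cfsg.Sz F m, Function.Surjective f ∧ f.ker = pCore p L) := by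
  have hc := cfg_of_frakL h
  obtain ⟨h1, -, -, -, -, -, h⟩ := h
  have hidx : ((largestPReducedOf p M).subgroupOf L ⊓ pCore p L).relIndex ((largestPReducedOf p M).subgroupOf L) =
      (largestPReducedOf p M ⊓ pCoreOf p L).relIndex (largestPReducedOf p M) := by
    rw [← pCoreOf_subgroupOf L]
    have : (largestPReducedOf p M).subgroupOf L ⊓ (pCoreOf p L).subgroupOf L =
        (largestPReducedOf p M ⊓ pCoreOf p L).subgroupOf L := rfl
    rw [this, relIndex_subgroupOf h1]
  rw [← hidx] at h
  rcases h with h | ⟨rfl, F, i1, i2, m, hF1, hF2, ⟨e⟩⟩ | ⟨rfl, r, hr, hr2, ⟨e⟩⟩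
  · exact Or.inl h
  · rcases Nat.eq_zero_or_pos m with rfl | hm
    · right; left
      refine ⟨rfl, ?_⟩
      rw [← hF2, hF1]; norm_num
    · right; right
      refine ⟨rfl, F, i1, i2, m, hm, hF1, hF2, ?_⟩
      refine ⟨((H24.SzIso.equiv hF1 hm).symm.toMonoidHom.comp e.toMonoidHom).comp (QuotientGroup.mk' _), ?_, ?_⟩
      · exact ((H24.SzIso.equiv hF1 hm).symm.surjective.comp e.surjective).comp (QuotientGroup.mk'_surjective _)
      · ext x
        rw [MonoidHom.mem_ker]
        show (H24.SzIso.equiv hF1 hm).symm (e (QuotientGroup.mk' _ x)) = 1 ↔ _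
        rw [map_eq_one_iff _ (H24.SzIso.equiv hF1 hm).symm.injective, map_eq_one_iff _ e.injective, ← MonoidHom.mem_ker,
          QuotientGroup.ker_mk']
  · right; left
    exact ⟨rfl, idx_of_dihedral hc hr hr2 e⟩

end H53.FL
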