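import Cfsg.Agent.Lib.H53.FL6
import Mathlib

set_option autoImplicit false
set_option linter.unusedSectionVars false

/-! The groups `L ∈ 𝔏_G(Y)`: elementary abelian normal subgroups of `N_L(Y)/A`. -/

namespace H53.FL

open Subgroup Cfsg H52.PCore H52.Syl H52.Irr
open scoped commutatorElement

section
variable {L : Type*} [Group L] [Finite L] {p : ℕ} [Fact p.Prime] {Y : Subgroup L}

/-- `W/A` is a nontrivial elementary abelian normal subgroup of `N(Y)/A` -/
structure EA (p : ℕ) {L : Type*} [Group L] (Y W : Subgroup L) : Prop where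
  A_le : pCore p L ≤ W
  le_N : W ≤ normalizer (Y : Set L)
  norm : normalizer (Y : Set L) ≤ normalizer (W : Set L)
  pow : ∀ x ∈ W, x ^ p ∈ pCore p L
  ne : ¬ W ≤ pCore p L

theorem mem_pCore_of_central (h : Cfg p Y) {x : L} (hx : ∀ g : L, ⁅g, x⁆ ∈ pCore p L) {n : ℕ} (hp : x ^ p ^ n ∈ pCore p L) :
    x ∈ pCore p L := by
  have hnn : (pCore p L ⊔ zpowers x).Normal := by
    rw [normal_iff_top_le_normalizer]
    intro g _
    apply mem_normalizer_of_cj_le
    rw [cj_sup]
    refine sup_le ?_ ?_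
    · rw [cj_normal (inferInstance : (pCore p L).Normal)]; exact le_sup_left
    · rintro _ ⟨_, ⟨k, rfl⟩, rfl⟩
      have e : (MulAut.conj g).toMonoidHom ((fun k : ℤ => x ^ k) k) = (⁅g, x⁆ * x) ^ k := by
        show g * x ^ k * g⁻¹ = _
        have e2 : ⁅g, x⁆ * x = g * x * g⁻¹ := by rw [commutatorElement_def, inv_mul_cancel_right]
        rw [e2, conj_zpow]
      rw [e]
      exact zpow_mem (mul_mem (mem_sup_left (hx g)) (mem_sup_right (mem_zpowers x))) k
  have hpp : IsPGroup p (pCore p L ⊔ zpowers x : Subgroup L) := by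
    apply IsPGroup.to_sup_of_normal_left isPGroup_pCore
    obtain ⟨k, hk⟩ := isPElement_of_pow_mem hp
    exact IsPGroup.of_card (n := k) (by rw [Nat.card_zpowers, hk])
  exact (le_sup_right.trans (le_pCore hnn hpp)) (mem_zpowers x)

end

section two
variable {L : Type*} [Group L] [Finite L] {Y : Subgroup L}

theorem eq_of_two (h : Cfg 2 Y) (hidx : (Y ⊓ pCore 2 L).relIndex Y = 2) {W : Subgroup L} (w : EA 2 Y W) :
    W = Y ⊔ pCore 2 L := by
  have hf2 : Fact (Nat.Prime 2) := ⟨Nat.prime_two⟩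
  obtain ⟨t, ht, htA, hall, b, d⟩ := exists_dih h hidx
  set f := QuotientGroup.mk' (pCore 2 L) with hf
  have hker : ∀ x, f x = 1 ↔ x ∈ pCore 2 L := fun x => by
    rw [← MonoidHom.mem_ker, hf, QuotientGroup.ker_mk']
  have hAn : (pCore 2 L).Normal := inferInstance
  have key : ∀ x ∈ W, x ∉ pCore 2 L → f x = f t := by
    intro x hx hxA
    have h1 : f x * f t * (f x)⁻¹ = f t := by
      have h2 : x * t * x⁻¹ ∈ Y := (mem_normalizer_iff.1 (w.le_N hx) t).1 ht
      rcases hall _ h2 with h3 | h3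
      · exfalso
        apply htA
        have h4 := hAn.conj_mem _ h3 x⁻¹
        have e : x⁻¹ * (x * t * x⁻¹) * x⁻¹⁻¹ = t := by group
        rwa [e] at h4
      · have h4 := mk_eq_iff.2 h3
        rw [map_mul, map_mul, map_inv] at h4
        exact h4
    have hcomm : f x * f t = f t * f x := by
      rw [mul_inv_eq_iff_eq_mul] at h1; exact h1
    obtain ⟨k, hk⟩ := cases_of_closure d.ha d.hb (x := f x) (by rw [d.gen]; exact mem_top _)
    set c := (f t * b) ^ k with hc
    have hct : c * f t = f t * c := by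
      rcases hk with hk | hk
      · rw [← hk]; exact hcomm
      · rw [hk] at hcomm
        exact mul_right_cancel (hcomm.trans (mul_assoc _ _ _).symm)
    have hcb : c * b = b * c := by
      have h1 : c * (f t * b) = (f t * b) * c := by rw [hc]; exact (Commute.zpow_self _ k).eq
      have h3 : c * (f t)⁻¹ = (f t)⁻¹ * c := (Commute.inv_right (show Commute c (f t) from hct)).eq
      calc c * b = c * (f t)⁻¹ * (f t * b) := by group
        _ = (f t)⁻¹ * (c * (f t * b)) := by rw [h3, mul_assoc]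
        _ = b * c := by rw [h1]; group
    have hc2 : c * c = 1 := by
      have h1 := d.conj k
      rw [← hc, ← hct, mul_inv_cancel_right] at h1
      nth_rewrite 2 [h1]
      rw [hc, ← zpow_add, add_neg_cancel, zpow_zero]
    have hcen : ∀ q, q * c = c * q := by
      have h1 : (⊤ : Subgroup (L ⧸ pCore 2 L)) ≤ centralizer {c} := by
        rw [← d.gen, closure_le]
        rintro q (rfl | hq)
        · exact mem_centralizer_singleton_iff.2 hct.symm
        · rw [Set.mem_singleton_iff] at hq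
          subst hq
          exact mem_centralizer_singleton_iff.2 hcb.symm
      intro q
      exact mem_centralizer_singleton_iff.1 (h1 (mem_top q))
    obtain ⟨y, hy⟩ := QuotientGroup.mk'_surjective _ c
    have hyA : y ∈ pCore 2 L := by
      apply mem_pCore_of_central h (n := 1)
      · intro g
        rw [← hker, map_commutatorElement, hy, commutatorElement_eq_one_iff_mul_comm]
        exact hcen _
      · rw [pow_one, ← hker, map_pow, hy, pow_two, hc2]
    have hc1 : c = 1 := by rw [← hy]; exact (hker y).2 hyA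
    rcases hk with hk | hk
    · exfalso
      exact hxA ((hker x).1 (hk.trans hc1))
    · rw [hk, hc1, one_mul]
  have htW : t ∈ W := by
    obtain ⟨x, hx, hxA⟩ := SetLike.not_le_iff_exists.1 w.ne
    have h1 := mk_eq_iff.1 (key x hx hxA)
    have e : t = x * (x⁻¹ * t) := by group
    rw [e]; exact mul_mem hx (w.A_le h1)
  apply le_antisymm
  · intro x hx
    by_cases hxA : x ∈ pCore 2 L
    · exact mem_sup_right hxA
    · have h1 := mk_eq_iff.1 (key x hx hxA).symm
      have e : x = t * (t⁻¹ * x) := by group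
      rw [e]
      exact mul_mem (mem_sup_left ht) (mem_sup_right h1)
  · refine sup_le ?_ w.A_le
    intro y hy
    rcases hall y hy with h1 | h1
    · exact w.A_le h1
    · have e : y = t * (y⁻¹ * t)⁻¹ := by group
      rw [e]; exact mul_mem htW (inv_mem (w.A_le h1))

/-- the general principle -/
theorem eq_of_map {S : Type*} [Group S] {p : ℕ} {f : L →* S} (hk : f.ker = pCore p L) {W : Subgroup L}
    (w : EA p Y W) (h1 : W.map f = Y.map f) : W = Y ⊔ pCore p L := by
  rw [← hk, ← comap_map_eq, ← h1, comap_map_eq, hk, sup_of_le_left w.A_le]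

end two

section sl
open Matrix H85.SL2
open scoped MatrixGroups

variable {L : Type*} [Group L] [Finite L] {p : ℕ} [Fact p.Prime] {Y : Subgroup L}

theorem up_pow_mem {F : Type*} [Field F] [Finite F] {B : AddSubgroup F} (hB : ∀ a : F, a ≠ 0 → ∀ b ∈ B, a ^ 2 * b ∈ B) {b : F}
    (hb : b ∈ B) (hb0 : b ≠ 0) (c : F) : c ∈ B := by
  have hB' : ∀ a : F, ∀ b ∈ B, a ^ 2 * b ∈ B := by
    intro a b hb
    by_cases ha : a = 0
    · subst ha; rw [zero_pow two_ne_zero, zero_mul]; exact zero_mem _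
    · exact hB a ha b hb
  have hfact : ∃ x y : F, c / b = x ^ 2 - y ^ 2 := by
    by_cases h2 : (2 : F) = 0
    · have hch : CharP F 2 := by
        have := CharTwo.of_one_ne_zero_of_two_eq_zero (one_ne_zero (α := F)) h2
        exact this
      have := FiniteField.isSquare_of_char_two (F := F) (by
        exact ringChar.eq_iff.2 hch) (c / b)
      obtain ⟨x, hx⟩ := this
      exact ⟨x, 0, by rw [hx]; ring⟩
    · refine ⟨(c / b + 1) / 2, (c / b - 1) / 2, ?_⟩
      field_simp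
      ring
  obtain ⟨x, y, hxy⟩ := hfact
  have e : c = x ^ 2 * b - y ^ 2 * b := by
    rw [← sub_mul, ← hxy, div_mul_cancel₀ _ hb0]
  rw [e]
  exact B.sub_mem (hB' x b hb) (hB' y b hb)

theorem eq_of_slc (h : Cfg p Y) {F : Type*} [Field F] [Finite F] [CharP F p] {f : L →* SL(2, F)} (s : SLC p Y F f)
    {W : Subgroup L} (w : EA p Y W) : W = Y ⊔ pCore p L := by
  apply eq_of_map s.ker w
  have hker : ∀ x, f x = 1 ↔ x ∈ pCore p L := fun x => by rw [← MonoidHom.mem_ker, s.ker]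
  have hY : ∀ y, y ∈ Y.map f ↔ ∃ b : F, y = up b := fun y => (s.up_iff y).symm
  -- elements of `W` map to upper unitriangular matrices
  have h1 : ∀ x ∈ W, ∃ b : F, f x = up b := by
    intro x hx
    obtain ⟨t, ht, hft⟩ := (s.up_iff (up 1)).1 ⟨1, rfl⟩
    obtain ⟨c, hc⟩ := (s.up_iff (f (x * t * x⁻¹))).2 ⟨_, (mem_normalizer_iff.1 (w.le_N hx) t).1 ht, rfl⟩
    rw [map_mul, map_mul, map_inv, hft] at hc
    have h3 : f x * up 1 = up c * f x := by rw [← hc, inv_mul_cancel_right]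
    have h10 : (f x).1 1 0 = 0 := by
      have h4 := congrArg (fun A : SL(2, F) => A.1 1 1) h3
      simp [NatMod.mul_apply2] at h4
      exact h4
    have hpow : (f x) ^ p = 1 := by rw [← map_pow, hker]; exact w.pow x hx
    have hdiag : ∀ n : ℕ, ((f x) ^ n).1 1 0 = 0 ∧ ((f x) ^ n).1 1 1 = ((f x).1 1 1) ^ n := by
      intro n
      induction n with
      | zero => rw [pow_zero, pow_zero, NatMod.one_apply2, NatMod.one_apply2]; simp
      | succ n ih =>
        rw [pow_succ, NatMod.mul_apply2, NatMod.mul_apply2, ih.1, ih.2, h10, pow_succ]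
        constructor <;> ring
    have h11 : (f x).1 1 1 = 1 := by
      have h4 := (hdiag p).2
      rw [hpow, NatMod.one_apply2, if_pos rfl] at h4
      have h5 : ((f x).1 1 1 - 1) ^ p = 0 := by rw [sub_pow_char, one_pow, ← h4, sub_self]
      exact sub_eq_zero.1 (pow_eq_zero_iff (Fact.out : p.Prime).ne_zero |>.1 h5)
    exact (H51.NatSL2.mem_up_iff (f x)).2 ⟨h10, h11⟩
  -- the set of parameters
  let B : AddSubgroup F :=
    { carrier := {b | ∃ x ∈ W, f x = up b}
      zero_mem' := ⟨1, one_mem _, by rw [map_one, up_zero]⟩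
      add_mem' := by
        rintro a b ⟨x, hx, hxa⟩ ⟨y, hy, hyb⟩
        exact ⟨x * y, mul_mem hx hy, by rw [map_mul, hxa, hyb, up_add]⟩
      neg_mem' := by
        rintro a ⟨x, hx, hxa⟩
        exact ⟨x⁻¹, inv_mem hx, by rw [map_inv, hxa, up_inv]⟩ }
  have hB : ∀ a : F, a ≠ 0 → ∀ b ∈ B, a ^ 2 * b ∈ B := by
    rintro a ha b ⟨x, hx, hxb⟩
    obtain ⟨g, hg⟩ := s.surj (NatMod.hh a ha)
    have hrel : ∀ c : F, NatMod.hh a ha * up c * (NatMod.hh a ha)⁻¹ = up (a ^ 2 * c) := by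
      intro c
      have h2 := NatMod.up_mul_hh ha (a ^ 2 * c)
      rw [mul_inv_eq_iff_eq_mul, h2]
      congr 1
      congr 1
      field_simp
    have hgN : g ∈ normalizer (Y : Set L) := by
      apply h.mem_of_map s.ker
      apply mem_normalizer_of_cj_le
      rintro _ ⟨y, hy, rfl⟩
      obtain ⟨c, rfl⟩ := (hY y).1 hy
      rw [hY]
      refine ⟨a ^ 2 * c, ?_⟩
      show f g * up c * (f g)⁻¹ = _
      rw [hg, hrel]
    refine ⟨g * x * g⁻¹, (mem_normalizer_iff.1 (w.norm hgN) x).1 hx, ?_⟩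
    rw [map_mul, map_mul, map_inv, hg, hxb, hrel]
  obtain ⟨x, hx, hxA⟩ := SetLike.not_le_iff_exists.1 w.ne
  obtain ⟨b, hb⟩ := h1 x hx
  have hb0 : b ≠ 0 := by
    rintro rfl
    rw [up_zero, hker] at hb
    exact hxA hb
  ext y
  constructor
  · rintro ⟨z, hz, rfl⟩
    rw [hY]
    exact h1 z hz
  · intro hy
    obtain ⟨c, rfl⟩ := (hY y).1 hy
    obtain ⟨z, hz, hzc⟩ : c ∈ B := up_pow_mem hB (b := b) ⟨x, hx, hb⟩ hb0 c
    exact ⟨z, hz, hzc⟩

end sl

section sz
open H8.SuzOvoid H8.SuzField H8.SuzMat H8.SuzStab H8.SuzGroup H8.SuzSylow H8.SuzCent H8.TICount H8.SuzTorus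

variable {F : Type*} [Field F] [Fintype F] {m : ℕ}

/-- the centre of the standard Sylow 2-subgroup -/
def ZZ (hF : Fintype.card F = 2 ^ (2 * m + 1)) : Subgroup (Sz F m) where
  carrier := {g | ∃ b : F, g = tG hF 0 b}
  one_mem' := ⟨0, (tG_one hF).symm⟩
  mul_mem' := by
    rintro _ _ ⟨b, rfl⟩ ⟨d, rfl⟩
    exact ⟨b + d, by rw [tG_mul, mul_zero, add_zero, add_zero]⟩
  inv_mem' := by
    rintro _ ⟨b, rfl⟩
    refine ⟨-b, ?_⟩
    apply inv_eq_of_mul_eq_one_right
    rw [tG_mul, mul_zero, add_zero, add_zero, add_neg_cancel, tG_one]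

theorem card_ZZ (hF : Fintype.card F = 2 ^ (2 * m + 1)) : Nat.card (ZZ (m := m) hF) = Fintype.card F := by
  rw [← Nat.card_eq_fintype_card]
  symm
  apply Nat.card_congr
  refine Equiv.ofBijective (fun b => ⟨tG hF 0 b, b, rfl⟩) ⟨?_, ?_⟩
  · intro b c hbc
    exact (tG_inj hF (congrArg Subtype.val hbc)).2
  · rintro ⟨_, b, rfl⟩
    exact ⟨b, rfl⟩

theorem ZZ_le (hF : Fintype.card F = 2 ^ (2 * m + 1)) : ZZ (m := m) hF ≤ TT hF := by
  rintro _ ⟨b, rfl⟩; exact ⟨0, b, rfl⟩

theorem dG_conj (hF : Fintype.card F = 2 ^ (2 * m + 1)) (k : Fˣ) (b : F) :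
    ∃ c, dG (m := m) hF k * tG hF 0 b * (dG hF k)⁻¹ = tG hF 0 c := by
  refine ⟨(k : F) * th m (k : F) * b, ?_⟩
  rw [D_T, mul_inv_cancel_right, mul_zero]

variable {L : Type*} [Group L] [Finite L] {Y : Subgroup L}

theorem exists_szc (h : Cfg 2 Y) (hm : 1 ≤ m) (hF : Fintype.card F = 2 ^ (2 * m + 1))
    (hF2 : Fintype.card F = (Y ⊓ pCore 2 L).relIndex Y) {f : L →* Cfsg.Sz F m} (hs : Function.Surjective f)
    (hk : f.ker = pCore 2 L) : ∃ f : L →* Cfsg.Sz F m, Function.Surjective f ∧ f.ker = pCore 2 L ∧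
      Y.map f = ZZ hF := by
  have hf2 : Fact (Nat.Prime 2) := ⟨Nat.prime_two⟩
  have hcard : Nat.card (Y.map f) = Fintype.card F := by
    rw [hF2, inf_relIndex_left, ← relIndex_ker, hk]
  obtain ⟨P, hP⟩ := (h.isPGroup.map f).exists_le_sylow
  obtain ⟨x, hx⟩ := MulAction.exists_smul_eq (Sz F m) P (PT hm hF)
  have hxP : ∀ y ∈ Y, x * f y * x⁻¹ ∈ TT (m := m) hF := by
    intro y hy
    have h1 : f y ∈ (P : Subgroup (Sz F m)) := hP (mem_map_of_mem f hy)
    have h2 : x * f y * x⁻¹ ∈ ((x • P : Sylow 2 (Sz F m)) : Subgroup (Sz F m)) := by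
      rw [Sylow.smul_def, Sylow.pointwise_smul_def]
      exact ⟨f y, h1, rfl⟩
    rw [hx] at h2
    exact h2
  refine ⟨(MulAut.conj x).toMonoidHom.comp f, (MulAut.conj x).surjective.comp hs, ?_, ?_⟩
  · ext y
    rw [MonoidHom.mem_ker, ← hk, MonoidHom.mem_ker]
    show MulAut.conj x (f y) = 1 ↔ _
    rw [map_eq_one_iff _ (MulAut.conj x).injective]
  · have hle : Y.map ((MulAut.conj x).toMonoidHom.comp f) ≤ ZZ hF := by
      rintro _ ⟨y, hy, rfl⟩
      apply SzReal.tG_of_sq hF (hxP y hy)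
      show x * f y * x⁻¹ * (x * f y * x⁻¹) = 1
      have e : x * f y * x⁻¹ * (x * f y * x⁻¹) = x * (f y * f y) * x⁻¹ := by group
      rw [e, ← map_mul, ← pow_two, h.pow y hy, map_one, mul_one, mul_inv_cancel]
    apply Subgroup.eq_of_le_of_card_ge hle
    rw [card_ZZ, ← hcard, ← Subgroup.map_map]
    exact (card_cj x (Y.map f)).ge

theorem eq_of_suzuki (h : Cfg 2 Y) (hm : 1 ≤ m) (hF : Fintype.card F = 2 ^ (2 * m + 1))
    (hF2 : Fintype.card F = (Y ⊓ pCore 2 L).relIndex Y) {f : L →* Cfsg.Sz F m} (hs : Function.Surjective f)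
    (hk : f.ker = pCore 2 L) {W : Subgroup L} (w : EA 2 Y W) : W = Y ⊔ pCore 2 L := by
  have hf2 : Fact (Nat.Prime 2) := ⟨Nat.prime_two⟩
  obtain ⟨f, hs, hk, hY⟩ := exists_szc h hm hF hF2 hs hk
  apply eq_of_map hk w
  rw [hY]
  have hker : ∀ x, f x = 1 ↔ x ∈ pCore 2 L := fun x => by rw [← MonoidHom.mem_ker, hk]
  have h1 : ∀ x ∈ W, ∃ b, f x = tG hF 0 b := by
    intro x hx
    have hne : tG (m := m) hF 0 1 ≠ 1 := by
      intro h0
      rw [← tG_one hF] at h0
      exact one_ne_zero (tG_inj hF h0).2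
    obtain ⟨t, ht, hft⟩ : tG (m := m) hF 0 1 ∈ Y.map f := by rw [hY]; exact ⟨1, rfl⟩
    have h2 : f x * tG hF 0 1 * (f x)⁻¹ ∈ TT (m := m) hF := by
      apply ZZ_le hF
      rw [← hY, ← hft, ← map_inv, ← map_mul, ← map_mul]
      exact mem_map_of_mem f ((mem_normalizer_iff.1 (w.le_N hx) t).1 ht)
    have h3 := TI_TT hm hF (f x) _ (ZZ_le hF ⟨1, rfl⟩) hne h2
    have hsq : f x * f x = 1 := by rw [← map_mul, hker, ← pow_two]; exact w.pow x hx
    have h4 : IsPGroup 2 (zpowers (f x)) := by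
      have h5 : orderOf (f x) ∣ 2 ^ 1 := orderOf_dvd_of_pow_eq_one (by rw [pow_one, pow_two, hsq])
      obtain ⟨j, _, hj⟩ := (Nat.dvd_prime_pow Nat.prime_two).1 h5
      exact IsPGroup.of_card (n := j) (by rw [Nat.card_zpowers, hj])
    have h5 := h4.inf_normalizer_sylow (PT hm hF)
    have h6 : f x ∈ zpowers (f x) ⊓ normalizer ((PT hm hF : Subgroup (Sz F m)) : Set (Sz F m)) :=
      mem_inf.2 ⟨mem_zpowers _, h3⟩
    have h7 : f x ∈ zpowers (f x) ⊓ (PT hm hF : Subgroup (Sz F m)) := h5.le h6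
    exact SzReal.tG_of_sq hF h7.2 hsq
  obtain ⟨x, hx, hxA⟩ := SetLike.not_le_iff_exists.1 w.ne
  obtain ⟨b, hb⟩ := h1 x hx
  have hb0 : b ≠ 0 := by
    rintro rfl
    rw [tG_one, hker] at hb
    exact hxA hb
  ext y
  constructor
  · rintro ⟨z, hz, rfl⟩
    exact h1 z hz
  · rintro ⟨c, rfl⟩
    by_cases hc : c = 0
    · subst hc; rw [tG_one]; exact one_mem _
    obtain ⟨k, hkk⟩ := SzReal.conj_tG (m := m) hF hb0 hc
    obtain ⟨g, hg⟩ := hs (dG hF k)
    have hgN : g ∈ normalizer (Y : Set L) := by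
      apply h.mem_of_map hk
      rw [hY]
      apply mem_normalizer_of_cj_le
      rintro _ ⟨_, ⟨d, rfl⟩, rfl⟩
      show f g * tG hF 0 d * (f g)⁻¹ ∈ ZZ hF
      rw [hg]
      exact dG_conj hF k d
    refine ⟨g * x * g⁻¹, (mem_normalizer_iff.1 (w.norm hgN) x).1 hx, ?_⟩
    rw [map_mul, map_mul, map_inv, hg, hb, hkk]

end sz

end H53.FL
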