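import Cfsg.Agent.Lib.H51.FFMin

/-!
Families of quadratic offenders: the spread (version of `H51.FFSpread` for a family of offenders whose nontrivial elements
fix exactly one point).
-/

set_option autoImplicit false

namespace H53.FS

open Subgroup H53.PU
open H51.FF (Off At cg mem_cg card_cg mem_fx_cg card_fx_cg Off.cg At.cg Off.ne Sp card_le V_le Int' int_inj)

/-- the ambient situation -/
structure Am (p q : ℕ) (H V Δ : Type*) [Group H] [AddCommGroup V] [DistribMulAction H V] [MulAction H Δ]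
    (S : Set (Subgroup H)) : Prop where
  pz : ∀ v : V, p • v = 0
  faith : ∀ g : H, (∀ v : V, g • v = v) → g = 1
  off : ∀ {A : Subgroup H}, A ∈ S → Off p q V A
  conj : ∀ {A : Subgroup H}, A ∈ S → ∀ g : H, cg g A ∈ S
  fix : ∀ {A : Subgroup H}, A ∈ S → ∀ x ∈ A, x ≠ 1 → ∃ δ : Δ, x • δ = δ ∧ ∀ ε : Δ, x • ε = ε → ε = δ
  trans : ∀ δ ε : Δ, ∃ h : H, h • δ = ε
  two : ∃ δ ε : Δ, δ ≠ ε

section

variable {p q : ℕ} [hp : Fact p.Prime] {H V Δ : Type*} [Group H] [Finite H] [AddCommGroup V] [Finite V]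
  [DistribMulAction H V] [MulAction H Δ] {S : Set (Subgroup H)} (am : Am p q H V Δ S) (hq : 1 < q)

omit [Finite V] in
include am in
theorem at_unique {A : Subgroup H} (hA : A ∈ S) {δ ε : Δ} (h : At A δ) {a : H} (ha : a ∈ A) (ha1 : a ≠ 1)
    (he : a • ε = ε) : ε = δ := by
  obtain ⟨ζ, _, h2⟩ := am.fix hA a ha ha1
  rw [h2 ε he, h2 δ (h a ha)]

include am hq in
theorem exists_at {A : Subgroup H} (hA : A ∈ S) : ∃ δ : Δ, At A δ := by
  obtain ⟨a, ha, ha1⟩ := (am.off hA).ne hq
  obtain ⟨ζ, h1, h2⟩ := am.fix hA a ha ha1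
  refine ⟨ζ, fun b hb => ?_⟩
  apply h2
  rw [← mul_smul, (am.off hA).comm a ha b hb, mul_smul, h1]

include am hq in
theorem spread_aux (n : ℕ) : ∀ A B : Subgroup H, A ∈ S → B ∈ S → ∀ δ ε : Δ, At A δ → At B ε → δ ≠ ε →
    Nat.card ↥(A ⊔ B) ≤ n → Sp q V A B ∧ Int' V A B ∧ Int' V B A := by
  induction n with
  | zero =>
    intro A B _ _ δ ε _ _ _ h
    have : 0 < Nat.card ↥(A ⊔ B) := Nat.card_pos
    omega
  | succ n ih =>
    -- the intersection property
    have key : ∀ A B : Subgroup H, A ∈ S → B ∈ S → ∀ δ ε : Δ, At A δ → At B ε → δ ≠ ε →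
        Nat.card ↥(A ⊔ B) ≤ n + 1 → Int' V A B := by
      intro A B hA hB δ ε hδ hε hne hn a ha ha1 w hw haw
      set C := fx V A ⊓ fx V B with hC
      have hB' := am.conj hB a
      have hε' : At (cg a B) (a • ε) := hε.cg a
      have hne' : ε ≠ a • ε := by
        intro h1
        exact hne (at_unique am hA hδ ha ha1 h1.symm).symm
      have hle : B ⊔ cg a B ≤ A ⊔ B := by
        apply sup_le le_sup_right
        intro x hx
        have h1 := mem_cg.1 hx
        have e : x = a * (a⁻¹ * x * a) * a⁻¹ := by group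
        rw [e]
        exact mul_mem (mul_mem (mem_sup_left ha) (mem_sup_right h1)) (inv_mem (mem_sup_left ha))
      have hCle : C ≤ fx V B ⊓ fx V (cg a B) := by
        rw [← fx_sup, hC, ← fx_sup]
        exact fx_anti hle
      have hCeq : C = fx V B ⊓ fx V (cg a B) := by
        by_cases hlt : Nat.card ↥(B ⊔ cg a B) ≤ n
        · obtain ⟨h1, _⟩ := ih B (cg a B) hB hB' ε (a • ε) hε hε' hne' hlt
          apply AddSubgroup.eq_of_le_of_card_ge hCle
          have h2 := V_le (am.off hA) (am.off hB)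
          rw [h1.cV] at h2
          have hq0 : 0 < q := by omega
          exact Nat.le_of_mul_le_mul_left (Nat.le_of_mul_le_mul_left h2 hq0) hq0
        · have h1 : B ⊔ cg a B = A ⊔ B := by
            apply Subgroup.eq_of_le_of_card_ge hle
            omega
          rw [← fx_sup, h1, fx_sup]
      have h1 : a • w ∈ C := by
        rw [hCeq]
        refine ⟨haw, mem_fx_cg.2 ?_⟩
        rw [inv_smul_smul]
        exact hw
      have h2 := h1.1 a⁻¹ (inv_mem ha)
      rw [inv_smul_smul] at h2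
      rw [h2]
      exact h1.1
    have key2 : ∀ A B : Subgroup H, A ∈ S → B ∈ S → ∀ δ ε : Δ, At A δ → At B ε → δ ≠ ε →
        Int' V A B → Int' V B A → ∃ w ∈ fx V B, w ∉ fx V A := by
      intro A B hA hB δ ε hδ hε hne hI hI'
      by_contra hcon
      push Not at hcon
      obtain ⟨a, ha, ha1⟩ := (am.off hA).ne hq
      obtain ⟨b, hb, hb1⟩ := (am.off hB).ne hq
      have hle : ∀ w ∈ fx V A, w ∈ fx V B := by
        intro w hw
        apply hI' b hb hb1 w hw
        have e : b • w = w + (b • w - w) := by abel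
        rw [e]
        exact AddSubgroup.add_mem _ hw (hcon _ ((am.off hB).quad b hb w))
      have hcomm : a * b = b * a := by
        have h1 : (a * b)⁻¹ * (b * a) = 1 := by
          apply am.faith
          intro v
          rw [mul_smul, inv_smul_eq_iff, mul_smul, mul_smul]
          have h2 := hcon _ ((am.off hB).quad b hb v) a ha
          have h3 := hle _ ((am.off hA).quad a ha v) b hb
          rw [smul_sub] at h2 h3
          have h4 : b • a • v = a • v - v + b • v := by rw [← h3]; abel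
          have h5 : a • b • v = b • v - v + a • v := by rw [← h2]; abel
          rw [h4, h5]; abel
        exact inv_mul_eq_one.1 h1
      have h1 : b • δ = δ := by
        apply at_unique am hA hδ ha ha1
        rw [← mul_smul, hcomm, mul_smul, hδ a ha]
      exact hne (at_unique am hB hε hb hb1 h1)
    intro A B hA hB δ ε hδ hε hne hn
    have hn' : Nat.card ↥(B ⊔ A) ≤ n + 1 := by rwa [sup_comm]
    have hI := key A B hA hB δ ε hδ hε hne hn
    have hI' := key B A hB hA ε δ hε hδ hne.symm hn'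
    refine ⟨?_, hI, hI'⟩
    obtain ⟨w, hw, hwA⟩ := key2 A B hA hB δ ε hδ hε hne hI hI'
    obtain ⟨w', hw', hwB⟩ := key2 B A hB hA ε δ hε hδ hne.symm hI' hI
    have h1 : q * Nat.card ↥(fx V A ⊓ fx V B) ≤ Nat.card (fx V A) := by
      have := Nat.card_le_card_of_injective _ (int_inj hI (am.off hA).quad hw hwA)
      rwa [Nat.card_prod, (am.off hA).card] at this
    have h2 : q * Nat.card ↥(fx V A ⊓ fx V B) ≤ Nat.card (fx V B) := by
      have := Nat.card_le_card_of_injective _ (int_inj hI' (am.off hB).quad hw' hwB)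
      rwa [Nat.card_prod, (am.off hB).card, inf_comm (fx V B)] at this
    have h3 := add_card_sup_inf (fx V A) (fx V B)
    have h4 : Nat.card ↥(fx V A ⊔ fx V B) ≤ Nat.card V := Nat.card_le_card_of_injective _ (AddSubgroup.subtype_injective _)
    have hA0 : 0 < Nat.card (fx V A) := Nat.card_pos
    have hB0 : 0 < Nat.card (fx V B) := Nat.card_pos
    set c := Nat.card ↥(fx V A ⊓ fx V B) with hc
    have hc0 : 0 < c := Nat.card_pos
    have h5 : Nat.card (fx V B) ≤ q * c := by
      apply Nat.le_of_mul_le_mul_left _ hA0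
      calc Nat.card (fx V A) * Nat.card (fx V B) = Nat.card ↥(fx V A ⊔ fx V B) * c := h3.symm
        _ ≤ (q * Nat.card (fx V A)) * c := Nat.mul_le_mul_right _ (h4.trans (am.off hA).ff)
        _ = _ := by ring
    have h6 : Nat.card (fx V A) ≤ q * c := by
      apply Nat.le_of_mul_le_mul_left _ hB0
      calc Nat.card (fx V B) * Nat.card (fx V A) = Nat.card ↥(fx V A ⊔ fx V B) * c := by rw [h3, mul_comm]
        _ ≤ (q * Nat.card (fx V B)) * c := Nat.mul_le_mul_right _ (h4.trans (am.off hB).ff)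
        _ = _ := by ring
    have e1 : Nat.card (fx V A) = q * c := le_antisymm h6 h1
    have e2 : Nat.card (fx V B) = q * c := le_antisymm h5 h2
    refine ⟨e1, e2, ?_⟩
    apply le_antisymm
    · have := (am.off hA).ff
      rwa [e1] at this
    · have h7 : q * (q * c) * c ≤ Nat.card V * c := by
        calc q * (q * c) * c = Nat.card (fx V A) * Nat.card (fx V B) := by rw [e1, e2]; ring
          _ = Nat.card ↥(fx V A ⊔ fx V B) * c := h3.symm
          _ ≤ _ := Nat.mul_le_mul_right _ h4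
      exact Nat.le_of_mul_le_mul_right h7 hc0

section pair

variable {A B : Subgroup H} (hA : A ∈ S) (hB : B ∈ S) {δ ε : Δ} (hδ : At A δ) (hε : At B ε) (hne : δ ≠ ε)

include am hq hA hB hδ hε hne

theorem sp : Sp q V A B := (spread_aux am hq _ A B hA hB δ ε hδ hε hne le_rfl).1

theorem int_ : Int' V A B := (spread_aux am hq _ A B hA hB δ ε hδ hε hne le_rfl).2.1

theorem int_' : Int' V B A := (spread_aux am hq _ A B hA hB δ ε hδ hε hne le_rfl).2.2

theorem sup_top : fx V A ⊔ fx V B = ⊤ := by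
  have h1 := sp am hq hA hB hδ hε hne
  apply AddSubgroup.eq_top_of_card_eq
  have h3 := add_card_sup_inf (fx V A) (fx V B)
  have hc0 : 0 < Nat.card ↥(fx V A ⊓ fx V B) := Nat.card_pos
  apply Nat.eq_of_mul_eq_mul_right hc0
  rw [h3]
  calc Nat.card (fx V A) * Nat.card (fx V B) = (q * Nat.card ↥(fx V A ⊓ fx V B)) * (q * Nat.card ↥(fx V A ⊓ fx V B)) :=
        congrArg₂ (· * ·) h1.cA h1.cB
    _ = Nat.card V * Nat.card ↥(fx V A ⊓ fx V B) := by rw [h1.cV]; ring

theorem exists_add (v : V) : ∃ x ∈ fx V A, ∃ y ∈ fx V B, v = x + y := by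
  have h1 : v ∈ fx V A ⊔ fx V B := by rw [sup_top am hq hA hB hδ hε hne]; exact AddSubgroup.mem_top _
  obtain ⟨x, hx, y, hy, rfl⟩ := AddSubgroup.mem_sup.1 h1
  exact ⟨x, hx, y, hy, rfl⟩

/-- the spread covers everything -/
theorem cover (v : V) : v ∈ fx V A ∨ ∃ a ∈ A, v ∈ fx V (cg a B) := by
  obtain ⟨x, hx, y, hy, rfl⟩ := exists_add am hq hA hB hδ hε hne v
  by_cases hyA : y ∈ fx V A
  · exact Or.inl (AddSubgroup.add_mem _ hx hyA)
  right
  have hI := int_ am hq hA hB hδ hε hne
  have h1 := sp am hq hA hB hδ hε hne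
  have hinj := int_inj hI (am.off hA).quad hy hyA
  have hbij : Function.Bijective (fun x : A × ↥(fx V A ⊓ fx V B) =>
      (⟨(x.1 : H) • y - y + x.2, AddSubgroup.add_mem _ ((am.off hA).quad _ x.1.2 y) x.2.2.1⟩ : fx V A)) := by
    rw [Nat.bijective_iff_injective_and_card]
    refine ⟨hinj, ?_⟩
    rw [Nat.card_prod, (am.off hA).card, h1.cA]
  obtain ⟨⟨⟨a, ha⟩, ⟨c, hc⟩⟩, hac⟩ := hbij.2 ⟨x, hx⟩
  have h2 : a • y - y + c = x := congrArg Subtype.val hac
  refine ⟨a, ha, ?_⟩
  rw [mem_fx_cg, ← h2]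
  have h3 : a⁻¹ • (a • y - y + c + y) = y + c := by
    have e : a • y - y + c + y = a • y + c := by abel
    rw [e, smul_add, inv_smul_smul, hc.1 _ (inv_mem ha)]
  rw [h3]
  exact AddSubgroup.add_mem _ hy hc.2

end pair

end

end H53.FS
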