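import Cfsg.Agent.Lib.H53.FS9

/-!
Offenders: stage 4, the components for `q > 2` commute.
-/

set_option autoImplicit false

namespace H53.FS

open Subgroup H53.PU
open H52.Syl (SylIn exists_sylIn_le sylIn_of_max)
open H51.FF (Off At cg mem_cg card_cg mem_fx_cg card_fx_cg Off.cg At.cg Off.ne Sp card_le V_le Int' int_inj cg_cg cg_one
  cg_sup cg_top Sp.sup_top Sp.exists_add Sp.cover PM)

section torus

variable {F : Type*} [Field F]

theorem exists_torus (v w : Fin 2 → F) (hD : v 0 * w 1 - w 0 * v 1 ≠ 0) {x y : F} (hxy : x * y = 1) :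
    ∃ g : Matrix.SpecialLinearGroup (Fin 2) F, (g : Matrix (Fin 2) (Fin 2) F).mulVec v = x • v ∧
      (g : Matrix (Fin 2) (Fin 2) F).mulVec w = y • w := by
  set D := v 0 * w 1 - w 0 * v 1 with hDdef
  let m : Matrix (Fin 2) (Fin 2) F := !![(x * v 0 * w 1 - y * w 0 * v 1) / D, (y - x) * v 0 * w 0 / D;
    (x - y) * v 1 * w 1 / D, (y * v 0 * w 1 - x * w 0 * v 1) / D]
  have hdet : m.det = 1 := by
    rw [Matrix.det_fin_two_of]
    rw [div_mul_div_comm, div_mul_div_comm, ← sub_div, div_eq_one_iff_eq (mul_ne_zero hD hD)]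
    rw [hDdef]
    linear_combination ((v 0 * w 1) ^ 2 + (w 0 * v 1) ^ 2 - 2 * v 0 * v 1 * w 0 * w 1) * hxy
  refine ⟨⟨m, hdet⟩, ?_, ?_⟩
  · funext i
    fin_cases i
    · simp only [Matrix.mulVec, dotProduct, Fin.sum_univ_two, Pi.smul_apply, smul_eq_mul]
      show (x * v 0 * w 1 - y * w 0 * v 1) / D * v 0 + (y - x) * v 0 * w 0 / D * v 1 = x * v 0
      field_simp
      rw [hDdef]; ring
    · simp only [Matrix.mulVec, dotProduct, Fin.sum_univ_two, Pi.smul_apply, smul_eq_mul]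
      show (x - y) * v 1 * w 1 / D * v 0 + (y * v 0 * w 1 - x * w 0 * v 1) / D * v 1 = x * v 1
      field_simp
      rw [hDdef]; ring
  · funext i
    fin_cases i
    · simp only [Matrix.mulVec, dotProduct, Fin.sum_univ_two, Pi.smul_apply, smul_eq_mul]
      show (x * v 0 * w 1 - y * w 0 * v 1) / D * w 0 + (y - x) * v 0 * w 0 / D * w 1 = y * w 0
      field_simp
      rw [hDdef]; ring
    · simp only [Matrix.mulVec, dotProduct, Fin.sum_univ_two, Pi.smul_apply, smul_eq_mul]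
      show (x - y) * v 1 * w 1 / D * w 0 + (y * v 0 * w 1 - x * w 0 * v 1) / D * w 1 = y * w 1
      field_simp
      rw [hDdef]; ring

/-- a matrix fixing two independent vectors is the identity -/
theorem eq_one_of_fix (v w : Fin 2 → F) (hD : v 0 * w 1 - w 0 * v 1 ≠ 0) {g : Matrix.SpecialLinearGroup (Fin 2) F}
    (hv : (g : Matrix (Fin 2) (Fin 2) F).mulVec v = v) (hw : (g : Matrix (Fin 2) (Fin 2) F).mulVec w = w) : g = 1 := by
  set m := (g : Matrix (Fin 2) (Fin 2) F) with hm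
  have h1 := congrFun hv 0
  have h2 := congrFun hv 1
  have h3 := congrFun hw 0
  have h4 := congrFun hw 1
  simp only [Matrix.mulVec, dotProduct, Fin.sum_univ_two] at h1 h2 h3 h4
  have e00 : m 0 0 = 1 := by
    have : (m 0 0 - 1) * (v 0 * w 1 - w 0 * v 1) = 0 := by linear_combination w 1 * h1 - v 1 * h3
    have := (mul_eq_zero.1 this).resolve_right hD
    exact sub_eq_zero.1 this
  have e01 : m 0 1 = 0 := by
    have : m 0 1 * (v 0 * w 1 - w 0 * v 1) = 0 := by linear_combination v 0 * h3 - w 0 * h1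
    exact (mul_eq_zero.1 this).resolve_right hD
  have e10 : m 1 0 = 0 := by
    have : m 1 0 * (v 0 * w 1 - w 0 * v 1) = 0 := by linear_combination w 1 * h2 - v 1 * h4
    exact (mul_eq_zero.1 this).resolve_right hD
  have e11 : m 1 1 = 1 := by
    have : (m 1 1 - 1) * (v 0 * w 1 - w 0 * v 1) = 0 := by linear_combination v 0 * h4 - w 0 * h2
    have := (mul_eq_zero.1 this).resolve_right hD
    exact sub_eq_zero.1 this
  apply Subtype.ext
  show m = 1
  ext i j
  fin_cases i <;> fin_cases j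
  · exact e00
  · exact e01
  · exact e10
  · exact e11

theorem exists_coord (v w : Fin 2 → F) (hD : v 0 * w 1 - w 0 * v 1 ≠ 0) (z : Fin 2 → F) : ∃ a b : F, z = a • v + b • w := by
  refine ⟨(z 0 * w 1 - w 0 * z 1) / (v 0 * w 1 - w 0 * v 1), (v 0 * z 1 - z 0 * v 1) / (v 0 * w 1 - w 0 * v 1), ?_⟩
  funext i
  fin_cases i
  · show z 0 = (z 0 * w 1 - w 0 * z 1) / (v 0 * w 1 - w 0 * v 1) * v 0 +
      (v 0 * z 1 - z 0 * v 1) / (v 0 * w 1 - w 0 * v 1) * w 0
    rw [div_mul_eq_mul_div, div_mul_eq_mul_div, ← add_div, eq_div_iff hD]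
    ring
  · show z 1 = (z 0 * w 1 - w 0 * z 1) / (v 0 * w 1 - w 0 * v 1) * v 1 +
      (v 0 * z 1 - z 0 * v 1) / (v 0 * w 1 - w 0 * v 1) * w 1
    rw [div_mul_eq_mul_div, div_mul_eq_mul_div, ← add_div, eq_div_iff hD]
    ring

/-- dependent vectors -/
theorem smul_of_dep (v w : Fin 2 → F) (hv : v ≠ 0) (hD : v 0 * w 1 - w 0 * v 1 = 0) : ∃ c : F, w = c • v := by
  by_cases h0 : v 0 = 0
  · have h1 : v 1 ≠ 0 := by
      intro h1
      apply hv
      funext i
      fin_cases i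
      · exact h0
      · exact h1
    refine ⟨w 1 / v 1, ?_⟩
    rw [h0, zero_mul, zero_sub, neg_eq_zero] at hD
    have h2 := (mul_eq_zero.1 hD).resolve_right h1
    funext i
    fin_cases i
    · show w 0 = w 1 / v 1 * v 0
      rw [h0, h2, mul_zero]
    · show w 1 = w 1 / v 1 * v 1
      field_simp
  · refine ⟨w 0 / v 0, ?_⟩
    funext i
    fin_cases i
    · show w 0 = w 0 / v 0 * v 0
      field_simp
    · show w 1 = w 0 / v 0 * v 1
      field_simp
      linear_combination hD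

end torus

section

variable {p q : ℕ} [hp : Fact p.Prime] {H V : Type*} [Group H] [Finite H] [AddCommGroup V] [Finite V]
  [DistribMulAction H V] {T M C L : Subgroup H}

omit [Finite H] [Finite V] hp in
theorem S3.CL (s : S3 p q V T M C L) : C ≤ L := by
  obtain ⟨B, _, _, h, _⟩ := s.pr
  rw [h]; exact le_sup_left

omit [Finite H] [Finite V] in
theorem fx_top_sub (L : Subgroup H) : fx V (⊤ : Subgroup L) = fx V L := by
  rw [← fx_map, ← MonoidHom.range_eq_map, Subgroup.range_subtype]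

theorem S3.kern (s : S3 p q V T M C L) {g : H} (hg : g ∈ L) (h : ∀ v : V, g • v - v ∈ fx V L) : g = 1 := by
  obtain ⟨TL, pm⟩ := s.pm
  have h1 : (⟨g, hg⟩ : L) = 1 := by
    apply pm.kern
    intro v
    rw [fx_top_sub]
    exact h v
  exact congrArg Subtype.val h1

theorem S3.fx_eq (s : S3 p q V T M C L) {y : V} (hy : y ∈ fx V C) :
    ∃ a ∈ C, ∃ w : V, ∃ c ∈ fx V L, y = a • w - w + c := by
  obtain ⟨TL, pm⟩ := s.pm
  obtain ⟨a, ha, w, c, hc, h⟩ := pm.fx_eq (y := y) (by rw [fx_subgroupOf s.CL]; exact hy)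
  rw [fx_top_sub] at hc
  exact ⟨a, ha, w, c, hc, h⟩

omit [Finite V] hp [Finite H] in
theorem PM_exists_gen [Fact p.Prime] (s : S3 p q V T M C L) : ∃ x ∈ L, L = C ⊔ cg x C := by
  obtain ⟨TL, pm⟩ := s.pm
  obtain ⟨x, hx⟩ := pm.exists_nM
  refine ⟨x, x.2, ?_⟩
  have h1 := congrArg (Subgroup.map L.subtype) (pm.gen x hx)
  rw [Subgroup.map_sup, map_cg, map_subgroupOf' s.CL, ← MonoidHom.range_eq_map, Subgroup.range_subtype] at h1
  exact h1.symm

omit [Finite V] [Finite H] in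
/-- `L`-invariant subgroups containing `C` contain `L` -/
theorem S3.le_of_inv (s : S3 p q V T M C L) {K : Subgroup H} (hCK : C ≤ K) (hK : ∀ l ∈ L, ∀ k ∈ K, l * k * l⁻¹ ∈ K) :
    L ≤ K := by
  obtain ⟨x, hx, h⟩ := PM_exists_gen s
  rw [h]
  apply sup_le hCK
  intro y hy
  rw [mem_cg] at hy
  have h1 := hK x hx _ (hCK hy)
  have e : x * (x⁻¹ * y * x) * x⁻¹ = y := by group
  rwa [e] at h1

variable (st : St p V T M) (hq : 1 < q) (mx : Mx p H V)

include st hq mx in
/-- `[V, L] ≤ C_V(C')` -/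
theorem S3.moves (s : S3 p q V T M C L) (hC : C ∈ (Sg p q V : Set (Subgroup H))) (hCT : C ≤ T) {C' : Subgroup H}
    (hC' : C' ∈ (Sg p q V : Set (Subgroup H))) (hC'T : C' ≤ T) (hne : C' ≠ C) :
    ∀ l ∈ L, ∀ v : V, l • v - v ∈ fx V C' := by
  have hinv : ∀ l ∈ L, ∀ u ∈ fx V C', l • u ∈ fx V C' := by
    intro l hl u hu c hc
    rw [← mul_smul, ← s.comm C' hC' hC'T hne l hl c hc, mul_smul, hu c hc]
  let K : Subgroup H :=
    { carrier := {k | k ∈ L ∧ ∀ v : V, k • v - v ∈ fx V C'}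
      one_mem' := ⟨one_mem _, fun v => by rw [one_smul, sub_self]; exact AddSubgroup.zero_mem _⟩
      mul_mem' := by
        rintro a b ⟨ha, ha'⟩ ⟨hb, hb'⟩
        refine ⟨mul_mem ha hb, fun v => ?_⟩
        have e : (a * b) • v - v = (a • (b • v) - b • v) + (b • v - v) := by rw [mul_smul]; abel
        rw [e]
        exact AddSubgroup.add_mem _ (ha' _) (hb' _)
      inv_mem' := by
        rintro a ⟨ha, ha'⟩
        refine ⟨inv_mem ha, fun v => ?_⟩
        have h1 := ha' (a⁻¹ • v)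
        rw [smul_inv_smul] at h1
        have e : a⁻¹ • v - v = -(v - a⁻¹ • v) := by abel
        rw [e]
        exact AddSubgroup.neg_mem _ h1 }
  have hCK : C ≤ K := by
    intro c hc
    exact ⟨s.CL hc, (Sg.cp hq st.pz st.faith mx hC hC' (Ne.symm hne)
      (Sg.comm_le hq st.pz st.faith mx hC hC' st.pT hCT hC'T)).2.2.1 c hc⟩
  have hLK : L ≤ K := by
    apply s.le_of_inv hCK
    rintro l hl k ⟨hk, hk'⟩
    refine ⟨mul_mem (mul_mem hl hk) (inv_mem hl), fun v => ?_⟩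
    have e : (l * k * l⁻¹) • v - v = l • (k • (l⁻¹ • v) - l⁻¹ • v) := by
      rw [smul_sub, smul_inv_smul, mul_smul, mul_smul]
    rw [e]
    exact hinv l hl _ (hk' _)
  exact fun l hl => (hLK hl).2

/-- **the torus** -/
theorem S3.torus (s : S3 p q V T M C L) (st : St p V T M) (hq2 : 2 < q) (mx : Mx p H V) (hC : C ∈ (Sg p q V : Set (Subgroup H))) :
    ∃ h ∈ L, ∃ B ∈ (Sg p q V : Set (Subgroup H)), L = C ⊔ B ∧ cg h C = C ∧ cg h B = B ∧
      (∀ v : V, h • v = v → v ∈ fx V L) ∧ h ^ (q - 1) = 1 := by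
  obtain ⟨TL, pm⟩ := s.pm
  obtain ⟨B, hB, hBM, hL, hpr⟩ := s.pr
  have hq1 : 1 < q := by omega
  obtain ⟨F, iF, iF', ρ, Ψ, hΨs, hΨk, hΨe, hF⟩ := pm.main
  rw [card_subgroupOf' s.CL, hC.1.card] at hF
  have hBL : B ≤ L := by rw [hL]; exact le_sup_right
  have hker : ∀ v, Ψ v = 0 ↔ v ∈ fx V L := by
    intro v
    rw [hΨk]
    constructor
    · intro h l hl
      exact h ⟨l, hl⟩
    · intro h l
      exact h l l.2
  -- lines
  have hex : ∀ A B : Subgroup H, Pr p q V A B → L = A ⊔ B → ∃ v ∈ fx V A, Ψ v ≠ 0 := by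
    intro A B hpr hL
    by_contra hcon
    push Not at hcon
    have h1 : fx V A ≤ fx V A ⊓ fx V B := by
      intro v hv
      rw [← fx_sup, ← hL, ← hker]
      exact hcon v hv
    have h2 := card_le _ _ h1
    have h3 := hpr.sp.cA
    have h4 : 0 < Nat.card ↥(fx V A ⊓ fx V B) := Nat.card_pos
    rw [h3] at h2
    have h5 : 1 * Nat.card ↥(fx V A ⊓ fx V B) < q * Nat.card ↥(fx V A ⊓ fx V B) := Nat.mul_lt_mul_of_pos_right hq1 h4
    omega
  have hline : ∀ A B : Subgroup H, (hAL : A ≤ L) → Pr p q V A B → L = A ⊔ B → ∀ v ∈ fx V A, Ψ v ≠ 0 →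
      ∀ w : V, w ∈ fx V A ↔ ∃ c : F, Ψ w = c • Ψ v := by
    intro A B hAL hpr hL v hv hv0 w
    constructor
    · intro hw
      apply smul_of_dep (Ψ v) (Ψ w) hv0
      by_contra hD
      obtain ⟨a, ha, ha1⟩ := hpr.hA.ne hq1
      apply ha1
      have h1 : ρ ⟨a, hAL ha⟩ = 1 := by
        apply eq_one_of_fix _ _ hD
        · rw [← hΨe]
          exact congrArg Ψ (hv a ha)
        · rw [← hΨe]
          exact congrArg Ψ (hw a ha)
      have h2 := ρ.injective (h1.trans (map_one ρ).symm)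
      exact congrArg Subtype.val h2
    · rintro ⟨c, hc⟩
      obtain ⟨x, hx, y, hy, rfl⟩ := hpr.sp.exists_add w
      apply AddSubgroup.add_mem _ hx
      obtain ⟨a, ha, ha1⟩ := hpr.hA.ne hq1
      apply hpr.hI a ha ha1 y hy
      have h1 : Ψ (a • (x + y)) = Ψ (x + y) := by
        have h2 := hΨe ⟨a, hAL ha⟩ (x + y)
        have h3 := hΨe ⟨a, hAL ha⟩ v
        have h4 : Ψ ((⟨a, hAL ha⟩ : L) • v) = Ψ v := congrArg Ψ (hv a ha)
        rw [hc, Matrix.mulVec_smul, ← h3, h4, ← hc] at h2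
        exact h2
      have h2 : a • (x + y) - (x + y) ∈ fx V L := by
        rw [← hker, map_sub, h1, sub_self]
      have e : a • (x + y) - (x + y) = a • y - y := by
        rw [smul_add, hx a ha]; abel
      rw [e] at h2
      have e' : a • y = (a • y - y) + y := by abel
      rw [e']
      exact AddSubgroup.add_mem _ (fx_anti (by rw [hL]; exact le_sup_right) h2) hy
  obtain ⟨v, hv, hv0⟩ := hex C B hpr hL
  obtain ⟨w, hw, hw0⟩ := hex B C hpr.symm (by rw [hL, sup_comm])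
  have hlC := hline C B s.CL hpr hL v hv hv0
  have hlB := hline B C hBL hpr.symm (by rw [hL, sup_comm]) w hw hw0
  have hD : Ψ v 0 * Ψ w 1 - Ψ w 0 * Ψ v 1 ≠ 0 := by
    intro h
    obtain ⟨c, hc⟩ := smul_of_dep (Ψ v) (Ψ w) hv0 h
    have h1 : w ∈ fx V C := (hlC w).2 ⟨c, hc⟩
    apply hw0
    rw [hker, hL, fx_sup]
    exact ⟨h1, hw⟩
  -- a field element
  obtain ⟨x, hx0, hx1⟩ : ∃ x : F, x ≠ 0 ∧ x ≠ 1 := by
    classical
    by_contra hcon
    push Not at hcon
    have h1 : Fintype.card F ≤ 2 := by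
      have h2 : (Finset.univ : Finset F) ⊆ {0, 1} := by
        intro z _
        by_cases hz : z = 0
        · rw [hz]; exact Finset.mem_insert_self _ _
        · rw [hcon z hz]; simp
      have h3 := Finset.card_le_card h2
      have h4 : ({0, 1} : Finset F).card ≤ 2 := Finset.card_le_two
      rw [Finset.card_univ] at h3
      omega
    omega
  obtain ⟨g, hg1, hg2⟩ := exists_torus (Ψ v) (Ψ w) hD (mul_inv_cancel₀ hx0)
  set h : L := ρ.symm g with hh
  have hρ : ρ h = g := ρ.apply_symm_apply g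
  have hcoord : ∀ z : V, ∃ a b : F, Ψ z = a • Ψ v + b • Ψ w := fun z => exists_coord _ _ hD _
  have hinvC : ∀ z : V, (h : H) • z ∈ fx V C ↔ z ∈ fx V C := by
    intro z
    have h1 : Ψ ((h : H) • z) = (g : Matrix (Fin 2) (Fin 2) F).mulVec (Ψ z) := by rw [← hρ]; exact hΨe h z
    rw [hlC, hlC, h1]
    obtain ⟨a, b, hab⟩ := hcoord z
    constructor
    · rintro ⟨c, hc⟩
      rw [hab, Matrix.mulVec_add, Matrix.mulVec_smul, Matrix.mulVec_smul, hg1, hg2] at hc
      have e0 := congrFun hc 0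
      have e1 := congrFun hc 1
      simp only [Pi.add_apply, Pi.smul_apply, smul_eq_mul] at e0 e1
      have e2 : (b * x⁻¹) * (Ψ v 0 * Ψ w 1 - Ψ w 0 * Ψ v 1) = 0 := by linear_combination Ψ v 0 * e1 - Ψ v 1 * e0
      have e3 := (mul_eq_zero.1 e2).resolve_right hD
      have e4 := (mul_eq_zero.1 e3).resolve_right (inv_ne_zero hx0)
      exact ⟨a, by rw [hab, e4, zero_smul, add_zero]⟩
    · rintro ⟨c, hc⟩
      refine ⟨c * x, ?_⟩
      rw [hc, Matrix.mulVec_smul, hg1, smul_smul]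
  have hinvB : ∀ z : V, (h : H) • z ∈ fx V B ↔ z ∈ fx V B := by
    intro z
    have h1 : Ψ ((h : H) • z) = (g : Matrix (Fin 2) (Fin 2) F).mulVec (Ψ z) := by rw [← hρ]; exact hΨe h z
    rw [hlB, hlB, h1]
    obtain ⟨a, b, hab⟩ := hcoord z
    constructor
    · rintro ⟨c, hc⟩
      rw [hab, Matrix.mulVec_add, Matrix.mulVec_smul, Matrix.mulVec_smul, hg1, hg2] at hc
      have e0 := congrFun hc 0
      have e1 := congrFun hc 1
      simp only [Pi.add_apply, Pi.smul_apply, smul_eq_mul] at e0 e1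
      have e2 : (a * x) * (Ψ v 0 * Ψ w 1 - Ψ w 0 * Ψ v 1) = 0 := by linear_combination Ψ w 1 * e0 - Ψ w 0 * e1
      have e3 := (mul_eq_zero.1 e2).resolve_right hD
      have e4 := (mul_eq_zero.1 e3).resolve_right hx0
      exact ⟨b, by rw [hab, e4, zero_smul, zero_add]⟩
    · rintro ⟨c, hc⟩
      refine ⟨c * x⁻¹, ?_⟩
      rw [hc, Matrix.mulVec_smul, hg2, smul_smul]
  have hnorm : ∀ E ∈ (Sg p q V : Set (Subgroup H)), (∀ z : V, (h : H) • z ∈ fx V E ↔ z ∈ fx V E) → cg (h : H) E = E := by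
    intro E hE hE'
    apply Off.axis st.pz st.faith mx (Sg.conj hE (h : H)).1 hE.1
    ext z
    rw [mem_fx_cg, ← hE', smul_inv_smul]
  refine ⟨h, h.2, B, hB, hL, hnorm C hC hinvC, hnorm B hB hinvB, ?_, ?_⟩
  · intro z hz
    have h1 : (g : Matrix (Fin 2) (Fin 2) F).mulVec (Ψ z) = Ψ z := by
      rw [← hρ, ← hΨe h z]
      exact congrArg Ψ hz
    rw [← hker]
    obtain ⟨a, b, hab⟩ := hcoord z
    rw [hab, Matrix.mulVec_add, Matrix.mulVec_smul, Matrix.mulVec_smul, hg1, hg2] at h1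
    have e0 := congrFun h1 0
    have e1 := congrFun h1 1
    simp only [Pi.add_apply, Pi.smul_apply, smul_eq_mul] at e0 e1
    have e2 : (a * (x - 1)) * (Ψ v 0 * Ψ w 1 - Ψ w 0 * Ψ v 1) = 0 := by linear_combination Ψ w 1 * e0 - Ψ w 0 * e1
    have e3 := (mul_eq_zero.1 e2).resolve_right hD
    have e4 := (mul_eq_zero.1 e3).resolve_right (sub_ne_zero.2 hx1)
    have e2' : (b * (x⁻¹ - 1)) * (Ψ v 0 * Ψ w 1 - Ψ w 0 * Ψ v 1) = 0 := by
      linear_combination Ψ v 0 * e1 - Ψ v 1 * e0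
    have e3' := (mul_eq_zero.1 e2').resolve_right hD
    have e4' := (mul_eq_zero.1 e3').resolve_right (sub_ne_zero.2 (fun h => hx1 (inv_eq_one.1 h)))
    rw [hab, e4, e4', zero_smul, zero_smul, add_zero]
  · have hpow : ∀ n : ℕ, ((g ^ n : Matrix.SpecialLinearGroup (Fin 2) F) : Matrix (Fin 2) (Fin 2) F).mulVec (Ψ v) =
        (x ^ n) • Ψ v ∧ ((g ^ n : Matrix.SpecialLinearGroup (Fin 2) F) : Matrix (Fin 2) (Fin 2) F).mulVec (Ψ w) =
        (x⁻¹ ^ n) • Ψ w := by
      intro n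
      induction n with
      | zero => simp
      | succ n ih =>
        rw [pow_succ', Matrix.SpecialLinearGroup.coe_mul, ← Matrix.mulVec_mulVec, ← Matrix.mulVec_mulVec, ih.1, ih.2,
          Matrix.mulVec_smul, Matrix.mulVec_smul, hg1, hg2, smul_smul, smul_smul, pow_succ, pow_succ]
        exact ⟨rfl, rfl⟩
    have hx2 : x ^ (q - 1) = 1 := by rw [← hF]; exact FiniteField.pow_card_sub_one_eq_one x hx0
    have hx3 : x⁻¹ ^ (q - 1) = 1 := by rw [inv_pow, hx2, inv_one]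
    have h1 : g ^ (q - 1) = 1 := by
      apply eq_one_of_fix _ _ hD
      · rw [(hpow _).1, hx2, one_smul]
      · rw [(hpow _).2, hx3, one_smul]
    have h2 : h ^ (q - 1) = 1 := by
      apply ρ.injective
      rw [map_pow, hρ, h1, map_one]
    exact congrArg Subtype.val h2

end

end H53.FS
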