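import Cfsg.Agent.Lib.H53.FS10

/-!
Offenders: stage 4, the components for `q > 2` commute.
-/

set_option autoImplicit false

namespace H53.FS

open Subgroup H53.PU
open H52.Syl (SylIn exists_sylIn_le sylIn_of_max)
open H51.FF (Off At cg mem_cg card_cg mem_fx_cg card_fx_cg Off.cg At.cg Off.ne Sp card_le V_le Int' int_inj cg_cg cg_one
  cg_sup cg_top Sp.sup_top Sp.exists_add Sp.cover PM)

section

variable {p q : ℕ} [hp : Fact p.Prime] {H V : Type*} [Group H] [Finite H] [AddCommGroup V] [Finite V]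
  [DistribMulAction H V] {T M C C' : Subgroup H}

omit [Finite H] [Finite V] in
theorem q_smul (pz : ∀ v : V, p • v = 0) (hq : 1 < q) (hC : C ∈ (Sg p q V : Set (Subgroup H))) (v : V) : q • v = 0 := by
  have hfin : Finite C := Nat.finite_of_card_ne_zero (by rw [hC.1.card]; omega)
  obtain ⟨k, hk⟩ := IsPGroup.iff_card.1 hC.1.pg
  rw [hC.1.card] at hk
  have hk0 : k ≠ 0 := by
    rintro rfl
    rw [pow_zero] at hk
    omega
  obtain ⟨j, rfl⟩ := Nat.exists_eq_succ_of_ne_zero hk0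
  rw [hk, pow_succ, mul_nsmul, pz]

omit [Finite H] [Finite V] in
theorem half_aux (pz : ∀ v : V, p • v = 0) (hq : 1 < q) (hC : C ∈ (Sg p q V : Set (Subgroup H))) {h : H}
    (hh : h ^ (q - 1) = 1) {W : AddSubgroup V} (hW : ∀ w ∈ W, h • w ∈ W) {v : V}
    (hv : h • (h • v - v) - (h • v - v) ∈ W) : h • v - v ∈ W := by
  obtain ⟨x, hx⟩ : ∃ x : V, x = h • v - v := ⟨_, rfl⟩
  have hx' : h • v = x + v := by rw [hx]; abel
  rw [← hx] at hv ⊢
  have key : ∀ i : ℕ, h ^ i • v - v - i • x ∈ W := by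
    intro i
    induction i with
    | zero =>
      rw [pow_zero, one_smul, sub_self, zero_smul, sub_self]
      exact W.zero_mem
    | succ i ih =>
      have h1 : h • (i • x) = i • (h • x) := map_nsmul (DistribSMul.toAddMonoidHom V h) i x
      have e : h ^ (i + 1) • v - v - (i + 1) • x = h • (h ^ i • v - v - i • x) + i • (h • x - x) := by
        rw [smul_sub, smul_sub, h1, pow_succ', mul_smul, nsmul_sub, succ_nsmul, hx']
        abel
      rw [e]
      exact W.add_mem (hW _ ih) (W.nsmul_mem hv i)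
  have h1 := key (q - 1)
  rw [hh, one_smul, sub_self, zero_sub] at h1
  have h2 : -((q - 1) • x) = x := by
    rw [neg_eq_iff_add_eq_zero, ← succ_nsmul]
    have e : q - 1 + 1 = q := by omega
    rw [e]
    exact q_smul pz hq hC _
  rwa [h2] at h1

/-- the components act trivially on the other commutators -/
theorem S3.half (st : St p V T M) (hq2 : 2 < q) (mx : Mx p H V)
    (hC : C ∈ (Sg p q V : Set (Subgroup H))) (hCT : C ≤ T) (hC' : C' ∈ (Sg p q V : Set (Subgroup H))) (hC'T : C' ≤ T)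
    (hne : C' ≠ C) (s : S3 p q V T M C (LL p q V T C)) (s' : S3 p q V T M C' (LL p q V T C')) :
    ∀ y ∈ LL p q V T C', ∀ v : V, y • v - v ∈ fx V (LL p q V T C) := by
  have hq1 : 1 < q := by omega
  obtain ⟨h, hL, B, hB, hLB, hhC, hhB, hfix, hpow⟩ := s.torus st hq2 mx hC
  set L := LL p q V T C with hLdef
  set L' := LL p q V T C' with hL'def
  have hinvC : cg h⁻¹ C = C := by nth_rewrite 1 [← hhC]; exact cg_inv_cg h C
  have hD : ∀ D ∈ (Sg p q V : Set (Subgroup H)), D ≤ T → cg h D = D ∧ cg h⁻¹ D = D := by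
    intro D hDS hDT
    by_cases hDC : D = C
    · rw [hDC]; exact ⟨hhC, hinvC⟩
    · exact ⟨cg_comm (s.comm D hDS hDT hDC h hL), cg_comm (s.comm D hDS hDT hDC h⁻¹ (inv_mem hL))⟩
  have hYY : cg h (YY p q V T C') = YY p q V T C' := by
    apply cg_sSup_of
    · rintro D ⟨h1, h2, h3⟩
      rw [(hD D h1 h2).1]
      exact ⟨h1, h2, h3⟩
    · rintro D ⟨h1, h2, h3⟩
      rw [(hD D h1 h2).2]
      exact ⟨h1, h2, h3⟩
  have hYY' : cg h⁻¹ (YY p q V T C') = YY p q V T C' := by nth_rewrite 1 [← hYY]; exact cg_inv_cg h _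
  have hconj : ∀ g : H, cg g (YY p q V T C') = YY p q V T C' → ∀ E ∈ {E | E ∈ (Sg p q V : Set (Subgroup H)) ∧
      E ≤ normalizer ((YY p q V T C' : Subgroup H) : Set H) ∧ ¬ E ≤ YY p q V T C'}, cg g E ∈ {E | E ∈ (Sg p q V : Set (Subgroup H)) ∧
      E ≤ normalizer ((YY p q V T C' : Subgroup H) : Set H) ∧ ¬ E ≤ YY p q V T C'} := by
    rintro g hg E ⟨h1, h2, h3⟩
    refine ⟨Sg.conj h1 g, ?_, ?_⟩
    · have h4 := cg_mono (g := g) h2
      rwa [cg_normalizer, hg] at h4
    · intro h4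
      apply h3
      rw [← hg, cg_le_cg] at h4
      exact h4
  have hLL : cg h L' = L' := cg_sSup_of (hconj h hYY) (hconj h⁻¹ hYY')
  have hfxL' : ∀ u ∈ fx V L', h • u ∈ fx V L' := by
    intro u hu
    rw [← hLL, mem_fx_cg, inv_smul_smul]
    exact hu
  have hmv := s.moves st hq1 mx hC hCT hC' hC'T hne
  -- `h` acts trivially modulo `fx V L'`
  have htriv : ∀ v : V, h • v - v ∈ fx V L' := by
    intro v
    apply half_aux st.pz hq1 hC hpow hfxL'
    obtain ⟨a, ha, w, c, hc, e⟩ := s'.fx_eq (hmv h hL v)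
    rw [e]
    have h1 : h • a • w = a • h • w := by
      rw [← mul_smul, ← mul_smul, s.comm C' hC' hC'T hne h hL a ha]
    have h2 : a • (h • w - w) = h • w - w := hmv h hL w a ha
    have e2 : h • (a • w - w + c) - (a • w - w + c) = (a • (h • w - w) - (h • w - w)) + (h • c - c) := by
      rw [smul_add, smul_sub, h1, smul_sub]; abel
    rw [e2, h2, sub_self, zero_add]
    exact AddSubgroup.sub_mem _ (hfxL' c hc) hc
  -- `h` centralizes `L'`
  have hcent : ∀ l ∈ L', h * l = l * h := by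
    intro l hl
    have h1 : h * l * h⁻¹ * l⁻¹ ∈ L' := by
      apply Subgroup.mul_mem _ _ (inv_mem hl)
      rw [← hLL, mem_cg]
      have e : h⁻¹ * (h * l * h⁻¹) * h = l := by group
      rw [e]; exact hl
    have h2 : h * l * h⁻¹ * l⁻¹ = 1 := by
      apply s'.kern h1
      intro v
      -- `h⁻¹` acts trivially as well
      have h3 : ∀ u : V, h⁻¹ • u - u ∈ fx V L' := by
        intro u
        have h4 := htriv (h⁻¹ • u)
        rw [smul_inv_smul] at h4
        have e : h⁻¹ • u - u = -(u - h⁻¹ • u) := by abel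
        rw [e]; exact AddSubgroup.neg_mem _ h4
      have h4 := h3 (l⁻¹ • v)
      have h5 : l • (h⁻¹ • l⁻¹ • v) = v + (h⁻¹ • l⁻¹ • v - l⁻¹ • v) := by
        have h6 := h4 l hl
        rw [smul_sub, smul_inv_smul] at h6
        rw [← h6]; abel
      have h6 : (h * l * h⁻¹ * l⁻¹) • v = h • (l • (h⁻¹ • l⁻¹ • v)) := by
        rw [mul_smul, mul_smul, mul_smul]
      rw [h6, h5, smul_add]
      have e : h • v + h • (h⁻¹ • l⁻¹ • v - l⁻¹ • v) - v = (h • v - v) + h • (h⁻¹ • l⁻¹ • v - l⁻¹ • v) := by abel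
      rw [e]
      exact AddSubgroup.add_mem _ (htriv v) (hfxL' _ h4)
    have h3 := mul_inv_eq_one.1 h2
    exact mul_inv_eq_iff_eq_mul.1 h3
  -- `L'` fixes the commutators of `h`
  let K : Subgroup H :=
    { carrier := {k | k ∈ L' ∧ ∀ v : V, k • (h • v - v) = h • v - v}
      one_mem' := ⟨one_mem _, fun v => one_smul _ _⟩
      mul_mem' := by
        rintro a b ⟨ha, ha'⟩ ⟨hb, hb'⟩
        exact ⟨mul_mem ha hb, fun v => by rw [mul_smul, hb', ha']⟩
      inv_mem' := by
        rintro a ⟨ha, ha'⟩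
        exact ⟨inv_mem ha, fun v => by rw [inv_smul_eq_iff, ha']⟩ }
  have hLK : L' ≤ K := by
    apply s'.le_of_inv
    · intro c hc
      exact ⟨s'.CL hc, fun v => hmv h hL v c hc⟩
    · rintro l hl k ⟨hk, hk'⟩
      refine ⟨mul_mem (mul_mem hl hk) (inv_mem hl), fun v => ?_⟩
      have e1 : l⁻¹ • (h • v - v) = h • (l⁻¹ • v) - l⁻¹ • v := by
        rw [smul_sub, ← mul_smul, ← mul_smul, hcent _ (inv_mem hl)]
      have e2 : l • (h • (l⁻¹ • v) - l⁻¹ • v) = h • v - v := by
        rw [← e1, smul_inv_smul]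
      rw [mul_smul, mul_smul, e1, hk', e2]
  intro y hy v
  apply hfix
  have h1 : y • (h • v) = y • v + (h • v - v) := by
    have h2 := (hLK hy).2 v
    rw [smul_sub] at h2
    rw [← h2]; abel
  rw [smul_sub, ← mul_smul, hcent y hy, mul_smul, h1]
  abel

/-- **the components commute** -/
theorem comm_of_half {L L' : Subgroup H} (faith : ∀ g : H, (∀ v : V, g • v = v) → g = 1)
    (h1 : ∀ y ∈ L', ∀ v : V, y • v - v ∈ fx V L) (h2 : ∀ y ∈ L, ∀ v : V, y • v - v ∈ fx V L') :
    ∀ l ∈ L, ∀ l' ∈ L', l * l' = l' * l := by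
  intro l hl l' hl'
  have h3 : (l * l')⁻¹ * (l' * l) = 1 := by
    apply faith
    intro v
    have h4 := h1 l' hl' v l hl
    have h5 := h2 l hl v l' hl'
    rw [smul_sub] at h4 h5
    rw [mul_smul, inv_smul_eq_iff, mul_smul, mul_smul]
    have e1 : l • l' • v = l' • v - v + l • v := by rw [← h4]; abel
    have e2 : l' • l • v = l • v - v + l' • v := by rw [← h5]; abel
    rw [e1, e2]; abel
  exact inv_mul_eq_one.1 h3

end

end H53.FS
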