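import Cfsg.Agent.Lib.H53.PU2

/-!
Groups generated by transvections with pairwise nonorthogonal centres: symmetric groups on the even weight module.
-/

set_option autoImplicit false

namespace H53.FS

open Subgroup H53.PU Equiv

section perm

variable {X : Type*} [Fintype X] [DecidableEq X]

theorem perm_top {K : Subgroup (Perm (Option X))} (h : ∀ x : X, swap none (some x) ∈ K) : K = ⊤ := by
  rw [eq_top_iff, ← Equiv.Perm.closure_isSwap, Subgroup.closure_le]
  rintro σ ⟨a, b, hab, rfl⟩
  rcases a with _ | a
  · rcases b with _ | b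
    · exact absurd rfl hab
    · exact h b
  · rcases b with _ | b
    · rw [swap_comm]; exact h a
    · have h1 : swap (some a) (some b) = swap none (some a) * swap none (some b) * (swap none (some a))⁻¹ := by
        rw [Equiv.swap_inv]
        have hab' : a ≠ b := fun h => hab (congrArg some h)
        ext i
        simp only [Perm.mul_apply]
        rcases i with _ | i
        · rw [swap_apply_of_ne_of_ne (a := some a) (b := some b) (Option.some_ne_none a).symm (Option.some_ne_none b).symm,
            swap_apply_left, swap_apply_of_ne_of_ne (a := none) (b := some b) (Option.some_ne_none a) hab,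
            swap_apply_right]
        · by_cases hia : i = a
          · subst hia
            rw [swap_apply_left, swap_apply_right, swap_apply_left,
              swap_apply_of_ne_of_ne (Option.some_ne_none b) (Ne.symm hab)]
          · by_cases hib : i = b
            · subst hib
              rw [swap_apply_right, swap_apply_of_ne_of_ne (a := none) (b := some a) (Option.some_ne_none i)
                (fun h => hia (Option.some_injective _ h)), swap_apply_right, swap_apply_left]
            · have e1 : (some i : Option X) ≠ some a := fun h => hia (Option.some_injective _ h)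
              have e2 : (some i : Option X) ≠ some b := fun h => hib (Option.some_injective _ h)
              rw [swap_apply_of_ne_of_ne e1 e2, swap_apply_of_ne_of_ne (Option.some_ne_none i) e1,
                swap_apply_of_ne_of_ne (Option.some_ne_none i) e2, swap_apply_of_ne_of_ne (Option.some_ne_none i) e1]
      rw [h1]
      exact K.mul_mem (K.mul_mem (h a) (h b)) (K.inv_mem (h a))

theorem perm_unique {Y : Type*} [Fintype Y] [DecidableEq Y] (hY : 2 < Fintype.card Y) {σ τ : Perm Y}
    (h : ∀ w : Y → ZMod 2, ∑ i, w i = 0 → ∀ i, w (σ⁻¹ i) = w (τ⁻¹ i)) : σ = τ := by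
  have h1 : σ⁻¹ = τ⁻¹ := by
    ext i
    by_contra hne
    obtain ⟨k, hk⟩ : ∃ k : Y, k ∉ ({σ⁻¹ i, τ⁻¹ i} : Finset Y) := by
      by_contra hcon
      push Not at hcon
      have h2 : (Finset.univ : Finset Y) ⊆ {σ⁻¹ i, τ⁻¹ i} := fun k _ => hcon k
      have h3 := Finset.card_le_card h2
      have h4 : ({σ⁻¹ i, τ⁻¹ i} : Finset Y).card ≤ 2 := Finset.card_le_two
      rw [Finset.card_univ] at h3
      omega
    rw [Finset.mem_insert, Finset.mem_singleton, not_or] at hk
    have h5 := h (fun j => (if j = σ⁻¹ i then 1 else 0) + (if j = k then 1 else 0)) (by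
      rw [Finset.sum_add_distrib, Finset.sum_ite_eq' Finset.univ (σ⁻¹ i), Finset.sum_ite_eq' Finset.univ k]
      simp only [Finset.mem_univ, if_true]
      decide) i
    simp only [if_true] at h5
    rw [if_neg (Ne.symm hk.1), if_neg (Ne.symm hne), if_neg (Ne.symm hk.2)] at h5
    revert h5
    decide
  exact inv_injective h1

end perm

section main

variable {H V X : Type*} [Group H] [AddCommGroup V] [DistribMulAction H V] [Module (ZMod 2) V] [Fintype X]
  [DecidableEq X]

/-- transvections with nonorthogonal centres -/
structure TvF (t : X → H) (f : X → V →+ ZMod 2) (c : X → V) : Prop where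
  act : ∀ x v, t x • v = v + f x v • c x
  fc : ∀ x y, f x (c y) = if x = y then 0 else 1
  even : Even (Fintype.card X)
  two : 2 ≤ Fintype.card X

variable {t : X → H} {f : X → V →+ ZMod 2} {c : X → V} (h : TvF t f c)

omit [DistribMulAction H V] [DecidableEq X] [Group H] [Module (ZMod 2) V] in
/-- the coordinates -/
def Psi (f : X → V →+ ZMod 2) : V →+ (Option X → ZMod 2) where
  toFun v := fun i => match i with
    | none => ∑ x, f x v
    | some x => f x v + ∑ y, f y v
  map_zero' := by
    funext i
    rcases i with _ | i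
    · show ∑ x, f x 0 = 0
      simp
    · show f i 0 + ∑ x, f x 0 = 0
      simp
  map_add' := by
    intro v w
    funext i
    rcases i with _ | i
    · show ∑ x, f x (v + w) = ∑ x, f x v + ∑ x, f x w
      simp only [map_add, Finset.sum_add_distrib]
    · show f i (v + w) + ∑ x, f x (v + w) = (f i v + ∑ x, f x v) + (f i w + ∑ x, f x w)
      simp only [map_add, Finset.sum_add_distrib]
      ring

omit [DecidableEq X] [Module (ZMod 2) V] in
theorem Psi_none (v : V) : Psi f v none = ∑ x, f x v := rfl

omit [DecidableEq X] [Module (ZMod 2) V] in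
theorem Psi_some (v : V) (x : X) : Psi f v (some x) = f x v + ∑ y, f y v := rfl

omit [DecidableEq X] [Module (ZMod 2) V] in
theorem f_eq (v : V) (x : X) : f x v = Psi f v (some x) + Psi f v none := by
  rw [Psi_none, Psi_some, add_assoc]
  have : ∀ a : ZMod 2, a + a = 0 := by decide
  rw [this, add_zero]

theorem zadd (a : ZMod 2) : a + a = 0 := by revert a; decide

theorem even_smul' {n : ℕ} (h : Even n) (a : ZMod 2) : n • a = 0 := by
  obtain ⟨k, hk⟩ := h
  rw [hk, add_nsmul, zadd]

include h

theorem TvF.f_act (x y : X) (v : V) : f y (t x • v) = f y v + f x v * (if y = x then 0 else 1) := by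
  rw [h.act, map_add]
  congr 1
  rcases (by revert v; intro v; generalize f x v = a; revert a; decide : f x v = 0 ∨ f x v = 1) with h1 | h1
  · rw [h1, zero_smul, map_zero, zero_mul]
  · rw [h1, one_smul, one_mul, h.fc]

theorem TvF.sum_act (x : X) (v : V) : ∑ y, f y (t x • v) = ∑ y, f y v + f x v := by
  have h1 : ∀ y, f y (t x • v) = f y v + f x v * (if y = x then 0 else 1) := fun y => h.f_act x y v
  simp only [h1]
  rw [Finset.sum_add_distrib, ← Finset.mul_sum]
  congr 1
  have h2 : ∀ y : X, (if y = x then (0 : ZMod 2) else 1) = 1 + if y = x then 1 else 0 := by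
    intro y
    split_ifs
    · decide
    · decide
  simp only [h2]
  rw [Finset.sum_add_distrib, Finset.sum_ite_eq' Finset.univ x, if_pos (Finset.mem_univ _), Finset.sum_const,
    Finset.card_univ, even_smul' h.even, zero_add, mul_one]

theorem TvF.Psi_act (x : X) (v : V) (i : Option X) : Psi f (t x • v) i = Psi f v (swap none (some x) i) := by
  rcases i with _ | y
  · rw [swap_apply_left, Psi_none, Psi_some, h.sum_act, add_comm]
  · by_cases hy : y = x
    · subst hy
      rw [swap_apply_right, Psi_none, Psi_some, h.sum_act, h.f_act, if_pos rfl, mul_zero, add_zero, add_comm (∑ y, f y v),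
        ← add_assoc, zadd, zero_add]
    · rw [swap_apply_of_ne_of_ne (Option.some_ne_none y) (fun h => hy (Option.some_injective _ h)), Psi_some, Psi_some,
        h.sum_act, h.f_act, if_neg hy, mul_one]
      have := zadd (f x v)
      linear_combination this

theorem TvF.sum_Psi (v : V) : ∑ i, Psi f v i = 0 := by
  rw [Fintype.sum_option, Psi_none]
  simp only [Psi_some]
  rw [Finset.sum_add_distrib, Finset.sum_const, Finset.card_univ, even_smul' h.even, add_zero, zadd]

theorem TvF.f_sum (a : X → ZMod 2) (x : X) : f x (∑ y, a y • c y) = ∑ y, a y + a x := by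
  rw [map_sum]
  have h1 : ∀ y, f x (a y • c y) = a y + if x = y then a y else 0 := by
    intro y
    rcases (by generalize a y = b; revert b; decide : a y = 0 ∨ a y = 1) with h2 | h2
    · rw [h2, zero_smul, map_zero]; simp
    · rw [h2, one_smul, h.fc]
      split_ifs
      · decide
      · decide
  simp only [h1]
  rw [Finset.sum_add_distrib, Finset.sum_ite_eq Finset.univ x, if_pos (Finset.mem_univ _)]

theorem TvF.f_surj (u : X → ZMod 2) : ∃ a : X → ZMod 2, ∀ x, f x (∑ y, a y • c y) = u x := by
  refine ⟨fun x => ∑ y, u y + u x, fun x => ?_⟩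
  rw [h.f_sum]
  rw [Finset.sum_add_distrib, Finset.sum_const, Finset.card_univ, even_smul' h.even, zero_add, ← add_assoc, zadd, zero_add]

theorem TvF.surj (w : Option X → ZMod 2) (hw : ∑ i, w i = 0) : ∃ v, Psi f v = w := by
  obtain ⟨a, ha⟩ := h.f_surj (fun x => w (some x) + w none)
  refine ⟨∑ y, a y • c y, ?_⟩
  rw [Fintype.sum_option] at hw
  have h1 : ∑ x, f x (∑ y, a y • c y) = w none := by
    simp only [ha]
    rw [Finset.sum_add_distrib, Finset.sum_const, Finset.card_univ, even_smul' h.even, add_zero]
    have := zadd (w none)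
    linear_combination hw - this
  funext i
  rcases i with _ | i
  · rw [Psi_none, h1]
  · rw [Psi_some, h1, ha, add_assoc, zadd, add_zero]

theorem TvF.c_ne (x : X) : c x ≠ 0 := by
  intro h0
  obtain ⟨y, hy⟩ : ∃ y : X, y ≠ x := by
    have := h.two
    exact Fintype.exists_ne_of_one_lt_card (by omega) x
  have h1 := h.fc y x
  rw [h0, map_zero, if_neg hy] at h1
  revert h1; decide

theorem TvF.ker (v : V) : Psi f v = 0 ↔ v ∈ fx V (Subgroup.closure (Set.range t)) := by
  constructor
  · intro h0
    have h1 : ∀ x, f x v = 0 := by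
      intro x
      rw [f_eq, h0]
      simp
    have h2 : Subgroup.closure (Set.range t) ≤ MulAction.stabilizer H v := by
      rw [Subgroup.closure_le]
      rintro _ ⟨x, rfl⟩
      show t x • v = v
      rw [h.act, h1, zero_smul, add_zero]
    intro g hg
    exact h2 hg
  · intro h0
    have h1 : ∀ x, f x v = 0 := by
      intro x
      have h2 := h0 (t x) (Subgroup.subset_closure ⟨x, rfl⟩)
      rw [h.act] at h2
      have h3 : f x v • c x = 0 := by
        have := add_eq_left.1 h2
        exact this
      rcases (by generalize f x v = b; revert b; decide : f x v = 0 ∨ f x v = 1) with h4 | h4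
      · exact h4
      · rw [h4, one_smul] at h3
        exact absurd h3 (h.c_ne x)
    funext i
    rcases i with _ | i
    · rw [Psi_none]; simp [h1]
    · rw [Psi_some]; simp [h1]

theorem TvF.exists_perm {g : H} (hg : g ∈ Subgroup.closure (Set.range t)) :
    ∃ σ : Perm (Option X), ∀ v i, Psi f (g • v) i = Psi f v (σ⁻¹ i) := by
  induction hg using Subgroup.closure_induction with
  | mem x hx =>
    obtain ⟨x, rfl⟩ := hx
    refine ⟨swap none (some x), fun v i => ?_⟩
    rw [Equiv.swap_inv, h.Psi_act]
  | one => exact ⟨1, fun v i => by rw [one_smul, inv_one, Perm.one_apply]⟩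
  | mul x y hx hy ihx ihy =>
    obtain ⟨σ, hσ⟩ := ihx
    obtain ⟨τ, hτ⟩ := ihy
    refine ⟨σ * τ, fun v i => ?_⟩
    rw [mul_smul, hσ, hτ, mul_inv_rev, Perm.mul_apply]
  | inv x hx ih =>
    obtain ⟨σ, hσ⟩ := ih
    refine ⟨σ⁻¹, fun v i => ?_⟩
    have h1 := hσ (x⁻¹ • v) (σ i)
    rw [smul_inv_smul, show σ⁻¹ (σ i) = i from σ.symm_apply_apply i] at h1
    rw [← h1, inv_inv]

theorem TvF.card_option : 2 < Fintype.card (Option X) := by
  rw [Fintype.card_option]
  have := h.two
  omega

/-- the span of the centres -/
theorem TvF.decomp (v : V) : ∃ a : X → ZMod 2, v - ∑ y, a y • c y ∈ fx V (Subgroup.closure (Set.range t)) := by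
  obtain ⟨a, ha⟩ := h.f_surj (fun x => f x v)
  refine ⟨a, ?_⟩
  rw [← h.ker]
  funext i
  have h1 : ∀ x, f x (v - ∑ y, a y • c y) = 0 := by
    intro x
    rw [map_sub, ha, sub_self]
  rcases i with _ | i
  · rw [Psi_none]; simp only [h1]; simp
  · rw [Psi_some]; simp only [h1]; simp

theorem TvF.inj (faith : ∀ g : H, (∀ v : V, g • v = v) → g = 1) {g : H} (hg : g ∈ Subgroup.closure (Set.range t))
    (h1 : ∀ v, Psi f (g • v) = Psi f v) : g = 1 := by
  -- `g` stabilizes the span of the centres
  have hspan : ∀ a : X → ZMod 2, ∃ b : X → ZMod 2, g • (∑ y, a y • c y) = ∑ y, b y • c y := by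
    clear h1
    induction hg using Subgroup.closure_induction with
    | mem x hx =>
      obtain ⟨x, rfl⟩ := hx
      intro a
      refine ⟨fun y => a y + if y = x then f x (∑ y, a y • c y) else 0, ?_⟩
      rw [h.act]
      simp only [add_smul, Finset.sum_add_distrib]
      congr 1
      simp only [ite_smul, zero_smul]
      rw [Finset.sum_ite_eq' Finset.univ x, if_pos (Finset.mem_univ _)]
    | one => exact fun a => ⟨a, one_smul _ _⟩
    | mul x y hx hy ihx ihy =>
      intro a
      obtain ⟨b, hb⟩ := ihy a
      obtain ⟨d, hd⟩ := ihx b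
      exact ⟨d, by rw [mul_smul, hb, hd]⟩
    | inv x hx ih =>
      intro a
      -- finite: use injectivity on coefficient functions
      choose φ hφ using ih
      have hinj : Function.Injective φ := by
        intro a b hab
        have h2 : x • (∑ y, a y • c y) = x • (∑ y, b y • c y) := by rw [hφ, hφ, hab]
        have h3 := smul_left_cancel x h2
        have h4 : ∀ z, ∑ y, a y + a z = ∑ y, b y + b z := by
          intro z
          rw [← h.f_sum a z, ← h.f_sum b z, h3]
        have h5 : ∑ y, a y = ∑ y, b y := by
          have h6 : ∑ z, (∑ y, a y + a z) = ∑ z, (∑ y, b y + b z) := Finset.sum_congr rfl fun z _ => h4 z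
          rw [Finset.sum_add_distrib, Finset.sum_add_distrib, Finset.sum_const, Finset.sum_const, Finset.card_univ,
            even_smul' h.even, even_smul' h.even, zero_add, zero_add] at h6
          exact h6
        funext z
        have h6 := h4 z
        rw [h5] at h6
        exact add_left_cancel h6
      have hsurj : Function.Surjective φ := Finite.surjective_of_injective hinj
      obtain ⟨b, hb⟩ := hsurj a
      refine ⟨b, ?_⟩
      rw [inv_smul_eq_iff, hφ, hb]
  have hfix : ∀ a : X → ZMod 2, g • (∑ y, a y • c y) = ∑ y, a y • c y := by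
    intro a
    obtain ⟨b, hb⟩ := hspan a
    have h2 := h1 (∑ y, a y • c y)
    rw [hb] at h2 ⊢
    have h3 : ∀ z, ∑ y, b y + b z = ∑ y, a y + a z := by
      intro z
      rw [← h.f_sum b z, ← h.f_sum a z, f_eq, f_eq, h2]
    have h5 : ∑ y, b y = ∑ y, a y := by
      have h6 : ∑ z, (∑ y, b y + b z) = ∑ z, (∑ y, a y + a z) := Finset.sum_congr rfl fun z _ => h3 z
      rw [Finset.sum_add_distrib, Finset.sum_add_distrib, Finset.sum_const, Finset.sum_const, Finset.card_univ,
        even_smul' h.even, even_smul' h.even, zero_add, zero_add] at h6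
      exact h6
    have h7 : b = a := by
      funext z
      have h6 := h3 z
      rw [h5] at h6
      exact add_left_cancel h6
    rw [h7]
  apply faith
  intro v
  obtain ⟨a, ha⟩ := h.decomp v
  have h2 := ha g hg
  rw [smul_sub, hfix] at h2
  exact sub_left_injective h2

/-- **the symmetric groups** -/
theorem TvF.main (faith : ∀ g : H, (∀ v : V, g • v = v) → g = 1) :
    ∃ (ρ : ↥(Subgroup.closure (Set.range t)) ≃* Perm (Option X)) (Ψ : V →+ (Option X → ZMod 2)),
      (∀ v, ∑ i, Ψ v i = 0) ∧ (∀ w : Option X → ZMod 2, ∑ i, w i = 0 → ∃ v, Ψ v = w) ∧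
      (∀ v, Ψ v = 0 ↔ v ∈ fx V (Subgroup.closure (Set.range t))) ∧
      ∀ (g : ↥(Subgroup.closure (Set.range t))) (v : V) (i : Option X), Ψ (g • v) i = Ψ v ((ρ g)⁻¹ i) := by
  have hex : ∀ g : ↥(Subgroup.closure (Set.range t)), ∃ σ : Perm (Option X), ∀ v i, Psi f ((g : H) • v) i =
      Psi f v (σ⁻¹ i) := fun g => h.exists_perm g.2
  choose ρ hρ using hex
  have huniq : ∀ (g : ↥(Subgroup.closure (Set.range t))) (σ : Perm (Option X)), (∀ v i, Psi f ((g : H) • v) i =
      Psi f v (σ⁻¹ i)) → ρ g = σ := by
    intro g σ hσ
    apply perm_unique h.card_option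
    intro w hw i
    obtain ⟨v, rfl⟩ := h.surj w hw
    rw [← hρ, hσ]
  let ρ' : ↥(Subgroup.closure (Set.range t)) →* Perm (Option X) := MonoidHom.mk' ρ (by
    intro a b
    apply huniq
    intro v i
    rw [Subgroup.coe_mul, mul_smul, hρ, hρ, mul_inv_rev, Perm.mul_apply])
  have hinj : Function.Injective ρ' := by
    rw [injective_iff_map_eq_one]
    intro g hg
    apply Subtype.ext
    apply h.inj faith g.2
    intro v
    funext i
    have hg' : ρ g = 1 := hg
    rw [hρ, hg', inv_one, Perm.one_apply]
  have hsurj : Function.Surjective ρ' := by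
    rw [← MonoidHom.range_eq_top]
    apply perm_top
    intro x
    refine ⟨⟨t x, Subgroup.subset_closure ⟨x, rfl⟩⟩, ?_⟩
    apply huniq
    intro v i
    rw [Equiv.swap_inv]
    exact h.Psi_act x v i
  exact ⟨MulEquiv.ofBijective ρ' ⟨hinj, hsurj⟩, Psi f, h.sum_Psi, h.surj, h.ker, fun g v i => hρ g v i⟩

end main

end H53.FS
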