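import Cfsg.Agent.Lib.H53.FS11
import Cfsg.Agent.Lib.H53.FS12

/-!
Offenders of order two: transvections.
-/

set_option autoImplicit false

namespace H53.FS

open Subgroup H53.PU
open H52.Syl (SylIn exists_sylIn_le sylIn_of_max)
open H51.FF (Off At cg mem_cg card_cg mem_fx_cg card_fx_cg Off.cg At.cg Off.ne Sp card_le V_le Int' int_inj cg_cg cg_one
  cg_sup cg_top Sp.sup_top Sp.exists_add Sp.cover PM)

theorem zcases (z : ZMod 2) : z = 0 ∨ z = 1 := by revert z; decide

section tv

variable {H V : Type*} [Group H] [AddCommGroup V] [DistribMulAction H V] [Module (ZMod 2) V]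

theorem vadd (v : V) : v + v = 0 := by
  have h1 : ((1 : ZMod 2) + 1) • v = v + v := by rw [add_smul, one_smul]
  rw [← h1, show (1 : ZMod 2) + 1 = 0 by decide, zero_smul]

omit [AddCommGroup V] [DistribMulAction H V] [Module (ZMod 2) V] in
theorem smul_z [AddCommGroup V] [DistribMulAction H V] [Module (ZMod 2) V] (g : H) (z : ZMod 2) (v : V) :
    g • (z • v) = z • (g • v) := by
  rcases zcases z with h | h
  · rw [h, zero_smul, zero_smul, smul_zero]
  · rw [h, one_smul, one_smul]

theorem mem_fx_zp {a : H} {v : V} : v ∈ fx V (zpowers a) ↔ a • v = v := by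
  constructor
  · intro h
    exact h a (mem_zpowers a)
  · intro h
    have h1 : zpowers a ≤ MulAction.stabilizer H v := by
      rw [zpowers_le]; exact h
    exact fun g hg => h1 hg

/-- fixed points of index two give a transvection -/
theorem exists_tv [Finite V] {a : H} (h : Nat.card V = 2 * Nat.card (fx V (zpowers a))) :
    ∃ (f : V →+ ZMod 2) (c : V), c ≠ 0 ∧ ∀ v, a • v = v + f v • c := by
  classical
  set W := fx V (zpowers a) with hW
  have hidx : W.index = 2 := by
    have h1 := W.card_mul_index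
    rw [h, mul_comm] at h1
    exact Nat.eq_of_mul_eq_mul_right Nat.card_pos h1
  have hadd : ∀ v w : V, v + w ∈ W ↔ (v ∈ W ↔ w ∈ W) := fun v w => AddSubgroup.add_mem_iff_of_index_two hidx
  let f : V →+ ZMod 2 :=
    { toFun := fun v => if v ∈ W then 0 else 1
      map_zero' := by rw [if_pos W.zero_mem]
      map_add' := by
        intro v w
        have h1 := hadd v w
        by_cases hv : v ∈ W <;> by_cases hw : w ∈ W
        · rw [if_pos (h1.2 (iff_of_true hv hw)), if_pos hv, if_pos hw, add_zero]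
        · rw [if_neg (fun h => hw ((h1.1 h).1 hv)), if_pos hv, if_neg hw, zero_add]
        · rw [if_neg (fun h => hv ((h1.1 h).2 hw)), if_neg hv, if_pos hw, add_zero]
        · rw [if_pos (h1.2 (iff_of_false hv hw)), if_neg hv, if_neg hw]
          decide }
  have hf : ∀ v, f v = if v ∈ W then 0 else 1 := fun v => rfl
  obtain ⟨v0, hv0⟩ : ∃ v0, v0 ∉ W := by
    by_contra hcon
    push Not at hcon
    have h1 : W = ⊤ := by rw [eq_top_iff]; exact fun v _ => hcon v
    rw [h1, AddSubgroup.index_top] at hidx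
    omega
  refine ⟨f, a • v0 - v0, ?_, ?_⟩
  · intro h1
    apply hv0
    rw [hW, mem_fx_zp]
    exact sub_eq_zero.1 h1
  · intro v
    rw [hf]
    by_cases hv : v ∈ W
    · rw [if_pos hv, zero_smul, add_zero]
      exact mem_fx_zp.1 hv
    · rw [if_neg hv, one_smul]
      have h1 : v + v0 ∈ W := (hadd v v0).2 (iff_of_false hv hv0)
      have h2 := mem_fx_zp.1 h1
      rw [smul_add] at h2
      have h3 : a • v = v + v0 - a • v0 := by rw [← h2]; abel
      rw [h3]
      have h4 := vadd (a • v0 - v0)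
      have h5 : v0 - a • v0 = a • v0 - v0 := by
        have : v0 - a • v0 = -(a • v0 - v0) := by abel
        rw [this, neg_eq_iff_add_eq_zero]
        exact h4
      rw [add_sub_assoc, h5]

/-- transvections -/
structure TD (f : H → V →+ ZMod 2) (c : H → V) (D : Set H) : Prop where
  faith : ∀ g : H, (∀ v : V, g • v = v) → g = 1
  act : ∀ a ∈ D, ∀ v, a • v = v + f a v • c a
  cne : ∀ a ∈ D, c a ≠ 0
  ne : ∀ a ∈ D, a ≠ 1
  conj : ∀ a ∈ D, ∀ g, g * a * g⁻¹ ∈ D
  comm : ∀ a ∈ D, ∀ b ∈ D, f a (c b) = 0 ↔ a * b = b * a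

variable {f : H → V →+ ZMod 2} {c : H → V} {D : Set H} (td : TD f c D)

include td

theorem TD.exists_one {a : H} (ha : a ∈ D) : ∃ v, f a v = 1 := by
  by_contra hcon
  push Not at hcon
  apply td.ne a ha
  apply td.faith
  intro v
  rw [td.act a ha, (zcases _).resolve_right (hcon v), zero_smul, add_zero]

theorem TD.self {a : H} (ha : a ∈ D) : f a (c a) = 0 := (td.comm a ha a ha).2 rfl

theorem TD.sym {a b : H} (ha : a ∈ D) (hb : b ∈ D) : f a (c b) = f b (c a) := by
  rcases zcases (f a (c b)) with h | h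
  · rw [h]
    symm
    rw [td.comm b hb a ha]
    exact ((td.comm a ha b hb).1 h).symm
  · rcases zcases (f b (c a)) with h' | h'
    · exfalso
      have h2 := (td.comm b hb a ha).1 h'
      rw [(td.comm a ha b hb).2 h2.symm] at h
      revert h; decide
    · rw [h, h']

theorem TD.sq {a : H} (ha : a ∈ D) : a * a = 1 := by
  apply td.faith
  intro v
  rw [mul_smul, td.act a ha v, smul_add, smul_z, td.act a ha v, td.act a ha (c a), td.self ha, zero_smul, add_zero, add_assoc,
    vadd, add_zero]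

theorem TD.inv {a : H} (ha : a ∈ D) : a⁻¹ = a := inv_eq_of_mul_eq_one_left (td.sq ha)

theorem TD.conj_eq {a : H} (ha : a ∈ D) (g : H) : c (g * a * g⁻¹) = g • c a ∧ ∀ v, f (g * a * g⁻¹) v = f a (g⁻¹ • v) := by
  have ha' := td.conj a ha g
  have key : ∀ v, f (g * a * g⁻¹) v • c (g * a * g⁻¹) = f a (g⁻¹ • v) • (g • c a) := by
    intro v
    have h1 := td.act _ ha' v
    rw [mul_smul, mul_smul, td.act a ha, smul_add, smul_inv_smul, smul_z] at h1
    exact (add_left_cancel h1).symm
  have h0 : g • c a ≠ 0 := by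
    rw [Ne, smul_eq_zero_iff_eq]
    exact td.cne a ha
  obtain ⟨v, hv⟩ := td.exists_one ha
  have h2 : c (g * a * g⁻¹) = g • c a := by
    have h3 := key (g • v)
    rw [inv_smul_smul, hv, one_smul] at h3
    rcases zcases (f (g * a * g⁻¹) (g • v)) with h4 | h4
    · rw [h4, zero_smul] at h3
      exact absurd h3.symm h0
    · rw [h4, one_smul] at h3
      exact h3
  refine ⟨h2, fun w => ?_⟩
  have h3 := key w
  rw [h2] at h3
  rcases zcases (f (g * a * g⁻¹) w) with h4 | h4 <;> rcases zcases (f a (g⁻¹ • w)) with h5 | h5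
  · rw [h4, h5]
  · rw [h4, h5, zero_smul, one_smul] at h3
    exact absurd h3.symm h0
  · rw [h4, h5, zero_smul, one_smul] at h3
    exact absurd h3 h0
  · rw [h4, h5]

/-- equal data -/
theorem TD.eq_of {a b : H} (ha : a ∈ D) (hb : b ∈ D) (hc : c a = c b) (hf : ∀ v, f a v = f b v) : a = b := by
  have h1 : a⁻¹ * b = 1 := by
    apply td.faith
    intro v
    rw [mul_smul, inv_smul_eq_iff, td.act a ha, td.act b hb, hc, hf]
  exact inv_mul_eq_one.1 h1

theorem TD.braid {a b : H} (ha : a ∈ D) (hb : b ∈ D) (h : f a (c b) = 1) : a * b * a⁻¹ = b * a * b⁻¹ := by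
  have h' : f b (c a) = 1 := by rw [td.sym hb ha]; exact h
  obtain ⟨h1, h2⟩ := td.conj_eq hb a
  obtain ⟨h3, h4⟩ := td.conj_eq ha b
  apply td.eq_of (td.conj b hb a) (td.conj a ha b)
  · rw [h1, h3, td.act a ha, td.act b hb, h, h', one_smul, one_smul, add_comm]
  · intro v
    rw [h2, h4, td.inv ha, td.inv hb, td.act a ha, td.act b hb, map_add, map_add]
    rcases zcases (f a v) with h5 | h5 <;> rcases zcases (f b v) with h6 | h6 <;>
      simp [h5, h6, h, h']

theorem TD.step {t x : H} (ht : t ∈ D) (hx : x ∈ D) (h : f x (c t) = 1) : ∃ t' ∈ D, c t' = c t + c x := by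
  refine ⟨x * t * x⁻¹, td.conj t ht x, ?_⟩
  rw [(td.conj_eq ht x).1, td.act x hx, h, one_smul]

/-- the `E₆` word -/
theorem TD.e6 {i j k bi bj bk : H} (hi : i ∈ D) (hj : j ∈ D) (hk : k ∈ D) (hbi : bi ∈ D) (hbj : bj ∈ D) (hbk : bk ∈ D)
    (h1 : f i (c bi) = 1) (h2 : f j (c bj) = 1) (h3 : f k (c bk) = 1) (h4 : f bi (c bj) = 1) (h5 : f bj (c bk) = 1)
    (h6 : f bi (c bk) = 0) (h7 : f i (c j) = 0) (h8 : f j (c k) = 0) (h9 : f i (c k) = 0)
    (g1 : f i (c bj) = 0) (g2 : f i (c bk) = 0) (g3 : f j (c bi) = 0) (g4 : f j (c bk) = 0) (g5 : f k (c bi) = 0)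
    (g6 : f k (c bj) = 0) : ∃ t ∈ D, c t = c i + c j + c k := by
  have s1 := (td.sym hbi hi).trans h1
  have s2 := (td.sym hbj hj).trans h2
  have s3 := (td.sym hbk hk).trans h3
  have s4 := (td.sym hbj hbi).trans h4
  have s5 := (td.sym hbk hbj).trans h5
  have s6 := (td.sym hbk hbi).trans h6
  have s7 := (td.sym hj hi).trans h7
  have s8 := (td.sym hk hj).trans h8
  have s9 := (td.sym hk hi).trans h9
  have q1 := (td.sym hbj hi).trans g1
  have q2 := (td.sym hbk hi).trans g2
  have q3 := (td.sym hbi hj).trans g3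
  have q4 := (td.sym hbk hj).trans g4
  have q5 := (td.sym hbi hk).trans g5
  have q6 := (td.sym hbj hk).trans g6
  have e1 := td.self hbi
  have e2 := td.self hbj
  have e3 := td.self hbk
  have two : (1 : ZMod 2) + 1 = 0 := by decide
  obtain ⟨t1, ht1, c1⟩ := td.step hbj hj h2
  obtain ⟨t2, ht2, c2⟩ := td.step ht1 hbi (by rw [c1, map_add, h4, q3, add_zero])
  obtain ⟨t3, ht3, c3⟩ := td.step ht2 hi (by rw [c2, c1, map_add, map_add, g1, h7, h1]; decide)
  obtain ⟨t4, ht4, c4⟩ := td.step ht3 hbk (by rw [c3, c2, c1, map_add, map_add, map_add, s5, q4, s6, q2]; decide)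
  obtain ⟨t5, ht5, c5⟩ := td.step ht4 hk (by
    rw [c4, c3, c2, c1, map_add, map_add, map_add, map_add, g6, s8, g5, s9, h3]; decide)
  obtain ⟨t6, ht6, c6⟩ := td.step ht5 hbj (by
    rw [c5, c4, c3, c2, c1, map_add, map_add, map_add, map_add, map_add, e2, s2, s4, q1, h5, q6]; decide)
  obtain ⟨t7, ht7, c7⟩ := td.step ht6 hbi (by
    rw [c6, c5, c4, c3, c2, c1, map_add, map_add, map_add, map_add, map_add, map_add, h4, q3, e1, s1, h6, q5]; decide)
  obtain ⟨t8, ht8, c8⟩ := td.step ht7 hbk (by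
    rw [c7, c6, c5, c4, c3, c2, c1, map_add, map_add, map_add, map_add, map_add, map_add, map_add, s5, q4, s6, q2, e3, s3]
    decide)
  refine ⟨t8, ht8, ?_⟩
  rw [c8, c7, c6, c5, c4, c3, c2, c1]
  have v1 := vadd (c bi)
  have v2 := vadd (c bj)
  have v3 := vadd (c bk)
  calc c bj + c j + c bi + c i + c bk + c k + c bj + c bi + c bk =
      c i + c j + c k + (c bi + c bi) + (c bj + c bj) + (c bk + c bk) := by abel
    _ = c i + c j + c k := by rw [v1, v2, v3, add_zero, add_zero, add_zero]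

end tv

section

variable {p : ℕ} [hp : Fact p.Prime] {H V : Type*} [Group H] [Finite H] [AddCommGroup V] [Finite V]
  [DistribMulAction H V] [Module (ZMod 2) V]

/-- the transvections -/
def Dt (p : ℕ) {H : Type*} (V : Type*) [Group H] [AddCommGroup V] [DistribMulAction H V] : Set H :=
  {a | a ≠ 1 ∧ zpowers a ∈ (Sg p 2 V : Set (Subgroup H))}

omit [Finite H] [Finite V] hp [Module (ZMod 2) V] in
theorem zp_of_Sg {E : Subgroup H} (hE : E ∈ (Sg p 2 V : Set (Subgroup H))) : ∃ a ∈ Dt p V, E = zpowers a := by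
  obtain ⟨a, ha, ha1⟩ := hE.1.ne (by norm_num)
  have hfin : Finite E := Nat.finite_of_card_ne_zero (by rw [hE.1.card]; norm_num)
  have h1 : zpowers a ≤ E := by rw [zpowers_le]; exact ha
  have h2 : zpowers a = E := by
    apply Subgroup.eq_of_le_of_card_ge h1
    rw [hE.1.card]
    have hfin' : Finite (zpowers a) := Finite.of_injective _ (Subgroup.inclusion_injective h1)
    have h3 : 1 < Nat.card (zpowers a) := by
      rw [Subgroup.one_lt_card_iff_ne_bot]
      intro h
      rw [zpowers_eq_bot] at h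
      exact ha1 h
    exact h3
  exact ⟨a, ⟨ha1, by rw [h2]; exact hE⟩, h2.symm⟩

omit [Module (ZMod 2) V] in
theorem exists_TD [Module (ZMod 2) V] (pz : ∀ v : V, p • v = 0) (faith : ∀ g : H, (∀ v : V, g • v = v) → g = 1) (mx : Mx p H V) :
    ∃ (f : H → V →+ ZMod 2) (c : H → V), TD f c (Dt p V : Set H) := by
  classical
  have hex : ∀ a : H, ∃ (f : V →+ ZMod 2) (c : V), a ∈ (Dt p V : Set H) → c ≠ 0 ∧ ∀ v, a • v = v + f v • c := by
    intro a
    by_cases ha : a ∈ (Dt p V : Set H)
    · obtain ⟨f, c, h1, h2⟩ := exists_tv (a := a) (Sg.cardV mx ha.2)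
      exact ⟨f, c, fun _ => ⟨h1, h2⟩⟩
    · exact ⟨0, 0, fun h => absurd h ha⟩
  choose f c hfc using hex
  have hconj : ∀ a ∈ (Dt p V : Set H), ∀ g, g * a * g⁻¹ ∈ (Dt p V : Set H) := by
    rintro a ⟨ha1, ha⟩ g
    refine ⟨?_, ?_⟩
    · intro h
      apply ha1
      have e : a = g⁻¹ * (g * a * g⁻¹) * g := by group
      rw [e, h]; group
    · have h1 := Sg.conj ha g
      have h2 : cg g (zpowers a) = zpowers (g * a * g⁻¹) := by
        show (zpowers a).map _ = _
        rw [MonoidHom.map_zpowers]; rfl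
      rwa [h2] at h1
  have hcomm1 : ∀ a ∈ (Dt p V : Set H), ∀ b ∈ (Dt p V : Set H), a * b = b * a → f a (c b) = 0 := by
    intro a ha b hb hab
    -- `c b = b • v - v`
    obtain ⟨v, hv⟩ : ∃ v, f b v = 1 := by
      by_contra hcon
      push Not at hcon
      apply hb.1
      apply faith
      intro v
      rw [(hfc b hb).2, (zcases _).resolve_right (hcon v), zero_smul, add_zero]
    have h1 : c b = b • v - v := by rw [(hfc b hb).2, hv, one_smul]; abel
    have h2 : a • c b = f b (a • v) • c b := by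
      rw [h1, smul_sub, ← mul_smul, hab, mul_smul, (hfc b hb).2 (a • v), ← h1]; abel
    rcases zcases (f b (a • v)) with h3 | h3
    · rw [h3, zero_smul] at h2
      exact absurd ((smul_eq_zero_iff_eq a).1 h2) (hfc b hb).1
    · rw [h3, one_smul, (hfc a ha).2] at h2
      have h4 := add_eq_left.1 h2
      rcases zcases (f a (c b)) with h5 | h5
      · exact h5
      · rw [h5, one_smul] at h4
        exact absurd h4 (hfc a ha).1
  have hcomm2 : ∀ a ∈ (Dt p V : Set H), ∀ b ∈ (Dt p V : Set H), f a (c b) = 0 → a * b = b * a := by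
    intro a ha b hb hab
    have hself : ∀ x ∈ (Dt p V : Set H), f x (c x) = 0 := fun x hx => hcomm1 x hx x hx rfl
    -- `b` and its conjugate under `a` commute
    have h1 : b * (a * b * a⁻¹) = (a * b * a⁻¹) * b := by
      have h2 : ∀ v, (a * b * a⁻¹) • v = v + f b (a⁻¹ • v) • c b := by
        intro v
        rw [mul_smul, mul_smul, (hfc b hb).2, smul_add, smul_inv_smul, smul_z, (hfc a ha).2 (c b), hab, zero_smul, add_zero]
      obtain ⟨x, hx⟩ : ∃ x, x = a * b * a⁻¹ := ⟨_, rfl⟩
      rw [← hx] at h2 ⊢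
      have h3 : (b * x)⁻¹ * (x * b) = 1 := by
        apply faith
        intro v
        have h4 : a⁻¹ • c b = c b := by
          rw [inv_smul_eq_iff, (hfc a ha).2, hab, zero_smul, add_zero]
        rw [mul_smul, inv_smul_eq_iff, mul_smul, mul_smul, h2, h2, (hfc b hb).2 v, (hfc b hb).2 (v + _), smul_add, map_add,
          map_add]
        have h5 : ∀ z : ZMod 2, f b (z • c b) = 0 := by
          intro z
          rcases zcases z with hz | hz
          · rw [hz, zero_smul, map_zero]
          · rw [hz, one_smul]; exact hself b hb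
        rw [smul_z, h4, h5, h5, add_zero, add_zero]
        abel
      exact inv_mul_eq_one.1 h3
    set A := zpowers a with hA
    set B := zpowers b with hB
    have h2 : cg a B = zpowers (a * b * a⁻¹) := by
      show (zpowers b).map _ = _
      rw [MonoidHom.map_zpowers]; rfl
    have hBB : ∀ x ∈ B, ∀ y ∈ cg a B, x * y = y * x := by
      intro x hx y hy
      rw [h2] at hy
      obtain ⟨m, rfl⟩ := mem_zpowers_iff.1 hx
      obtain ⟨n, rfl⟩ := mem_zpowers_iff.1 hy
      exact (Commute.zpow_zpow (show Commute b (a * b * a⁻¹) from h1) m n)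
    have hBs : B ∈ (Sg p 2 V : Set (Subgroup H)) := hb.2
    have hBs' : cg a B ∈ (Sg p 2 V : Set (Subgroup H)) := Sg.conj hBs a
    obtain ⟨h3, _⟩ := sup_comm_pgroup hBs.1.pg hBs'.1.pg hBs.1.comm hBs'.1.comm hBB
    have haa : a * a = 1 := by
      apply faith
      intro v
      rw [mul_smul, (hfc a ha).2 v, smul_add, smul_z, (hfc a ha).2 v, (hfc a ha).2 (c a), hself a ha, zero_smul, add_zero,
        add_assoc, vadd, add_zero]
    have h4 : A ≤ normalizer ((B ⊔ cg a B : Subgroup H) : Set H) := by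
      rw [hA, zpowers_le, mem_norm, cg_sup, cg_cg, haa, cg_one, sup_comm]
    have h5 : IsPGroup p ↥(A ⊔ (B ⊔ cg a B)) := (ha.2.1.pg).to_sup_of_normal_right' h3 h4
    exact Sg.comm_le (by norm_num) pz faith mx ha.2 hb.2 h5 le_sup_left (le_sup_left.trans le_sup_right) a (mem_zpowers a) b
      (mem_zpowers b)
  exact ⟨f, c, faith, fun a ha => (hfc a ha).2, fun a ha => (hfc a ha).1, fun a ha => ha.1, hconj,
    fun a ha b hb => ⟨hcomm2 a ha b hb, hcomm1 a ha b hb⟩⟩

end

end H53.FS
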