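import Cfsg.Agent.Lib.H53.FS13

/-!
Offenders of order two: the classes.
-/

set_option autoImplicit false

namespace H53.FS

open Subgroup H53.PU
open H52.Syl (SylIn exists_sylIn_le sylIn_of_max)
open H51.FF (Off At cg mem_cg card_cg mem_fx_cg card_fx_cg Off.cg At.cg Off.ne Sp card_le V_le Int' int_inj cg_cg cg_one
  cg_sup cg_top Sp.sup_top Sp.exists_add Sp.cover PM)

/-- the configuration for `q = 2` -/
structure Q2 {H : Type*} {V : Type*} [Group H] [AddCommGroup V] [DistribMulAction H V] [Module (ZMod 2) V]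
    (f : H → V →+ ZMod 2) (c : H → V) (D : Set H) (T : Subgroup H) (L : H → Subgroup H) (b : H → H) : Prop where
  td : TD f c D
  ne : ∃ a ∈ D, a ∈ T
  pT : IsPGroup 2 T
  commT : ∀ a ∈ D, a ∈ T → ∀ a' ∈ D, a' ∈ T → a * a' = a' * a
  /-- commuting with all members in `T` -/
  mem : ∀ t ∈ D, (∀ a ∈ D, a ∈ T → t * a = a * t) → t ∈ T
  bD : ∀ a ∈ D, a ∈ T → b a ∈ D
  Lab : ∀ a ∈ D, a ∈ T → L a = zpowers a ⊔ zpowers (b a)
  ab : ∀ a ∈ D, a ∈ T → f a (c (b a)) = 1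
  comm : ∀ a ∈ D, a ∈ T → ∀ a' ∈ D, a' ∈ T → a' ≠ a → ∀ l ∈ L a, l * a' = a' * l
  orb : ∀ a ∈ D, a ∈ T → ∀ a' ∈ D, a' ∈ T → ∃ t ∈ T, t * a * t⁻¹ = a'
  eqv : ∀ t ∈ T, ∀ a ∈ D, a ∈ T → L (t * a * t⁻¹) = cg t (L a)
  top : ∀ a ∈ D, a ∈ T → T ⊔ L a = ⊤

section

variable {H V : Type*} [Group H] [AddCommGroup V] [DistribMulAction H V] [Module (ZMod 2) V]
  {f : H → V →+ ZMod 2} {c : H → V} {D : Set H} {T : Subgroup H} {L : H → Subgroup H} {b : H → H} (Q : Q2 f c D T L b)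

/-- the relation -/
def Rel (L : H → Subgroup H) (a a' : H) : Prop := a = a' ∨ ¬ ∀ x ∈ L a, ∀ y ∈ L a', x * y = y * x

/-- the class of `a` -/
def Kl (D : Set H) (T : Subgroup H) (L : H → Subgroup H) (a : H) : Set H := {a' | a' ∈ D ∧ a' ∈ T ∧ Rel L a a'}

/-- the component of `a` -/
def EE (D : Set H) (T : Subgroup H) (L : H → Subgroup H) (a : H) : Subgroup H := ⨆ a' ∈ Kl D T L a, L a'

omit [AddCommGroup V] [DistribMulAction H V] [Module (ZMod 2) V] in
theorem Rel.symm {a a' : H} (h : Rel L a a') : Rel L a' a := by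
  rcases h with h | h
  · exact Or.inl h.symm
  · exact Or.inr fun h' => h fun x hx y hy => (h' y hy x hx).symm

omit [AddCommGroup V] [DistribMulAction H V] [Module (ZMod 2) V] in
theorem comm_zp_sup {a b x : H} (h1 : x * a = a * x) (h2 : x * b = b * x) : ∀ l ∈ zpowers a ⊔ zpowers b, x * l = l * x := by
  have h : zpowers a ⊔ zpowers b ≤ centralizer {x} := by
    apply sup_le <;> rw [zpowers_le, mem_centralizer_singleton_iff]
    · exact h1.symm
    · exact h2.symm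
  intro l hl
  have := h hl
  rw [mem_centralizer_singleton_iff] at this
  exact this.symm

omit [Module (ZMod 2) V] in
/-- the moved subgroup -/
theorem moves_closure {W : AddSubgroup V} {K : Subgroup H} {S : Set (Subgroup H)} (hK : K = sSup S)
    (h : ∀ X ∈ S, ∀ x ∈ X, ∀ v : V, x • v - v ∈ W) : ∀ x ∈ K, ∀ v : V, x • v - v ∈ W := by
  let N : Subgroup H :=
    { carrier := {x | ∀ v : V, x • v - v ∈ W}
      one_mem' := fun v => by rw [one_smul, sub_self]; exact W.zero_mem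
      mul_mem' := by
        intro x y hx hy v
        have e : (x * y) • v - v = (x • (y • v) - y • v) + (y • v - v) := by rw [mul_smul]; abel
        rw [e]
        exact W.add_mem (hx _) (hy _)
      inv_mem' := by
        intro x hx v
        have h1 := hx (x⁻¹ • v)
        rw [smul_inv_smul] at h1
        have e : x⁻¹ • v - v = -(v - x⁻¹ • v) := by abel
        rw [e]
        exact W.neg_mem h1 }
  have h1 : K ≤ N := by
    rw [hK]
    exact sSup_le fun X hX x hx => h X hX x hx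
  exact fun x hx => h1 hx

include Q

theorem Q2.aL {a : H} (ha : a ∈ D) (haT : a ∈ T) : a ∈ L a := by
  rw [Q.Lab a ha haT]; exact mem_sup_left (mem_zpowers a)

theorem Q2.bL {a : H} (ha : a ∈ D) (haT : a ∈ T) : b a ∈ L a := by
  rw [Q.Lab a ha haT]; exact mem_sup_right (mem_zpowers _)

theorem Q2.rel_iff {a a' : H} (ha : a ∈ D) (haT : a ∈ T) (ha' : a' ∈ D) (ha'T : a' ∈ T) (hne : a ≠ a') :
    Rel L a a' ↔ f (b a) (c (b a')) = 1 := by
  constructor
  · rintro (h | h)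
    · exact absurd h hne
    · rcases zcases (f (b a) (c (b a'))) with h1 | h1
      · exfalso
        apply h
        have h2 := (Q.td.comm _ (Q.bD a ha haT) _ (Q.bD a' ha' ha'T)).1 h1
        have h3 : ∀ l ∈ L a', b a * l = l * b a := by
          rw [Q.Lab a' ha' ha'T]
          exact comm_zp_sup (Q.comm a ha haT a' ha' ha'T (Ne.symm hne) _ (Q.bL ha haT)) h2
        have h4 : ∀ l ∈ L a', a * l = l * a := fun l hl => (Q.comm a' ha' ha'T a ha haT hne l hl).symm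
        intro x hx y hy
        rw [Q.Lab a ha haT] at hx
        exact (comm_zp_sup (h4 y hy).symm (h3 y hy).symm x hx).symm
      · exact h1
  · intro h
    right
    intro h1
    have h2 := h1 _ (Q.bL ha haT) _ (Q.bL ha' ha'T)
    rw [(Q.td.comm _ (Q.bD a ha haT) _ (Q.bD a' ha' ha'T)).2 h2] at h
    revert h; decide

/-- values of the form -/
theorem Q2.aa {a a' : H} (ha : a ∈ D) (haT : a ∈ T) (ha' : a' ∈ D) (ha'T : a' ∈ T) : f a (c a') = 0 :=
  (Q.td.comm a ha a' ha').2 (Q.commT a ha haT a' ha' ha'T)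

theorem Q2.ab' {a a' : H} (ha : a ∈ D) (haT : a ∈ T) (ha' : a' ∈ D) (ha'T : a' ∈ T) (hne : a ≠ a') : f a (c (b a')) = 0 :=
  (Q.td.comm a ha _ (Q.bD a' ha' ha'T)).2 (Q.comm a' ha' ha'T a ha haT hne _ (Q.bL ha' ha'T)).symm

theorem Q2.trans {i j k : H} (hi : i ∈ D) (hiT : i ∈ T) (hj : j ∈ D) (hjT : j ∈ T) (hk : k ∈ D) (hkT : k ∈ T)
    (h1 : Rel L i j) (h2 : Rel L j k) : Rel L i k := by
  by_cases hij : i = j
  · rw [hij]; exact h2
  by_cases hjk : j = k
  · rw [← hjk]; exact h1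
  by_cases hik : i = k
  · exact Or.inl hik
  rw [Q.rel_iff hi hiT hj hjT hij] at h1
  rw [Q.rel_iff hj hjT hk hkT hjk] at h2
  rw [Q.rel_iff hi hiT hk hkT hik]
  by_contra h3
  have h3' := (zcases _).resolve_right h3
  obtain ⟨t, ht, hct⟩ := Q.td.e6 hi hj hk (Q.bD i hi hiT) (Q.bD j hj hjT) (Q.bD k hk hkT) (Q.ab i hi hiT) (Q.ab j hj hjT)
    (Q.ab k hk hkT) h1 h2 h3' (Q.aa hi hiT hj hjT) (Q.aa hj hjT hk hkT) (Q.aa hi hiT hk hkT)
    (Q.ab' hi hiT hj hjT hij) (Q.ab' hi hiT hk hkT hik) (Q.ab' hj hjT hi hiT (Ne.symm hij)) (Q.ab' hj hjT hk hkT hjk)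
    (Q.ab' hk hkT hi hiT (Ne.symm hik)) (Q.ab' hk hkT hj hjT (Ne.symm hjk))
  have htT : t ∈ T := by
    apply Q.mem t ht
    intro a ha haT
    symm
    apply (Q.td.comm a ha t ht).1
    rw [hct, map_add, map_add, Q.aa ha haT hi hiT, Q.aa ha haT hj hjT, Q.aa ha haT hk hkT]
    decide
  have e1 : t = i := by
    by_contra hne
    have h4 := (Q.td.comm _ (Q.bD i hi hiT) t ht).2 (Q.comm i hi hiT t ht htT hne _ (Q.bL hi hiT))
    rw [hct, map_add, map_add, Q.td.sym (Q.bD i hi hiT) hi, Q.ab i hi hiT, Q.td.sym (Q.bD i hi hiT) hj,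
      Q.ab' hj hjT hi hiT (Ne.symm hij), Q.td.sym (Q.bD i hi hiT) hk, Q.ab' hk hkT hi hiT (Ne.symm hik)] at h4
    revert h4; decide
  have e2 : t = j := by
    by_contra hne
    have h4 := (Q.td.comm _ (Q.bD j hj hjT) t ht).2 (Q.comm j hj hjT t ht htT hne _ (Q.bL hj hjT))
    rw [hct, map_add, map_add, Q.td.sym (Q.bD j hj hjT) hj, Q.ab j hj hjT, Q.td.sym (Q.bD j hj hjT) hi,
      Q.ab' hi hiT hj hjT hij, Q.td.sym (Q.bD j hj hjT) hk, Q.ab' hk hkT hj hjT (Ne.symm hjk)] at h4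
    revert h4; decide
  exact hij (e1.symm.trans e2)

theorem Q2.conj_mem {t a : H} (ht : t ∈ T) (ha : a ∈ D) (haT : a ∈ T) : t * a * t⁻¹ ∈ D ∧ t * a * t⁻¹ ∈ T :=
  ⟨Q.td.conj a ha t, mul_mem (mul_mem ht haT) (inv_mem ht)⟩

theorem Q2.rel_conj {a a' t : H} (ht : t ∈ T) (ha : a ∈ D) (haT : a ∈ T) (ha' : a' ∈ D) (ha'T : a' ∈ T) (h : Rel L a a') :
    Rel L (t * a * t⁻¹) (t * a' * t⁻¹) := by
  rcases h with h | h
  · left; rw [h]
  · right
    intro h1
    apply h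
    intro x hx y hy
    have h2 := h1 (t * x * t⁻¹) (by
      rw [Q.eqv t ht a ha haT, mem_cg]
      have e : t⁻¹ * (t * x * t⁻¹) * t = x := by group
      rw [e]; exact hx) (t * y * t⁻¹) (by
      rw [Q.eqv t ht a' ha' ha'T, mem_cg]
      have e : t⁻¹ * (t * y * t⁻¹) * t = y := by group
      rw [e]; exact hy)
    have e1 : t * x * t⁻¹ * (t * y * t⁻¹) = t * (x * y) * t⁻¹ := by group
    have e2 : t * y * t⁻¹ * (t * x * t⁻¹) = t * (y * x) * t⁻¹ := by group
    rw [e1, e2] at h2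
    exact mul_left_cancel (mul_right_cancel h2)

theorem Q2.EE_eq {a a' : H} (ha : a ∈ D) (haT : a ∈ T) (ha' : a' ∈ D) (ha'T : a' ∈ T) (h : Rel L a a') :
    EE D T L a = EE D T L a' := by
  have h1 : Kl D T L a = Kl D T L a' := by
    ext x
    constructor
    · rintro ⟨h1, h2, h3⟩
      exact ⟨h1, h2, Q.trans ha' ha'T ha haT h1 h2 h.symm h3⟩
    · rintro ⟨h1, h2, h3⟩
      exact ⟨h1, h2, Q.trans ha haT ha' ha'T h1 h2 h h3⟩
  unfold EE
  rw [h1]

theorem Q2.L_le {a : H} (ha : a ∈ D) (haT : a ∈ T) : L a ≤ EE D T L a :=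
  le_iSup₂_of_le a (show a ∈ Kl D T L a from ⟨ha, haT, Or.inl rfl⟩) le_rfl

theorem Q2.EE_conj {a t : H} (ht : t ∈ T) (ha : a ∈ D) (haT : a ∈ T) : cg t (EE D T L a) = EE D T L (t * a * t⁻¹) := by
  have key : ∀ t ∈ T, ∀ a ∈ D, a ∈ T → cg t (EE D T L a) ≤ EE D T L (t * a * t⁻¹) := by
    intro t ht a ha haT
    rw [cg_le_iff]
    apply iSup₂_le
    rintro a' ⟨h1, h2, h3⟩
    rw [← cg_le_iff, ← Q.eqv t ht a' h1 h2]
    exact le_iSup₂_of_le (t * a' * t⁻¹) ⟨(Q.conj_mem ht h1 h2).1, (Q.conj_mem ht h1 h2).2,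
      Q.rel_conj ht ha haT h1 h2 h3⟩ le_rfl
  apply le_antisymm (key t ht a ha haT)
  rw [le_cg_iff]
  obtain ⟨h1, h2⟩ := Q.conj_mem ht ha haT
  have h3 := key t⁻¹ (inv_mem ht) _ h1 h2
  have e : t⁻¹ * (t * a * t⁻¹) * t⁻¹⁻¹ = a := by group
  rwa [e] at h3

theorem Q2.c_fix {a x : H} (ha : a ∈ D) (hx : x ∈ D) (h : f x (c a) = 0) : c a ∈ fx V (zpowers x) := by
  rw [mem_fx_zp, Q.td.act x hx, h, zero_smul, add_zero]

theorem Q2.moves {a a' : H} (ha : a ∈ D) (haT : a ∈ T) (ha' : a' ∈ D) (ha'T : a' ∈ T) (h : ¬ Rel L a a') :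
    ∀ x ∈ EE D T L a, ∀ v : V, x • v - v ∈ fx V (EE D T L a') := by
  have hfx : fx V (EE D T L a') = ⨅ a2 ∈ Kl D T L a', fx V (L a2) := by
    apply le_antisymm
    · refine le_iInf₂ fun a2 h2 => fx_anti (le_iSup₂_of_le a2 h2 le_rfl)
    · intro v hv
      have h1 : EE D T L a' ≤ MulAction.stabilizer H v := by
        refine iSup₂_le fun a2 h2 l hl => ?_
        have h3 : v ∈ fx V (L a2) := by
          have := (iInf₂_le a2 h2 : (⨅ a2 ∈ Kl D T L a', fx V (L a2)) ≤ fx V (L a2))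
          exact this hv
        exact h3 l hl
      exact fun l hl => h1 hl
  have key : ∀ a1 ∈ Kl D T L a, ∀ a2 ∈ Kl D T L a', ∀ x ∈ L a1, ∀ v : V, x • v - v ∈ fx V (L a2) := by
    rintro a1 ⟨h1, h1T, h1R⟩ a2 ⟨h2, h2T, h2R⟩
    have hn : ¬ Rel L a1 a2 := by
      intro h3
      exact h (Q.trans ha haT h1 h1T ha' ha'T h1R (Q.trans h1 h1T h2 h2T ha' ha'T h3 h2R.symm))
    have hne : a1 ≠ a2 := fun h3 => hn (Or.inl h3)
    have hb : f (b a2) (c (b a1)) = 0 := by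
      rw [Q.td.sym (Q.bD a2 h2 h2T) (Q.bD a1 h1 h1T)]
      exact (zcases _).resolve_right fun h3 => hn ((Q.rel_iff h1 h1T h2 h2T hne).2 h3)
    have hfx2 : fx V (L a2) = fx V (zpowers a2) ⊓ fx V (zpowers (b a2)) := by rw [Q.Lab a2 h2 h2T, fx_sup]
    apply moves_closure (K := L a1) (S := {zpowers a1, zpowers (b a1)})
    · rw [sSup_pair]; exact Q.Lab a1 h1 h1T
    · have hz : ∀ y ∈ D, c y ∈ fx V (L a2) → ∀ x ∈ zpowers y, ∀ v : V, x • v - v ∈ fx V (L a2) := by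
        intro y hy hcy x hx v
        have h3 : x = 1 ∨ x = y := by
          obtain ⟨n, rfl⟩ := mem_zpowers_iff.1 hx
          have hyy : y ^ 2 = 1 := by rw [pow_two]; exact Q.td.sq hy
          rcases Int.even_or_odd' n with ⟨m, hm | hm⟩
          · left; rw [hm, zpow_mul]
            have : y ^ (2 : ℤ) = 1 := by exact_mod_cast hyy
            rw [this, one_zpow]
          · right; rw [hm, zpow_add, zpow_mul]
            have : y ^ (2 : ℤ) = 1 := by exact_mod_cast hyy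
            rw [this, one_zpow, one_mul, zpow_one]
        rcases h3 with h3 | h3
        · rw [h3, one_smul, sub_self]; exact AddSubgroup.zero_mem _
        · rw [h3, Q.td.act y hy, add_sub_cancel_left]
          rcases zcases (f y v) with h4 | h4
          · rw [h4, zero_smul]; exact AddSubgroup.zero_mem _
          · rw [h4, one_smul]; exact hcy
      intro X hX
      rcases hX with rfl | hX
      · apply hz a1 h1
        rw [hfx2]
        refine ⟨Q.c_fix h1 h2 (Q.aa h2 h2T h1 h1T), Q.c_fix h1 (Q.bD a2 h2 h2T) ?_⟩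
        rw [Q.td.sym (Q.bD a2 h2 h2T) h1]
        exact Q.ab' h1 h1T h2 h2T hne
      · rw [Set.mem_singleton_iff] at hX
        rw [hX]
        apply hz _ (Q.bD a1 h1 h1T)
        rw [hfx2]
        exact ⟨Q.c_fix (Q.bD a1 h1 h1T) h2 (Q.ab' h2 h2T h1 h1T (Ne.symm hne)),
          Q.c_fix (Q.bD a1 h1 h1T) (Q.bD a2 h2 h2T) hb⟩
  apply moves_closure (K := EE D T L a) (S := L '' Kl D T L a)
  · unfold EE
    rw [sSup_image]
  · rintro _ ⟨a1, h1, rfl⟩ x hx v
    rw [hfx]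
    simp only [AddSubgroup.mem_iInf]
    exact fun a2 h2 => key a1 h1 a2 h2 x hx v


/-- elements of the class -/
abbrev XX (D : Set H) (T : Subgroup H) (L : H → Subgroup H) (a : H) : Type _ := Kl D T L a × Bool

/-- the transvections of the class -/
def tt (b : H → H) {a : H} (x : XX D T L a) : H := if x.2 then (x.1 : H) * b x.1 * (x.1 : H)⁻¹ else b x.1

omit [AddCommGroup V] [DistribMulAction H V] [Module (ZMod 2) V] Q in
theorem tt_false {a : H} (x : Kl D T L a) : tt b (x, false) = b x := rfl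

omit [AddCommGroup V] [DistribMulAction H V] [Module (ZMod 2) V] Q in
theorem tt_true {a : H} (x : Kl D T L a) : tt b (x, true) = (x : H) * b x * (x : H)⁻¹ := rfl

theorem Q2.tt_mem {a : H} (x : XX D T L a) : tt b x ∈ D := by
  obtain ⟨x, e⟩ := x
  cases e
  · rw [tt_false]; exact Q.bD x x.2.1 x.2.2.1
  · rw [tt_true]; exact Q.td.conj _ (Q.bD x x.2.1 x.2.2.1) x

theorem Q2.c_true {a : H} (x : Kl D T L a) : c (tt b (x, true)) = c (b x) + c x := by
  rw [tt_true, (Q.td.conj_eq (Q.bD x x.2.1 x.2.2.1) x).1, Q.td.act x x.2.1, Q.ab x x.2.1 x.2.2.1, one_smul]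

open Classical in
/-- values of `b` -/
theorem Q2.f_false {a : H} (ha : a ∈ D) (haT : a ∈ T) (x : Kl D T L a) (y : XX D T L a) :
    f (b x) (c (tt b y)) = if (x, false) = y then 0 else 1 := by
  obtain ⟨y, e⟩ := y
  by_cases hxy : x = y
  · subst hxy
    cases e
    · rw [if_pos rfl, tt_false]
      exact Q.td.self (Q.bD x x.2.1 x.2.2.1)
    · rw [if_neg (fun h => Bool.false_ne_true (congrArg Prod.snd h)), Q.c_true, map_add, Q.td.self (Q.bD x x.2.1 x.2.2.1), zero_add,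
        Q.td.sym (Q.bD x x.2.1 x.2.2.1) x.2.1]
      exact Q.ab x x.2.1 x.2.2.1
  · have hne : (x : H) ≠ y := fun h => hxy (Subtype.ext h)
    have h1 : f (b x) (c (b y)) = 1 :=
      (Q.rel_iff x.2.1 x.2.2.1 y.2.1 y.2.2.1 hne).1 (Q.trans x.2.1 x.2.2.1 ha haT y.2.1 y.2.2.1 x.2.2.2.symm y.2.2.2)
    rw [if_neg (fun h => hxy (congrArg Prod.fst h))]
    cases e
    · rw [tt_false]; exact h1
    · rw [Q.c_true, map_add, h1, Q.td.sym (Q.bD x x.2.1 x.2.2.1) y.2.1, Q.ab' y.2.1 y.2.2.1 x.2.1 x.2.2.1 (Ne.symm hne),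
        add_zero]

open Classical in
theorem Q2.fc {a : H} (ha : a ∈ D) (haT : a ∈ T) (x y : XX D T L a) : f (tt b x) (c (tt b y)) = if x = y then 0 else 1 := by
  obtain ⟨x, e⟩ := x
  cases e
  · rw [tt_false]; exact Q.f_false ha haT x y
  · rw [Q.td.sym (Q.tt_mem _) (Q.tt_mem _), Q.c_true, map_add, Q.td.sym (Q.tt_mem _) (Q.bD x x.2.1 x.2.2.1),
      Q.f_false ha haT x y, Q.td.sym (Q.tt_mem _) x.2.1]
    obtain ⟨y, e'⟩ := y
    by_cases hxy : x = y
    · subst hxy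
      cases e'
      · rw [if_pos rfl, tt_false, Q.ab x x.2.1 x.2.2.1, if_neg (fun h => Bool.false_ne_true (congrArg Prod.snd h).symm), zero_add]
      · rw [if_neg (fun h => Bool.false_ne_true (congrArg Prod.snd h)), Q.c_true, map_add, Q.ab x x.2.1 x.2.2.1, Q.td.self x.2.1, if_pos rfl]
        decide
    · have hne : (x : H) ≠ y := fun h => hxy (Subtype.ext h)
      rw [if_neg (fun h => hxy (congrArg Prod.fst h)), if_neg (fun h => hxy (congrArg Prod.fst h))]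
      cases e'
      · rw [tt_false, Q.ab' x.2.1 x.2.2.1 y.2.1 y.2.2.1 hne, add_zero]
      · rw [Q.c_true, map_add, Q.ab' x.2.1 x.2.2.1 y.2.1 y.2.2.1 hne, Q.aa x.2.1 x.2.2.1 y.2.1 y.2.2.1, add_zero, add_zero]

theorem Q2.closure_eq (a : H) : Subgroup.closure (Set.range (tt b : XX D T L a → H)) = EE D T L a := by
  apply le_antisymm
  · rw [Subgroup.closure_le]
    rintro _ ⟨⟨x, e⟩, rfl⟩
    have h1 : L x ≤ EE D T L a := le_iSup₂_of_le (x : H) x.2 le_rfl
    apply h1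
    cases e
    · exact Q.bL x.2.1 x.2.2.1
    · exact mul_mem (mul_mem (Q.aL x.2.1 x.2.2.1) (Q.bL x.2.1 x.2.2.1)) (inv_mem (Q.aL x.2.1 x.2.2.1))
  · refine iSup₂_le fun x hx => ?_
    rw [Q.Lab x hx.1 hx.2.1]
    have h1 : b x ∈ Subgroup.closure (Set.range (tt b : XX D T L a → H)) :=
      Subgroup.subset_closure ⟨(⟨x, hx⟩, false), rfl⟩
    have h2 : x * b x * x⁻¹ ∈ Subgroup.closure (Set.range (tt b : XX D T L a → H)) :=
      Subgroup.subset_closure ⟨(⟨x, hx⟩, true), rfl⟩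
    apply sup_le <;> rw [zpowers_le]
    · have h3 := Q.td.braid hx.1 (Q.bD x hx.1 hx.2.1) (Q.ab x hx.1 hx.2.1)
      rw [h3] at h2
      have e : x = (b x)⁻¹ * (b x * x * (b x)⁻¹) * b x := by group
      rw [e]
      exact mul_mem (mul_mem (inv_mem h1) h2) h1
    · exact h1

/-- the order of the class -/
theorem Q2.card_Kl [Finite H] {a : H} (ha : a ∈ D) (haT : a ∈ T) : ∃ m : ℕ, Nat.card (Kl D T L a) = 2 ^ m := by
  let S : Subgroup H :=
    { carrier := {t | t ∈ T ∧ Rel L a (t * a * t⁻¹)}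
      one_mem' := ⟨one_mem _, Or.inl (by group)⟩
      mul_mem' := by
        rintro s t ⟨hs, hs'⟩ ⟨ht, ht'⟩
        refine ⟨mul_mem hs ht, ?_⟩
        obtain ⟨h1, h2⟩ := Q.conj_mem ht ha haT
        obtain ⟨h3, h4⟩ := Q.conj_mem hs ha haT
        obtain ⟨h5, h6⟩ := Q.conj_mem hs h1 h2
        have h7 := Q.rel_conj hs ha haT h1 h2 ht'
        have h8 := Q.trans ha haT h3 h4 h5 h6 hs' h7
        have e : s * t * a * (s * t)⁻¹ = s * (t * a * t⁻¹) * s⁻¹ := by group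
        rw [e]; exact h8
      inv_mem' := by
        rintro t ⟨ht, ht'⟩
        refine ⟨inv_mem ht, ?_⟩
        obtain ⟨h1, h2⟩ := Q.conj_mem ht ha haT
        have h3 := Q.rel_conj (inv_mem ht) ha haT h1 h2 ht'
        have e : t⁻¹ * (t * a * t⁻¹) * t⁻¹⁻¹ = a := by group
        rw [e] at h3
        exact h3.symm }
  have hS : IsPGroup 2 S := Q.pT.to_le fun t ht => ht.1
  letI act : MulAction S H := MulAction.compHom H ((MulAut.conj : H →* MulAut H).comp S.subtype)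
  have hact : ∀ (s : S) (x : H), s • x = (s : H) * x * (s : H)⁻¹ := fun s x => rfl
  haveI : Fact (Nat.Prime 2) := ⟨Nat.prime_two⟩
  obtain ⟨n, hn⟩ := hS.card_orbit a
  refine ⟨n, ?_⟩
  rw [← hn]
  have h1 : Kl D T L a = MulAction.orbit S a := by
    ext x
    constructor
    · rintro ⟨h1, h2, h3⟩
      obtain ⟨t, ht, e⟩ := Q.orb a ha haT x h1 h2
      refine ⟨⟨t, ht, by rw [e]; exact h3⟩, ?_⟩
      show t * a * t⁻¹ = x
      exact e
    · rintro ⟨⟨t, ht, ht'⟩, rfl⟩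
      obtain ⟨h1, h2⟩ := Q.conj_mem ht ha haT
      exact ⟨h1, h2, ht'⟩
  rw [h1]

/-- **structure of the components for `q = 2`** -/
theorem Q2.main [Finite H] {a : H} (ha : a ∈ D) (haT : a ∈ T) : ∃ n : ℕ, 1 ≤ n ∧
    ∃ (ρ : ↥(EE D T L a) ≃* Equiv.Perm (Fin (2 ^ n + 1))) (Ψ : V →+ (Fin (2 ^ n + 1) → ZMod 2)),
      (∀ v, ∑ i, Ψ v i = 0) ∧ (∀ w : Fin (2 ^ n + 1) → ZMod 2, ∑ i, w i = 0 → ∃ v, Ψ v = w) ∧
      (∀ v, Ψ v = 0 ↔ v ∈ fx V (EE D T L a)) ∧
      ∀ (g : ↥(EE D T L a)) (v : V) (i : Fin (2 ^ n + 1)), Ψ (g • v) i = Ψ v ((ρ g)⁻¹ i) := by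
  classical
  obtain ⟨m, hm⟩ := Q.card_Kl ha haT
  haveI : Finite (Kl D T L a) := Nat.finite_of_card_ne_zero (by rw [hm]; positivity)
  letI : Fintype (Kl D T L a) := Fintype.ofFinite _
  have hX : Fintype.card (XX D T L a) = 2 ^ (m + 1) := by
    rw [Fintype.card_prod, Fintype.card_bool, ← Nat.card_eq_fintype_card, hm, pow_succ]
  have h1 : TvF (tt b : XX D T L a → H) (fun x => f (tt b x)) (fun x => c (tt b x)) := by
    refine ⟨fun x v => Q.td.act _ (Q.tt_mem x) v, fun x y => ?_, ?_, ?_⟩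
    · have h2 := Q.fc ha haT x y
      by_cases hxy : x = y
      · rw [if_pos hxy] at h2 ⊢; exact h2
      · rw [if_neg hxy] at h2 ⊢; exact h2
    · rw [hX, pow_succ]; exact even_two.mul_left _
    · rw [hX, pow_succ]
      have : 0 < 2 ^ m := by positivity
      omega
  obtain ⟨ρ, Ψ, g1, g2, g3, g4⟩ := h1.main Q.td.faith
  rw [Q.closure_eq a] at g3
  have hc : Fintype.card (Option (XX D T L a)) = Fintype.card (Fin (2 ^ (m + 1) + 1)) := by
    rw [Fintype.card_option, hX, Fintype.card_fin]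
  let e : Option (XX D T L a) ≃ Fin (2 ^ (m + 1) + 1) := Fintype.equivOfCardEq hc
  let ε : ↥(EE D T L a) ≃* ↥(Subgroup.closure (Set.range (tt b : XX D T L a → H))) :=
    MulEquiv.subgroupCongr (Q.closure_eq a).symm
  let Ψ' : V →+ (Fin (2 ^ (m + 1) + 1) → ZMod 2) :=
    { toFun := fun v i => Ψ v (e.symm i)
      map_zero' := by rw [map_zero]; rfl
      map_add' := fun v w => by rw [map_add]; rfl }
  have hΨ' : ∀ v i, Ψ' v i = Ψ v (e.symm i) := fun _ _ => rfl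
  refine ⟨m + 1, Nat.succ_pos m, (ε.trans ρ).trans e.permCongrHom, Ψ', ?_, ?_, ?_, ?_⟩
  · intro v
    rw [← g1 v]
    exact Equiv.sum_comp e.symm (Ψ v)
  · intro w hw
    obtain ⟨v, hv⟩ := g2 (fun i => w (e i)) (by rw [← hw]; exact Equiv.sum_comp e w)
    refine ⟨v, ?_⟩
    funext i
    rw [hΨ', hv]
    show w (e (e.symm i)) = w i
    rw [e.apply_symm_apply]
  · intro v
    rw [← g3 v]
    constructor
    · intro h
      funext i
      have h2 := congrFun h (e i)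
      rw [hΨ', e.symm_apply_apply] at h2
      exact h2
    · intro h
      funext i
      rw [hΨ', h]; rfl
  · intro g v i
    rw [hΨ']
    have h2 := g4 (ε g) v (e.symm i)
    have h3 : (ε g) • v = g • v := rfl
    rw [h3] at h2
    rw [h2, hΨ']
    have h5 : (ρ (ε g))⁻¹ (e.symm i) = e.symm ((((ε.trans ρ).trans e.permCongrHom) g)⁻¹ i) := by
      show (ρ (ε g))⁻¹ (e.symm i) = e.symm ((e.permCongrHom (ρ (ε g)))⁻¹ i)
      have h6 : (e.permCongrHom (ρ (ε g)))⁻¹ = e.permCongrHom ((ρ (ε g))⁻¹) := (map_inv _ _).symm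
      rw [h6]
      exact (e.symm_apply_apply _).symm
    rw [h5]

end

end H53.FS
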