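import Cfsg.Agent.Lib.H53.FS14

/-!
Offenders: the main theorem in module form.
-/

set_option autoImplicit false

namespace H53.FS

open Subgroup H53.PU
open H52.Syl (SylIn exists_sylIn_le sylIn_of_max)
open H51.FF (Off At cg mem_cg card_cg mem_fx_cg card_fx_cg Off.cg At.cg Off.ne Sp card_le V_le Int' int_inj cg_cg cg_one
  cg_sup cg_top Sp.sup_top Sp.exists_add Sp.cover PM)

/-- natural `SL₂`-modules -/
def NatSL (p : ℕ) {H : Type*} (V : Type*) [Group H] [AddCommGroup V] [DistribMulAction H V] (E : Subgroup H) : Prop :=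
  ∃ n : ℕ, 1 ≤ n ∧ ∃ (F : Type) (_ : Field F) (_ : Fintype F)
    (ρ : ↥E ≃* Matrix.SpecialLinearGroup (Fin 2) F) (Ψ : V →+ (Fin 2 → F)), Fintype.card F = p ^ n ∧
      Function.Surjective Ψ ∧ (∀ v, Ψ v = 0 ↔ v ∈ fx V E) ∧ (∀ (h : ↥E) v,
      Ψ (h • v) = ((ρ h : Matrix.SpecialLinearGroup (Fin 2) F) : Matrix (Fin 2) (Fin 2) F).mulVec (Ψ v))

/-- natural modules of symmetric groups of odd degree -/
def NatSym {H : Type*} (V : Type*) [Group H] [AddCommGroup V] [DistribMulAction H V] (E : Subgroup H) : Prop :=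
  ∃ n : ℕ, 1 ≤ n ∧
    ∃ (ρ : ↥E ≃* Equiv.Perm (Fin (2 ^ n + 1))) (Ψ : V →+ (Fin (2 ^ n + 1) → ZMod 2)),
      (∀ v, ∑ i, Ψ v i = 0) ∧ (∀ w : Fin (2 ^ n + 1) → ZMod 2, ∑ i, w i = 0 → ∃ v, Ψ v = w) ∧
      (∀ v, Ψ v = 0 ↔ v ∈ fx V E) ∧
      ∀ (g : ↥E) (v : V) (i : Fin (2 ^ n + 1)), Ψ (g • v) i = Ψ v ((ρ g)⁻¹ i)

section

variable {p q : ℕ} [hp : Fact p.Prime] {H V : Type*} [Group H] [Finite H] [AddCommGroup V] [Finite V]
  [DistribMulAction H V] {T M C L : Subgroup H}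

theorem S3.natSL (s : S3 p q V T M C L) (hq : 1 < q) (hC : C ∈ (Sg p q V : Set (Subgroup H))) : NatSL p V L := by
  obtain ⟨TL, pm⟩ := s.pm
  obtain ⟨F, iF, iF', ρ, Ψ, h1, h2, h3, h4⟩ := pm.main
  rw [card_subgroupOf' s.CL] at h4
  have hfin : Finite C := Nat.finite_of_card_ne_zero (by rw [hC.1.card]; omega)
  obtain ⟨n, hn⟩ := IsPGroup.iff_card.1 hC.1.pg
  refine ⟨n, ?_, F, iF, iF', ρ, Ψ, by rw [h4, hn], h1, ?_, h3⟩
  · rcases Nat.eq_zero_or_pos n with h | h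
    · exfalso
      rw [h, pow_zero, hC.1.card] at hn
      omega
    · exact h
  · intro v
    rw [h2]
    constructor
    · intro h l hl
      exact h ⟨l, hl⟩
    · intro h l
      exact h l l.2

/-- the order two case -/
theorem zp_eq {a x : H} (haa : a * a = 1) (hx : x ∈ zpowers a) : x = 1 ∨ x = a := by
  obtain ⟨n, rfl⟩ := mem_zpowers_iff.1 hx
  have : a ^ (2 : ℤ) = 1 := by
    have h1 : a ^ 2 = 1 := by rw [pow_two]; exact haa
    exact_mod_cast h1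
  rcases Int.even_or_odd' n with ⟨m, hm | hm⟩
  · left; rw [hm, zpow_mul, this, one_zpow]
  · right; rw [hm, zpow_add, zpow_mul, this, one_zpow, one_mul, zpow_one]

theorem cg_zpowers (g a : H) : cg g (zpowers a) = zpowers (g * a * g⁻¹) := by
  show (zpowers a).map _ = _
  rw [MonoidHom.map_zpowers]; rfl

theorem exists_Q2 [Module (ZMod 2) V] (st : St 2 V T M) (mx : Mx 2 H V)
    (hne : ∃ A, A ∈ (Sg 2 2 V : Set (Subgroup H))) :
    ∃ (f : H → V →+ ZMod 2) (c : H → V) (b : H → H),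
      Q2 f c (Dt 2 V : Set H) T (fun a => LL 2 2 V T (zpowers a)) b := by
  classical
  haveI : Fact (Nat.Prime 2) := ⟨Nat.prime_two⟩
  obtain ⟨⟨A, hA, hAT⟩, horb, hs3⟩ := stage3 st (by norm_num) mx hne
  obtain ⟨f, c, td⟩ := exists_TD st.pz st.faith mx
  have hcommT : ∀ a ∈ (Dt 2 V : Set H), a ∈ T → ∀ a' ∈ (Dt 2 V : Set H), a' ∈ T → a * a' = a' * a := by
    intro a ha haT a' ha' ha'T
    exact Sg.comm_le (by norm_num) st.pz st.faith mx ha.2 ha'.2 st.pT ((zpowers_le).2 haT) ((zpowers_le).2 ha'T) a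
      (mem_zpowers a) a' (mem_zpowers a')
  have hb : ∀ a : H, ∃ b : H, a ∈ (Dt 2 V : Set H) → a ∈ T → b ∈ (Dt 2 V : Set H) ∧
      LL 2 2 V T (zpowers a) = zpowers a ⊔ zpowers b ∧ f a (c b) = 1 := by
    intro a
    by_cases ha : a ∈ (Dt 2 V : Set H)
    · by_cases haT : a ∈ T
      · obtain ⟨B, hB, hBM, hL, hpr⟩ := (hs3 _ ha.2 ((zpowers_le).2 haT)).pr
        obtain ⟨b, hb, rfl⟩ := zp_of_Sg hB
        refine ⟨b, fun _ _ => ⟨hb, hL, ?_⟩⟩
        rcases zcases (f a (c b)) with h | h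
        · exfalso
          have h1 := (td.comm a ha b hb).1 h
          have h2 : fx V (zpowers b) ≤ fx V (zpowers a) ⊓ fx V (zpowers b) := by
            intro w hw
            refine ⟨hpr.hI a (mem_zpowers a) ha.1 w hw ?_, hw⟩
            rw [mem_fx_zp] at hw ⊢
            rw [← mul_smul, ← h1, mul_smul, hw]
          have h3 := card_le _ _ h2
          have h4 := hpr.sp.cB
          have h5 : 0 < Nat.card ↥(fx V (zpowers a) ⊓ fx V (zpowers b)) := Nat.card_pos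
          omega
        · exact h
      · exact ⟨1, fun _ h => absurd h haT⟩
    · exact ⟨1, fun h => absurd h ha⟩
  choose b hb using hb
  refine ⟨f, c, b, td, ?_, st.pT, hcommT, ?_, fun a ha haT => (hb a ha haT).1, fun a ha haT => (hb a ha haT).2.1,
    fun a ha haT => (hb a ha haT).2.2, ?_, ?_, ?_, ?_⟩
  · obtain ⟨a, ha, rfl⟩ := zp_of_Sg hA
    exact ⟨a, ha, hAT (mem_zpowers a)⟩
  · intro t ht hcomm
    by_contra htT
    obtain ⟨h1, _⟩ := closure_comm_pgroup (p := 2) (s := {x | x ∈ (Dt 2 V : Set H) ∧ x ∈ T} ∪ {t}) (by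
      rintro x (hx | hx) y (hy | hy)
      · exact hcommT x hx.1 hx.2 y hy.1 hy.2
      · rw [Set.mem_singleton_iff] at hy
        rw [hy]; exact (hcomm x hx.1 hx.2).symm
      · rw [Set.mem_singleton_iff] at hx
        rw [hx]; exact hcomm y hy.1 hy.2
      · rw [Set.mem_singleton_iff] at hx hy
        rw [hx, hy]) (by
      rintro x (hx | hx)
      · exact ⟨1, by rw [pow_one, pow_two]; exact td.sq hx.1⟩
      · rw [Set.mem_singleton_iff] at hx
        exact ⟨1, by rw [hx, pow_one, pow_two]; exact td.sq ht⟩)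
    obtain ⟨g, hg⟩ := exists_conj_le_T st h1
    have h2 : ∀ x ∈ ({x | x ∈ (Dt 2 V : Set H) ∧ x ∈ T} ∪ {t} : Set H), g * x * g⁻¹ ∈ {x | x ∈ (Dt 2 V : Set H) ∧ x ∈ T} := by
      intro x hx
      have h3 : x ∈ (Dt 2 V : Set H) := by
        rcases hx with hx | hx
        · exact hx.1
        · rw [Set.mem_singleton_iff] at hx
          rw [hx]; exact ht
      refine ⟨td.conj x h3 g, ?_⟩
      apply hg
      rw [mem_cg]
      have e : g⁻¹ * (g * x * g⁻¹) * g = x := by group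
      rw [e]
      exact Subgroup.subset_closure hx
    have h3 : Set.ncard ({x | x ∈ (Dt 2 V : Set H) ∧ x ∈ T} ∪ {t} : Set H) ≤
        Set.ncard {x | x ∈ (Dt 2 V : Set H) ∧ x ∈ T} := by
      apply Set.ncard_le_ncard_of_injOn (fun x => g * x * g⁻¹) h2
      · intro x _ y _ hxy
        exact mul_left_cancel (mul_right_cancel hxy)
    rw [Set.union_singleton, Set.ncard_insert_of_notMem (fun h => htT h.2) (Set.toFinite _)] at h3
    omega
  · intro a ha haT a' ha' ha'T hne l hl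
    apply (hs3 _ ha.2 ((zpowers_le).2 haT)).comm _ ha'.2 ((zpowers_le).2 ha'T) ?_ l hl a' (mem_zpowers a')
    intro h
    have h1 : a' ∈ zpowers a := by rw [← h]; exact mem_zpowers a'
    rcases zp_eq (td.sq ha) h1 with h2 | h2
    · exact ha'.1 h2
    · exact hne h2
  · intro a ha haT a' ha' ha'T
    obtain ⟨t, ht, h⟩ := horb _ ha.2 ((zpowers_le).2 haT) _ ha'.2 ((zpowers_le).2 ha'T)
    refine ⟨t, ht, ?_⟩
    rw [cg_zpowers] at h
    have h1 : t * a * t⁻¹ ∈ zpowers a' := by rw [← h]; exact mem_zpowers _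
    rcases zp_eq (td.sq ha') h1 with h2 | h2
    · exact absurd h2 (td.ne _ (td.conj a ha t))
    · exact h2
  · intro t ht a ha haT
    show LL 2 2 V T (zpowers (t * a * t⁻¹)) = cg t (LL 2 2 V T (zpowers a))
    rw [cg_LL ht, cg_zpowers]
  · intro a ha haT
    exact (hs3 _ ha.2 ((zpowers_le).2 haT)).top

/-- **the main theorem** -/
theorem core (st : St p V T M) (hff : ∃ A : Subgroup H, A ≠ ⊥ ∧ IsPGroup p A ∧ (∀ a ∈ A, ∀ b ∈ A, a * b = b * a) ∧
    Nat.card V ≤ Nat.card A * Nat.card (fx V A)) :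
    ∃ S : Set (Subgroup H), S.Nonempty ∧ (∀ E ∈ S, ∀ E' ∈ S, ∃ t ∈ T, cg t E = E') ∧
      (∀ E ∈ S, ∀ E' ∈ S, E ≠ E' → ∀ x ∈ E, ∀ v : V, x • v - v ∈ fx V E') ∧ (∀ E ∈ S, T ⊔ E = ⊤) ∧
      ∀ E ∈ S, NatSL p V E ∨ (p = 2 ∧ NatSym V E) := by
  obtain ⟨q, hq, mx, hne⟩ := stage1 st hff
  rcases Nat.lt_or_ge 2 q with hq2 | hq2
  · obtain ⟨⟨A, hA, hAT⟩, horb, hs3⟩ := stage3 st hq mx hne
    refine ⟨{E | ∃ C ∈ (Sg p q V : Set (Subgroup H)), C ≤ T ∧ E = LL p q V T C}, ⟨_, A, hA, hAT, rfl⟩, ?_, ?_, ?_, ?_⟩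
    · rintro _ ⟨C, hC, hCT, rfl⟩ _ ⟨C', hC', hC'T, rfl⟩
      obtain ⟨t, ht, rfl⟩ := horb C hC hCT C' hC' hC'T
      exact ⟨t, ht, cg_LL ht C⟩
    · rintro _ ⟨C, hC, hCT, rfl⟩ _ ⟨C', hC', hC'T, rfl⟩ hne
      have hne' : C ≠ C' := by
        rintro rfl
        exact hne rfl
      exact S3.half st hq2 mx hC' hC'T hC hCT hne' (hs3 C' hC' hC'T) (hs3 C hC hCT)
    · rintro _ ⟨C, hC, hCT, rfl⟩
      exact (hs3 C hC hCT).top
    · rintro _ ⟨C, hC, hCT, rfl⟩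
      exact Or.inl ((hs3 C hC hCT).natSL hq hC)
  · have hq2' : q = 2 := by omega
    subst hq2'
    obtain ⟨A, hA⟩ := hne
    have hp2 : p = 2 := by
      have hfin : Finite A := Nat.finite_of_card_ne_zero (by rw [hA.1.card]; norm_num)
      obtain ⟨k, hk⟩ := IsPGroup.iff_card.1 hA.1.pg
      rw [hA.1.card] at hk
      have h1 : p ∣ 2 := by
        rw [hk]
        apply dvd_pow_self
        rintro rfl
        rw [pow_zero] at hk
        omega
      exact (Nat.prime_dvd_prime_iff_eq hp.out Nat.prime_two).1 h1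
    subst hp2
    letI : Module (ZMod 2) V := AddCommGroup.zmodModule st.pz
    obtain ⟨f, c, b, Q⟩ := exists_Q2 st mx ⟨A, hA⟩
    obtain ⟨a0, ha0, ha0T⟩ := Q.ne
    refine ⟨{E | ∃ a ∈ (Dt 2 V : Set H), a ∈ T ∧ E = EE (Dt 2 V : Set H) T (fun a => LL 2 2 V T (zpowers a)) a},
      ⟨_, a0, ha0, ha0T, rfl⟩, ?_, ?_, ?_, ?_⟩
    · rintro _ ⟨a, ha, haT, rfl⟩ _ ⟨a', ha', ha'T, rfl⟩
      obtain ⟨t, ht, rfl⟩ := Q.orb a ha haT a' ha' ha'T
      exact ⟨t, ht, Q.EE_conj ht ha haT⟩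
    · rintro _ ⟨a, ha, haT, rfl⟩ _ ⟨a', ha', ha'T, rfl⟩ hne
      exact Q.moves ha haT ha' ha'T (fun h => hne (Q.EE_eq ha haT ha' ha'T h))
    · rintro _ ⟨a, ha, haT, rfl⟩
      rw [eq_top_iff, ← Q.top a ha haT]
      exact sup_le_sup_left (Q.L_le ha haT) _
    · rintro _ ⟨a, ha, haT, rfl⟩
      exact Or.inr ⟨rfl, Q.main ha haT⟩

end

end H53.FS
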