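import Cfsg.Agent.Lib.H53.FS15

/-!
Offenders: consequences of the main theorem in module form.
-/

set_option autoImplicit false

namespace H53.FS

open Subgroup H53.PU
open H51.FF (cg mem_cg cg_cg cg_one cg_sup cg_top)

section nat

variable {p : ℕ} {H V : Type*} [Group H] [AddCommGroup V] [DistribMulAction H V] {E : Subgroup H}

theorem NatSL.kern (h : NatSL p V E) {x : H} (hx : x ∈ E) (hm : ∀ v : V, x • v - v ∈ fx V E) : x = 1 := by
  obtain ⟨n, hn, F, iF, iF', ρ, Ψ, hF, h1, h2, h3⟩ := h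
  have h4 : ρ ⟨x, hx⟩ = 1 := by
    have key : ∀ z : Fin 2 → F, ((ρ ⟨x, hx⟩ : Matrix.SpecialLinearGroup (Fin 2) F) : Matrix (Fin 2) (Fin 2) F).mulVec z = z := by
      intro z
      obtain ⟨v, rfl⟩ := h1 z
      rw [← h3]
      have h5 := (h2 _).2 (hm v)
      rw [map_sub] at h5
      exact sub_eq_zero.1 h5
    apply eq_one_of_fix ![1, 0] ![0, 1] (by simp) (key _) (key _)
  have h5 := ρ.injective (h4.trans (map_one ρ).symm)
  exact congrArg Subtype.val h5

theorem NatSym.kern (h : NatSym V E) {x : H} (hx : x ∈ E) (hm : ∀ v : V, x • v - v ∈ fx V E) : x = 1 := by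
  obtain ⟨n, hn, ρ, Ψ, h1, h2, h3, h4⟩ := h
  have h5 : ρ ⟨x, hx⟩ = 1 := by
    apply perm_unique
    · rw [Fintype.card_fin]
      have : 2 ^ 1 ≤ 2 ^ n := Nat.pow_le_pow_right (by norm_num) hn
      omega
    · intro w hw i
      obtain ⟨v, rfl⟩ := h2 w hw
      rw [← h4, inv_one, Equiv.Perm.one_apply]
      have h5 := (h3 _).2 (hm v)
      rw [map_sub] at h5
      exact congrFun (sub_eq_zero.1 h5) i
  have h6 := ρ.injective (h5.trans (map_one ρ).symm)
  exact congrArg Subtype.val h6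

theorem NatSL.sup (h : NatSL p V E) : fx V E ⊔ cmt V E = ⊤ := by
  obtain ⟨n, hn, F, iF, iF', ρ, Ψ, hF, h1, h2, h3⟩ := h
  rw [eq_top_iff]
  intro v _
  obtain ⟨g, hg⟩ := ρ.surjective ⟨!![1, 1; 0, 1], by rw [Matrix.det_fin_two_of]; ring⟩
  obtain ⟨k, hk⟩ := ρ.surjective ⟨!![1, 0; 1, 1], by rw [Matrix.det_fin_two_of]; ring⟩
  obtain ⟨w1, hw1⟩ := h1 ![0, Ψ v 0]
  obtain ⟨w2, hw2⟩ := h1 ![Ψ v 1, 0]
  have h4 : v - ((g : H) • w1 - w1) - ((k : H) • w2 - w2) ∈ fx V E := by
    rw [← h2]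
    have e1 : Ψ ((g : H) • w1) = ![Ψ v 0, Ψ v 0] := by
      have h5 := h3 g w1
      rw [hg, hw1] at h5
      have h6 : (g : H) • w1 = g • w1 := rfl
      rw [h6, h5]
      funext i
      fin_cases i
      · simp [Matrix.mulVec, dotProduct, Fin.sum_univ_two]
      · simp [Matrix.mulVec, dotProduct, Fin.sum_univ_two]
    have e2 : Ψ ((k : H) • w2) = ![Ψ v 1, Ψ v 1] := by
      have h5 := h3 k w2
      rw [hk, hw2] at h5
      have h6 : (k : H) • w2 = k • w2 := rfl
      rw [h6, h5]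
      funext i
      fin_cases i
      · simp [Matrix.mulVec, dotProduct, Fin.sum_univ_two]
      · simp [Matrix.mulVec, dotProduct, Fin.sum_univ_two]
    rw [map_sub, map_sub, map_sub, map_sub, e1, e2, hw1, hw2]
    funext i
    fin_cases i
    · show Ψ v 0 - (Ψ v 0 - 0) - (Ψ v 1 - Ψ v 1) = 0
      ring
    · show Ψ v 1 - (Ψ v 0 - Ψ v 0) - (Ψ v 1 - 0) = 0
      ring
  have e : v = (v - ((g : H) • w1 - w1) - ((k : H) • w2 - w2)) + (((g : H) • w1 - w1) + ((k : H) • w2 - w2)) := by abel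
  rw [e]
  exact AddSubgroup.add_mem _ (AddSubgroup.mem_sup_left h4) (AddSubgroup.mem_sup_right
    (AddSubgroup.add_mem _ (sub_mem_cmt g.2 _) (sub_mem_cmt k.2 _)))

theorem NatSym.sup (h : NatSym V E) : fx V E ⊔ cmt V E = ⊤ := by
  classical
  obtain ⟨n, hn, ρ, Ψ, h1, h2, h3, h4⟩ := h
  rw [eq_top_iff]
  have hcard : 2 < 2 ^ n + 1 := by
    have : 2 ^ 1 ≤ 2 ^ n := Nat.pow_le_pow_right (by norm_num) hn
    omega
  have h0 : 0 < 2 ^ n + 1 := by omega
  -- the vectors `e_i + e_0`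
  have hei : ∀ i : Fin (2 ^ n + 1), ∃ d ∈ cmt V E, Ψ d = fun j => (if j = i then 1 else 0) + (if j = ⟨0, h0⟩ then 1 else 0) := by
    intro i
    by_cases hi : i = ⟨0, h0⟩
    · refine ⟨0, AddSubgroup.zero_mem _, ?_⟩
      rw [map_zero, hi]
      funext j
      exact (zadd _).symm
    obtain ⟨k, hk⟩ : ∃ k : Fin (2 ^ n + 1), k ∉ ({i, ⟨0, h0⟩} : Finset (Fin (2 ^ n + 1))) := by
      by_contra hcon
      push Not at hcon
      have g2 : (Finset.univ : Finset (Fin (2 ^ n + 1))) ⊆ {i, ⟨0, h0⟩} := fun k _ => hcon k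
      have g3 := Finset.card_le_card g2
      have g4 : ({i, ⟨0, h0⟩} : Finset (Fin (2 ^ n + 1))).card ≤ 2 := Finset.card_le_two
      rw [Finset.card_univ, Fintype.card_fin] at g3
      omega
    rw [Finset.mem_insert, Finset.mem_singleton, not_or] at hk
    obtain ⟨v, hv⟩ := h2 (fun j => (if j = i then 1 else 0) + (if j = k then 1 else 0)) (by
      rw [Finset.sum_add_distrib, Finset.sum_ite_eq' Finset.univ i, Finset.sum_ite_eq' Finset.univ k]
      simp only [Finset.mem_univ, if_true]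
      decide)
    obtain ⟨g, hg⟩ := ρ.surjective (Equiv.swap i ⟨0, h0⟩)
    refine ⟨(g : H) • v - v, sub_mem_cmt g.2 v, ?_⟩
    rw [map_sub]
    funext j
    have h5 := h4 g v j
    rw [hg, Equiv.swap_inv, hv] at h5
    have h6 : (g : H) • v = g • v := rfl
    show Ψ ((g : H) • v) j - Ψ v j = _
    rw [h6, h5, hv]
    by_cases hj : j = i
    · rw [hj, Equiv.swap_apply_left]
      beta_reduce
      rw [if_neg (Ne.symm hi), if_neg (Ne.symm hk.2), if_pos rfl, if_neg (Ne.symm hk.1),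
        if_neg hi]
      decide
    · by_cases hj0 : j = ⟨0, h0⟩
      · rw [hj0, Equiv.swap_apply_right]
        beta_reduce
        rw [if_pos rfl, if_neg (Ne.symm hk.1), if_neg (Ne.symm hi), if_neg (Ne.symm hk.2),
          if_pos rfl]
        decide
      · rw [Equiv.swap_apply_of_ne_of_ne hj hj0, if_neg hj, if_neg hj0, sub_self, add_zero]
  choose d hd hd' using hei
  intro v _
  have hsum : v - ∑ i, (if Ψ v i = 0 then 0 else d i) ∈ fx V E := by
    rw [← h3, map_sub, map_sum]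
    funext j
    show Ψ v j - (∑ i, Ψ (if Ψ v i = 0 then 0 else d i)) j = 0
    rw [Finset.sum_apply]
    have e1 : ∀ i, Ψ (if Ψ v i = 0 then 0 else d i) j = (if j = i then Ψ v i else 0) + (if j = ⟨0, h0⟩ then Ψ v i else 0) := by
      intro i
      rcases zcases (Ψ v i) with h | h
      · rw [if_pos h, map_zero, h, ite_self, ite_self, add_zero]
        rfl
      · rw [if_neg (by rw [h]; decide), hd', h]
    simp only [e1]
    rw [Finset.sum_add_distrib, Finset.sum_ite_eq Finset.univ j, if_pos (Finset.mem_univ _)]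
    split_ifs with hj
    · rw [h1, add_zero, sub_self]
    · simp
  have e : v = (v - ∑ i, (if Ψ v i = 0 then 0 else d i)) + ∑ i, (if Ψ v i = 0 then 0 else d i) := by abel
  rw [e]
  apply AddSubgroup.add_mem _ (AddSubgroup.mem_sup_left hsum)
  apply AddSubgroup.mem_sup_right
  apply AddSubgroup.sum_mem
  intro i _
  split_ifs
  · exact AddSubgroup.zero_mem _
  · exact hd i

/-- either type -/
def NatX (p : ℕ) {H : Type*} (V : Type*) [Group H] [AddCommGroup V] [DistribMulAction H V] (E : Subgroup H) : Prop :=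
  NatSL p V E ∨ (p = 2 ∧ NatSym V E)

theorem NatX.kern (h : NatX p V E) {x : H} (hx : x ∈ E) (hm : ∀ v : V, x • v - v ∈ fx V E) : x = 1 := by
  rcases h with h | h
  · exact h.kern hx hm
  · exact h.2.kern hx hm

theorem NatX.sup (h : NatX p V E) : fx V E ⊔ cmt V E = ⊤ := by
  rcases h with h | h
  · exact h.sup
  · exact h.2.sup

end nat

section fam

variable {p : ℕ} {H V : Type*} [Group H] [AddCommGroup V] [DistribMulAction H V] {ι : Type*} {E : ι → Subgroup H}

theorem moves_iSup {W : AddSubgroup V} {ι : Sort*} {K : ι → Subgroup H}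
    (h : ∀ i, ∀ x ∈ K i, ∀ v : V, x • v - v ∈ W) : ∀ x ∈ ⨆ i, K i, ∀ v : V, x • v - v ∈ W := by
  apply moves_closure (S := Set.range K) (by rw [sSup_range])
  rintro _ ⟨i, rfl⟩
  exact h i

/-- independence of the components -/
theorem inf_iSup_eq_bot (hnat : ∀ i, NatX p V (E i)) (hmv : ∀ i j, i ≠ j → ∀ x ∈ E i, ∀ v : V, x • v - v ∈ fx V (E j))
    (i : ι) : E i ⊓ (⨆ j ∈ {j | j ≠ i}, E j) = ⊥ := by
  rw [eq_bot_iff]
  rintro x ⟨hx1, hx2⟩
  rw [Subgroup.mem_bot]
  apply (hnat i).kern hx1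
  have h1 : ∀ x ∈ ⨆ j ∈ {j | j ≠ i}, E j, ∀ v : V, x • v - v ∈ fx V (E i) := by
    apply moves_iSup
    intro j
    apply moves_iSup
    intro hj
    exact hmv j i hj
  exact h1 x hx2

/-- the decomposition of the module -/
theorem fx_sup_cmt [Finite ι] (hnat : ∀ i, NatX p V (E i))
    (hmv : ∀ i j, i ≠ j → ∀ x ∈ E i, ∀ v : V, x • v - v ∈ fx V (E j)) :
    ∀ v : V, ∃ c : V, (∀ i, c ∈ fx V (E i)) ∧ v - c ∈ ⨆ i, cmt V (E i) := by
  classical
  cases nonempty_fintype ι
  have key : ∀ s : Finset ι, ∀ v : V, ∃ c : V, (∀ i ∈ s, c ∈ fx V (E i)) ∧ v - c ∈ ⨆ i, cmt V (E i) := by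
    intro s
    induction s using Finset.induction_on with
    | empty => exact fun v => ⟨v, fun i hi => absurd hi (Finset.notMem_empty i), by rw [sub_self]; exact AddSubgroup.zero_mem _⟩
    | insert a s ha ih =>
      intro v
      obtain ⟨c, hc, hvc⟩ := ih v
      have h1 : c ∈ fx V (E a) ⊔ cmt V (E a) := by rw [(hnat a).sup]; exact AddSubgroup.mem_top _
      obtain ⟨c', hc', d, hd, e⟩ := AddSubgroup.mem_sup.1 h1
      have hd' : d ∈ ⨆ i, cmt V (E i) := (le_iSup (fun i => cmt V (E i)) a) hd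
      refine ⟨c', ?_, ?_⟩
      · intro i hi
        rw [Finset.mem_insert] at hi
        rcases hi with rfl | hi
        · exact hc'
        · have hia : a ≠ i := fun h => ha (h ▸ hi)
          have h2 : d ∈ fx V (E i) := cmt_le (hmv a i hia) hd
          have h3 : c' = c - d := by rw [← e]; abel
          rw [h3]
          exact AddSubgroup.sub_mem _ (hc i hi) h2
      · have h3 : v - c' = (v - c) + d := by rw [← e]; abel
        rw [h3]
        exact AddSubgroup.add_mem _ hvc hd'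
  intro v
  obtain ⟨c, hc, h⟩ := key Finset.univ v
  exact ⟨c, fun i => hc i (Finset.mem_univ i), h⟩

end fam

end H53.FS
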