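import Cfsg.Agent.Lib.H53.FS16
import Cfsg.Prelude.Def_BaumannBlocks

/-!
Offenders: from modules to sections of groups.
-/

set_option autoImplicit false

namespace H53.FS

open Subgroup H53.PU
open H51.FF (cg mem_cg cg_cg cg_one cg_sup cg_top)
open scoped commutatorElement

/-- the translation between a group acting by conjugation and a module -/
structure BR {G : Type*} [Group G] (V P : Subgroup G) {H W : Type*} [Group H] [AddCommGroup W] [DistribMulAction H W]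
    (e : ↥V ≃* Multiplicative W) (π : ↥P →* H) : Prop where
  norm : P ≤ normalizer (V : Set G)
  comp : ∀ (x : ↥P) (v w : ↥V), (w : G) = (x : G) * v * (x : G)⁻¹ →
    Multiplicative.toAdd (e w) = π x • Multiplicative.toAdd (e v)
  surj : Function.Surjective π

/-- the preimage -/
def up {G : Type*} [Group G] {P : Subgroup G} {H : Type*} [Group H] (π : ↥P →* H) (X : Subgroup H) : Subgroup G :=
  (X.comap π).map P.subtype

section

variable {G : Type*} [Group G] {V P : Subgroup G} {H W : Type*} [Group H] [AddCommGroup W] [DistribMulAction H W]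
  {e : ↥V ≃* Multiplicative W} {π : ↥P →* H}

theorem mem_up {X : Subgroup H} {g : G} : g ∈ up π X ↔ ∃ h : g ∈ P, π ⟨g, h⟩ ∈ X := by
  constructor
  · rintro ⟨x, hx, rfl⟩
    exact ⟨x.2, hx⟩
  · rintro ⟨h, hx⟩
    exact ⟨⟨g, h⟩, hx, rfl⟩

theorem up_le (X : Subgroup H) : up π X ≤ P := Subgroup.map_subtype_le _

theorem up_mono {X Y : Subgroup H} (h : X ≤ Y) : up π X ≤ up π Y := Subgroup.map_mono (Subgroup.comap_mono h)

variable (br : BR V P e π)

include br

theorem BR.conj_mem (x : ↥P) (v : ↥V) : (x : G) * v * (x : G)⁻¹ ∈ V :=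
  (Subgroup.mem_normalizer_iff.1 (br.norm x.2) v).1 v.2

theorem BR.smul_iff (x : ↥P) (v : ↥V) :
    π x • Multiplicative.toAdd (e v) = Multiplicative.toAdd (e v) ↔ (x : G) * v = v * x := by
  have h1 := br.comp x v ⟨_, br.conj_mem x v⟩ rfl
  rw [← h1]
  constructor
  · intro h
    have h2 := e.injective (Multiplicative.toAdd.injective h)
    have h3 := congrArg Subtype.val h2
    exact mul_inv_eq_iff_eq_mul.1 h3
  · intro h
    have h2 : (⟨(x : G) * v * (x : G)⁻¹, br.conj_mem x v⟩ : V) = v := Subtype.ext (mul_inv_eq_iff_eq_mul.2 h)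
    rw [h2]

theorem BR.fx_iff (X : Subgroup H) (v : ↥V) :
    Multiplicative.toAdd (e v) ∈ fx W X ↔ (v : G) ∈ centralizer (up π X : Set G) := by
  rw [mem_centralizer_iff]
  constructor
  · intro h x hx
    obtain ⟨hxP, hx'⟩ := mem_up.1 hx
    exact (br.smul_iff ⟨x, hxP⟩ v).1 (h _ hx')
  · intro h t ht
    obtain ⟨x, rfl⟩ := br.surj t
    exact (br.smul_iff x v).2 (h x ⟨x, ht, rfl⟩)

theorem BR.ker_iff (x : ↥P) : (∀ z : W, π x • z = z) ↔ (x : G) ∈ centralizer (V : Set G) := by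
  rw [mem_centralizer_iff]
  constructor
  · intro h v hv
    exact ((br.smul_iff x ⟨v, hv⟩).1 (h _)).symm
  · intro h z
    obtain ⟨v, hv⟩ := e.surjective (Multiplicative.ofAdd z)
    have h1 := (br.smul_iff x v).2 (h v v.2).symm
    rw [hv] at h1
    exact h1

theorem BR.cmt_iff (X : Subgroup H) (w : ↥V) : Multiplicative.toAdd (e w) ∈ cmt W X ↔ (w : G) ∈ ⁅V, up π X⁆ := by
  constructor
  · intro h
    let U : AddSubgroup W :=
      { carrier := {z | ((e.symm (Multiplicative.ofAdd z) : V) : G) ∈ ⁅V, up π X⁆}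
        zero_mem' := by
          show ((e.symm (Multiplicative.ofAdd 0) : V) : G) ∈ ⁅V, up π X⁆
          rw [ofAdd_zero, map_one]
          exact one_mem _
        add_mem' := by
          intro a b ha hb
          show ((e.symm (Multiplicative.ofAdd (a + b)) : V) : G) ∈ ⁅V, up π X⁆
          rw [ofAdd_add, map_mul]
          exact mul_mem ha hb
        neg_mem' := by
          intro a ha
          show ((e.symm (Multiplicative.ofAdd (-a)) : V) : G) ∈ ⁅V, up π X⁆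
          rw [ofAdd_neg, map_inv]
          exact inv_mem ha }
    have h1 : cmt W X ≤ U := by
      apply cmt_le
      intro t ht z
      obtain ⟨x, rfl⟩ := br.surj t
      obtain ⟨v, hv⟩ := e.surjective (Multiplicative.ofAdd z)
      have hz : z = Multiplicative.toAdd (e v) := by rw [hv]; rfl
      have h2 := br.comp x v ⟨_, br.conj_mem x v⟩ rfl
      show ((e.symm (Multiplicative.ofAdd (π x • z - z)) : V) : G) ∈ ⁅V, up π X⁆
      rw [hz, ← h2, ofAdd_sub, map_div]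
      show ((e.symm (e _) / e.symm (e v) : V) : G) ∈ _
      rw [e.symm_apply_apply, e.symm_apply_apply, commutator_comm]
      show (x : G) * v * (x : G)⁻¹ / v ∈ ⁅up π X, V⁆
      rw [div_eq_mul_inv]
      exact commutator_mem_commutator (g₁ := (x : G)) (g₂ := (v : G)) ⟨x, ht, rfl⟩ v.2
    have h2 : ((e.symm (Multiplicative.ofAdd (Multiplicative.toAdd (e w))) : V) : G) ∈ ⁅V, up π X⁆ := h1 h
    rw [ofAdd_toAdd, e.symm_apply_apply] at h2
    exact h2
  · intro h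
    let K : Subgroup V :=
      { carrier := {u | Multiplicative.toAdd (e u) ∈ cmt W X}
        one_mem' := by
          show Multiplicative.toAdd (e 1) ∈ cmt W X
          rw [map_one, toAdd_one]
          exact AddSubgroup.zero_mem _
        mul_mem' := by
          intro a b ha hb
          show Multiplicative.toAdd (e (a * b)) ∈ cmt W X
          rw [map_mul, toAdd_mul]
          exact AddSubgroup.add_mem _ ha hb
        inv_mem' := by
          intro a ha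
          show Multiplicative.toAdd (e a⁻¹) ∈ cmt W X
          rw [map_inv, toAdd_inv]
          exact AddSubgroup.neg_mem _ ha }
    have h1 : ⁅V, up π X⁆ ≤ K.map V.subtype := by
      rw [commutator_le]
      intro v hv x hx
      obtain ⟨hxP, hx'⟩ := mem_up.1 hx
      have h2 := br.comp ⟨x, hxP⟩ ⟨v, hv⟩ ⟨_, br.conj_mem ⟨x, hxP⟩ ⟨v, hv⟩⟩ rfl
      refine ⟨⟨v, hv⟩ * (⟨_, br.conj_mem ⟨x, hxP⟩ ⟨v, hv⟩⟩ : V)⁻¹, ?_, ?_⟩
      · show Multiplicative.toAdd (e _) ∈ cmt W X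
        rw [map_mul, map_inv, toAdd_mul, toAdd_inv, h2]
        have e1 : Multiplicative.toAdd (e ⟨v, hv⟩) + -(π ⟨x, hxP⟩ • Multiplicative.toAdd (e ⟨v, hv⟩)) =
            -(π ⟨x, hxP⟩ • Multiplicative.toAdd (e ⟨v, hv⟩) - Multiplicative.toAdd (e ⟨v, hv⟩)) := by abel
        rw [e1]
        exact AddSubgroup.neg_mem _ (sub_mem_cmt hx' _)
      · show v * (x * v * x⁻¹)⁻¹ = v * x * v⁻¹ * x⁻¹
        group
    obtain ⟨u, hu, h2⟩ := h1 h
    have h3 : u = w := Subtype.ext h2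
    rw [← h3]; exact hu

theorem BR.comm_le (X : Subgroup H) : ⁅V, up π X⁆ ≤ V := by
  rw [commutator_le]
  intro v hv x hx
  obtain ⟨hxP, _⟩ := mem_up.1 hx
  have h1 := br.conj_mem ⟨x, hxP⟩ ⟨v⁻¹, inv_mem hv⟩
  have h2 : v * (x * v⁻¹ * x⁻¹) ∈ V := mul_mem hv h1
  have e1 : ⁅v, x⁆ = v * (x * v⁻¹ * x⁻¹) := by rw [commutatorElement_def]; group
  rw [e1]; exact h2

omit br in
/-- the projection -/
def prj (π : ↥P →* H) (X : Subgroup H) : ↥(up π X) →* ↥X :=
  MonoidHom.mk' (fun x => ⟨π ⟨x, up_le X x.2⟩, (mem_up.1 x.2).2⟩) (by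
    intro a b
    apply Subtype.ext
    show π ⟨(a : G) * b, _⟩ = π ⟨a, _⟩ * π ⟨b, _⟩
    rw [← map_mul]; rfl)

theorem BR.prj_surj (X : Subgroup H) : Function.Surjective (prj π X) := by
  rintro ⟨t, ht⟩
  obtain ⟨x, rfl⟩ := br.surj t
  exact ⟨⟨x, ⟨x, ht, rfl⟩⟩, rfl⟩

theorem BR.prj_ker (faith : ∀ g : H, (∀ v : W, g • v = v) → g = 1) (X : Subgroup H) (x : ↥(up π X)) :
    prj π X x = 1 ↔ (x : G) ∈ centralizer (V : Set G) := by
  rw [← br.ker_iff ⟨x, up_le X x.2⟩]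
  constructor
  · intro h z
    have h1 : π ⟨(x : G), up_le X x.2⟩ = 1 := congrArg Subtype.val h
    rw [h1, one_smul]
  · intro h
    exact Subtype.ext (faith _ h)

theorem BR.normal (X : Subgroup H) : up π X ≤ normalizer ((⁅V, up π X⁆ : Subgroup G) : Set G) := by
  intro x hx
  exact H52.Syl.normalizer_commutator_le ⟨br.norm (up_le X hx), le_normalizer hx⟩

theorem BR.conj_comm {X : Subgroup H} {x : G} (hx : x ∈ up π X) {u : G} (hu : u ∈ ⁅V, up π X⁆) :
    x * u * x⁻¹ ∈ ⁅V, up π X⁆ := (Subgroup.mem_normalizer_iff.1 (br.normal X hx) u).1 hu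

/-- the restriction of the coordinate map -/
def resPsi (e : ↥V ≃* Multiplicative W) {A : Type*} [AddCommGroup A] (Ψ : W →+ A) (U : Subgroup G) (hU : U ≤ V) :
    ↥U →* Multiplicative A :=
  MonoidHom.mk' (fun u => Multiplicative.ofAdd (Ψ (Multiplicative.toAdd (e ⟨u, hU u.2⟩)))) (by
    intro a b
    show Multiplicative.ofAdd (Ψ (Multiplicative.toAdd (e (⟨a, hU a.2⟩ * ⟨b, hU b.2⟩)))) = _
    rw [map_mul, toAdd_mul, map_add, ofAdd_add])

theorem BR.secSL {X : Subgroup H} {F : Type} [Field F]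
    (ρ : ↥X ≃* Matrix.SpecialLinearGroup (Fin 2) F) (Ψ : W →+ (Fin 2 → F))
    (h1 : Function.Surjective Ψ) (h2 : ∀ v, Ψ v = 0 ↔ v ∈ fx W X) (h3 : ∀ (h : ↥X) v,
      Ψ (h • v) = ((ρ h : Matrix.SpecialLinearGroup (Fin 2) F) : Matrix (Fin 2) (Fin 2) F).mulVec (Ψ v))
    (hsup : fx W X ⊔ cmt W X = ⊤) :
    Cfsg.ActsAsSL2OnSection F ⊤ (up π X) ⁅V, up π X⁆ (⁅V, up π X⁆ ⊓ centralizer (up π X : Set G)) := by
  refine ⟨br.normal X, inf_le_left, (ρ : ↥X →* _).comp (prj π X), resPsi e Ψ _ (br.comm_le X), ?_, ?_, ?_, ?_⟩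
  · rw [MonoidHom.range_eq_top]
    exact ρ.surjective.comp (br.prj_surj X)
  · intro z
    obtain ⟨w, hw⟩ := h1 z.toAdd
    have h4 : w ∈ fx W X ⊔ cmt W X := by rw [hsup]; exact AddSubgroup.mem_top _
    obtain ⟨c, hc, d, hd, rfl⟩ := AddSubgroup.mem_sup.1 h4
    rw [map_add, (h2 c).2 hc, zero_add] at hw
    obtain ⟨v, hv⟩ := e.surjective (Multiplicative.ofAdd d)
    have hd' : Multiplicative.toAdd (e v) = d := by rw [hv]; rfl
    have hv' : (v : G) ∈ ⁅V, up π X⁆ := (br.cmt_iff X v).1 (by rw [hd']; exact hd)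
    refine ⟨⟨v, hv'⟩, ?_⟩
    show Multiplicative.ofAdd (Ψ (Multiplicative.toAdd (e v))) = z
    rw [hd', hw]; rfl
  · intro u
    have h4 := h2 (Multiplicative.toAdd (e ⟨u, br.comm_le X u.2⟩))
    rw [br.fx_iff] at h4
    show Multiplicative.ofAdd (Ψ (Multiplicative.toAdd (e ⟨u, _⟩))) = 1 ↔ _
    rw [ofAdd_eq_one, h4]
    exact ⟨fun h => ⟨u.2, h⟩, fun h => h.2⟩
  · intro x u
    refine ⟨⟨(x : G) * u * (x : G)⁻¹, br.conj_comm x.2 u.2⟩, rfl, ?_⟩
    show Ψ (Multiplicative.toAdd (e ⟨(x : G) * u * (x : G)⁻¹, _⟩)) = _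
    rw [br.comp ⟨x, up_le X x.2⟩ ⟨u, br.comm_le X u.2⟩ _ rfl]
    exact h3 (prj π X x) _

theorem BR.secSym {X : Subgroup H} {n : ℕ}
    (ρ : ↥X ≃* Equiv.Perm (Fin n)) (Ψ : W →+ (Fin n → ZMod 2))
    (h0 : ∀ v, ∑ i, Ψ v i = 0) (h1 : ∀ w : Fin n → ZMod 2, ∑ i, w i = 0 → ∃ v, Ψ v = w)
    (h2 : ∀ v, Ψ v = 0 ↔ v ∈ fx W X) (h3 : ∀ (g : ↥X) (v : W) (i : Fin n), Ψ (g • v) i = Ψ v ((ρ g)⁻¹ i))
    (hsup : fx W X ⊔ cmt W X = ⊤) :
    Cfsg.ActsAsOddPermModuleOnSection n ⊤ (up π X) ⁅V, up π X⁆ (⁅V, up π X⁆ ⊓ centralizer (up π X : Set G)) := by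
  refine ⟨br.normal X, inf_le_left, (ρ : ↥X →* _).comp (prj π X), resPsi e Ψ _ (br.comm_le X), ?_, ?_, ?_, ?_, ?_⟩
  · rw [MonoidHom.range_eq_top]
    exact ρ.surjective.comp (br.prj_surj X)
  · intro u
    exact h0 _
  · intro z hz
    obtain ⟨w, hw⟩ := h1 z hz
    have h4 : w ∈ fx W X ⊔ cmt W X := by rw [hsup]; exact AddSubgroup.mem_top _
    obtain ⟨c, hc, d, hd, rfl⟩ := AddSubgroup.mem_sup.1 h4
    rw [map_add, (h2 c).2 hc, zero_add] at hw
    obtain ⟨v, hv⟩ := e.surjective (Multiplicative.ofAdd d)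
    have hd' : Multiplicative.toAdd (e v) = d := by rw [hv]; rfl
    have hv' : (v : G) ∈ ⁅V, up π X⁆ := (br.cmt_iff X v).1 (by rw [hd']; exact hd)
    refine ⟨⟨v, hv'⟩, ?_⟩
    show Ψ (Multiplicative.toAdd (e v)) = z
    rw [hd', hw]
  · intro u
    have h4 := h2 (Multiplicative.toAdd (e ⟨u, br.comm_le X u.2⟩))
    rw [br.fx_iff] at h4
    show Multiplicative.ofAdd (Ψ (Multiplicative.toAdd (e ⟨u, _⟩))) = 1 ↔ _
    rw [ofAdd_eq_one, h4]
    exact ⟨fun h => ⟨u.2, h⟩, fun h => h.2⟩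
  · intro x u
    refine ⟨⟨(x : G) * u * (x : G)⁻¹, br.conj_comm x.2 u.2⟩, rfl, ?_⟩
    intro i
    show Ψ (Multiplicative.toAdd (e ⟨(x : G) * u * (x : G)⁻¹, _⟩)) i = _
    rw [br.comp ⟨x, up_le X x.2⟩ ⟨u, br.comm_le X u.2⟩ _ rfl]
    exact h3 (prj π X x) _ i

end

section fam

variable {G : Type*} [Group G] {V P : Subgroup G} {H W : Type*} [Group H] [AddCommGroup W]
  [DistribMulAction H W] {e : ↥V ≃* Multiplicative W} {π : ↥P →* H} (br : BR V P e π)
  (faith : ∀ g : H, (∀ v : W, g • v = v) → g = 1) {p r : ℕ} {E : Fin r → Subgroup H} (hr : 1 ≤ r)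
  (hnat : ∀ i, NatX p W (E i)) (hmv : ∀ i j, i ≠ j → ∀ x ∈ E i, ∀ v : W, x • v - v ∈ fx W (E j))
  {T : Subgroup ↥P} (hconj : ∀ i j, ∃ t ∈ T.map π, cg t (E i) = E j) (htop : ∀ i, T.map π ⊔ E i = ⊤)

include br

theorem BR.mem_cent {x : G} (hx : x ∈ P) (h : π ⟨x, hx⟩ = 1) : x ∈ centralizer (V : Set G) := by
  rw [← br.ker_iff ⟨x, hx⟩, h]
  exact fun z => one_smul _ _

include faith hmv in
theorem BR.f_comm {i j : Fin r} (hij : i ≠ j) : ⁅up π (E i), up π (E j)⁆ ≤ centralizer (V : Set G) := by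
  rw [commutator_le]
  intro x hx y hy
  obtain ⟨hxP, hx'⟩ := mem_up.1 hx
  obtain ⟨hyP, hy'⟩ := mem_up.1 hy
  have h1 : ∀ l ∈ E i, ∀ l' ∈ E j, l * l' = l' * l := by
    intro l hl l' hl'
    have h3 : (l * l')⁻¹ * (l' * l) = 1 := by
      apply faith
      intro v
      have h4 := hmv j i hij.symm l' hl' v l hl
      have h5 := hmv i j hij l hl v l' hl'
      rw [smul_sub] at h4 h5
      rw [mul_smul, inv_smul_eq_iff, mul_smul, mul_smul]
      have e1 : l • l' • v = l' • v - v + l • v := by rw [← h4]; abel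
      have e2 : l' • l • v = l • v - v + l' • v := by rw [← h5]; abel
      rw [e1, e2]; abel
    exact inv_mul_eq_one.1 h3
  have hP : ⁅x, y⁆ ∈ P := by
    rw [commutatorElement_def]
    exact mul_mem (mul_mem (mul_mem hxP hyP) (inv_mem hxP)) (inv_mem hyP)
  apply br.mem_cent (x := ⁅x, y⁆) hP
  have h2 : (⟨⁅x, y⁆, hP⟩ : ↥P) = ⁅(⟨x, hxP⟩ : ↥P), (⟨y, hyP⟩ : ↥P)⁆ := rfl
  rw [h2, map_commutatorElement, commutatorElement_eq_one_iff_mul_comm]
  exact h1 _ hx' _ hy'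

include faith hmv hnat in
theorem BR.f_inf (i : Fin r) : up π (E i) ⊓ (⨆ j ∈ {j | j ≠ i}, up π (E j)) ≤ centralizer (V : Set G) := by
  rintro x ⟨hx, hx'⟩
  obtain ⟨hxP, hx1⟩ := mem_up.1 hx
  apply br.mem_cent hxP
  have h1 : (⨆ j ∈ {j | j ≠ i}, up π (E j)) ≤ up π (⨆ j ∈ {j | j ≠ i}, E j) := by
    refine iSup₂_le fun j hj => up_mono ?_
    exact le_iSup₂_of_le j hj le_rfl
  obtain ⟨_, hx2⟩ := mem_up.1 (h1 hx')
  have h2 : π ⟨x, hxP⟩ ∈ E i ⊓ (⨆ j ∈ {j | j ≠ i}, E j) := ⟨hx1, hx2⟩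
  rw [inf_iSup_eq_bot hnat hmv i] at h2
  exact Subgroup.mem_bot.1 h2

include hr htop in
theorem BR.f_top : (⨆ i, up π (E i)) ⊔ T.map P.subtype = P := by
  apply le_antisymm
  · exact sup_le (iSup_le fun i => up_le _) (Subgroup.map_subtype_le _)
  · have h1 : T ⊔ (E ⟨0, hr⟩).comap π = ⊤ := by
      have h2 : π.ker ≤ T ⊔ (E ⟨0, hr⟩).comap π := by
        apply le_sup_of_le_right
        intro x hx
        show π x ∈ E ⟨0, hr⟩
        rw [MonoidHom.mem_ker.1 hx]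
        exact one_mem _
      have h3 : (T ⊔ (E ⟨0, hr⟩).comap π).map π = ⊤ := by
        rw [Subgroup.map_sup, Subgroup.map_comap_eq_self_of_surjective br.surj]
        exact htop _
      have h4 := Subgroup.comap_map_eq_self h2
      rw [h3, Subgroup.comap_top] at h4
      exact h4.symm
    have h2 := congrArg (Subgroup.map P.subtype) h1
    rw [Subgroup.map_sup, ← MonoidHom.range_eq_map, Subgroup.range_subtype] at h2
    nth_rewrite 1 [← h2]
    apply sup_le le_sup_right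
    apply le_sup_of_le_left
    exact le_iSup (fun i => up π (E i)) ⟨0, hr⟩

include hconj in
theorem BR.f_conj (i j : Fin r) : ∃ t ∈ T.map P.subtype, (up π (E i)).map (MulAut.conj t).toMonoidHom = up π (E j) := by
  obtain ⟨_, ⟨t, ht, rfl⟩, h⟩ := hconj i j
  refine ⟨t, ⟨t, ht, rfl⟩, ?_⟩
  ext x
  rw [H52.Syl.mem_cj, mem_up, mem_up]
  constructor
  · rintro ⟨h1, h2⟩
    have hxP : x ∈ P := by
      have e1 : x = (t : G) * ((t : G)⁻¹ * x * t) * (t : G)⁻¹ := by group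
      rw [e1]
      exact mul_mem (mul_mem t.2 h1) (inv_mem t.2)
    refine ⟨hxP, ?_⟩
    rw [← h, mem_cg]
    have e1 : (π t)⁻¹ * π ⟨x, hxP⟩ * π t = π ⟨(t : G)⁻¹ * x * t, h1⟩ := by
      rw [← map_inv, ← map_mul, ← map_mul]; rfl
    rw [e1]; exact h2
  · rintro ⟨hxP, h2⟩
    have h1 : (t : G)⁻¹ * x * t ∈ P := mul_mem (mul_mem (inv_mem t.2) hxP) t.2
    refine ⟨h1, ?_⟩
    rw [← h, mem_cg] at h2
    have e1 : (π t)⁻¹ * π ⟨x, hxP⟩ * π t = π ⟨(t : G)⁻¹ * x * t, h1⟩ := by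
      rw [← map_inv, ← map_mul, ← map_mul]; rfl
    rw [← e1]; exact h2

include hmv hnat in
theorem BR.f_mod : (V ⊓ centralizer (((⨆ i, up π (E i)) : Subgroup G) : Set G)) ⊔ (⨆ i, ⁅V, up π (E i)⁆) = V := by
  apply le_antisymm
  · exact sup_le inf_le_left (iSup_le fun i => br.comm_le _)
  · intro v hv
    obtain ⟨c, hc, hd⟩ := fx_sup_cmt hnat hmv (Multiplicative.toAdd (e ⟨v, hv⟩))
    obtain ⟨c', hc'⟩ := e.surjective (Multiplicative.ofAdd c)
    have hc'' : Multiplicative.toAdd (e c') = c := by rw [hc']; rfl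
    have h1 : (c' : G) ∈ V ⊓ centralizer (((⨆ i, up π (E i)) : Subgroup G) : Set G) := by
      refine ⟨c'.2, ?_⟩
      have h2 : (⨆ i, up π (E i)) ≤ centralizer {(c' : G)} := by
        apply iSup_le
        intro i x hx
        rw [mem_centralizer_singleton_iff]
        have h3 := (br.fx_iff (E i) c').1 (by rw [hc'']; exact hc i)
        exact mem_centralizer_iff.1 h3 x hx
      refine mem_centralizer_iff.2 ?_
      intro x hx
      have h3 := h2 hx
      rw [mem_centralizer_singleton_iff] at h3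
      exact h3
    have h2 : v * (c' : G)⁻¹ ∈ ⨆ i, ⁅V, up π (E i)⁆ := by
      let U : AddSubgroup W :=
        { carrier := {z | ((e.symm (Multiplicative.ofAdd z) : V) : G) ∈ ⨆ i, ⁅V, up π (E i)⁆}
          zero_mem' := by
            show ((e.symm (Multiplicative.ofAdd 0) : V) : G) ∈ ⨆ i, ⁅V, up π (E i)⁆
            rw [ofAdd_zero, map_one]
            exact one_mem _
          add_mem' := by
            intro a b ha hb
            show ((e.symm (Multiplicative.ofAdd (a + b)) : V) : G) ∈ ⨆ i, ⁅V, up π (E i)⁆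
            rw [ofAdd_add, map_mul]
            exact mul_mem ha hb
          neg_mem' := by
            intro a ha
            show ((e.symm (Multiplicative.ofAdd (-a)) : V) : G) ∈ ⨆ i, ⁅V, up π (E i)⁆
            rw [ofAdd_neg, map_inv]
            exact inv_mem ha }
      have h3 : (⨆ i, cmt W (E i)) ≤ U := by
        apply iSup_le
        intro i z hz
        show ((e.symm (Multiplicative.ofAdd z) : V) : G) ∈ ⨆ i, ⁅V, up π (E i)⁆
        have h4 : ((e.symm (Multiplicative.ofAdd z) : V) : G) ∈ ⁅V, up π (E i)⁆ := by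
          rw [← br.cmt_iff, e.apply_symm_apply]
          exact hz
        exact (le_iSup (fun i => ⁅V, up π (E i)⁆) i) h4
      have h4 := h3 hd
      have h5 : e.symm (Multiplicative.ofAdd (Multiplicative.toAdd (e ⟨v, hv⟩) - c)) = ⟨v, hv⟩ * c'⁻¹ := by
        rw [← hc'', ofAdd_sub, ofAdd_toAdd, ofAdd_toAdd, map_div, e.symm_apply_apply, e.symm_apply_apply, div_eq_mul_inv]
      have h6 : ((e.symm (Multiplicative.ofAdd (Multiplicative.toAdd (e ⟨v, hv⟩) - c)) : V) : G) ∈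
        ⨆ i, ⁅V, up π (E i)⁆ := h4
      rw [h5] at h6
      exact h6
    have e1 : v = (c' : G) * (v * (c' : G)⁻¹) := by
      have h3 : (⟨v, hv⟩ : V) * c' = c' * ⟨v, hv⟩ := by
        apply e.injective
        rw [map_mul, map_mul, mul_comm]
      have h4 : v * (c' : G) = c' * v := congrArg Subtype.val h3
      rw [← mul_assoc, ← h4, mul_inv_cancel_right]
    rw [e1]
    exact mul_mem (mem_sup_left h1) (mem_sup_right h2)

include hmv in
theorem BR.f_comm2 {i j : Fin r} (hij : i ≠ j) : ⁅⁅V, up π (E i)⁆, up π (E j)⁆ = ⊥ := by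
  rw [commutator_eq_bot_iff_le_centralizer]
  intro u hu
  have hu' := br.comm_le _ hu
  have h1 := (br.cmt_iff (E i) ⟨u, hu'⟩).2 hu
  have h2 : Multiplicative.toAdd (e ⟨u, hu'⟩) ∈ fx W (E j) := cmt_le (hmv i j hij) h1
  exact (br.fx_iff (E j) ⟨u, hu'⟩).1 h2

end fam

end H53.FS
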