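import Cfsg.Agent.Lib.H53.FS16

/-!
Offenders: elements commuting with a root group.
-/

set_option autoImplicit false

namespace H53.FS

open Subgroup H53.PU
open H52.Syl (SylIn exists_sylIn_le sylIn_of_max)
open H51.FF (Off At cg mem_cg card_cg mem_fx_cg card_fx_cg Off.cg At.cg Off.ne Sp card_le V_le Int' int_inj cg_cg cg_one
  cg_sup cg_top Sp.sup_top Sp.exists_add Sp.cover PM)

section

variable {p q : ℕ} [hp : Fact p.Prime] {H V : Type*} [Group H] [Finite H] [AddCommGroup V] [Finite V]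
  [DistribMulAction H V] {T M C L : Subgroup H}

omit [Finite H] in
/-- fixed points on a quotient -/
theorem exists_fix_quot {R : Subgroup H} (hR : IsPGroup p R) (pz : ∀ v : V, p • v = 0) {U : AddSubgroup V}
    (hU : ∀ t ∈ R, ∀ u ∈ U, t • u ∈ U) (hne : U ≠ ⊤) : ∃ u, u ∉ U ∧ ∀ t ∈ R, t • u - u ∈ U := by
  have hV : PV p V := by
    obtain ⟨i1⟩ : Nonempty (Module (ZMod p) V) := ⟨AddCommGroup.zmodModule pz⟩
    exact ⟨_, by rw [Module.natCard_eq_pow_finrank (K := ZMod p) (V := V), Nat.card_zmod]⟩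
  let _ : DistribMulAction R (V ⧸ U) := quotAct U (fun g w hw => hU g g.2 w hw)
  have hnt : (⊤ : AddSubgroup (V ⧸ U)) ≠ ⊥ := by
    intro h1
    apply hne
    rw [eq_top_iff]
    intro v _
    have h2 : (QuotientAddGroup.mk v : V ⧸ U) ∈ (⊤ : AddSubgroup (V ⧸ U)) := AddSubgroup.mem_top _
    rw [h1, AddSubgroup.mem_bot, QuotientAddGroup.eq_zero_iff] at h2
    exact h2
  have hTT : IsPGroup p (⊤ : Subgroup R) := hR.to_subgroup _
  obtain ⟨w, _, hw0, hwT⟩ := exists_fixed (hV.quot U) hTT hnt (fun _ _ _ _ => AddSubgroup.mem_top _)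
  obtain ⟨v, rfl⟩ := QuotientAddGroup.mk_surjective w
  refine ⟨v, fun h => hw0 ((QuotientAddGroup.eq_zero_iff v).2 h), ?_⟩
  intro t ht
  have h1 := hwT ⟨t, ht⟩ (mem_top _)
  have h2 : (QuotientAddGroup.mk (t • v) : V ⧸ U) = QuotientAddGroup.mk v := h1
  have h3 := QuotientAddGroup.eq.1 h2.symm
  rwa [neg_add_eq_sub] at h3

theorem S3.gen' (s : S3 p q V T M C L) {y : H} (hy : y ∈ L) (hyM : y ∉ M) : C ⊔ cg y C = L := by
  obtain ⟨TL, pm⟩ := s.pm
  have h1 := congrArg (Subgroup.map L.subtype) (pm.gen ⟨y, hy⟩ hyM)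
  rw [Subgroup.map_sup, map_cg, map_subgroupOf' s.CL, ← MonoidHom.range_eq_map, Subgroup.range_subtype] at h1
  exact h1

omit [Finite H] [Finite V] in
theorem S3.fxL (s : S3 p q V T M C L) : fx V L ≤ fx V C := fx_anti s.CL

omit [Finite H] in
theorem S3.sepC (s : S3 p q V T M C L) {a : H} (ha : a ∈ C) (ha1 : a ≠ 1) {v : V} (h : a • v - v ∈ fx V L) :
    v ∈ fx V C := by
  obtain ⟨B, _, _, hL, hpr⟩ := s.pr
  obtain ⟨x, hx, w, hw, rfl⟩ := hpr.sp.exists_add v
  have e : a • (x + w) - (x + w) = a • w - w := by rw [smul_add, hx a ha]; abel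
  rw [e] at h
  have h1 : a • w - w ∈ fx V B := fx_anti (by rw [hL]; exact le_sup_right) h
  have h2 : a • w ∈ fx V B := by
    have e : a • w = (a • w - w) + w := by abel
    rw [e]; exact AddSubgroup.add_mem _ h1 hw
  exact AddSubgroup.add_mem _ hx (hpr.hI a ha ha1 w hw h2)

omit [Finite H] in
/-- commutators with a fixed vector -/
theorem S3.surj (s : S3 p q V T M C L) (hq : 1 < q) {u y : V} (hu : u ∉ fx V C) (hy : y ∈ fx V C) :
    ∃ a ∈ C, ∃ c ∈ fx V L, y = a • u - u + c := by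
  obtain ⟨B, _, _, hL, hpr⟩ := s.pr
  obtain ⟨x, hx, w, hw, rfl⟩ := hpr.sp.exists_add u
  have hw' : w ∉ fx V C := fun h => hu (AddSubgroup.add_mem _ hx h)
  obtain ⟨a, ha, c, hc, e⟩ := hpr.surj hq hw hw' hy
  refine ⟨a, ha, c, by rw [hL]; exact hc, ?_⟩
  rw [e, smul_add, hx a ha]; abel

/-- the action of an element centralizing `C` -/
theorem S3.tr1 (s : S3 p q V T M C L) (hq : 1 < q) (pz : ∀ v : V, p • v = 0)
    (hC : C ∈ (Sg p q V : Set (Subgroup H))) (mx : Mx p H V) {t : H}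
    (ht : IsPGroup p (zpowers t)) (htL : cg t L = L) (htC : ∀ c ∈ C, t * c = c * t) :
    (∀ y ∈ fx V C, t • y - y ∈ fx V L) ∧ ∀ v : V, t • v - v ∈ fx V C := by
  have hfxL : ∀ u ∈ fx V L, t • u ∈ fx V L := by
    intro u hu
    rw [← htL, mem_fx_cg, inv_smul_smul]
    exact hu
  have hfxC : ∀ g ∈ zpowers t, ∀ u ∈ fx V C, g • u ∈ fx V C := by
    intro g hg u hu c hc
    have h1 : c * g = g * c := by
      obtain ⟨n, rfl⟩ := mem_zpowers_iff.1 hg
      exact (Commute.zpow_right (show Commute c t from (htC c hc).symm) n)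
    rw [← mul_smul, h1, mul_smul, hu c hc]
  have hne : fx V C ≠ ⊤ := by
    intro h
    have h1 := Sg.cardV mx hC
    rw [h, AddSubgroup.card_top] at h1
    have h2 : 0 < Nat.card V := Nat.card_pos
    have h3 : 1 * Nat.card V < q * Nat.card V := Nat.mul_lt_mul_of_pos_right hq h2
    omega
  obtain ⟨u, hu, hut⟩ := exists_fix_quot ht pz hfxC hne
  have hut' := hut t (mem_zpowers t)
  have h1 : ∀ y ∈ fx V C, t • y - y ∈ fx V L := by
    intro y hy
    obtain ⟨a, ha, c, hc, e⟩ := s.surj hq hu hy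
    have h2 : t • a • u = a • t • u := by rw [← mul_smul, ← mul_smul, htC a ha]
    have h3 := hut' a ha
    rw [smul_sub] at h3
    have h4 : a • t • u = t • u - u + a • u := by rw [← h3]; abel
    have e2 : t • y - y = t • c - c := by
      rw [e, smul_add, smul_sub, h2, h4]; abel
    rw [e2]
    exact AddSubgroup.sub_mem _ (hfxL c hc) hc
  refine ⟨h1, ?_⟩
  intro v
  obtain ⟨a, ha, ha1⟩ := hC.1.ne hq
  apply s.sepC ha ha1
  have h2 : t • a • v = a • t • v := by rw [← mul_smul, ← mul_smul, htC a ha]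
  have h3 := h1 _ (hC.1.quad a ha v)
  have e : a • (t • v - v) - (t • v - v) = t • (a • v - v) - (a • v - v) := by
    rw [smul_sub, smul_sub, h2]; abel
  rw [e]; exact h3

/-- an element acting trivially modulo `C_V(L)` centralizes `L` -/
theorem S3.tr_comm (s : S3 p q V T M C L) {t : H} (htL : cg t L = L) (h : ∀ v : V, t • v - v ∈ fx V L) :
    ∀ l ∈ L, t * l = l * t := by
  have hfxL' : ∀ u ∈ fx V L, t • u ∈ fx V L := by
    intro u hu
    rw [← htL, mem_fx_cg, inv_smul_smul]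
    exact hu
  intro l hl
  have h1 : t * l * t⁻¹ * l⁻¹ ∈ L := by
    apply Subgroup.mul_mem _ _ (inv_mem hl)
    rw [← htL, mem_cg]
    have e : t⁻¹ * (t * l * t⁻¹) * t = l := by group
    rw [e]; exact hl
  have h2 : t * l * t⁻¹ * l⁻¹ = 1 := by
    apply s.kern h1
    intro v
    have h3 : ∀ u : V, t⁻¹ • u - u ∈ fx V L := by
      intro u
      have h4 := h (t⁻¹ • u)
      rw [smul_inv_smul] at h4
      have e : t⁻¹ • u - u = -(u - t⁻¹ • u) := by abel
      rw [e]; exact AddSubgroup.neg_mem _ h4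
    have h4 := h3 (l⁻¹ • v)
    have h5 : l • (t⁻¹ • l⁻¹ • v) = v + (t⁻¹ • l⁻¹ • v - l⁻¹ • v) := by
      have h6 := h4 l hl
      rw [smul_sub, smul_inv_smul] at h6
      rw [← h6]; abel
    have h6 : (t * l * t⁻¹ * l⁻¹) • v = t • (l • (t⁻¹ • l⁻¹ • v)) := by
      rw [mul_smul, mul_smul, mul_smul]
    rw [h6, h5, smul_add]
    have e : t • v + t • (t⁻¹ • l⁻¹ • v - l⁻¹ • v) - v = (t • v - v) + t • (t⁻¹ • l⁻¹ • v - l⁻¹ • v) := by abel
    rw [e]
    exact AddSubgroup.add_mem _ (h v) (hfxL' _ h4)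
  have h3 := mul_inv_eq_one.1 h2
  exact mul_inv_eq_iff_eq_mul.1 h3

/-- an element centralizing `C` acts on `L` as an element of `C` -/
theorem S3.tr2 (s : S3 p q V T M C L) (hq : 1 < q) (st : St p V T M) (mx : Mx p H V)
    (hC : C ∈ (Sg p q V : Set (Subgroup H))) {t : H} (htT : t ∈ T) (htL : cg t L = L) (htC : ∀ c ∈ C, t * c = c * t) :
    ∃ a ∈ C, ∀ v : V, (a⁻¹ * t) • v - v ∈ fx V L := by
  obtain ⟨x, hxL, hxM, hL, hpr⟩ := s.pr2
  have htp : IsPGroup p (zpowers t) := st.pT.to_le ((zpowers_le).2 htT)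
  obtain ⟨h1, h2⟩ := s.tr1 hq st.pz hC mx htp htL htC
  have htC' : cg t C = C := cg_comm htC
  set x' := t * x * t⁻¹ with hx'
  have hx'L : x' ∈ L := by
    rw [← htL, mem_cg]
    have e : t⁻¹ * x' * t = x := by rw [hx']; group
    rw [e]; exact hxL
  have hx'M : x' ∉ M := by
    intro h
    apply hxM
    have e : x = t⁻¹ * x' * t := by rw [hx']; group
    rw [e]
    exact mul_mem (mul_mem (inv_mem (st.TM htT)) h) (st.TM htT)
  have hcg : cg t (cg x C) = cg x' C := by
    have e : t * x = x' * t := by rw [hx']; group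
    rw [cg_cg, e, ← cg_cg, htC']
  -- a vector fixed by `cg x' C`
  obtain ⟨w, hw, hwC⟩ : ∃ w ∈ fx V (cg x' C), w ∉ fx V C := by
    by_contra hcon
    push Not at hcon
    have h3 : fx V (cg x' C) ≤ fx V C := hcon
    have h4 : fx V (cg x' C) = fx V C := by
      apply AddSubgroup.eq_of_le_of_card_ge h3
      rw [card_fx_cg]
    have h5 : cg x' C = C := Off.axis st.pz st.faith mx (Sg.conj hC x').1 hC.1 h4
    have h6 := s.gen' hx'L hx'M
    rw [h5, sup_idem] at h6
    have h7 : C ≤ M := by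
      -- `C` is commutative, so `x'` would normalize `C = L`
      rw [h6]
      intro l hl
      exact absurd (by rw [← h6]; exact h5 : cg x' L = L) (by
        intro _
        apply s.nM
        exfalso
        have h8 := hpr.sp.cA
        have h9 : cg x C = C := by
          have h10 : x ∈ C := by rw [h6]; exact hxL
          exact cg_mem h10
        rw [h9, inf_idem] at h8
        have h11 : 0 < Nat.card (fx V C) := Nat.card_pos
        have h12 : 1 * Nat.card (fx V C) < q * Nat.card (fx V C) := Nat.mul_lt_mul_of_pos_right hq h11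
        omega)
    rw [h6] at h7
    exact s.nM h7
  obtain ⟨a, ha, haw⟩ : ∃ a ∈ C, w ∈ fx V (cg a (cg x C)) := by
    rcases hpr.sp.cover hpr.hA hpr.hI w with h3 | h3
    · exact absurd h3 hwC
    · exact h3
  have haL : a ∈ L := s.CL ha
  have hy : x'⁻¹ * (a * x) ∈ L := mul_mem (inv_mem hx'L) (mul_mem haL hxL)
  have hyM : x'⁻¹ * (a * x) ∈ M := by
    by_contra hcon
    have h3 := s.gen' hy hcon
    have h4 := congrArg (cg x') h3
    rw [cg_sup, cg_cg, mul_inv_cancel_left, cg_mem hx'L] at h4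
    apply hwC
    apply s.fxL
    rw [← h4, fx_sup]
    rw [cg_cg] at haw
    exact ⟨hw, haw⟩
  have h3 := s.nrm _ hy hyM
  have h4 : cg a (cg x C) = cg t (cg x C) := by
    have h5 := congrArg (cg x') h3
    rw [cg_cg, mul_inv_cancel_left] at h5
    rw [hcg, cg_cg, h5]
  refine ⟨a, ha, ?_⟩
  have h5 : cg (a⁻¹ * t) (cg x C) = cg x C := by
    rw [← cg_cg, ← h4, cg_inv_cg]
  intro v
  obtain ⟨y, hy, z, hz, rfl⟩ := hpr.sp.exists_add v
  have haC : ∀ u ∈ fx V C, a⁻¹ • u = u := fun u hu => hu a⁻¹ (inv_mem ha)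
  have g1 : (a⁻¹ * t) • y - y ∈ fx V L := by
    have e : t • y = (t • y - y) + y := by abel
    rw [mul_smul, e, smul_add, haC _ (s.fxL (h1 y hy)), haC y hy, add_sub_cancel_right]
    exact h1 y hy
  have g2 : (a⁻¹ * t) • z - z ∈ fx V L := by
    have g3 : (a⁻¹ * t) • z ∈ fx V (cg x C) := by
      rw [← h5, mem_fx_cg, inv_smul_smul]; exact hz
    have g4 : (a⁻¹ * t) • z - z ∈ fx V C := by
      have e : (a⁻¹ * t) • z - z = a⁻¹ • (t • z - z) + (a⁻¹ • z - z) := by rw [mul_smul, smul_sub]; abel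
      rw [e, haC _ (h2 z)]
      exact AddSubgroup.add_mem _ (h2 z) (hC.1.quad _ (inv_mem ha) z)
    rw [hL, fx_sup]
    exact ⟨g4, AddSubgroup.sub_mem _ g3 hz⟩
  have e : (a⁻¹ * t) • (y + z) - (y + z) = ((a⁻¹ * t) • y - y) + ((a⁻¹ * t) • z - z) := by rw [smul_add]; abel
  rw [e]
  exact AddSubgroup.add_mem _ g1 g2

end

section

variable {p q : ℕ} [hp : Fact p.Prime] {H V : Type*} [Group H] [Finite H] [AddCommGroup V] [Finite V]
  [DistribMulAction H V] {T M : Subgroup H}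

omit [Finite H] [Finite V] hp in
/-- elements of `T` centralizing all components are trivial -/
theorem cent_eq_one (st : St p V T M) (hne : ∃ A ∈ (Sg p q V : Set (Subgroup H)), A ≤ T)
    (hs3 : ∀ C ∈ (Sg p q V : Set (Subgroup H)), C ≤ T → S3 p q V T M C (LL p q V T C)) {t : H} (ht : t ∈ T)
    (h : ∀ C ∈ (Sg p q V : Set (Subgroup H)), C ≤ T → ∀ l ∈ LL p q V T C, t * l = l * t) : t = 1 := by
  let D : Subgroup H :=
    { carrier := {t | t ∈ T ∧ ∀ C ∈ (Sg p q V : Set (Subgroup H)), C ≤ T → ∀ l ∈ LL p q V T C, t * l = l * t}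
      one_mem' := ⟨one_mem _, fun _ _ _ l _ => by rw [one_mul, mul_one]⟩
      mul_mem' := by
        rintro a b ⟨ha, ha'⟩ ⟨hb, hb'⟩
        refine ⟨mul_mem ha hb, fun C hC hCT l hl => ?_⟩
        rw [mul_assoc, hb' C hC hCT l hl, ← mul_assoc, ha' C hC hCT l hl, mul_assoc]
      inv_mem' := by
        rintro a ⟨ha, ha'⟩
        refine ⟨inv_mem ha, fun C hC hCT l hl => ?_⟩
        have h1 := ha' C hC hCT l hl
        calc a⁻¹ * l = a⁻¹ * (l * a) * a⁻¹ := by group
          _ = a⁻¹ * (a * l) * a⁻¹ := by rw [h1]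
          _ = l * a⁻¹ := by group }
  obtain ⟨A, hA, hAT⟩ := hne
  have hn : normalizer (D : Set H) = ⊤ := by
    rw [eq_top_iff, ← (hs3 A hA hAT).top]
    have hT : ∀ s ∈ T, cg s D ≤ D := by
      rintro s hs x hx
      rw [mem_cg] at hx
      obtain ⟨h1, h2⟩ := hx
      have e : x = s * (s⁻¹ * x * s) * s⁻¹ := by group
      refine ⟨by rw [e]; exact mul_mem (mul_mem hs h1) (inv_mem hs), ?_⟩
      intro C hC hCT l hl
      have h3 : s⁻¹ * l * s ∈ LL p q V T (cg s⁻¹ C) := by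
        rw [← cg_LL (inv_mem hs), mem_cg, inv_inv]
        have e1 : s * (s⁻¹ * l * s) * s⁻¹ = l := by group
        rw [e1]; exact hl
      have h4 := h2 (cg s⁻¹ C) (Sg.conj hC s⁻¹) (by rw [cg_le_iff, inv_inv, cg_mem hs]; exact hCT) _ h3
      have e1 : s⁻¹ * x * s * (s⁻¹ * l * s) = s⁻¹ * (x * l) * s := by group
      have e2 : s⁻¹ * l * s * (s⁻¹ * x * s) = s⁻¹ * (l * x) * s := by group
      rw [e1, e2] at h4
      exact mul_left_cancel (mul_right_cancel h4)
    apply sup_le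
    · intro s hs
      rw [mem_norm]
      apply le_antisymm (hT s hs)
      rw [le_cg_iff]
      exact hT s⁻¹ (inv_mem hs)
    · intro l hl
      rw [mem_norm]
      apply cg_comm
      intro d hd
      exact (hd.2 A hA hAT l hl).symm
  have h1 := st.noP D (normalizer_eq_top_iff.1 hn) (st.pT.to_le fun x hx => hx.1)
  have h2 : t ∈ D := ⟨ht, h⟩
  rw [h1, Subgroup.mem_bot] at h2
  exact h2

end

end H53.FS
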