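import Cfsg.Agent.Lib.H53.FS18

/-!
Offenders: all best offenders are generated by root groups.
-/

set_option autoImplicit false

namespace H53.FS

open Subgroup H53.PU
open H52.Syl (SylIn exists_sylIn_le sylIn_of_max)
open H51.FF (Off At cg mem_cg card_cg mem_fx_cg card_fx_cg Off.cg At.cg Off.ne Sp card_le V_le Int' int_inj cg_cg cg_one
  cg_sup cg_top Sp.sup_top Sp.exists_add Sp.cover PM)

section

variable {p q : ℕ} [hp : Fact p.Prime] {H V : Type*} [Group H] [Finite H] [AddCommGroup V] [Finite V]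
  [DistribMulAction H V] {T M : Subgroup H}

/-- the commutators with one element -/
theorem S3.surj1 {C L : Subgroup H} (s : S3 p q V T M C L) (hq : 1 < q) (mx : Mx p H V)
    (hC : C ∈ (Sg p q V : Set (Subgroup H))) {e : H} (he : e ∈ C) (he1 : e ≠ 1) {y : V} (hy : y ∈ fx V C) :
    ∃ w : V, ∃ c ∈ fx V L, y = e • w - w + c := by
  let φ : V →+ V := { toFun := fun v => e • v - v
                      map_zero' := by rw [smul_zero, sub_zero]
                      map_add' := fun v w => by rw [smul_add]; abel }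
  have hφ : ∀ v, φ v = e • v - v := fun _ => rfl
  have hker : φ.ker = fx V C := by
    ext v
    rw [AddMonoidHom.mem_ker, hφ, sub_eq_zero]
    exact ⟨fun h => hC.2 e he he1 v h, fun h => h e he⟩
  have h1 : Nat.card φ.range * Nat.card (fx V C) = Nat.card V := by
    rw [← hker]
    have h2 := φ.ker.card_mul_index
    rw [AddSubgroup.index_ker] at h2
    rw [← h2, mul_comm]
  have h2 := Sg.cardV mx hC
  have h3 : Nat.card φ.range = q := by
    apply Nat.eq_of_mul_eq_mul_right (Nat.card_pos (α := fx V C))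
    rw [h1, h2]
  have h4 : φ.range ⊓ fx V L = ⊥ := by
    rw [eq_bot_iff]
    rintro _ ⟨⟨v, rfl⟩, hv⟩
    have h5 := s.sepC he he1 hv
    rw [AddSubgroup.mem_bot, hφ, h5 e he, sub_self]
  have h5 := add_card_sup_inf φ.range (fx V L)
  rw [h4, AddSubgroup.card_bot, mul_one, h3] at h5
  obtain ⟨B, _, _, hL, hpr⟩ := s.pr
  have h6 := hpr.sp.cA
  rw [← fx_sup, ← hL] at h6
  have h7 : φ.range ⊔ fx V L = fx V C := by
    apply AddSubgroup.eq_of_le_of_card_ge
    · apply sup_le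
      · rintro _ ⟨v, rfl⟩
        exact hC.1.quad e he v
      · exact s.fxL
    · rw [h5, h6]
  rw [← h7] at hy
  obtain ⟨_, ⟨w, rfl⟩, c, hc, h8⟩ := AddSubgroup.mem_sup.1 hy
  exact ⟨w, c, hc, h8.symm⟩

/-- an element of `T` normalizing `C` and acting trivially modulo `C_V(C)` centralizes `C` -/
theorem S3.tr3 {C L : Subgroup H} (s : S3 p q V T M C L) (hq : 1 < q) (mx : Mx p H V)
    (hC : C ∈ (Sg p q V : Set (Subgroup H))) {x : H} (hx : IsPGroup p (zpowers x)) (hxL : cg x L = L)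
    (hxC : cg x C = C) (h : ∀ v : V, x • v - v ∈ fx V C) : ∀ c ∈ C, x * c = c * x := by
  have hfin : Finite C := Nat.finite_of_card_ne_zero (by rw [hC.1.card]; omega)
  have hfxL : ∀ u ∈ fx V L, x • u ∈ fx V L := by
    intro u hu
    rw [← hxL, mem_fx_cg, inv_smul_smul]
    exact hu
  -- a fixed element of `C`
  obtain ⟨e, he, he1, hex⟩ : ∃ e ∈ C, e ≠ 1 ∧ x * e = e * x := by
    have hn : ∀ g ∈ zpowers x, cg g C = C := by
      intro g hg
      have h1 : zpowers x ≤ normalizer (C : Set H) := by rw [zpowers_le]; exact mem_norm.2 hxC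
      exact mem_norm.1 (h1 hg)
    letI act : MulAction (zpowers x) C :=
      { smul := fun g c => ⟨(g : H) * c * (g : H)⁻¹, by
          have h1 := hn g g.2
          have h2 : (g : H) * c * (g : H)⁻¹ ∈ cg (g : H) C := by
            rw [mem_cg]
            have e1 : (g : H)⁻¹ * ((g : H) * c * (g : H)⁻¹) * g = c := by group
            rw [e1]; exact c.2
          rwa [h1] at h2⟩
        one_smul := fun c => Subtype.ext (by
          show ((1 : zpowers x) : H) * c * ((1 : zpowers x) : H)⁻¹ = c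
          rw [OneMemClass.coe_one]; group)
        mul_smul := fun a b c => Subtype.ext (by
          show ((a * b : zpowers x) : H) * c * ((a * b : zpowers x) : H)⁻¹ = (a : H) * ((b : H) * c * (b : H)⁻¹) * (a : H)⁻¹
          rw [Subgroup.coe_mul]; group) }
    have hdvd : p ∣ Nat.card C := by
      obtain ⟨k, hk⟩ := IsPGroup.iff_card.1 hC.1.pg
      rw [hk]
      apply dvd_pow_self
      rintro rfl
      rw [pow_zero, hC.1.card] at hk
      omega
    obtain ⟨e, he, hne⟩ := hx.exists_fixed_point_of_prime_dvd_card_of_fixed_point C hdvd (a := (1 : C)) (by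
      intro g
      apply Subtype.ext
      show (g : H) * ((1 : C) : H) * (g : H)⁻¹ = ((1 : C) : H)
      rw [OneMemClass.coe_one]; group)
    refine ⟨e, e.2, fun h1 => hne (Subtype.ext h1.symm), ?_⟩
    have h1 := congrArg Subtype.val (he ⟨x, mem_zpowers x⟩)
    exact mul_inv_eq_iff_eq_mul.1 h1
  have h1 : ∀ y ∈ fx V C, x • y - y ∈ fx V L := by
    intro y hy
    obtain ⟨w, c, hc, e1⟩ := s.surj1 hq mx hC he he1 hy
    have h2 : x • e • w = e • x • w := by rw [← mul_smul, ← mul_smul, hex]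
    have h3 := h w e he
    rw [smul_sub] at h3
    have h4 : e • x • w = x • w - w + e • w := by rw [← h3]; abel
    have e2 : x • y - y = x • c - c := by
      rw [e1, smul_add, smul_sub, h2, h4]; abel
    rw [e2]
    exact AddSubgroup.sub_mem _ (hfxL c hc) hc
  intro c hc
  have hz : x * c * x⁻¹ * c⁻¹ ∈ L := by
    apply Subgroup.mul_mem _ _ (inv_mem (s.CL hc))
    rw [← hxL, mem_cg]
    have e1 : x⁻¹ * (x * c * x⁻¹) * x = c := by group
    rw [e1]; exact s.CL hc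
  have h2 : x * c * x⁻¹ * c⁻¹ = 1 := by
    apply s.kern hz
    intro v
    -- `v' = c⁻¹ v`, `h = x⁻¹ v' - v'`
    have h3 : x⁻¹ • c⁻¹ • v - c⁻¹ • v ∈ fx V C := by
      have h4 := h (x⁻¹ • c⁻¹ • v)
      rw [smul_inv_smul] at h4
      have e1 : x⁻¹ • c⁻¹ • v - c⁻¹ • v = -(c⁻¹ • v - x⁻¹ • c⁻¹ • v) := by abel
      rw [e1]; exact AddSubgroup.neg_mem _ h4
    have h4 : c • (x⁻¹ • c⁻¹ • v) = v + (x⁻¹ • c⁻¹ • v - c⁻¹ • v) := by
      have h5 := h3 c hc
      rw [smul_sub, smul_inv_smul] at h5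
      rw [← h5]; abel
    have h5 : (x * c * x⁻¹ * c⁻¹) • v = x • (c • (x⁻¹ • c⁻¹ • v)) := by rw [mul_smul, mul_smul, mul_smul]
    have h6 : v - c⁻¹ • v ∈ fx V C := by
      have h7 := hC.1.quad c hc (c⁻¹ • v)
      rwa [smul_inv_smul] at h7
    have h7 := h1 _ h6
    rw [h5, h4]
    have e1 : x • (v + (x⁻¹ • c⁻¹ • v - c⁻¹ • v)) - v = x • (v - c⁻¹ • v) - (v - c⁻¹ • v) := by
      rw [smul_add, smul_sub, smul_inv_smul, smul_sub]; abel
    rw [e1]; exact h7
  have h3 := mul_inv_eq_one.1 h2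
  exact mul_inv_eq_iff_eq_mul.1 h3

omit [Finite H] hp in
theorem V_le' {q q' : ℕ} (mx : Mx p H V) {A C : Subgroup H} (hA : A ∈ (Sg p q V : Set (Subgroup H)))
    (hC : C ∈ (Sg p q' V : Set (Subgroup H))) : Nat.card V ≤ q * (q' * Nat.card ↥(fx V A ⊓ fx V C)) := by
  have h1 := Sg.cardV mx hA
  have h2 := Sg.cardV mx hC
  have h3 := add_card_sup_inf (fx V A) (fx V C)
  have h4 : Nat.card ↥(fx V A ⊔ fx V C) ≤ Nat.card V := Nat.card_le_card_of_injective _ (AddSubgroup.subtype_injective _)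
  have hV : 0 < Nat.card V := Nat.card_pos
  apply Nat.le_of_mul_le_mul_left _ hV
  calc Nat.card V * Nat.card V = (q * Nat.card (fx V A)) * (q' * Nat.card (fx V C)) := by rw [← h1, ← h2]
    _ = q * q' * (Nat.card ↥(fx V A ⊔ fx V C) * Nat.card ↥(fx V A ⊓ fx V C)) := by rw [h3]; ring
    _ ≤ q * q' * (Nat.card V * Nat.card ↥(fx V A ⊓ fx V C)) := Nat.mul_le_mul_left _ (Nat.mul_le_mul_right _ h4)
    _ = _ := by ring

omit [Finite H] hp in
theorem inf_bot' {q q' : ℕ} (hqq : q ≠ q') (mx : Mx p H V) {A C : Subgroup H} (hA : A ∈ (Sg p q V : Set (Subgroup H)))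
    (hC : C ∈ (Sg p q' V : Set (Subgroup H))) : A ⊓ C = ⊥ := by
  by_contra h
  obtain ⟨x, hx⟩ := ne_bot_iff_exists_ne_one.1 h
  have hx1 : (x : H) ≠ 1 := fun h1 => hx (Subtype.ext h1)
  have h1 : fx V A = fx V C := by
    ext v
    exact ⟨fun h => hC.2 x x.2.2 hx1 v (h x x.2.1), fun h => hA.2 x x.2.1 hx1 v (h x x.2.2)⟩
  have h2 := Sg.cardV mx hA
  have h3 := Sg.cardV mx hC
  rw [h1, h3] at h2
  exact hqq (Nat.eq_of_mul_eq_mul_right Nat.card_pos h2).symm

/-- **the mixed commuting lemma** -/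
theorem mixed {q q' : ℕ} (st : St p V T M) (mx : Mx p H V) (hq : 1 < q) (hqq : q < q') {A C : Subgroup H}
    (hA : A ∈ (Sg p q V : Set (Subgroup H))) (hAT : A ≤ T) (hC : C ∈ (Sg p q' V : Set (Subgroup H))) (hCT : C ≤ T)
    (s : S3 p q' V T M C (LL p q' V T C)) : ∀ a ∈ A, ∀ c ∈ C, a * c = c * a := by
  have hq' : 1 < q' := hq.trans hqq
  -- `A` normalizes `C`
  have h1 : ∀ a ∈ A, cg a C = C := by
    intro a ha
    by_contra hne
    have hCa : cg a C ∈ (Sg p q' V : Set (Subgroup H)) := Sg.conj hC a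
    have hCaT : cg a C ≤ T := by rw [cg_le_iff, cg_mem (inv_mem (hAT ha))]; exact hCT
    obtain ⟨h2, _, _, _⟩ := Sg.cp hq' st.pz st.faith mx hC hCa (Ne.symm hne)
      (Sg.comm_le hq' st.pz st.faith mx hC hCa st.pT hCT hCaT)
    have h3 := V_le' mx hA hC
    have h4 : fx V A ⊓ fx V C ≤ fx V C ⊓ fx V (cg a C) := by
      rintro v ⟨hv1, hv2⟩
      refine ⟨hv2, ?_⟩
      refine mem_fx_cg.2 ?_
      rw [hv1 a⁻¹ (inv_mem ha)]
      exact hv2
    have h5 := card_le _ _ h4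
    have h6 : 0 < Nat.card ↥(fx V C ⊓ fx V (cg a C)) := Nat.card_pos
    have h7 : q * (q' * Nat.card ↥(fx V A ⊓ fx V C)) ≤ q * (q' * Nat.card ↥(fx V C ⊓ fx V (cg a C))) :=
      Nat.mul_le_mul_left _ (Nat.mul_le_mul_left _ h5)
    have h8 : q * (q' * Nat.card ↥(fx V C ⊓ fx V (cg a C))) < q' * (q' * Nat.card ↥(fx V C ⊓ fx V (cg a C))) :=
      Nat.mul_lt_mul_of_pos_right hqq (Nat.mul_pos (by omega) h6)
    omega
  have hACinf := inf_bot' (Nat.ne_of_lt hqq) mx hA hC
  by_cases hall : ∀ c ∈ C, cg c A = A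
  · intro a ha c hc
    have h3 : a * c * a⁻¹ * c⁻¹ ∈ A ⊓ C := by
      constructor
      · have h4 : c * a⁻¹ * c⁻¹ ∈ cg c A := by
          rw [mem_cg]
          have e : c⁻¹ * (c * a⁻¹ * c⁻¹) * c = a⁻¹ := by group
          rw [e]; exact inv_mem ha
        rw [hall c hc] at h4
        have e : a * c * a⁻¹ * c⁻¹ = a * (c * a⁻¹ * c⁻¹) := by group
        rw [e]
        exact Subgroup.mul_mem _ ha h4
      · have h4 : a * c * a⁻¹ ∈ cg a C := by
          rw [mem_cg]
          have e : a⁻¹ * (a * c * a⁻¹) * a = c := by group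
          rw [e]; exact hc
        rw [h1 a ha] at h4
        exact Subgroup.mul_mem _ h4 (inv_mem hc)
    rw [hACinf, Subgroup.mem_bot] at h3
    have h4 := mul_inv_eq_one.1 h3
    exact mul_inv_eq_iff_eq_mul.1 h4
  · push Not at hall
    obtain ⟨c, hc, hcA⟩ := hall
    have hA' : cg c A ∈ (Sg p q V : Set (Subgroup H)) := Sg.conj hA c
    have hA'T : cg c A ≤ T := by rw [cg_le_iff, cg_mem (inv_mem (hCT hc))]; exact hAT
    obtain ⟨_, _, h3, _⟩ := Sg.cp hq st.pz st.faith mx hA hA' (Ne.symm hcA)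
      (Sg.comm_le hq st.pz st.faith mx hA hA' st.pT hAT hA'T)
    obtain ⟨a, ha, ha1⟩ := hA.1.ne hq
    have hd : a⁻¹ * (c * a * c⁻¹) ∈ C := by
      have h4 : a⁻¹ * c * a ∈ C := by
        have h5 := h1 a⁻¹ (inv_mem ha)
        rw [← h5, mem_cg]
        have e : a⁻¹⁻¹ * (a⁻¹ * c * a) * a⁻¹ = c := by group
        rw [e]; exact hc
      have e : a⁻¹ * (c * a * c⁻¹) = (a⁻¹ * c * a) * c⁻¹ := by group
      rw [e]
      exact mul_mem h4 (inv_mem hc)
    have hcac : c * a * c⁻¹ ∈ cg c A := by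
      rw [mem_cg]
      have e : c⁻¹ * (c * a * c⁻¹) * c = a := by group
      rw [e]; exact ha
    have hd1 : a⁻¹ * (c * a * c⁻¹) ≠ 1 := by
      intro h4
      rw [inv_mul_eq_one] at h4
      have h5 : a ∈ A ⊓ cg c A := ⟨ha, by rw [h4]; exact hcac⟩
      rw [Sg.inf_bot st.pz st.faith mx hA hA' (Ne.symm hcA), Subgroup.mem_bot] at h5
      exact ha1 h5
    have hU : fx V A ⊓ fx V (cg c A) ≤ fx V C := by
      rintro u ⟨hu1, hu2⟩
      apply hC.2 _ hd hd1
      rw [mul_smul, hu2 _ hcac, hu1 a⁻¹ (inv_mem ha)]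
    have hAV : ∀ x ∈ A, ∀ v : V, x • v - v ∈ fx V C := fun x hx v => hU ⟨hA.1.quad x hx v, h3 x hx v⟩
    intro x hx
    refine s.tr3 hq' mx hC (st.pT.to_le ((zpowers_le).2 (hAT hx))) ?_ (h1 x hx) (hAV x hx)
    rw [cg_LL (hAT hx), h1 x hx]

/-- only one `q` -/
theorem no_two {q q' : ℕ} (st : St p V T M) (mx : Mx p H V) (hq : 1 < q) (hq' : 1 < q') (hne : q ≠ q')
    (h1 : ∃ A, A ∈ (Sg p q V : Set (Subgroup H))) (h2 : ∃ A, A ∈ (Sg p q' V : Set (Subgroup H))) : False := by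
  obtain ⟨hA0, _, hs3⟩ := stage3 st hq mx h1
  obtain ⟨⟨D, hD, hDT⟩, _, hs3'⟩ := stage3 st hq' mx h2
  have hcomm : ∀ A ∈ (Sg p q V : Set (Subgroup H)), A ≤ T → ∀ a ∈ A, ∀ d ∈ D, a * d = d * a := by
    intro A hA hAT
    rcases Nat.lt_or_gt_of_ne hne with h | h
    · exact mixed st mx hq h hA hAT hD hDT (hs3' D hD hDT)
    · exact fun a ha d hd => (mixed st mx hq' h hD hDT hA hAT (hs3 A hA hAT) d hd a ha).symm
  obtain ⟨d, hd, hd1⟩ := hD.1.ne hq'
  have hLL : ∀ A ∈ (Sg p q V : Set (Subgroup H)), A ≤ T → cg d (LL p q V T A) = LL p q V T A := by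
    intro A hA hAT
    rw [cg_LL (hDT hd), cg_comm (fun a ha => (hcomm A hA hAT a ha d hd).symm)]
  obtain ⟨A, hA, hAT, hAd⟩ : ∃ A ∈ (Sg p q V : Set (Subgroup H)), A ≤ T ∧ ¬ ∀ v : V, d • v - v ∈ fx V (LL p q V T A) := by
    by_contra hcon
    push Not at hcon
    apply hd1
    exact cent_eq_one st hA0 hs3 (hDT hd) fun C hC hCT => (hs3 C hC hCT).tr_comm (hLL C hC hCT) (hcon C hC hCT)
  have s := hs3 A hA hAT
  obtain ⟨a, ha, had⟩ := s.tr2 hq st mx hA (hDT hd) (hLL A hA hAT) (fun c hc => (hcomm A hA hAT c hc d hd).symm)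
  have ha1 : a ≠ 1 := by
    rintro rfl
    apply hAd
    intro v
    have := had v
    rwa [inv_one, one_mul] at this
  have hDA : fx V D ≤ fx V A := by
    intro v hv
    apply s.sepC (inv_mem ha) (fun h => ha1 (inv_eq_one.1 h))
    have h3 := had v
    rwa [mul_smul, hv d hd] at h3
  obtain ⟨h3, h4⟩ := sup_comm_pgroup hA.1.pg hD.1.pg hA.1.comm hD.1.comm (hcomm A hA hAT)
  have h5 := mx _ h3 h4
  have h6 := card_sup_inf_comm h4 le_sup_left le_sup_right
  rw [inf_bot' hne mx hA hD, Subgroup.card_bot, mul_one, hA.1.card, hD.1.card] at h6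
  rw [h6, fx_sup, inf_eq_right.2 hDA] at h5
  have h7 := Sg.cardV mx hD
  have h8 : 0 < Nat.card (fx V D) := Nat.card_pos
  have h9 : 1 * (q' * Nat.card (fx V D)) < q * (q' * Nat.card (fx V D)) :=
    Nat.mul_lt_mul_of_pos_right hq (Nat.mul_pos (by omega) h8)
  rw [mul_assoc] at h5
  omega

/-- minimal best offenders are root groups -/
theorem min_sg (st : St p V T M) (mx : Mx p H V) (hq : 1 < q) (hne : ∃ A, A ∈ (Sg p q V : Set (Subgroup H)))
    {X : Subgroup H} (hX1 : X ≠ ⊥) (hXp : IsPGroup p X) (hXc : ∀ a ∈ X, ∀ b ∈ X, a * b = b * a)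
    (hXf : Nat.card V ≤ vl V X) (hXs : ∀ Z ≤ X, Z ≠ ⊥ → Z ≠ X → vl V Z < vl V X) : X ∈ (Sg p q V : Set (Subgroup H)) := by
  by_contra hXS
  set S : Set (Subgroup H) := {A | (A ≠ ⊥ ∧ IsPGroup p A ∧ (∀ a ∈ A, ∀ b ∈ A, a * b = b * a)) ∧ Nat.card V ≤ vl V A ∧
    (∀ Z ≤ A, Z ≠ ⊥ → Z ≠ A → vl V Z < vl V A) ∧ A ∉ (Sg p q V : Set (Subgroup H))} with hS
  have fam : IsF p V S := by
    refine ⟨?_, fun A hA => hA.1.1, fun A hA => hA.1.2.1, fun A hA => hA.1.2.2, fun A hA => hA.2.1, fun A hA => hA.2.2.1⟩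
    rintro A ⟨⟨h1, h2, h3⟩, h4, h5, h7⟩ g
    refine ⟨⟨cg_ne_bot h1, h2.map _, ?_⟩, by rw [vl_cg]; exact h4, ?_, ?_⟩
    · intro a ha b hb
      have h6 := h3 _ (mem_cg.1 ha) _ (mem_cg.1 hb)
      have e1 : g⁻¹ * a * g * (g⁻¹ * b * g) = g⁻¹ * (a * b) * g := by group
      have e2 : g⁻¹ * b * g * (g⁻¹ * a * g) = g⁻¹ * (b * a) * g := by group
      rw [e1, e2] at h6
      exact mul_left_cancel (mul_right_cancel h6)
    · intro Z hZ hZ1 hZ2
      have h6 := h5 (cg g⁻¹ Z) (le_cg_iff.1 hZ) (cg_ne_bot hZ1) (by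
        intro h; apply hZ2; rw [← h, cg_cg_inv])
      rw [vl_cg] at h6
      rw [vl_cg]
      exact h6
    · intro h
      apply h7
      have h8 := Sg.conj h g⁻¹
      rwa [cg_inv_cg] at h8
  have hXS' : X ∈ S := ⟨⟨hX1, hXp, hXc⟩, hXf, hXs, hXS⟩
  obtain ⟨g, hg⟩ := exists_conj_le_T st hXp
  obtain ⟨Y, ym⟩ := st.exists_YM S
  obtain ⟨A, hA, hAT, hAN, hAY⟩ := ym.exists_A st fam.conj ⟨cg g X, fam.conj _ hXS' g, hg, cg_ne_bot hX1⟩
  obtain ⟨h1, h2⟩ := ym.zip_sg st fam hA hAN hAY (hAT.trans st.TM)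
  have h3 : 1 < Nat.card A := by rw [Subgroup.one_lt_card_iff_ne_bot]; exact fam.ne A hA
  have h4 : q ≠ Nat.card A := by
    intro h
    apply hA.2.2.2
    rw [h]
    exact h1
  exact no_two st mx hq h3 h4 hne ⟨A, h1⟩

/-- existence of a root group in a best offender -/
theorem exists_sg_le (st : St p V T M) (mx : Mx p H V) (hq : 1 < q) (hne : ∃ A, A ∈ (Sg p q V : Set (Subgroup H)))
    {X : Subgroup H} (hX1 : X ≠ ⊥) (hXp : IsPGroup p X) (hXc : ∀ a ∈ X, ∀ b ∈ X, a * b = b * a)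
    (hXf : Nat.card V ≤ vl V X) : ∃ Z ∈ (Sg p q V : Set (Subgroup H)), Z ≤ X := by
  obtain ⟨Z, ⟨hZX, hZ1, hZf⟩, hmin⟩ := Set.exists_min_image {Z : Subgroup H | Z ≤ X ∧ Z ≠ ⊥ ∧ Nat.card V ≤ vl V Z}
    (fun Z => Nat.card Z) (Set.toFinite _) ⟨X, le_rfl, hX1, hXf⟩
  refine ⟨Z, min_sg st mx hq hne hZ1 (hXp.to_le hZX) (fun a ha b hb => hXc a (hZX ha) b (hZX hb)) hZf ?_, hZX⟩
  intro Z' h1 h2 h3
  by_contra h4
  push Not at h4
  exact h3 (Subgroup.eq_of_le_of_card_ge h1 (hmin Z' ⟨h1.trans hZX, h2, hZf.trans h4⟩))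

omit [Finite H] [Finite V] hp in
theorem cg_sSup_Sg (g : H) : cg g (sSup (Sg p q V : Set (Subgroup H))) = sSup (Sg p q V : Set (Subgroup H)) :=
  cg_sSup_of (fun _ hC => Sg.conj hC g) (fun _ hC => Sg.conj hC g⁻¹)

/-- **best offenders are generated by root groups** -/
theorem best_le (st : St p V T M) (mx : Mx p H V) (hq : 1 < q) (hne : ∃ A, A ∈ (Sg p q V : Set (Subgroup H))) (n : ℕ) :
    ∀ X : Subgroup H, IsPGroup p X → (∀ a ∈ X, ∀ b ∈ X, a * b = b * a) → Nat.card V ≤ vl V X → Nat.card X ≤ n →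
      X ≤ sSup (Sg p q V : Set (Subgroup H)) := by
  induction n with
  | zero =>
    intro X _ _ _ h
    have : 0 < Nat.card X := Nat.card_pos
    omega
  | succ n ih =>
    intro X0 hX0p hX0c hX0f hn
    by_cases hX0 : X0 = ⊥
    · rw [hX0]; exact bot_le
    obtain ⟨Z0, hZ0, hZ0X⟩ := exists_sg_le st mx hq hne hX0 hX0p hX0c hX0f
    obtain ⟨g, hg⟩ := exists_conj_le_T st hX0p
    -- pass to a conjugate in `T`
    have key : cg g X0 ≤ sSup (Sg p q V : Set (Subgroup H)) := by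
      obtain ⟨X, hX⟩ : ∃ X, X = cg g X0 := ⟨_, rfl⟩
      have hXp : IsPGroup p X := by rw [hX]; exact hX0p.map _
      have hXc : ∀ a ∈ X, ∀ b ∈ X, a * b = b * a := by
        rw [hX]
        intro a ha b hb
        have h6 := hX0c _ (mem_cg.1 ha) _ (mem_cg.1 hb)
        have e1 : g⁻¹ * a * g * (g⁻¹ * b * g) = g⁻¹ * (a * b) * g := by group
        have e2 : g⁻¹ * b * g * (g⁻¹ * a * g) = g⁻¹ * (b * a) * g := by group
        rw [e1, e2] at h6
        exact mul_left_cancel (mul_right_cancel h6)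
      have hXf : Nat.card V ≤ vl V X := by rw [hX, vl_cg]; exact hX0f
      have hXn : Nat.card X ≤ n + 1 := by rw [hX, card_cg]; exact hn
      have hXT : X ≤ T := by rw [hX]; exact hg
      rw [← hX]
      obtain ⟨C, hC, hCX⟩ : ∃ C ∈ (Sg p q V : Set (Subgroup H)), C ≤ X := ⟨cg g Z0, Sg.conj hZ0 g, by rw [hX]; exact cg_mono hZ0X⟩
      have hCT := hCX.trans hXT
      obtain ⟨_, _, hs3⟩ := stage3 st hq mx hne
      have s := hs3 C hC hCT
      set L := LL p q V T C with hL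
      have hxC : ∀ x ∈ X, ∀ c ∈ C, x * c = c * x := fun x hx c hc => hXc x hx c (hCX hc)
      have hxL : ∀ x ∈ X, cg x L = L := by
        intro x hx
        rw [hL, cg_LL (hXT hx), cg_comm (hxC x hx)]
      let X' : Subgroup H :=
        { carrier := {x | x ∈ X ∧ ∀ v : V, x • v - v ∈ fx V L}
          one_mem' := ⟨one_mem _, fun v => by rw [one_smul, sub_self]; exact AddSubgroup.zero_mem _⟩
          mul_mem' := by
            rintro a b ⟨ha, ha'⟩ ⟨hb, hb'⟩
            refine ⟨mul_mem ha hb, fun v => ?_⟩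
            have e : (a * b) • v - v = (a • (b • v) - b • v) + (b • v - v) := by rw [mul_smul]; abel
            rw [e]
            exact AddSubgroup.add_mem _ (ha' _) (hb' _)
          inv_mem' := by
            rintro a ⟨ha, ha'⟩
            refine ⟨inv_mem ha, fun v => ?_⟩
            have h1 := ha' (a⁻¹ • v)
            rw [smul_inv_smul] at h1
            have e : a⁻¹ • v - v = -(v - a⁻¹ • v) := by abel
            rw [e]
            exact AddSubgroup.neg_mem _ h1 }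
      have hX'X : X' ≤ X := fun x hx => hx.1
      have hXeq : C ⊔ X' = X := by
        apply le_antisymm (sup_le hCX hX'X)
        intro x hx
        obtain ⟨a, ha, h1⟩ := s.tr2 hq st mx hC (hXT hx) (hxL x hx) (hxC x hx)
        have e : x = a * (a⁻¹ * x) := by group
        rw [e]
        exact mul_mem (mem_sup_left ha) (mem_sup_right ⟨mul_mem (inv_mem (hCX ha)) hx, h1⟩)
      have hinf : C ⊓ X' = ⊥ := by
        rw [eq_bot_iff]
        rintro x ⟨hx1, hx2⟩
        exact Subgroup.mem_bot.2 (s.kern (s.CL hx1) hx2.2)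
      have hcard := card_sup_inf_comm hXc hCX hX'X
      rw [hinf, hXeq, Subgroup.card_bot, mul_one, hC.1.card] at hcard
      have hmod : fx V C ⊔ fx V X' = ⊤ := by
        rw [eq_top_iff, ← (s.natSL hq hC).sup]
        apply sup_le
        · exact le_sup_of_le_left s.fxL
        · apply le_sup_of_le_right
          apply cmt_le
          rintro l hl v x hx
          have h1 := s.tr_comm (hxL x hx.1) hx.2 l hl
          have h2 := hx.2 v l hl
          rw [smul_sub] at h2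
          have h3 : l • x • v = x • v - v + l • v := by rw [← h2]; abel
          rw [smul_sub, ← mul_smul, h1, mul_smul, h3]; abel
      have h1 := add_card_sup_inf (fx V C) (fx V X')
      rw [hmod, AddSubgroup.card_top, ← fx_sup, hXeq] at h1
      have h2 := Sg.cardV mx hC
      have h3 : Nat.card (fx V X') = q * Nat.card (fx V X) := by
        apply Nat.eq_of_mul_eq_mul_left (Nat.card_pos (α := fx V C))
        rw [← h1, h2]; ring
      have h4 : vl V X' = vl V X := by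
        unfold vl
        rw [h3, hcard]; ring
      have h5 : Nat.card X' ≤ n := by
        have h6 : 0 < Nat.card X' := Nat.card_pos
        have h7 : 1 * Nat.card X' < q * Nat.card X' := Nat.mul_lt_mul_of_pos_right hq h6
        omega
      have h6 := ih X' (hXp.to_le hX'X) (fun a ha b hb => hXc a (hX'X ha) b (hX'X hb)) (by rw [h4]; exact hXf) h5
      rw [← hXeq]
      exact sup_le (le_sSup hC) h6
    rw [cg_le_iff, cg_sSup_Sg] at key
    exact key

/-- a normal subgroup containing a best offender contains all root groups -/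
theorem Sg_le_of_normal (st : St p V T M) (mx : Mx p H V) (hq : 1 < q)
    (hne : ∃ A, A ∈ (Sg p q V : Set (Subgroup H))) {J : Subgroup H} (hJ : J.Normal) {X : Subgroup H} (hXJ : X ≤ J)
    (hX1 : X ≠ ⊥) (hXp : IsPGroup p X) (hXc : ∀ a ∈ X, ∀ b ∈ X, a * b = b * a) (hXf : Nat.card V ≤ vl V X) :
    sSup (Sg p q V : Set (Subgroup H)) ≤ J := by
  obtain ⟨Z, hZ, hZX⟩ := exists_sg_le st mx hq hne hX1 hXp hXc hXf
  obtain ⟨_, horb, _⟩ := stage3 st hq mx hne
  have hcgJ : ∀ g : H, cg g J = J := fun g => H52.Syl.cj_normal hJ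
  apply sSup_le
  intro E hE
  obtain ⟨g, hg⟩ := exists_conj_le_T st hE.1.pg
  obtain ⟨k, hk⟩ := exists_conj_le_T st hZ.1.pg
  obtain ⟨t, ht, h⟩ := horb _ (Sg.conj hZ k) hk _ (Sg.conj hE g) hg
  have h1 : cg g E ≤ J := by
    rw [← h, cg_cg, ← hcgJ (t * k)]
    exact cg_mono (hZX.trans hXJ)
  rwa [cg_le_iff, hcgJ] at h1

end

end H53.FS
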