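import Cfsg.Agent.Lib.H53.FS1

/-!
Families of quadratic offenders: the dual set and its radical (version of `H51.FFDual`, `H51.FFDual2` for a family of
offenders).
-/

set_option autoImplicit false

namespace H53.FS

open Subgroup H53.PU
open H51.FF (Off At cg mem_cg card_cg mem_fx_cg card_fx_cg Off.cg At.cg Off.ne Sp card_le V_le Int' int_inj van mem_van
  card_van eq_zero_of_all tr tr_apply tr_mul tr_one tr_add tr_neg tr_zero tr_sub tr_inj)

section

variable {p q : ℕ} [hp : Fact p.Prime] {H V Δ : Type*} [Group H] [Finite H] [AddCommGroup V] [Finite V]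
  [DistribMulAction H V] [MulAction H Δ] {S : Set (Subgroup H)} (am : Am p q H V Δ S) (hq : 1 < q)

/-- functionals of class `δ` -/
def Ob {p : ℕ} {H V : Type*} [Group H] [AddCommGroup V] [DistribMulAction H V] (S : Set (Subgroup H)) {Δ : Type*}
    [MulAction H Δ] (δ : Δ) (f : V →+ ZMod p) : Prop :=
  f ≠ 0 ∧ ∃ A ∈ S, At A δ ∧ ∀ v ∈ fx V A, f v = 0

omit [Finite H] [Finite V] in
theorem Ob.neg {δ : Δ} {f : V →+ ZMod p} (h : Ob S δ f) : Ob S δ (-f) := by
  obtain ⟨h0, A, hA, hδ, hf⟩ := h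
  exact ⟨neg_ne_zero.2 h0, A, hA, hδ, fun v hv => by rw [AddMonoidHom.neg_apply, hf v hv, neg_zero]⟩

include am in
theorem Ob.tr {δ : Δ} {f : V →+ ZMod p} (h : Ob S δ f) (g : H) : Ob S (g • δ) (tr g f) := by
  obtain ⟨h0, A, hA, hδ, hf⟩ := h
  refine ⟨fun h1 => h0 (tr_inj g (by rw [h1, tr_zero])), cg g A, am.conj hA g, hδ.cg g, fun v hv => ?_⟩
  rw [tr_apply]
  exact hf _ (mem_fx_cg.1 hv)

include am hq

theorem Ob.unique {δ ε : Δ} {f : V →+ ZMod p} (h1 : Ob S δ f) (h2 : Ob S ε f) : δ = ε := by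
  by_contra hne
  obtain ⟨h0, A, hA, hδ, hf⟩ := h1
  obtain ⟨_, B, hB, hε, hf'⟩ := h2
  apply h0
  ext v
  obtain ⟨x, hx, y, hy, rfl⟩ := exists_add am hq hA hB hδ hε hne v
  rw [map_add, hf x hx, hf' y hy, add_zero]
  rfl

omit hq in
theorem card_van_fx (hq : 1 < q) {A B : Subgroup H} (hA : A ∈ S) (hB : B ∈ S) {δ ε : Δ} (hδ : At A δ)
    (hε : At B ε) (hne : δ ≠ ε) : Nat.card (van p (fx V A)) = q := by
  have h1 := card_van am.pz (fx V A)
  have h2 := sp am hq hA hB hδ hε hne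
  have h3 : Nat.card V = q * Nat.card (fx V A) := by rw [h2.cV, h2.cA]
  rw [h3] at h1
  exact Nat.eq_of_mul_eq_mul_right Nat.card_pos h1

/-- different classes: the sum -/
theorem add_tr {A B : Subgroup H} (hA : A ∈ S) (hB : B ∈ S) {δ ε : Δ} (hδ : At A δ)
    (hε : At B ε) (hne : δ ≠ ε) {f g : V →+ ZMod p} (hf : f ∈ van p (fx V A)) (hg : g ∈ van p (fx V B)) (hg0 : g ≠ 0) :
    ∃ a ∈ A, f + g = tr a g := by
  let φ : A → van p (fx V A) := fun a => ⟨tr (a : H) g - g, by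
    intro v hv
    rw [AddMonoidHom.sub_apply, tr_apply, hv _ (inv_mem a.2), sub_self]⟩
  have hφi : Function.Injective φ := by
    intro a a' h
    have h1 : tr (a : H) g - g = tr (a' : H) g - g := congrArg Subtype.val h
    have h2 : tr (a : H) g = tr (a' : H) g := sub_left_injective h1
    by_contra hne'
    have hx : (a' : H)⁻¹ * a ≠ 1 := fun h3 => hne' (Subtype.ext (inv_mul_eq_one.1 h3).symm)
    have hxA : (a' : H)⁻¹ * a ∈ A := mul_mem (inv_mem a'.2) a.2
    have h3 : tr ((a' : H)⁻¹ * a) g = g := by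
      rw [tr_mul, h2, ← tr_mul, inv_mul_cancel, tr_one]
    apply hg0
    ext v
    have hne2 : ε ≠ ((a' : H)⁻¹ * a) • ε := by
      intro h4
      exact hne (at_unique am hA hδ hxA hx h4.symm).symm
    obtain ⟨x, hx, y, hy, rfl⟩ := exists_add am hq hB (am.conj hB _) hε (hε.cg _) hne2 v
    rw [map_add, hg x hx]
    have h5 : g y = 0 := by
      rw [← h3, tr_apply]
      exact hg _ (mem_fx_cg.1 hy)
    rw [h5, add_zero]
    rfl
  have hφb : Function.Bijective φ := by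
    rw [Nat.bijective_iff_injective_and_card]
    exact ⟨hφi, by rw [(am.off hA).card, card_van_fx am hq hA hB hδ hε hne]⟩
  obtain ⟨a, ha⟩ := hφb.2 ⟨f, hf⟩
  have h1 : tr (a : H) g - g = f := congrArg Subtype.val ha
  exact ⟨a, a.2, by rw [← h1, sub_add_cancel]⟩

theorem Ob.add {δ ε : Δ} {f g : V →+ ZMod p} (h1 : Ob S δ f) (h2 : Ob S ε g) (hne : δ ≠ ε) :
    ∃ ζ, Ob S ζ (f + g) ∧ ζ ≠ δ ∧ ζ ≠ ε := by
  obtain ⟨h0, A, hA, hδ, hf⟩ := h1
  obtain ⟨h0', B, hB, hε, hf'⟩ := h2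
  obtain ⟨a, ha, h3⟩ := add_tr am hq hA hB hδ hε hne hf hf' h0'
  have h4 : Ob S ε g := ⟨h0', B, hB, hε, hf'⟩
  refine ⟨a • ε, ?_, ?_, ?_⟩
  · rw [h3]; exact h4.tr am a
  · intro h5
    apply hne
    have h6 : a • δ = a • ε := by rw [hδ a ha, h5]
    exact MulAction.injective a h6
  · intro h5
    have ha1 : a ≠ 1 := by
      rintro rfl
      rw [tr_one] at h3
      exact h0 (add_eq_right.1 h3)
    exact hne (at_unique am hA hδ ha ha1 h5).symm

omit am hq in
/-- some class -/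
def Om {p : ℕ} {H V : Type*} (Δ : Type*) [Group H] [AddCommGroup V] [DistribMulAction H V] [MulAction H Δ]
    (S : Set (Subgroup H)) (f : V →+ ZMod p) : Prop := ∃ δ : Δ, Ob S δ f

omit am hq [Finite H] [Finite V] in
theorem Om.neg {f : V →+ ZMod p} (h : Om Δ S f) : Om Δ S (-f) := by
  obtain ⟨δ, h⟩ := h
  exact ⟨δ, h.neg⟩

omit am hq in
/-- the radical -/
def Rad (p : ℕ) {H : Type*} (V Δ : Type*) [Group H] [AddCommGroup V] [DistribMulAction H V] [MulAction H Δ]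
    (S : Set (Subgroup H)) : AddSubgroup (V →+ ZMod p) where
  carrier := {r | (∀ f, Om Δ S f → Om Δ S (r + f)) ∧ (∀ f, Om Δ S f → Om Δ S (-r + f))}
  zero_mem' := ⟨fun f hf => by rwa [zero_add], fun f hf => by rwa [neg_zero, zero_add]⟩
  add_mem' := by
    rintro r s ⟨h1, h2⟩ ⟨h3, h4⟩
    refine ⟨fun f hf => ?_, fun f hf => ?_⟩
    · rw [add_assoc]; exact h1 _ (h3 _ hf)
    · have e : -(r + s) + f = -r + (-s + f) := by abel
      rw [e]; exact h2 _ (h4 _ hf)
  neg_mem' := by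
    rintro r ⟨h1, h2⟩
    exact ⟨h2, fun f hf => by rw [neg_neg]; exact h1 f hf⟩

omit am hq [Finite H] [Finite V] in
theorem rad_not {r : V →+ ZMod p} (hr : r ∈ Rad p V Δ S) : ¬ Om Δ S r := by
  intro h
  obtain ⟨δ, h1⟩ := hr.2 r h
  apply h1.1
  rw [neg_add_cancel]

omit hq in
theorem Om.tr {f : V →+ ZMod p} (h : Om Δ S f) (g : H) : Om Δ S (tr g f) := by
  obtain ⟨δ, h⟩ := h
  exact ⟨_, h.tr am g⟩

omit hq in
theorem rad_tr {r : V →+ ZMod p} (hr : r ∈ Rad p V Δ S) (g : H) : tr g r ∈ Rad p V Δ S := by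
  obtain ⟨h1, h2⟩ := hr
  refine ⟨fun f hf => ?_, fun f hf => ?_⟩
  · have h3 := (h1 _ (hf.tr am g⁻¹)).tr am g
    rwa [tr_add, ← tr_mul, mul_inv_cancel, tr_one] at h3
  · have h3 := (h2 _ (hf.tr am g⁻¹)).tr am g
    rwa [tr_add, ← tr_mul, mul_inv_cancel, tr_one, tr_neg] at h3

omit hq in
/-- offenders at every point -/
theorem exists_at_all (hq : 1 < q) {A : Subgroup H} (hA : A ∈ S) (δ : Δ) : ∃ B ∈ S, At B δ := by
  obtain ⟨ε, hε⟩ := exists_at am hq hA
  obtain ⟨g, rfl⟩ := am.trans ε δ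
  exact ⟨cg g A, am.conj hA g, hε.cg g⟩

omit hq in
theorem exists_other (δ : Δ) : ∃ ε : Δ, δ ≠ ε := by
  obtain ⟨a, b, hab⟩ := am.two
  by_cases h : δ = a
  · exact ⟨b, by rw [h]; exact hab⟩
  · exact ⟨a, h⟩

/-- functionals of every class -/
theorem exists_Ob {A : Subgroup H} (hA : A ∈ S) (δ : Δ) : ∃ f : V →+ ZMod p, Ob S δ f := by
  obtain ⟨B, hB, hδ⟩ := exists_at_all am hq hA δ
  obtain ⟨ε, hne⟩ := exists_other am δ
  obtain ⟨B', hB', hε⟩ := exists_at_all am hq hA ε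
  have h1 := card_van_fx am hq hB hB' hδ hε hne
  have h2 : Nontrivial (van p (fx V B)) := by
    rw [← Finite.one_lt_card_iff_nontrivial, h1]; exact hq
  obtain ⟨f, hf⟩ := exists_ne (0 : van p (fx V B))
  exact ⟨f, fun h => hf (Subtype.ext h), B, hB, hδ, f.2⟩

theorem class_add {δ ε : Δ} {f f' g : V →+ ZMod p} (h1 : Ob S δ f) (h2 : Ob S δ f')
    (hn : ¬ Om Δ S (f + f')) (hg : Ob S ε g) (hne : ε ≠ δ) : Ob S ε (f + f' + g) := by
  obtain ⟨ζ, h3, h4, h5⟩ := h2.add am hq hg hne.symm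
  obtain ⟨η, h6, h7, h8⟩ := h1.add am hq h3 h4.symm
  rw [← add_assoc] at h6
  by_cases he : η = ε
  · rwa [he] at h6
  exfalso
  apply hn
  obtain ⟨θ, h9, _⟩ := h6.add am hq hg.neg he
  rw [add_neg_cancel_right] at h9
  exact ⟨θ, h9⟩

theorem om_add {A : Subgroup H} (hA : A ∈ S) {δ : Δ} {f f' : V →+ ZMod p} (h1 : Ob S δ f)
    (h2 : Ob S δ f') (hn : ¬ Om Δ S (f + f')) :
    ∀ g, Om Δ S g → Om Δ S (f + f' + g) := by
  rintro g ⟨ε, hg⟩
  by_cases he : ε = δ
  · subst he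
    obtain ⟨ζ, hne⟩ := exists_other am ε
    obtain ⟨h, hh⟩ := exists_Ob am hq hA ζ
    obtain ⟨η, h3, h4, h5⟩ := hg.add am hq hh hne
    have h6 := class_add am hq h1 h2 hn h3 h4
    obtain ⟨θ, h7, _⟩ := h6.add am hq hh.neg h5
    have e : f + f' + (g + h) + -h = f + f' + g := by abel
    rw [e] at h7
    exact ⟨θ, h7⟩
  · exact ⟨ε, class_add am hq h1 h2 hn hg he⟩

theorem rad_or {A : Subgroup H} (hA : A ∈ S) {δ : Δ} {f f' : V →+ ZMod p} (h1 : Ob S δ f)
    (h2 : Ob S δ f') : f + f' ∈ Rad p V Δ S ∨ Ob S δ (f + f') := by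
  by_cases hn : Om Δ S (f + f')
  · right
    obtain ⟨ε, h3⟩ := hn
    by_cases he : ε = δ
    · rwa [he] at h3
    exfalso
    obtain ⟨ζ, h4, h5, h6⟩ := h3.add am hq h1.neg he
    have e : f + f' + -f = f' := by abel
    rw [e] at h4
    exact h6 (h4.unique am hq h2)
  · left
    refine ⟨om_add am hq hA h1 h2 hn, ?_⟩
    intro g hg
    have h3 := om_add am hq hA h1.neg h2.neg (by
      intro h4
      apply hn
      have h5 := h4.neg
      have e : -(-f + -f') = f + f' := by abel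
      rwa [e] at h5) g hg
    have e : -(f + f') + g = -f + -f' + g := by abel
    rwa [e]

theorem rad_add {δ : Δ} {r f : V →+ ZMod p} (hr : r ∈ Rad p V Δ S) (h : Ob S δ f) : Ob S δ (r + f) := by
  obtain ⟨ε, h1⟩ := hr.1 f ⟨δ, h⟩
  by_cases he : ε = δ
  · rwa [he] at h1
  exfalso
  obtain ⟨ζ, h2, _⟩ := h1.add am hq h.neg he
  rw [add_neg_cancel_right] at h2
  exact rad_not hr ⟨ζ, h2⟩

omit am hq in
/-- the subspace attached to a point -/
def UU (am : Am p q H V Δ S) (hq : 1 < q) {A : Subgroup H} (hA : A ∈ S) (δ : Δ) : AddSubgroup (V →+ ZMod p) where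
  carrier := {f | f ∈ Rad p V Δ S ∨ Ob S δ f}
  zero_mem' := Or.inl (AddSubgroup.zero_mem _)
  add_mem' := by
    rintro f g (hf | hf) (hg | hg)
    · exact Or.inl (AddSubgroup.add_mem _ hf hg)
    · exact Or.inr (rad_add am hq hf hg)
    · right
      rw [add_comm]
      exact rad_add am hq hg hf
    · exact rad_or am hq hA hf hg
  neg_mem' := by
    rintro f (hf | hf)
    · exact Or.inl (AddSubgroup.neg_mem _ hf)
    · exact Or.inr hf.neg

omit am hq in
/-- the whole subspace -/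
def UA (am : Am p q H V Δ S) (hq : 1 < q) {A : Subgroup H} (hA : A ∈ S) : AddSubgroup (V →+ ZMod p) where
  carrier := {f | f ∈ Rad p V Δ S ∨ Om Δ S f}
  zero_mem' := Or.inl (AddSubgroup.zero_mem _)
  add_mem' := by
    rintro f g (hf | ⟨δ, hf⟩) (hg | ⟨ε, hg⟩)
    · exact Or.inl (AddSubgroup.add_mem _ hf hg)
    · exact Or.inr ⟨ε, rad_add am hq hf hg⟩
    · right
      rw [add_comm]
      exact ⟨δ, rad_add am hq hg hf⟩
    · by_cases hne : δ = ε
      · subst hne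
        rcases rad_or am hq hA hf hg with h | h
        · exact Or.inl h
        · exact Or.inr ⟨δ, h⟩
      · obtain ⟨ζ, h, _⟩ := hf.add am hq hg hne
        exact Or.inr ⟨ζ, h⟩
  neg_mem' := by
    rintro f (hf | hf)
    · exact Or.inl (AddSubgroup.neg_mem _ hf)
    · exact Or.inr hf.neg

end

section

variable {p q : ℕ} [hp : Fact p.Prime] {H V Δ : Type*} [Group H] [Finite H] [AddCommGroup V] [Finite V]
  [DistribMulAction H V] [MulAction H Δ] {S : Set (Subgroup H)} (am : Am p q H V Δ S) (hq : 1 < q)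
  {O : Subgroup H} (hO : O ∈ S)

section

theorem mem_UU {δ : Δ} {f : V →+ ZMod p} : f ∈ UU am hq hO δ ↔ f ∈ Rad p V Δ S ∨ Ob S δ f := Iff.rfl

theorem mem_UA {f : V →+ ZMod p} : f ∈ UA am hq hO ↔ f ∈ Rad p V Δ S ∨ Om Δ S f := Iff.rfl

theorem UU_le (δ : Δ) : UU am hq hO δ ≤ UA am hq hO := by
  rintro f (hf | hf)
  · exact Or.inl hf
  · exact Or.inr ⟨δ, hf⟩

include am hq in
theorem van_le {A : Subgroup H} (hA : A ∈ S) {δ : Δ} (hδ : At A δ) : van p (fx V A) ≤ UU am hq hO δ := by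
  intro f hf
  by_cases h0 : f = 0
  · rw [h0]; exact AddSubgroup.zero_mem _
  · exact Or.inr ⟨h0, A, hA, hδ, hf⟩

omit [Finite H] [Finite V] in
theorem tr_sub_mem {A : Subgroup H} {a : H} (ha : a ∈ A) (f : V →+ ZMod p) : tr a f - f ∈ van p (fx V A) := by
  intro v hv
  rw [AddMonoidHom.sub_apply, tr_apply, hv _ (inv_mem ha), sub_self]

/-- `|U| ≤ q |U_δ|` -/
theorem card_UA_le {A : Subgroup H} (hA : A ∈ S) {δ ε : Δ} (hδ : At A δ) (hne : δ ≠ ε) :
    Nat.card (UA am hq hO) ≤ q * Nat.card (UU am hq hO δ) := by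
  obtain ⟨B, hB, hε⟩ := exists_at_all am hq hA ε
  obtain ⟨a, ha, ha1⟩ := (am.off hA).ne hq
  let φ : UA am hq hO →+ van p (fx V A) :=
    { toFun := fun f => ⟨tr a (f : V →+ ZMod p) - f, tr_sub_mem ha _⟩
      map_zero' := by
        apply Subtype.ext
        show tr a (0 : V →+ ZMod p) - 0 = 0
        rw [tr_zero, sub_zero]
      map_add' := by
        intro f g
        apply Subtype.ext
        show tr a ((f : V →+ ZMod p) + (g : V →+ ZMod p)) - ((f : V →+ ZMod p) + (g : V →+ ZMod p)) =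
          (tr a (f : V →+ ZMod p) - (f : V →+ ZMod p)) + (tr a (g : V →+ ZMod p) - (g : V →+ ZMod p))
        rw [tr_add]; abel }
  have h1 := AddSubgroup.card_mul_index φ.ker
  rw [AddSubgroup.index_ker] at h1
  have h2 : Nat.card φ.range ≤ q := by
    have h3 : Nat.card φ.range ≤ Nat.card (van p (fx V A)) :=
      Nat.card_le_card_of_injective _ (AddSubgroup.subtype_injective _)
    rwa [card_van_fx am hq hA hB hδ hε hne] at h3
  have h3 : Nat.card φ.ker ≤ Nat.card (UU am hq hO δ) := by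
    have key : ∀ f : UA am hq hO, f ∈ φ.ker → (f : V →+ ZMod p) ∈ UU am hq hO δ := by
      intro f hf
      have h4 : tr a (f : V →+ ZMod p) - f = 0 := congrArg Subtype.val (AddMonoidHom.mem_ker.1 hf)
      have h5 := sub_eq_zero.1 h4
      rcases f.2 with h6 | ⟨ζ, h6⟩
      · exact Or.inl h6
      · right
        have h7 := h6.tr am a
        rw [h5] at h7
        have h8 := h7.unique am hq h6
        have h9 := at_unique am hA hδ ha ha1 h8
        rwa [h9] at h6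
    apply Nat.card_le_card_of_injective (fun f : φ.ker => (⟨(f : UA am hq hO), key f f.2⟩ : UU am hq hO δ))
    intro f g h
    have h4 := congrArg Subtype.val h
    exact Subtype.ext (Subtype.ext h4)
  rw [← h1, mul_comm]
  exact Nat.mul_le_mul h2 h3

theorem inf_UU {δ ε : Δ} (hne : δ ≠ ε) : UU am hq hO δ ⊓ UU am hq hO ε = Rad p V Δ S := by
  apply le_antisymm
  · rintro f ⟨hf | hf, hg | hg⟩
    · exact hf
    · exact hf
    · exact hg
    · exact absurd (hf.unique am hq hg) hne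
  · intro f hf
    exact ⟨Or.inl hf, Or.inl hf⟩

theorem le_card_UU {A : Subgroup H} (hA : A ∈ S) {δ ε : Δ} (hδ : At A δ) (hne : δ ≠ ε) :
    q * Nat.card (Rad p V Δ S) ≤ Nat.card (UU am hq hO δ) := by
  obtain ⟨B, hB, hε⟩ := exists_at_all am hq hA ε
  have hcv := card_van_fx am hq hA hB hδ hε hne
  have hgoal : Nat.card (van p (fx V A)) * Nat.card (Rad p V Δ S) ≤ Nat.card (UU am hq hO δ) → 
      q * Nat.card (Rad p V Δ S) ≤ Nat.card (UU am hq hO δ) := by
    intro h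
    rwa [hcv] at h
  apply hgoal
  rw [← Nat.card_prod]
  apply Nat.card_le_card_of_injective (fun x : van p (fx V A) × Rad p V Δ S =>
    (⟨(x.1 : V →+ ZMod p) + x.2, AddSubgroup.add_mem _ (van_le am hq hO hA hδ x.1.2) (Or.inl x.2.2)⟩ : UU am hq hO δ))
  rintro ⟨⟨f, hf⟩, ⟨r, hr⟩⟩ ⟨⟨g, hg⟩, ⟨s, hs⟩⟩ h
  have h1 : f + r = g + s := congrArg Subtype.val h
  have h2 : f - g = s - r := by
    have h3 : f - g = (f + r) - (g + s) + (s - r) := by abel
    rw [h3, h1, sub_self, zero_add]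
  have h3 : f = g := by
    by_contra hne'
    apply rad_not (AddSubgroup.sub_mem _ hs hr : s - r ∈ Rad p V Δ S)
    rw [← h2]
    exact ⟨δ, sub_ne_zero.2 hne', A, hA, hδ, AddSubgroup.sub_mem _ hf hg⟩
  subst h3
  have h4 : r = s := add_left_cancel h1
  subst h4
  rfl

theorem card_UU_mul {δ ε : Δ} (hne : δ ≠ ε) :
    Nat.card (UU am hq hO δ) * Nat.card (UU am hq hO ε) ≤ Nat.card (UA am hq hO) * Nat.card (Rad p V Δ S) := by
  rw [← add_card_sup_inf, inf_UU am hq hO hne]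
  apply Nat.mul_le_mul_right
  exact card_le _ _ (sup_le (UU_le am hq hO δ) (UU_le am hq hO ε))

theorem card_UU (δ : Δ) : Nat.card (UU am hq hO δ) = q * Nat.card (Rad p V Δ S) := by
  obtain ⟨A, hA, hδ⟩ := exists_at_all am hq hO δ
  obtain ⟨ε, hne⟩ := exists_other am δ
  obtain ⟨B, hB, hε⟩ := exists_at_all am hq hO ε
  apply le_antisymm _ (le_card_UU am hq hO hA hδ hne)
  have h1 := card_UU_mul am hq hO hne.symm
  have h2 := card_UA_le am hq hO hB hε hne.symm
  have h0 : 0 < Nat.card (UU am hq hO ε) := Nat.card_pos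
  apply Nat.le_of_mul_le_mul_left _ h0
  calc Nat.card (UU am hq hO ε) * Nat.card (UU am hq hO δ) ≤ Nat.card (UA am hq hO) * Nat.card (Rad p V Δ S) := h1
    _ ≤ (q * Nat.card (UU am hq hO ε)) * Nat.card (Rad p V Δ S) := Nat.mul_le_mul_right _ h2
    _ = _ := by ring

theorem card_UA : Nat.card (UA am hq hO) = q * (q * Nat.card (Rad p V Δ S)) := by
  obtain ⟨δ, ε, hne⟩ := am.two
  obtain ⟨A, hA, hδ⟩ := exists_at_all am hq hO δ
  apply le_antisymm
  · have := card_UA_le am hq hO hA hδ hne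
    rwa [card_UU] at this
  · have h1 := card_UU_mul am hq hO hne
    rw [card_UU, card_UU] at h1
    have h0 : 0 < Nat.card (Rad p V Δ S) := Nat.card_pos
    apply Nat.le_of_mul_le_mul_right _ h0
    calc _ = q * Nat.card (Rad p V Δ S) * (q * Nat.card (Rad p V Δ S)) := by ring
      _ ≤ _ := h1

theorem sup_UU {δ ε : Δ} (hne : δ ≠ ε) : UU am hq hO δ ⊔ UU am hq hO ε = UA am hq hO := by
  apply AddSubgroup.eq_of_le_of_card_ge (sup_le (UU_le am hq hO δ) (UU_le am hq hO ε))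
  have h1 := add_card_sup_inf (UU am hq hO δ) (UU am hq hO ε)
  rw [inf_UU am hq hO hne, card_UU, card_UU] at h1
  have h0 : 0 < Nat.card (Rad p V Δ S) := Nat.card_pos
  apply Nat.le_of_mul_le_mul_right _ h0
  rw [h1, card_UA]
  apply le_of_eq
  ring

/-- every element of `U_δ` is an element of `van (fx A)` plus one of the radical -/
theorem UU_decomp {A : Subgroup H} (hA : A ∈ S) {δ : Δ} (hδ : At A δ) {f : V →+ ZMod p}
    (hf : f ∈ UU am hq hO δ) : ∃ g ∈ van p (fx V A), ∃ r ∈ Rad p V Δ S, f = g + r := by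
  obtain ⟨ε, hne⟩ := exists_other am δ
  obtain ⟨B, hB, hε⟩ := exists_at_all am hq hA ε
  have hle : van p (fx V A) ⊔ Rad p V Δ S ≤ UU am hq hO δ := by
    apply sup_le (van_le am hq hO hA hδ)
    intro r hr
    exact Or.inl hr
  have hinf : van p (fx V A) ⊓ Rad p V Δ S = ⊥ := by
    rw [eq_bot_iff]
    rintro f ⟨h1, h2⟩
    rw [AddSubgroup.mem_bot]
    by_contra h0
    exact rad_not h2 ⟨δ, h0, A, hA, hδ, h1⟩
  have heq : van p (fx V A) ⊔ Rad p V Δ S = UU am hq hO δ := by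
    apply AddSubgroup.eq_of_le_of_card_ge hle
    have h1 := add_card_sup_inf (van p (fx V A)) (Rad p V Δ S)
    rw [hinf, AddSubgroup.card_bot, mul_one, card_van_fx am hq hA hB hδ hε hne] at h1
    rw [h1, card_UU]
  rw [← heq] at hf
  obtain ⟨g, hg, r, hr, h⟩ := AddSubgroup.mem_sup.1 hf
  exact ⟨g, hg, r, hr, h.symm⟩

include am in
/-- the radical is centralized by every offender -/
theorem rad_fixed {A : Subgroup H} (hA : A ∈ S) {δ : Δ} (hδ : At A δ) {r : V →+ ZMod p}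
    (hr : r ∈ Rad p V Δ S) {a : H} (ha : a ∈ A) : tr a r = r := by
  by_contra hne
  apply rad_not (AddSubgroup.sub_mem _ (rad_tr am hr a) hr : tr a r - r ∈ Rad p V Δ S)
  exact ⟨δ, sub_ne_zero.2 hne, A, hA, hδ, tr_sub_mem ha r⟩

theorem UU_fixed {A : Subgroup H} (hA : A ∈ S) {δ : Δ} (hδ : At A δ) {f : V →+ ZMod p}
    (hf : f ∈ UU am hq hO δ) {a : H} (ha : a ∈ A) : tr a f = f := by
  obtain ⟨g, hg, r, hr, rfl⟩ := UU_decomp am hq hO hA hδ hf
  rw [tr_add, rad_fixed am hA hδ hr ha]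
  congr 1
  ext v
  rw [tr_apply]
  have h1 : a⁻¹ • v = (a⁻¹ • v - v) + v := by abel
  rw [h1, map_add, hg _ ((am.off hA).quad _ (inv_mem ha) v), zero_add]

include am hq in
/-- the offenders at a point commute -/
theorem at_comm {A B : Subgroup H} (hA : A ∈ S) (hB : B ∈ S) {δ : Δ} (hδ : At A δ) (hδ' : At B δ) :
    ∀ a ∈ A, ∀ b ∈ B, a * b = b * a := by
  have hcomm : ∀ a ∈ A, ∀ b ∈ B, a * b = b * a := by
    intro a ha b hb
    have h1 : (a * b)⁻¹ * (b * a) = 1 := by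
      apply am.faith
      intro v
      apply sub_eq_zero.1
      apply eq_zero_of_all am.pz
      intro f
      rw [map_sub, sub_eq_zero]
      have e1 : tr b (tr a f - f) = tr a f - f :=
        UU_fixed am hq hA hB hδ' (van_le am hq hA hA hδ (tr_sub_mem ha f)) hb
      have e2 : tr a (tr b f - f) = tr b f - f :=
        UU_fixed am hq hA hA hδ (van_le am hq hA hB hδ' (tr_sub_mem hb f)) ha
      rw [tr_sub] at e1 e2
      have e3 : tr b (tr a f) = tr a (tr b f) := by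
        rw [sub_eq_iff_eq_add] at e1 e2
        rw [e1, e2]; abel
      rw [← tr_mul, ← tr_mul] at e3
      have e4 : tr ((a * b)⁻¹ * (b * a)) f = f := by
        rw [tr_mul, e3, ← tr_mul, inv_mul_cancel, tr_one]
      have e5 := DFunLike.congr_fun e4 (((a * b)⁻¹ * (b * a)) • v)
      rw [tr_apply, inv_smul_smul] at e5
      exact e5.symm
    exact inv_mul_eq_one.1 h1
  exact hcomm

include am hq in
/-- transitivity -/
theorem off_trans {A B : Subgroup H} (hA : A ∈ S) (hB : B ∈ S) {δ ε ζ : Δ} (hδ : At A δ) (hε : At B ε)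
    (hne : δ ≠ ε) (hζ : ζ ≠ δ) : ∃ a ∈ A, a • ε = ζ := by
  obtain ⟨f, hf⟩ := exists_Ob am hq hA ζ
  have h1 : f ∈ UU am hq hA δ ⊔ UU am hq hA ε := by
    rw [sup_UU am hq hA hne]
    exact Or.inr ⟨ζ, hf⟩
  obtain ⟨f₁, hf₁, f₂, hf₂, rfl⟩ := AddSubgroup.mem_sup.1 h1
  obtain ⟨x, hx, r, hr, rfl⟩ := UU_decomp am hq hA hA hδ hf₁
  obtain ⟨y, hy, s, hs, rfl⟩ := UU_decomp am hq hA hB hε hf₂
  have hy0 : y ≠ 0 := by
    rintro rfl
    apply hζ
    have h2 : x + r + (0 + s) ∈ UU am hq hA δ := by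
      apply AddSubgroup.add_mem _ hf₁
      rw [zero_add]
      exact Or.inl hs
    rcases h2 with h3 | h3
    · exact absurd ⟨ζ, hf⟩ (rad_not h3)
    · exact hf.unique am hq h3
  obtain ⟨a, ha, h2⟩ := add_tr am hq hA hB hδ hε hne hx hy hy0
  refine ⟨a, ha, ?_⟩
  have h3 : Ob S ε y := ⟨hy0, B, hB, hε, hy⟩
  have h4 := rad_add am hq (AddSubgroup.add_mem _ hr hs) (h3.tr am a)
  rw [← h2] at h4
  have e : r + s + (x + y) = x + r + (y + s) := by abel
  rw [e] at h4
  exact h4.unique am hq hf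


end

end

end H53.FS
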