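import Cfsg.Agent.Lib.H53.FS19
import Cfsg.Agent.Lib.H51.OffFinal

/-!
# Best offenders and the product of the components
-/

set_option autoImplicit false
set_option linter.unusedSectionVars false
set_option linter.unusedVariables false

namespace H53.FS

open Subgroup H53.PU H51.FF

section

variable {p : ℕ} [hp : Fact p.Prime] {H V : Type*} [Group H] [Finite H] [AddCommGroup V] [Finite V]
  [DistribMulAction H V] {T M : Subgroup H}

theorem st_of_sit (sit : H51.OG.Sit p V T M) : St p V T M := by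
  have hsyl : H52.Syl.SylIn p T ⊤ := H51.SylowAmb.exists_sylow_of le_top sit.ms.pgT sit.ms.ndT
  obtain ⟨A, hAp, hAc, hA1, hAf⟩ := sit.off
  refine ⟨sit.pz, sit.faith, hsyl, ?_, sit.ms.Mne, sit.ms.TM, sit.ms.huniq, sit.ms.core, ?_⟩
  · intro hn
    have h1 : T = ⊥ := sit.ms.core T hn sit.ms.pgT
    obtain ⟨y, hy, h2⟩ := H51.SylowAmb.exists_conj_le (K := ⊤) le_top sit.ms.pgT sit.ms.ndT (le_top (a := A)) hAp
    rw [h1, le_bot_iff, Subgroup.map_eq_bot_iff_of_injective _ (MulAut.conj y).injective] at h2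
    exact hA1 h2
  · by_contra hcon
    push Not at hcon
    apply sit.ms.Mne
    rw [eq_top_iff]
    intro g _
    exact sit.cen g (fun v hv => hcon v hv g (Subgroup.mem_top g))

/-- **the structure theorem with best offenders** -/
theorem final2 (sit : H51.OG.Sit p V T M) : ∃ (r : ℕ) (E : Fin r → Subgroup H), H51.OG.Out p V T E ∧
    (∀ A : Subgroup H, IsPGroup p A → (∀ a ∈ A, ∀ b ∈ A, a * b = b * a) → Nat.card V ≤ vl V A → A ≤ ⨆ i, E i) ∧
    (∀ N : Subgroup H, N.Normal → ∀ A : Subgroup H, A ≤ N → IsPGroup p A → (∀ a ∈ A, ∀ b ∈ A, a * b = b * a) →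
      A ≠ ⊥ → Nat.card V ≤ vl V A → ⨆ i, E i ≤ N) := by
  obtain ⟨r, E, o, hsup⟩ := H51.OG.final sit
  have st := st_of_sit sit
  obtain ⟨A0, h1, h2, h3, h4⟩ := sit.off
  obtain ⟨q, hq, mx, hne⟩ := stage1 st ⟨A0, h3, h1, h2, h4⟩
  have hnorm : (⨆ i, E i).Normal := by
    rw [hsup]
    obtain ⟨wd, hne⟩ := sit.wd
    exact H51.OG.base_normal sit wd (wd.fam hne)
  obtain ⟨wd, hoff⟩ := sit.wd
  have fam := wd.fam hoff
  obtain ⟨X₀, hX₀⟩ := H51.OG.at_nonempty sit wd fam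
  -- every member of `offs` lies in `sSup Sg`
  have h5 : (⨆ i, E i) ≤ sSup (Sg p q V : Set (Subgroup H)) := by
    rw [hsup]
    apply sSup_le
    rintro _ ⟨Y, hY, rfl⟩
    apply sSup_le
    intro X hX
    exact best_le st mx hq hne _ X hX.1.1 hX.1.2.1 (le_of_eq hX.1.2.2.2.1.symm) le_rfl
  have h6 : sSup (Sg p q V : Set (Subgroup H)) ≤ ⨆ i, E i := by
    have h7 : X₀ ≤ ⨆ i, E i := by
      rw [hsup]
      have h8 : X₀ ≤ H51.OG.LX p V T X₀ := le_sSup (H51.OG.at_self sit wd fam hX₀)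
      exact h8.trans (le_sSup ⟨X₀, hX₀, rfl⟩)
    exact Sg_le_of_normal st mx hq hne hnorm h7 hX₀.1.2.2.1 hX₀.1.1 hX₀.1.2.1 (le_of_eq hX₀.1.2.2.2.1.symm)
  refine ⟨r, E, o, ?_, ?_⟩
  · intro A a1 a2 a3
    exact (best_le st mx hq hne _ A a1 a2 a3 le_rfl).trans h6
  · intro N hN A hAN a1 a2 a3 a4
    exact h5.trans (Sg_le_of_normal st mx hq hne hN hAN a3 a1 a2 a4)

end

end H53.FS
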