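import Cfsg.Agent.Lib.H53.FS2
import Cfsg.Agent.Lib.H52.PCore

/-!
Families of quadratic offenders: transvection-like subgroups with a given axis, invariant subgroups of a natural pair.
-/

set_option autoImplicit false

namespace H53.FS

open Subgroup H53.PU
open H51.FF (Off At cg mem_cg card_cg mem_fx_cg card_fx_cg Off.cg At.cg Off.ne Sp card_le V_le Int' int_inj cg_cg cg_one
  cg_sup cg_top Sp.sup_top Sp.exists_add Sp.cover)

section

variable {p q : ℕ} [hp : Fact p.Prime] {H V : Type*} [Group H] [Finite H] [AddCommGroup V] [Finite V]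
  [DistribMulAction H V]

/-- the elements centralizing `W` and `V / W` -/
def Trv (H : Type*) {V : Type*} [Group H] [AddCommGroup V] [DistribMulAction H V] (W : AddSubgroup V) : Subgroup H where
  carrier := {g | (∀ w ∈ W, g • w = w) ∧ ∀ v : V, g • v - v ∈ W}
  one_mem' := ⟨fun w _ => one_smul _ w, fun v => by rw [one_smul, sub_self]; exact W.zero_mem⟩
  mul_mem' := by
    rintro g h ⟨g1, g2⟩ ⟨h1, h2⟩
    refine ⟨fun w hw => by rw [mul_smul, h1 w hw, g1 w hw], fun v => ?_⟩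
    have e : (g * h) • v - v = g • (h • v - v) + (g • v - v) := by rw [mul_smul, smul_sub]; abel
    rw [e, g1 _ (h2 v)]
    exact W.add_mem (h2 v) (g2 v)
  inv_mem' := by
    rintro g ⟨g1, g2⟩
    have h1 : ∀ w ∈ W, g⁻¹ • w = w := fun w hw => by rw [inv_smul_eq_iff, g1 w hw]
    refine ⟨h1, fun v => ?_⟩
    have e : g⁻¹ • v - v = -(g⁻¹ • (g • v - v)) := by rw [smul_sub, inv_smul_smul]; abel
    rw [e, h1 _ (g2 v)]
    exact W.neg_mem (g2 v)

omit [Finite H] [Finite V] in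
theorem mem_Trv {W : AddSubgroup V} {g : H} : g ∈ Trv H W ↔ (∀ w ∈ W, g • w = w) ∧ ∀ v : V, g • v - v ∈ W := Iff.rfl

omit [Finite H] [Finite V] in
theorem Trv_comm (faith : ∀ g : H, (∀ v : V, g • v = v) → g = 1) {W : AddSubgroup V} {g h : H} (hg : g ∈ Trv H W)
    (hh : h ∈ Trv H W) : g * h = h * g := by
  have h1 : (g * h)⁻¹ * (h * g) = 1 := by
    apply faith
    intro v
    rw [mul_smul, inv_smul_eq_iff, mul_smul, mul_smul]
    have e1 : h • g • v = g • v + (h • v - v) := by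
      have : h • g • v = h • (g • v - v) + h • v := by rw [smul_sub]; abel
      rw [this, hh.1 _ (hg.2 v)]; abel
    have e2 : g • h • v = h • v + (g • v - v) := by
      have : g • h • v = g • (h • v - v) + g • v := by rw [smul_sub]; abel
      rw [this, hg.1 _ (hh.2 v)]; abel
    rw [e1, e2]; abel
  exact inv_mul_eq_one.1 h1

omit [Finite H] [Finite V] in
theorem Trv_pow {W : AddSubgroup V} {g : H} (hg : g ∈ Trv H W) (n : ℕ) (v : V) :
    g ^ n • v = v + n • (g • v - v) := by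
  induction n with
  | zero => rw [pow_zero, one_smul, zero_smul, add_zero]
  | succ n ih =>
    have h1 : g • (n • (g • v - v)) = n • (g • (g • v - v)) := map_nsmul (DistribSMul.toAddMonoidHom V g) n _
    rw [pow_succ', mul_smul, ih, smul_add, h1, hg.1 _ (hg.2 v), succ_nsmul]
    abel

omit [Finite H] [Finite V] in
theorem Trv_pgroup (pz : ∀ v : V, p • v = 0) (faith : ∀ g : H, (∀ v : V, g • v = v) → g = 1) (W : AddSubgroup V) :
    IsPGroup p (Trv H W) := by
  rintro ⟨g, hg⟩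
  refine ⟨1, Subtype.ext ?_⟩
  show g ^ p ^ 1 = 1
  rw [pow_one]
  apply faith
  intro v
  rw [Trv_pow hg, pz, add_zero]

omit [Finite H] [Finite V] hp in
/-- the quadratic subgroups in terms of `Trv` -/
theorem le_Trv {D : Subgroup H} (hD : ∀ d ∈ D, ∀ v : V, d • v - v ∈ fx V D) : D ≤ Trv H (fx V D) :=
  fun d hd => ⟨fun _ hw => hw d hd, hD d hd⟩

/-- the bound for all commutative `p`-subgroups -/
def Mx (p : ℕ) (H V : Type*) [Group H] [AddCommGroup V] [DistribMulAction H V] : Prop :=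
  ∀ X : Subgroup H, IsPGroup p X → (∀ a ∈ X, ∀ b ∈ X, a * b = b * a) → Nat.card X * Nat.card (fx V X) ≤ Nat.card V

theorem eq_Trv (pz : ∀ v : V, p • v = 0) (faith : ∀ g : H, (∀ v : V, g • v = v) → g = 1) (mx : Mx p H V)
    {D : Subgroup H} (hD : ∀ d ∈ D, ∀ v : V, d • v - v ∈ fx V D) (hf : Nat.card V ≤ Nat.card D * Nat.card (fx V D)) :
    D = Trv H (fx V D) := by
  apply Subgroup.eq_of_le_of_card_ge (le_Trv hD)
  have h1 := mx (Trv H (fx V D)) (Trv_pgroup pz faith _) (fun a ha b hb => Trv_comm faith ha hb)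
  have h2 : fx V D ≤ fx V (Trv H (fx V D)) := fun w hw g hg => hg.1 w hw
  have h3 := card_le _ _ h2
  have h0 : 0 < Nat.card (fx V D) := Nat.card_pos
  apply Nat.le_of_mul_le_mul_right _ h0
  calc _ ≤ Nat.card (Trv H (fx V D)) * Nat.card (fx V (Trv H (fx V D))) := Nat.mul_le_mul_left _ h3
    _ ≤ Nat.card V := h1
    _ ≤ _ := hf

/-- same axis -/
theorem axis (pz : ∀ v : V, p • v = 0) (faith : ∀ g : H, (∀ v : V, g • v = v) → g = 1) (mx : Mx p H V)
    {D D' : Subgroup H} (hD : ∀ d ∈ D, ∀ v : V, d • v - v ∈ fx V D) (hf : Nat.card V ≤ Nat.card D * Nat.card (fx V D))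
    (hD' : ∀ d ∈ D', ∀ v : V, d • v - v ∈ fx V D') (hf' : Nat.card V ≤ Nat.card D' * Nat.card (fx V D'))
    (h : fx V D = fx V D') : D = D' := by
  rw [eq_Trv pz faith mx hD hf, h, ← eq_Trv pz faith mx hD' hf']

theorem Off.axis (pz : ∀ v : V, p • v = 0) (faith : ∀ g : H, (∀ v : V, g • v = v) → g = 1) (mx : Mx p H V)
    {A B : Subgroup H} (hA : Off p q V A) (hB : Off p q V B) (h : fx V A = fx V B) : A = B :=
  H53.FS.axis pz faith mx hA.quad (by rw [hA.card]; exact hA.ff) hB.quad (by rw [hB.card]; exact hB.ff) h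

end

section pair

variable {p q : ℕ} [hp : Fact p.Prime] {H V : Type*} [Group H] [Finite H] [AddCommGroup V] [Finite V]
  [DistribMulAction H V]

/-- a natural pair -/
structure Pr (p q : ℕ) {H : Type*} (V : Type*) [Group H] [AddCommGroup V] [DistribMulAction H V] (A B : Subgroup H) :
    Prop where
  hA : Off p q V A
  hB : Off p q V B
  sp : Sp q V A B
  hI : Int' V A B
  hI' : Int' V B A

omit [Finite H] [Finite V] hp in
theorem Pr.symm {A B : Subgroup H} (h : Pr p q V A B) : Pr p q V B A :=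
  ⟨h.hB, h.hA, ⟨by rw [inf_comm]; exact h.sp.cB, by rw [inf_comm]; exact h.sp.cA, by rw [inf_comm]; exact h.sp.cV⟩,
    h.hI', h.hI⟩

omit [Finite H] hp in
/-- bijectivity -/
theorem Pr.surj (hq : 1 < q) {A B : Subgroup H} (h : Pr p q V A B) {w : V} (hw : w ∈ fx V B) (hwA : w ∉ fx V A)
    {y : V} (hy : y ∈ fx V A) : ∃ a ∈ A, ∃ c ∈ fx V (A ⊔ B), y = a • w - w + c := by
  have hinj := int_inj h.hI h.hA.quad hw hwA
  have hfin : Finite A := Nat.finite_of_card_ne_zero (by rw [h.hA.card]; omega)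
  have hbij : Function.Bijective (fun x : A × ↥(fx V A ⊓ fx V B) =>
      (⟨(x.1 : H) • w - w + x.2, AddSubgroup.add_mem _ (h.hA.quad _ x.1.2 w) x.2.2.1⟩ : fx V A)) := by
    rw [Nat.bijective_iff_injective_and_card]
    refine ⟨hinj, ?_⟩
    rw [Nat.card_prod, h.hA.card, h.sp.cA]
  obtain ⟨⟨⟨a, ha⟩, ⟨c, hc⟩⟩, hac⟩ := hbij.2 ⟨y, hy⟩
  have h2 : a • w - w + c = y := congrArg Subtype.val hac
  exact ⟨a, ha, c, by rw [fx_sup]; exact hc, h2.symm⟩

omit [Finite H] hp in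
theorem Pr.le_sup (hq : 1 < q) {A B : Subgroup H} (h : Pr p q V A B) {U : AddSubgroup V}
    (hU : ∀ g ∈ A, ∀ u ∈ U, g • u ∈ U) {w : V} (hwU : w ∈ U) (hw : w ∈ fx V B) (hwA : w ∉ fx V A) :
    fx V A ≤ U ⊔ fx V (A ⊔ B) := by
  intro y hy
  obtain ⟨a, ha, c, hc, rfl⟩ := h.surj hq hw hwA hy
  exact AddSubgroup.add_mem _ (AddSubgroup.mem_sup_left (U.sub_mem (hU a ha w hwU) hwU)) (AddSubgroup.mem_sup_right hc)

omit [Finite H] in
/-- invariant subgroups of a natural pair -/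
theorem Pr.sup_eq_top (hq : 1 < q) {A B : Subgroup H} (h : Pr p q V A B) {U : AddSubgroup V}
    (hU : ∀ g ∈ A ⊔ B, ∀ u ∈ U, g • u ∈ U) {u : V} (hu : u ∈ U) (hu' : u ∉ fx V (A ⊔ B)) :
    U ⊔ fx V (A ⊔ B) = ⊤ := by
  have hUA : ∀ g ∈ A, ∀ u ∈ U, g • u ∈ U := fun g hg => hU g (mem_sup_left hg)
  have hUB : ∀ g ∈ B, ∀ u ∈ U, g • u ∈ U := fun g hg => hU g (mem_sup_right hg)
  -- it is enough to have an element of `fx V B` outside `fx V A`
  have key : ∀ A B : Subgroup H, Pr p q V A B → (∀ g ∈ A, ∀ u ∈ U, g • u ∈ U) → (∀ g ∈ B, ∀ u ∈ U, g • u ∈ U) →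
      ∀ w ∈ U, w ∈ fx V B → w ∉ fx V A → U ⊔ fx V (A ⊔ B) = ⊤ := by
    intro A B h hUA hUB w hw hwB hwA
    have h1 := h.le_sup hq hUA hw hwB hwA
    obtain ⟨a, ha, ha1⟩ := h.hA.ne hq
    have h2 : a • w - w ∈ U := U.sub_mem (hUA a ha w hw) hw
    have h3 : a • w - w ∈ fx V A := h.hA.quad a ha w
    have h4 : a • w - w ∉ fx V B := by
      intro h5
      apply hwA
      apply h.hI a ha ha1 w hwB
      have e : a • w = (a • w - w) + w := by abel
      rw [e]
      exact AddSubgroup.add_mem _ h5 hwB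
    have h5 := h.symm.le_sup hq hUB h2 h3 h4
    rw [sup_comm B A] at h5
    rw [eq_top_iff, ← h.sp.sup_top]
    exact sup_le h1 h5
  rcases h.sp.cover h.hA h.hI u with h1 | ⟨a, ha, h1⟩
  · have h2 : u ∉ fx V B := fun h3 => hu' (by rw [fx_sup]; exact ⟨h1, h3⟩)
    have h3 := key B A h.symm hUB hUA u hu h1 h2
    rwa [sup_comm B A] at h3
  · rw [mem_fx_cg] at h1
    apply key A B h hUA hUB (a⁻¹ • u) (hUA _ (inv_mem ha) u hu) h1
    intro h2
    apply hu'
    have h3 : a⁻¹ • u ∈ fx V (A ⊔ B) := by rw [fx_sup]; exact ⟨h2, h1⟩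
    have h4 := h3 a (mem_sup_left ha)
    rw [smul_inv_smul] at h4
    rw [h4]; exact h3

omit [Finite H] in
/-- small invariant subgroups are centralized -/
theorem Pr.le_fx (hq : 1 < q) {A B : Subgroup H} (h : Pr p q V A B) {U : AddSubgroup V}
    (hU : ∀ g ∈ A ⊔ B, ∀ u ∈ U, g • u ∈ U) (hc : Nat.card U < q * q) : U ≤ fx V (A ⊔ B) := by
  intro u hu
  by_contra hu'
  have h1 := h.sup_eq_top hq hU hu hu'
  have h2 := add_card_sup_inf U (fx V (A ⊔ B))
  rw [h1, AddSubgroup.card_top, h.sp.cV, ← fx_sup] at h2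
  have h0 : 0 < Nat.card (fx V (A ⊔ B)) := Nat.card_pos
  have h3 : 0 < Nat.card ↥(U ⊓ fx V (A ⊔ B)) := Nat.card_pos
  have h4 : Nat.card U * Nat.card (fx V (A ⊔ B)) < q * q * Nat.card (fx V (A ⊔ B)) := Nat.mul_lt_mul_of_pos_right hc h0
  have h5 : q * q * Nat.card (fx V (A ⊔ B)) ≤ q * (q * Nat.card (fx V (A ⊔ B))) * Nat.card ↥(U ⊓ fx V (A ⊔ B)) := by
    rw [Nat.mul_assoc q q]
    exact Nat.le_mul_of_pos_right _ h3
  omega

/-- a quadratic group of small order whose axis covers is centralized -/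
theorem Pr.cent (hq : 1 < q) (pz : ∀ v : V, p • v = 0) (faith : ∀ g : H, (∀ v : V, g • v = v) → g = 1) (mx : Mx p H V)
    {A B : Subgroup H} (h : Pr p q V A B) {D : Subgroup H} (hD : ∀ d ∈ D, ∀ v : V, d • v - v ∈ fx V D)
    (hf : Nat.card V ≤ Nat.card D * Nat.card (fx V D)) (hc : Nat.card D < q * q) {U : AddSubgroup V}
    (hU : ∀ g ∈ A ⊔ B, ∀ u ∈ U, g • u ∈ U) (hUD : U ≤ fx V D) (hU' : U ⊔ fx V (A ⊔ B) = ⊤) :
    ∀ l ∈ A ⊔ B, ∀ d ∈ D, l * d = d * l := by
  have inv1 : ∀ l ∈ A ⊔ B, ∀ v ∈ fx V D, l • v ∈ fx V D := by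
    intro l hl v hv
    have h1 : v ∈ U ⊔ fx V (A ⊔ B) := by rw [hU']; exact AddSubgroup.mem_top _
    obtain ⟨u, hu, c, hc, rfl⟩ := AddSubgroup.mem_sup.1 h1
    have h2 : c ∈ fx V D := by
      have e : c = (u + c) - u := by abel
      rw [e]
      exact AddSubgroup.sub_mem _ hv (hUD hu)
    rw [smul_add, hc l hl]
    exact AddSubgroup.add_mem _ (hUD (hU l hl u hu)) h2
  have norm : ∀ l ∈ A ⊔ B, cg l D = D := by
    intro l hl
    have e1 : fx V (cg l D) = fx V D := by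
      ext v
      rw [mem_fx_cg]
      constructor
      · intro h1
        have h2 := inv1 l hl _ h1
        rwa [smul_inv_smul] at h2
      · exact inv1 l⁻¹ (inv_mem hl) v
    refine axis pz faith mx ?_ ?_ hD hf e1
    · intro x hx v
      rw [e1]
      have h1 := hD _ (mem_cg.1 hx) (l⁻¹ • v)
      have h2 := inv1 l hl _ h1
      rw [smul_sub, mul_smul, mul_smul, smul_inv_smul, smul_inv_smul] at h2
      exact h2
    · rw [card_cg, e1]; exact hf
  intro l hl d hd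
  have hld : l * d * l⁻¹ ∈ D := by
    rw [← norm l hl, mem_cg]
    have e : l⁻¹ * (l * d * l⁻¹) * l = d := by group
    rw [e]; exact hd
  have key : ∀ y ∈ fx V (A ⊔ B), (l * d * l⁻¹) • y = d • y := by
    intro y hy
    let Uy : AddSubgroup V :=
      { carrier := {z | ∃ d ∈ D, z = d • y - y}
        zero_mem' := ⟨1, one_mem _, by rw [one_smul, sub_self]⟩
        add_mem' := by
          rintro _ _ ⟨d, hd, rfl⟩ ⟨e, he, rfl⟩
          refine ⟨d * e, mul_mem hd he, ?_⟩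
          have h1 : (d * e) • y - y = d • (e • y - y) + (d • y - y) := by rw [mul_smul, smul_sub]; abel
          rw [h1, hD e he y d hd]; abel
        neg_mem' := by
          rintro _ ⟨d, hd, rfl⟩
          refine ⟨d⁻¹, inv_mem hd, ?_⟩
          have h1 := hD d hd y d⁻¹ (inv_mem hd)
          rw [smul_sub, inv_smul_smul] at h1
          rw [← h1]; abel }
    have hUy : Nat.card Uy ≤ Nat.card D := by
      apply Nat.card_le_card_of_surjective (fun d : D => (⟨(d : H) • y - y, d, d.2, rfl⟩ : Uy))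
      rintro ⟨_, d, hd, rfl⟩
      exact ⟨⟨d, hd⟩, rfl⟩
    have hUyi : ∀ g ∈ A ⊔ B, ∀ u ∈ Uy, g • u ∈ Uy := by
      rintro g hg _ ⟨d, hd, rfl⟩
      refine ⟨g * d * g⁻¹, ?_, ?_⟩
      · rw [← norm g hg, mem_cg]
        have e : g⁻¹ * (g * d * g⁻¹) * g = d := by group
        rw [e]; exact hd
      · rw [smul_sub, mul_smul, mul_smul, hy g hg, hy g⁻¹ (inv_mem hg)]
    have h1 := h.le_fx hq hUyi (lt_of_le_of_lt hUy hc)
    have h2 : d • y - y ∈ fx V (A ⊔ B) := h1 ⟨d, hd, rfl⟩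
    rw [mul_smul, mul_smul, hy l⁻¹ (inv_mem hl)]
    have h3 := h2 l hl
    rw [smul_sub, hy l hl] at h3
    exact sub_left_injective h3
  have h1 : (l * d * l⁻¹)⁻¹ * d = 1 := by
    apply faith
    intro v
    rw [mul_smul, inv_smul_eq_iff]
    have h1 : v ∈ U ⊔ fx V (A ⊔ B) := by rw [hU']; exact AddSubgroup.mem_top _
    obtain ⟨u, hu, c, hc, rfl⟩ := AddSubgroup.mem_sup.1 h1
    rw [smul_add, smul_add, key c hc, hUD hu d hd, hUD hu _ hld]
  have h2 := inv_mul_eq_one.1 h1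
  calc l * d = (l * d * l⁻¹) * l := by group
    _ = d * l := by rw [h2]

end pair

end H53.FS
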