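import Cfsg.Agent.Lib.H53.FS3

/-!
Families of quadratic offenders: exactly one member at each point.
-/

set_option autoImplicit false

namespace H53.FS

open Subgroup H53.PU
open H51.FF (Off At cg mem_cg card_cg mem_fx_cg card_fx_cg Off.cg At.cg Off.ne Sp card_le V_le Int' int_inj cg_cg cg_one
  cg_sup cg_top Sp.sup_top Sp.exists_add Sp.cover)

section gen

variable {p : ℕ} {H : Type*} [Group H]

/-- a set of commuting `p`-elements generates a commutative `p`-group -/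
theorem closure_comm_pgroup {s : Set H} (hc : ∀ x ∈ s, ∀ y ∈ s, x * y = y * x) (hp : ∀ x ∈ s, ∃ k : ℕ, x ^ p ^ k = 1) :
    IsPGroup p (Subgroup.closure s) ∧ ∀ x ∈ Subgroup.closure s, ∀ y ∈ Subgroup.closure s, x * y = y * x := by
  have h1 : ∀ x ∈ s, ∀ y ∈ Subgroup.closure s, x * y = y * x := by
    intro x hx y hy
    have h2 : Subgroup.closure s ≤ Subgroup.centralizer {x} := by
      rw [Subgroup.closure_le]
      intro z hz
      rw [SetLike.mem_coe, Subgroup.mem_centralizer_singleton_iff]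
      exact hc z hz x hx
    have h3 := h2 hy
    rw [Subgroup.mem_centralizer_singleton_iff] at h3
    exact h3.symm
  have h2 : ∀ x ∈ Subgroup.closure s, ∀ y ∈ Subgroup.closure s, x * y = y * x := by
    intro x hx y hy
    have h2 : Subgroup.closure s ≤ Subgroup.centralizer {y} := by
      rw [Subgroup.closure_le]
      intro z hz
      rw [SetLike.mem_coe, Subgroup.mem_centralizer_singleton_iff]
      exact h1 z hz y hy
    have h3 := h2 hx
    rw [Subgroup.mem_centralizer_singleton_iff] at h3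
    exact h3
  refine ⟨?_, h2⟩
  have h3 : ∀ x ∈ Subgroup.closure s, ∃ k : ℕ, x ^ p ^ k = 1 := by
    intro x hx
    induction hx using Subgroup.closure_induction with
    | mem x hx => exact hp x hx
    | one => exact ⟨0, one_pow _⟩
    | mul x y hx hy ihx ihy =>
      obtain ⟨k, hk⟩ := ihx
      obtain ⟨l, hl⟩ := ihy
      refine ⟨k + l, ?_⟩
      have h4 : Commute x y := h2 x hx y hy
      rw [h4.mul_pow, pow_add, pow_mul x, hk, one_pow, mul_comm (p ^ k), pow_mul y, hl, one_pow, one_mul]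
    | inv x hx ih =>
      obtain ⟨k, hk⟩ := ih
      exact ⟨k, by rw [inv_pow, hk, inv_one]⟩
  rintro ⟨x, hx⟩
  obtain ⟨k, hk⟩ := h3 x hx
  exact ⟨k, Subtype.ext hk⟩

theorem mem_sup_comm {A C : Subgroup H} (hcomm : ∀ a ∈ A, ∀ c ∈ C, a * c = c * a) {x : H} (hx : x ∈ A ⊔ C) :
    ∃ a ∈ A, ∃ c ∈ C, x = a * c := by
  let D : Subgroup H :=
    { carrier := {x | ∃ a ∈ A, ∃ c ∈ C, x = a * c}
      one_mem' := ⟨1, one_mem _, 1, one_mem _, by rw [mul_one]⟩
      mul_mem' := by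
        rintro _ _ ⟨a, ha, c, hc, rfl⟩ ⟨a', ha', c', hc', rfl⟩
        refine ⟨a * a', mul_mem ha ha', c * c', mul_mem hc hc', ?_⟩
        calc a * c * (a' * c') = a * (c * a') * c' := by group
          _ = a * (a' * c) * c' := by rw [hcomm a' ha' c hc]
          _ = _ := by group
      inv_mem' := by
        rintro _ ⟨a, ha, c, hc, rfl⟩
        refine ⟨a⁻¹, inv_mem ha, c⁻¹, inv_mem hc, ?_⟩
        rw [mul_inv_rev, hcomm _ (inv_mem ha) _ (inv_mem hc)] }
  have h1 : A ⊔ C ≤ D := sup_le (fun a ha => ⟨a, ha, 1, one_mem _, by rw [mul_one]⟩)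
    (fun c hc => ⟨1, one_mem _, c, hc, by rw [one_mul]⟩)
  exact h1 hx

theorem sup_comm_pgroup {A C : Subgroup H} (hA : IsPGroup p A) (hC : IsPGroup p C)
    (hAc : ∀ a ∈ A, ∀ b ∈ A, a * b = b * a) (hCc : ∀ a ∈ C, ∀ b ∈ C, a * b = b * a)
    (hcomm : ∀ a ∈ A, ∀ c ∈ C, a * c = c * a) :
    IsPGroup p ↥(A ⊔ C) ∧ ∀ x ∈ A ⊔ C, ∀ y ∈ A ⊔ C, x * y = y * x := by
  have h1 : A ⊔ C = Subgroup.closure ((A : Set H) ∪ C) := by
    rw [Subgroup.closure_union, Subgroup.closure_eq, Subgroup.closure_eq]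
  rw [h1]
  apply closure_comm_pgroup
  · rintro x (hx | hx) y (hy | hy)
    · exact hAc x hx y hy
    · exact hcomm x hx y hy
    · exact (hcomm y hy x hx).symm
    · exact hCc x hx y hy
  · rintro x (hx | hx)
    · obtain ⟨k, hk⟩ := hA ⟨x, hx⟩
      exact ⟨k, congrArg Subtype.val hk⟩
    · obtain ⟨k, hk⟩ := hC ⟨x, hx⟩
      exact ⟨k, congrArg Subtype.val hk⟩

end gen

/-- the situation with the bound and the witnesses -/
structure Am2 (p q : ℕ) (H V Δ : Type*) [Group H] [AddCommGroup V] [DistribMulAction H V] [MulAction H Δ]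
    (S : Set (Subgroup H)) : Prop extends Am p q H V Δ S where
  hq : 1 < q
  mx : Mx p H V
  pfix : ∀ R : Subgroup H, IsPGroup p R → ∀ A ∈ S, A ≤ R → ∀ δ : Δ, At A δ → At R δ
  wit : ∀ R : Subgroup H, IsPGroup p R → ∀ δ : Δ, At R δ → ∃ w ∈ fx V R, ∀ x : H, x • w = w → x • δ = δ

section

variable {p q : ℕ} [hp : Fact p.Prime] {H V Δ : Type*} [Group H] [Finite H] [AddCommGroup V] [Finite V]
  [DistribMulAction H V] [MulAction H Δ] {S : Set (Subgroup H)} (am : Am2 p q H V Δ S)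

include am

theorem Am2.pr {A B : Subgroup H} (hA : A ∈ S) (hB : B ∈ S) {δ ε : Δ} (hδ : At A δ) (hε : At B ε) (hne : δ ≠ ε) :
    Pr p q V A B :=
  ⟨am.off hA, am.off hB, sp am.toAm am.hq hA hB hδ hε hne, int_ am.toAm am.hq hA hB hδ hε hne,
    int_' am.toAm am.hq hA hB hδ hε hne⟩

/-- one nontrivial element determines the fixed points -/
theorem Am2.fx_one {A : Subgroup H} (hA : A ∈ S) {a : H} (ha : a ∈ A) (ha1 : a ≠ 1) {v : V} (h : a • v = v) :
    v ∈ fx V A := by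
  obtain ⟨δ, hδ⟩ := exists_at am.toAm am.hq hA
  obtain ⟨ε, hne⟩ := exists_other am.toAm δ
  obtain ⟨B, hB, hε⟩ := exists_at_all am.toAm am.hq hA ε
  have hp := am.pr hA hB hδ hε hne
  obtain ⟨x, hx, y, hy, rfl⟩ := hp.sp.exists_add v
  rw [smul_add, hx a ha] at h
  have h1 : a • y = y := add_left_cancel h
  exact AddSubgroup.add_mem _ hx (hp.hI a ha ha1 y hy (by rw [h1]; exact hy))

theorem Am2.stab_inf {A : Subgroup H} (hA : A ∈ S) {δ : Δ} (hδ : At A δ) {a : H} (ha : a ∈ A) {ε : Δ} (hne : ε ≠ δ)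
    (he : a • ε = ε) : a = 1 := by
  by_contra ha1
  exact hne (at_unique am.toAm hA hδ ha ha1 he)

/-- **uniqueness** -/
theorem Am2.unique {A C : Subgroup H} (hA : A ∈ S) (hC : C ∈ S) {δ : Δ} (hδ : At A δ) (hδ' : At C δ) : A = C := by
  classical
  by_contra hAC
  have hq := am.hq
  have faith := am.faith
  have pz := am.pz
  obtain ⟨ε, hne⟩ := exists_other am.toAm δ
  obtain ⟨B, hB, hε⟩ := exists_at_all am.toAm hq hA ε
  have pAB := am.pr hA hB hδ hε hne
  have pCB := am.pr hC hB hδ' hε hne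
  have hcomm := at_comm am.toAm hq hA hC hδ hδ'
  have hax : fx V A ≠ fx V C := fun h => hAC (Off.axis pz faith am.mx (am.off hA) (am.off hC) h)
  -- the intersection is trivial
  have hint : ∀ x, x ∈ A → x ∈ C → x = 1 := by
    intro x hxA hxC
    by_contra hx1
    apply hax
    apply le_antisymm
    · intro v hv; exact am.fx_one hC hxC hx1 (hv x hxA)
    · intro v hv; exact am.fx_one hA hxA hx1 (hv x hxC)
  -- the product
  obtain ⟨hXp, hXc⟩ := sup_comm_pgroup (am.off hA).pg (am.off hC).pg (am.off hA).comm (am.off hC).comm hcomm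
  have hcX : Nat.card ↥(A ⊔ C) = q * q := by
    have h1 := card_sup_inf_comm (T := A ⊔ C) (X := A) (Y := C) hXc le_sup_left le_sup_right
    have h2 : A ⊓ C = ⊥ := by
      rw [eq_bot_iff]
      rintro x ⟨h3, h4⟩
      exact Subgroup.mem_bot.2 (hint x h3 h4)
    rw [h2, Subgroup.card_bot, mul_one, (am.off hA).card, (am.off hC).card] at h1
    exact h1
  have hVA : Nat.card V = q * Nat.card (fx V A) := by rw [pAB.sp.cV, pAB.sp.cA]
  have hVC : Nat.card V = q * Nat.card (fx V C) := by rw [pCB.sp.cV, pCB.sp.cA]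
  have hsup : fx V A ⊔ fx V C = ⊤ := by
    apply AddSubgroup.eq_top_of_card_eq
    have h1 := add_card_sup_inf (fx V A) (fx V C)
    have h2 := am.mx _ hXp hXc
    rw [hcX, fx_sup] at h2
    have h3 : Nat.card ↥(fx V A ⊔ fx V C) ≤ Nat.card V := Nat.card_le_card_of_injective _ (AddSubgroup.subtype_injective _)
    apply le_antisymm h3
    have h0 : 0 < Nat.card ↥(fx V A ⊓ fx V C) := Nat.card_pos
    apply Nat.le_of_mul_le_mul_right _ h0
    rw [h1]
    have hq0 : 0 < q * q := Nat.mul_pos (by omega) (by omega)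
    apply Nat.le_of_mul_le_mul_left _ hq0
    calc q * q * (Nat.card V * Nat.card ↥(fx V A ⊓ fx V C)) = Nat.card V * (q * q * Nat.card ↥(fx V A ⊓ fx V C)) := by ring
      _ ≤ Nat.card V * Nat.card V := Nat.mul_le_mul_left _ h2
      _ = (q * Nat.card (fx V A)) * (q * Nat.card (fx V C)) := congrArg₂ (· * ·) hVA hVC
      _ = _ := by ring
  have hexA : ∀ v : V, ∃ x ∈ fx V A, ∃ y ∈ fx V C, v = x + y := by
    intro v
    have h1 : v ∈ fx V A ⊔ fx V C := by rw [hsup]; exact AddSubgroup.mem_top _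
    obtain ⟨x, hx, y, hy, rfl⟩ := AddSubgroup.mem_sup.1 h1
    exact ⟨x, hx, y, hy, rfl⟩
  have hqA : ∀ a ∈ A, ∀ v : V, a • v - v ∈ fx V A ⊓ fx V C := by
    intro a ha v
    refine ⟨(am.off hA).quad a ha v, ?_⟩
    obtain ⟨x, hx, y, hy, rfl⟩ := hexA v
    intro c hc
    have e : a • (x + y) - (x + y) = a • y - y := by rw [smul_add, hx a ha]; abel
    rw [e, smul_sub, ← mul_smul, ← hcomm a ha c hc, mul_smul, hy c hc]
  have hqC : ∀ c ∈ C, ∀ v : V, c • v - v ∈ fx V A ⊓ fx V C := by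
    intro c hc v
    refine ⟨?_, (am.off hC).quad c hc v⟩
    obtain ⟨x, hx, y, hy, rfl⟩ := hexA v
    intro a ha
    have e : c • (x + y) - (x + y) = c • x - x := by rw [smul_add, hy c hc]; abel
    rw [e, smul_sub, ← mul_smul, hcomm a ha c hc, mul_smul, hx a ha]
  have hqX : ∀ x ∈ A ⊔ C, ∀ v : V, x • v - v ∈ fx V (A ⊔ C) := by
    intro x hx v
    obtain ⟨a, ha, c, hc, rfl⟩ := mem_sup_comm hcomm hx
    have e : (a * c) • v - v = (a • (c • v) - c • v) + (c • v - v) := by rw [mul_smul]; abel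
    rw [e, fx_sup]
    exact AddSubgroup.add_mem _ (hqA a ha _) (hqC c hc v)
  have hXδ : At (A ⊔ C) δ := by
    intro x hx
    obtain ⟨a, ha, c, hc, rfl⟩ := mem_sup_comm hcomm hx
    rw [mul_smul, hδ' c hc, hδ a ha]
  have hmove : ∀ x ∈ A ⊔ C, x • ε ≠ δ := by
    intro x hx h1
    apply hne
    exact MulAction.injective x ((hXδ x hx).trans h1.symm)
  -- the stabilizer
  let D : Subgroup H := (A ⊔ C) ⊓ MulAction.stabilizer H ε
  have hDX : D ≤ A ⊔ C := inf_le_left
  have hDε : ∀ d ∈ D, d • ε = ε := fun d hd => hd.2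
  have hADtr : ∀ x ∈ A ⊔ C, ∃ a ∈ A, a⁻¹ * x ∈ D := by
    intro x hx
    obtain ⟨a, ha, h1⟩ := off_trans am.toAm hq hA hB hδ hε hne (hmove x hx)
    refine ⟨a, ha, (A ⊔ C).mul_mem ((A ⊔ C).inv_mem (mem_sup_left ha)) hx, ?_⟩
    show (a⁻¹ * x) • ε = ε
    rw [mul_smul, ← h1, inv_smul_smul]
  have hADint : ∀ a ∈ A, a ∈ D → a = 1 := fun a ha had =>
    am.stab_inf hA hδ ha hne.symm (hDε a had)
  have hCDint : ∀ c ∈ C, c ∈ D → c = 1 := fun c hc hcd =>
    am.stab_inf hC hδ' hc hne.symm (hDε c hcd)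
  have hcD : Nat.card D = q := by
    have h1 := card_sup_inf_comm (T := A ⊔ C) (X := A) (Y := D) hXc le_sup_left hDX
    have h2 : A ⊓ D = ⊥ := by
      rw [eq_bot_iff]
      rintro x ⟨h3, h4⟩
      exact Subgroup.mem_bot.2 (hADint x h3 h4)
    have h3 : A ⊔ D = A ⊔ C := by
      apply le_antisymm (sup_le le_sup_left hDX)
      intro x hx
      obtain ⟨a, ha, h4⟩ := hADtr x hx
      have e : x = a * (a⁻¹ * x) := by group
      rw [e]
      exact mul_mem (mem_sup_left ha) (mem_sup_right h4)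
    rw [h2, Subgroup.card_bot, mul_one, h3, hcX, (am.off hA).card] at h1
    exact (Nat.eq_of_mul_eq_mul_left (by omega) h1).symm
  have hDall : ∀ d ∈ D, ∀ ζ : Δ, d • ζ = ζ := by
    intro d hd ζ
    by_cases h1 : ζ = δ
    · rw [h1]; exact hXδ d (hDX hd)
    · obtain ⟨a, ha, rfl⟩ := off_trans am.toAm hq hA hB hδ hε hne h1
      rw [← mul_smul, hXc d (hDX hd) a (mem_sup_left ha), mul_smul, hDε d hd]
  -- the kernel of the action on the points
  let K : Subgroup H := (MulAction.toPermHom H Δ).ker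
  have hKmem : ∀ k, k ∈ K ↔ ∀ ζ : Δ, k • ζ = ζ := by
    intro k
    show MulAction.toPermHom H Δ k = 1 ↔ _
    constructor
    · intro h ζ
      exact congrArg (fun σ : Equiv.Perm Δ => σ ζ) h
    · intro h
      ext ζ
      exact h ζ
  have hKn : K.Normal := MonoidHom.normal_ker _
  let Q : Subgroup H := Subgroup.closure {x | ∃ E ∈ S, At E δ ∧ x ∈ E}
  obtain ⟨hQp, hQc⟩ : IsPGroup p Q ∧ ∀ x ∈ Q, ∀ y ∈ Q, x * y = y * x := by
    apply closure_comm_pgroup
    · rintro x ⟨E, hE, hEδ, hx⟩ y ⟨F, hF, hFδ, hy⟩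
      exact at_comm am.toAm hq hE hF hEδ hFδ x hx y hy
    · rintro x ⟨E, hE, hEδ, hx⟩
      obtain ⟨k, hk⟩ := (am.off hE).pg ⟨x, hx⟩
      exact ⟨k, congrArg Subtype.val hk⟩
  have hXQ : A ⊔ C ≤ Q := sup_le (fun x hx => Subgroup.subset_closure ⟨A, hA, hδ, hx⟩)
    (fun x hx => Subgroup.subset_closure ⟨C, hC, hδ', hx⟩)
  have hQn : ∀ g : H, g • δ = δ → ∀ x ∈ Q, g * x * g⁻¹ ∈ Q := by
    intro g hg x hx
    induction hx using Subgroup.closure_induction with
    | mem x hx =>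
      obtain ⟨E, hE, hEδ, hx⟩ := hx
      refine Subgroup.subset_closure ⟨cg g E, am.conj hE g, ?_, ?_⟩
      · have h1 := hEδ.cg g
        rwa [hg] at h1
      · rw [mem_cg]
        have e : g⁻¹ * (g * x * g⁻¹) * g = x := by group
        rw [e]; exact hx
    | one => rw [mul_one, mul_inv_cancel]; exact one_mem _
    | mul x y hx hy ihx ihy =>
      have e : g * (x * y) * g⁻¹ = (g * x * g⁻¹) * (g * y * g⁻¹) := by group
      rw [e]; exact mul_mem ihx ihy
    | inv x hx ih =>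
      have e : g * x⁻¹ * g⁻¹ = (g * x * g⁻¹)⁻¹ := by group
      rw [e]; exact inv_mem ih
  let E₀ : Subgroup H := Cfsg.pCoreOf p K
  have hE₀p : IsPGroup p E₀ := H52.PCore.isPGroup_pCoreOf K
  have hE₀n : E₀.Normal := by
    rw [← Subgroup.normalizer_eq_top_iff, eq_top_iff]
    exact (Subgroup.normalizer_eq_top_iff.2 hKn).ge.trans (H52.PCore.normalizer_le_normalizer_pCoreOf K)
  have hDE : D ≤ E₀ := by
    have h1 : Q ⊓ K ≤ E₀ := by
      apply H52.PCore.le_pCoreOf inf_le_right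
      · intro k hk
        rw [Subgroup.mem_normalizer_iff]
        have hk' := (hKmem k).1 hk
        intro x
        constructor
        · rintro ⟨h2, h3⟩
          exact ⟨hQn k (hk' δ) x h2, hKn.conj_mem x h3 k⟩
        · rintro ⟨h2, h3⟩
          have h4 := hQn k⁻¹ ((hKmem _).1 (inv_mem hk) δ) _ h2
          have h5 := hKn.conj_mem _ h3 k⁻¹
          have e : k⁻¹ * (k * x * k⁻¹) * k⁻¹⁻¹ = x := by group
          rw [e] at h4 h5
          exact ⟨h4, h5⟩
      · exact hQp.to_le inf_le_left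
    intro d hd
    exact h1 ⟨hXQ (hDX hd), (hKmem d).2 (hDall d hd)⟩
  -- the witness
  have hRp : IsPGroup p ↥(E₀ ⊔ (A ⊔ C)) := hE₀p.to_sup_of_normal_left hXp
  have hRδ := am.pfix _ hRp A hA (le_sup_left.trans le_sup_right) δ hδ
  obtain ⟨w, hw, hws⟩ := am.wit _ hRp δ hRδ
  have hwU : w ∈ fx V E₀ := fx_anti le_sup_left hw
  have hU : ∀ g : H, ∀ u ∈ fx V E₀, g • u ∈ fx V E₀ := by
    intro g u hu e he
    have h1 := hu _ (hE₀n.conj_mem e he g⁻¹)
    have e1 : g⁻¹ * e * g⁻¹⁻¹ = g⁻¹ * e * g := by rw [inv_inv]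
    rw [e1, mul_smul, mul_smul, inv_smul_eq_iff] at h1
    exact h1
  have hwL : w ∉ fx V (A ⊔ B) := by
    intro h1
    obtain ⟨b, hb, hb1⟩ := (am.off hB).ne hq
    have h2 := hws b (h1 b (mem_sup_right hb))
    exact hb1 (am.stab_inf hB hε hb hne h2)
  have hUtop := pAB.sup_eq_top hq (U := fx V E₀) (fun g _ => hU g) hwU hwL
  have hUD : fx V E₀ ≤ fx V D := fx_anti hDE
  have hDq : ∀ d ∈ D, ∀ v : V, d • v - v ∈ fx V D := fun d hd v => fx_anti hDX (hqX d (hDX hd) v)
  have hLA : fx V (A ⊔ B) ≤ fx V A := fx_anti le_sup_left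
  have hDf : Nat.card V ≤ Nat.card D * Nat.card (fx V D) := by
    have h1 : fx V D ⊔ fx V A = ⊤ := by
      rw [eq_top_iff, ← hUtop]
      exact sup_le_sup hUD hLA
    have h2 := add_card_sup_inf (fx V D) (fx V A)
    rw [h1, AddSubgroup.card_top] at h2
    have h3 : fx V A ⊓ fx V C ≤ fx V D ⊓ fx V A := by
      rw [← fx_sup]
      exact le_inf (fx_anti hDX) (fx_anti le_sup_left)
    have h4 := card_le _ _ h3
    have h5 := add_card_sup_inf (fx V A) (fx V C)
    rw [hsup, AddSubgroup.card_top] at h5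
    rw [hcD]
    have h0 : 0 < Nat.card (fx V A) := Nat.card_pos
    have h6 : Nat.card (fx V C) = Nat.card (fx V A) := by
      have := hVA.symm.trans hVC
      exact (Nat.eq_of_mul_eq_mul_left (by omega) this).symm
    rw [h6] at h5
    apply Nat.le_of_mul_le_mul_right _ h0
    calc Nat.card V * Nat.card (fx V A) = q * (Nat.card (fx V A) * Nat.card (fx V A)) := by rw [hVA]; ring
      _ = q * (Nat.card V * Nat.card ↥(fx V A ⊓ fx V C)) := by rw [h5]
      _ ≤ q * (Nat.card V * Nat.card ↥(fx V D ⊓ fx V A)) := Nat.mul_le_mul_left _ (Nat.mul_le_mul_left _ h4)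
      _ = _ := by rw [h2]; ring
  have hcent := pAB.cent hq pz faith am.mx hDq hDf (by rw [hcD]; exact lt_mul_of_one_lt_left (by omega) hq)
    (U := fx V E₀) (fun g _ => hU g) hUD hUtop
  -- the contradiction
  apply hax
  obtain ⟨c, hc, hc1⟩ := (am.off hC).ne hq
  obtain ⟨a, ha, had⟩ := hADtr c (mem_sup_right hc)
  have ha1 : a ≠ 1 := by
    rintro rfl
    rw [inv_one, one_mul] at had
    exact hc1 (hCDint c hc had)
  have hle : fx V C ≤ fx V A := by
    intro v hv
    have h1 : a⁻¹ • v - v ∈ fx V (A ⊔ B) := by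
      have e : (a⁻¹ * c) • v = a⁻¹ • v := by rw [mul_smul, hv c hc]
      rw [← e]
      have h2 : v ∈ fx V E₀ ⊔ fx V (A ⊔ B) := by rw [hUtop]; exact AddSubgroup.mem_top _
      obtain ⟨x, hx, y, hy, rfl⟩ := AddSubgroup.mem_sup.1 h2
      have e2 : (a⁻¹ * c) • (x + y) - (x + y) = (a⁻¹ * c) • y - y := by
        rw [smul_add, hUD hx _ had]; abel
      rw [e2]
      intro l hl
      rw [smul_sub, ← mul_smul, hcent l hl _ had, mul_smul, hy l hl]
    obtain ⟨x, hx, y, hy, rfl⟩ := pAB.sp.exists_add v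
    have e : a⁻¹ • (x + y) - (x + y) = a⁻¹ • y - y := by rw [smul_add, hx _ (inv_mem ha)]; abel
    rw [e] at h1
    have h2 : a⁻¹ • y ∈ fx V B := by
      have e2 : a⁻¹ • y = (a⁻¹ • y - y) + y := by abel
      rw [e2]
      exact AddSubgroup.add_mem _ (fx_anti le_sup_right h1) hy
    exact AddSubgroup.add_mem _ hx (pAB.hI a⁻¹ (inv_mem ha) (inv_ne_one.2 ha1) y hy h2)
  symm
  apply AddSubgroup.eq_of_le_of_card_ge hle
  have := hVA.symm.trans hVC
  exact (Nat.eq_of_mul_eq_mul_left (by omega) this).le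

/-- two members at different points contain all members -/
theorem Am2.le_sup {A B E : Subgroup H} (hA : A ∈ S) (hB : B ∈ S) (hE : E ∈ S) {δ ε : Δ} (hδ : At A δ) (hε : At B ε)
    (hne : δ ≠ ε) : E ≤ A ⊔ B := by
  obtain ⟨ζ, hζ⟩ := exists_at am.toAm am.hq hE
  by_cases h1 : ζ = δ
  · rw [h1] at hζ
    rw [am.unique hE hA hζ hδ]
    exact le_sup_left
  · obtain ⟨a, ha, rfl⟩ := off_trans am.toAm am.hq hA hB hδ hε hne h1
    rw [am.unique hE (am.conj hB a) hζ (hε.cg a)]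
    intro x hx
    have h2 := mem_cg.1 hx
    have e : x = a * (a⁻¹ * x * a) * a⁻¹ := by group
    rw [e]
    exact mul_mem (mul_mem (mem_sup_left ha) (mem_sup_right h2)) (inv_mem (mem_sup_left ha))

end

end H53.FS
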