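import Cfsg.Agent.Lib.H53.FS4
import Cfsg.Agent.Lib.H52.Syl

/-!
Offenders in groups whose Sylow subgroup lies in a unique maximal subgroup: setup, the choice of `Y`, the minimal subgroup.
-/

set_option autoImplicit false

namespace H53.FS

open Subgroup H53.PU
open H52.Syl (SylIn exists_sylIn_le sylIn_of_max)
open H51.FF (Off At cg mem_cg card_cg mem_fx_cg card_fx_cg Off.cg At.cg Off.ne Sp card_le V_le Int' int_inj cg_cg cg_one
  cg_sup cg_top Sp.sup_top Sp.exists_add Sp.cover PM)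

section conj

variable {H : Type*} [Group H]

theorem cg_le_cg {g : H} {A B : Subgroup H} : cg g A ≤ cg g B ↔ A ≤ B := H52.Syl.cj_le_cj_iff

theorem cg_mono {g : H} {A B : Subgroup H} (h : A ≤ B) : cg g A ≤ cg g B := cg_le_cg.2 h

theorem cg_inv_cg (g : H) (A : Subgroup H) : cg g⁻¹ (cg g A) = A := H52.Syl.cj_inv_cj g A

theorem cg_cg_inv (g : H) (A : Subgroup H) : cg g (cg g⁻¹ A) = A := H52.Syl.cj_cj_inv g A

theorem cg_le_iff {g : H} {A B : Subgroup H} : cg g A ≤ B ↔ A ≤ cg g⁻¹ B := H52.Syl.cj_le_iff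

theorem le_cg_iff {g : H} {A B : Subgroup H} : A ≤ cg g B ↔ cg g⁻¹ A ≤ B := H52.Syl.le_cj_iff

theorem mem_norm {g : H} {A : Subgroup H} : g ∈ normalizer (A : Set H) ↔ cg g A = A := H52.Syl.mem_normalizer_iff_cj

theorem cg_mem {g : H} {A : Subgroup H} (h : g ∈ A) : cg g A = A := H52.Syl.cj_of_mem h

theorem cg_normalizer (g : H) (A : Subgroup H) : cg g (normalizer (A : Set H)) = normalizer ((cg g A : Subgroup H) : Set H) :=
  H52.Syl.cj_normalizer g A

theorem cg_bot (g : H) : cg g (⊥ : Subgroup H) = ⊥ := Subgroup.map_bot _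

theorem cg_inf (g : H) (A B : Subgroup H) : cg g (A ⊓ B) = cg g A ⊓ cg g B := H52.Syl.cj_inf g A B

theorem cg_inj {g : H} {A B : Subgroup H} : cg g A = cg g B ↔ A = B := H52.Syl.cj_inj

/-- the subgroup generated by the members inside -/
def gn (S : Set (Subgroup H)) (R : Subgroup H) : Subgroup H := sSup {A | A ∈ S ∧ A ≤ R}

variable {S : Set (Subgroup H)}

theorem gn_le (R : Subgroup H) : gn S R ≤ R := sSup_le fun _ h => h.2

theorem le_gn {A R : Subgroup H} (hA : A ∈ S) (h : A ≤ R) : A ≤ gn S R := le_sSup ⟨hA, h⟩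

theorem gn_mono {R R' : Subgroup H} (h : R ≤ R') : gn S R ≤ gn S R' := sSup_le fun _ hA => le_gn hA.1 (hA.2.trans h)

theorem gn_gn (R : Subgroup H) : gn S (gn S R) = gn S R :=
  le_antisymm (gn_le _) (sSup_le fun _ h => le_gn h.1 (le_gn h.1 h.2))

theorem cg_gn_le (hS : ∀ A ∈ S, ∀ g, cg g A ∈ S) (g : H) (R : Subgroup H) : cg g (gn S R) ≤ gn S (cg g R) := by
  rw [cg_le_iff]
  apply sSup_le
  intro A hA
  rw [← cg_le_iff]
  exact le_gn (hS A hA.1 g) (cg_mono hA.2)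

theorem cg_gn (hS : ∀ A ∈ S, ∀ g, cg g A ∈ S) (g : H) (R : Subgroup H) : cg g (gn S R) = gn S (cg g R) := by
  apply le_antisymm (cg_gn_le hS g R)
  rw [le_cg_iff]
  have := cg_gn_le hS g⁻¹ (cg g R)
  rwa [cg_inv_cg] at this

theorem norm_gn (hS : ∀ A ∈ S, ∀ g, cg g A ∈ S) (R : Subgroup H) :
    normalizer (R : Set H) ≤ normalizer ((gn S R : Subgroup H) : Set H) := by
  intro x hx
  rw [mem_norm] at hx ⊢
  rw [cg_gn hS, hx]

end conj

/-- the ambient situation: a Sylow `p`-subgroup `T` in a unique maximal subgroup `M` -/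
structure St (p : ℕ) {H : Type*} (V : Type*) [Group H] [AddCommGroup V] [DistribMulAction H V] (T M : Subgroup H) :
    Prop where
  pz : ∀ v : V, p • v = 0
  faith : ∀ h : H, (∀ v : V, h • v = v) → h = 1
  syl : SylIn p T ⊤
  nn : ¬ T.Normal
  Mne : M ≠ ⊤
  TM : T ≤ M
  huniq : ∀ N : Subgroup H, N ≠ ⊤ → T ≤ N → N ≤ M
  noP : ∀ N : Subgroup H, N.Normal → IsPGroup p N → N = ⊥
  cen : ∃ w ∈ fx V T, w ∉ fx V (⊤ : Subgroup H)

/-- the maximal choice of `Y` -/
structure YM {H : Type*} [Group H] (S : Set (Subgroup H)) (T M Y : Subgroup H) : Prop where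
  YT : Y ≤ T
  gen : gn S Y = Y
  nM : ¬ normalizer (Y : Set H) ≤ M
  max : ∀ Y' : Subgroup H, Y' ≤ T → gn S Y' = Y' → ¬ normalizer (Y' : Set H) ≤ M → Nat.card Y' ≤ Nat.card Y

section

variable {p : ℕ} [hp : Fact p.Prime] {H V : Type*} [Group H] [Finite H] [AddCommGroup V] [DistribMulAction H V]
  {T M : Subgroup H} (st : St p V T M)

include st

omit hp [Finite H] in
theorem St.NT : normalizer (T : Set H) ≤ M := by
  apply st.huniq _ _ le_normalizer
  intro h
  exact st.nn (normalizer_eq_top_iff.1 h)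

omit hp [Finite H] in
theorem St.sylM : SylIn p T M := st.syl.of_le st.TM le_top

omit hp [Finite H] in
theorem St.pT : IsPGroup p T := st.syl.isPGroup

theorem St.NM {x : H} (hx : x ∈ normalizer (M : Set H)) : x ∈ M := by
  obtain ⟨m, hm, n, hn, rfl⟩ := st.sylM.frattini (L := normalizer (M : Set H)) le_normalizer le_rfl hx
  exact mul_mem hm (st.NT hn.2)

theorem St.le_conj {R : Subgroup H} (hR : IsPGroup p R) (h : R ≤ M) : ∃ m ∈ M, R ≤ cg m T :=
  st.sylM.exists_conj_le h hR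

omit hp [Finite H] in
theorem St.wit0 : ∃ w ∈ fx V T, ∀ x : H, x • w = w → x ∈ M := by
  obtain ⟨w, hw, hw1⟩ := st.cen
  refine ⟨w, hw, ?_⟩
  have h1 : MulAction.stabilizer H w ≤ M := by
    apply st.huniq
    · intro h
      apply hw1
      intro g _
      have : g ∈ MulAction.stabilizer H w := by rw [h]; exact mem_top g
      exact this
    · intro t ht
      exact hw t ht
  intro x hx
  exact h1 hx

/-- witness vectors -/
theorem St.wit {R : Subgroup H} (hR : IsPGroup p R) {g : H} (h : R ≤ cg g M) :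
    ∃ w ∈ fx V R, ∀ x : H, x • w = w → x ∈ cg g M := by
  have h1 : cg g⁻¹ R ≤ M := le_cg_iff.1 h
  obtain ⟨m, hm, h2⟩ := st.le_conj (R := cg g⁻¹ R) (hR.map _) h1
  obtain ⟨w, hw, hw1⟩ := st.wit0
  rw [cg_le_iff, inv_inv, cg_cg] at h2
  refine ⟨(g * m) • w, ?_, ?_⟩
  · apply fx_anti h2
    rw [mem_fx_cg, inv_smul_smul]
    exact hw
  · intro x hx
    have h3 : ((g * m)⁻¹ * x * (g * m)) • w = w := by
      rw [mul_smul, mul_smul, hx, inv_smul_smul]
    have h4 := hw1 _ h3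
    have e : cg g M = cg (g * m) M := by rw [← cg_cg, cg_mem hm]
    rw [e, mem_cg]
    exact h4

theorem St.exists_YM (S : Set (Subgroup H)) : ∃ Y, YM S T M Y := by
  obtain ⟨Y, hY, hmax⟩ := Set.exists_max_image
    {Y' : Subgroup H | Y' ≤ T ∧ gn S Y' = Y' ∧ ¬ normalizer (Y' : Set H) ≤ M} (fun Y' => Nat.card Y')
    (Set.toFinite _) ⟨⊥, bot_le, le_bot_iff.1 (gn_le _), by
      have h1 : normalizer ((⊥ : Subgroup H) : Set H) = ⊤ := normalizer_eq_top_iff.2 inferInstance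
      rw [h1]
      intro h
      exact st.Mne (top_le_iff.1 h)⟩
  exact ⟨Y, hY.1, hY.2.1, hY.2.2, fun Y' h1 h2 h3 => hmax Y' ⟨h1, h2, h3⟩⟩

variable {S : Set (Subgroup H)} (hS : ∀ A ∈ S, ∀ g, cg g A ∈ S) {Y : Subgroup H} (ym : YM S T M Y)

include hS ym

theorem YM.big {R : Subgroup H} (hR : IsPGroup p R) (hRM : R ≤ M) (h : Nat.card Y < Nat.card (gn S R)) :
    normalizer (R : Set H) ≤ M := by
  obtain ⟨m, hm, h1⟩ := st.le_conj hR hRM
  have h2 : cg m⁻¹ R ≤ T := le_cg_iff.1 h1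
  have h3 : gn S (cg m⁻¹ R) ≤ T := (gn_le _).trans h2
  have h4 : normalizer ((gn S (cg m⁻¹ R) : Subgroup H) : Set H) ≤ M := by
    by_contra hcon
    have h5 := ym.max _ h3 (gn_gn _) hcon
    rw [← cg_gn hS, card_cg] at h5
    omega
  have h5 := (norm_gn hS (cg m⁻¹ R)).trans h4
  rw [← cg_normalizer, cg_le_iff, inv_inv, cg_mem hm] at h5
  exact h5

theorem YM.exists_A (hne : ∃ A ∈ S, A ≤ T ∧ A ≠ ⊥) : ∃ A ∈ S, A ≤ T ∧ A ≤ normalizer (Y : Set H) ∧ ¬ A ≤ Y := by
  by_contra hcon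
  push Not at hcon
  set N1 := T ⊓ normalizer (Y : Set H) with hN1
  have h1 : gn S N1 = Y := by
    apply le_antisymm
    · exact sSup_le fun A hA => hcon A hA.1 (hA.2.trans inf_le_left) (hA.2.trans inf_le_right)
    · rw [← ym.gen]
      exact gn_mono (le_inf ym.YT le_normalizer)
  have h2 : T ⊓ normalizer (N1 : Set H) ≤ N1 := by
    intro x hx
    refine ⟨hx.1, ?_⟩
    have h3 := norm_gn hS N1 hx.2
    rwa [h1] at h3
  have h3 : N1 = T := by
    by_contra hne'
    obtain ⟨x, hxR, hxP, hxn⟩ := H5.PLocal.exists_mem_normalizer_not_mem st.pT (lt_of_le_of_ne inf_le_left hne')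
    exact hxP (h2 ⟨hxR, hxn⟩)
  have h4 : T ≤ normalizer (Y : Set H) := by rw [← h3]; exact inf_le_right
  have h5 : normalizer (Y : Set H) = ⊤ := by
    by_contra h6
    exact ym.nM (st.huniq _ h6 h4)
  have h6 : Y = ⊥ := st.noP Y (normalizer_eq_top_iff.1 h5) (st.pT.to_le ym.YT)
  obtain ⟨A, hA, hAT, hA1⟩ := hne
  apply hA1
  rw [eq_bot_iff, ← h6, ← h1, h3]
  exact le_gn hA hAT

theorem YM.norm {A R : Subgroup H} (hA : A ∈ S) (hAY : ¬ A ≤ Y) (hAR : A ≤ R) (hR : IsPGroup p R) (hRM : R ≤ M)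
    (hRN : R ≤ normalizer (Y : Set H)) : normalizer (R : Set H) ⊓ normalizer (Y : Set H) ≤ M := by
  have hY : IsPGroup p Y := st.pT.to_le ym.YT
  have h1 : IsPGroup p ↥(R ⊔ Y) := hR.to_sup_of_normal_right' hY hRN
  have h2 : R ⊔ Y ≤ M := sup_le hRM (ym.YT.trans st.TM)
  have h3 : Nat.card Y < Nat.card (gn S (R ⊔ Y)) := by
    have h4 : Y ≤ gn S (R ⊔ Y) := by
      have := gn_mono (S := S) (le_sup_right : Y ≤ R ⊔ Y)
      rwa [ym.gen] at this
    have h5 : A ≤ gn S (R ⊔ Y) := le_gn hA (hAR.trans le_sup_left)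
    by_contra h6
    push Not at h6
    have h7 := Subgroup.eq_of_le_of_card_ge h4 h6
    rw [← h7] at h5
    exact hAY h5
  exact H52.Syl.normalizer_sup_le.trans (ym.big st hS h1 h2 h3)

/-- a `p`-subgroup of `N(Y)` containing a member of the family in `M` is contained in `M` -/
theorem YM.le_M {A R : Subgroup H} (hA : A ∈ S) (hAY : ¬ A ≤ Y) (hAM : A ≤ M) (hAR : A ≤ R) (hR : IsPGroup p R)
    (hRN : R ≤ normalizer (Y : Set H)) : R ≤ M := by
  have h1 : R ⊓ M = R := by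
    by_contra hne'
    obtain ⟨x, hxR, hxP, hxn⟩ := H5.PLocal.exists_mem_normalizer_not_mem hR (lt_of_le_of_ne inf_le_left hne')
    exact hxP ⟨hxR, ym.norm st hS hA hAY (le_inf hAR hAM) (hR.to_le inf_le_left) inf_le_right
      (inf_le_left.trans hRN) ⟨hxn, hRN hxR⟩⟩
  rw [← h1]
  exact inf_le_right

/-- the stabilizer property -/
theorem YM.mem {A : Subgroup H} (hA : A ∈ S) (hAp : IsPGroup p A) (hAN : A ≤ normalizer (Y : Set H)) (hAY : ¬ A ≤ Y)
    (hAM : A ≤ M) {x : H} (hx : x ∈ normalizer (Y : Set H)) (hxA : cg x A ≤ M) : x ∈ M := by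
  set N := normalizer (Y : Set H) with hN
  have hAx : A ≤ cg x⁻¹ M := cg_le_iff.1 hxA
  obtain ⟨R, hR, hAR⟩ := exists_sylIn_le (p := p) (Q := A) (L := M ⊓ cg x⁻¹ M ⊓ N) (le_inf (le_inf hAM hAx) hAN) hAp
  have hxN : cg x N = N := cg_mem hx
  -- `R` is Sylow in `N`
  have hxA' : cg x A ∈ S := hS A hA x
  have hxY : cg x Y = Y := mem_norm.1 hx
  have h1 : ∀ n ∈ normalizer (R : Set H) ⊓ N, n ∈ M ⊓ cg x⁻¹ M ⊓ N := by
    intro n hn
    refine ⟨⟨?_, ?_⟩, hn.2⟩
    · exact ym.norm st hS hA hAY hAR hR.isPGroup (hR.le.trans (inf_le_left.trans inf_le_left)) (hR.le.trans inf_le_right) hn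
    · have h2 : cg x R ≤ M := by rw [cg_le_iff]; exact hR.le.trans (inf_le_left.trans inf_le_right)
      have h3 : cg x R ≤ N := by rw [← hxN]; exact cg_mono (hR.le.trans inf_le_right)
      have h4 : ¬ cg x A ≤ Y := by
        intro h5
        apply hAY
        rw [← hxY, cg_le_cg] at h5
        exact h5
      have h5 := ym.norm st hS hxA' h4 (cg_mono hAR) (hR.isPGroup.map _ : IsPGroup p (cg x R)) h2 h3
      refine mem_cg.2 ?_
      rw [inv_inv]
      apply h5
      constructor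
      · have h6 : x * n * x⁻¹ ∈ cg x (normalizer (R : Set H)) := by
          rw [mem_cg]
          have e : x⁻¹ * (x * n * x⁻¹) * x = n := by group
          rw [e]; exact hn.1
        rwa [cg_normalizer] at h6
      · exact Subgroup.mul_mem _ (Subgroup.mul_mem _ hx hn.2) (Subgroup.inv_mem _ hx)
  have hRN : SylIn p R N := by
    apply sylIn_of_max (hR.le.trans inf_le_right) hR.isPGroup
    intro Q hQ hQp hRQ
    by_contra hcon
    obtain ⟨y, hyQ, hyR, hyn⟩ := H5.PLocal.exists_mem_normalizer_not_mem hQp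
      (lt_of_le_of_ne hRQ (fun h => hcon h.ge))
    have h2 := h1 y ⟨hyn, hQ hyQ⟩
    -- `⟨R, y⟩` is a `p`-group in the intersection
    have h3 : R ⊔ Subgroup.zpowers y ≤ M ⊓ cg x⁻¹ M ⊓ N := sup_le hR.le ((Subgroup.zpowers_le).2 h2)
    have h4 : R ⊔ Subgroup.zpowers y ≤ Q := sup_le hRQ ((Subgroup.zpowers_le).2 hyQ)
    have h5 := hR.max h3 (hQp.to_le h4) le_sup_left
    apply hyR
    rw [← h5]
    exact mem_sup_right (Subgroup.mem_zpowers y)
  have hRM : SylIn p R (M ⊓ N) := hRN.of_le (hR.le.trans (inf_le_inf_right _ inf_le_left)) inf_le_right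
  have hRx : SylIn p (cg x R) N := by
    have h2 := hRN.cj x
    have h3 : H52.Syl.cj x N = N := hxN
    rw [h3] at h2
    exact h2
  have hRx' : SylIn p (cg x R) (M ⊓ N) := by
    apply hRx.of_le _ inf_le_right
    apply le_inf
    · rw [cg_le_iff]; exact hR.le.trans (inf_le_left.trans inf_le_right)
    · exact hRx.le
  obtain ⟨m, hm, hmR⟩ := hRx'.conj hRM
  -- `R = cg m (cg x R)`
  have h2 : cg (m * x) R = R := by
    rw [← cg_cg]; exact hmR.symm
  have h3 : m * x ∈ M := (h1 (m * x) ⟨mem_norm.2 h2, mul_mem hm.2 hx⟩).1.1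
  have e : x = m⁻¹ * (m * x) := by group
  rw [e]
  exact mul_mem (inv_mem hm.1) h3

end

end H53.FS
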