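import Cfsg.Agent.Lib.H53.FS5

/-!
Offenders in groups whose Sylow subgroup lies in a unique maximal subgroup: the minimal subgroup, stage 1.
-/

set_option autoImplicit false

namespace H53.FS

open Subgroup H53.PU
open H52.Syl (SylIn exists_sylIn_le sylIn_of_max)
open H51.FF (Off At cg mem_cg card_cg mem_fx_cg card_fx_cg Off.cg At.cg Off.ne Sp card_le V_le Int' int_inj cg_cg cg_one
  cg_sup cg_top Sp.sup_top Sp.exists_add Sp.cover PM)

section sub

variable {H V : Type*} [Group H] [AddCommGroup V] [DistribMulAction H V]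

theorem fx_map {L : Subgroup H} (Z : Subgroup L) : fx V (Z.map L.subtype) = fx V Z := by
  ext v
  constructor
  · intro h z hz
    exact h z ⟨z, hz, rfl⟩
  · rintro h _ ⟨z, hz, rfl⟩
    exact h z hz

theorem card_map' {L : Subgroup H} (Z : Subgroup L) : Nat.card (Z.map L.subtype) = Nat.card Z :=
  (Nat.card_congr (Z.equivMapOfInjective _ L.subtype_injective).toEquiv).symm

theorem vl_map {L : Subgroup H} (Z : Subgroup L) : vl V (Z.map L.subtype) = vl V Z := by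
  unfold vl
  rw [fx_map, card_map']

theorem vl_cg (g : H) (A : Subgroup H) : vl V (cg g A) = vl V A := by
  unfold vl
  rw [card_cg, card_fx_cg]

theorem fx_bot : fx V (⊥ : Subgroup H) = ⊤ := by
  rw [eq_top_iff]
  intro v _ a ha
  rw [mem_bot] at ha
  rw [ha, one_smul]

theorem vl_bot' : vl V (⊥ : Subgroup H) = Nat.card V := by
  unfold vl
  rw [card_bot, one_mul, fx_bot]
  exact AddSubgroup.card_top

theorem map_subgroupOf' {A L : Subgroup H} (h : A ≤ L) : (A.subgroupOf L).map L.subtype = A := by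
  rw [Subgroup.subgroupOf_map_subtype, inf_eq_left.2 h]

theorem fx_subgroupOf {A L : Subgroup H} (h : A ≤ L) : fx V (A.subgroupOf L) = fx V A := by
  rw [← fx_map, map_subgroupOf' h]

theorem card_subgroupOf' {A L : Subgroup H} (h : A ≤ L) : Nat.card (A.subgroupOf L) = Nat.card A := by
  rw [← card_map', map_subgroupOf' h]

theorem map_cg {L : Subgroup H} (g : L) (Z : Subgroup L) : (cg g Z).map L.subtype = cg (g : H) (Z.map L.subtype) := by
  ext x
  rw [mem_cg]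
  constructor
  · rintro ⟨y, hy, rfl⟩
    exact ⟨_, mem_cg.1 hy, rfl⟩
  · rintro ⟨y, hy, e⟩
    refine ⟨g * y * g⁻¹, mem_cg.2 ?_, ?_⟩
    · have e1 : g⁻¹ * (g * y * g⁻¹) * g = y := by group
      rw [e1]; exact hy
    · show (g : H) * (y : H) * (g : H)⁻¹ = x
      have e2 : (y : H) = (g : H)⁻¹ * x * g := e
      rw [e2]; group

end sub

/-- the family of offenders -/
structure IsF (p : ℕ) {H : Type*} (V : Type*) [Group H] [AddCommGroup V] [DistribMulAction H V]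
    (S : Set (Subgroup H)) : Prop where
  conj : ∀ A ∈ S, ∀ g, cg g A ∈ S
  ne : ∀ A ∈ S, A ≠ ⊥
  pg : ∀ A ∈ S, IsPGroup p A
  comm : ∀ A ∈ S, ∀ a ∈ A, ∀ b ∈ A, a * b = b * a
  ff : ∀ A ∈ S, Nat.card V ≤ Nat.card A * Nat.card (fx V A)
  strict : ∀ A ∈ S, ∀ Z ≤ A, Z ≠ ⊥ → Z ≠ A → vl V Z < vl V A

section

variable {p : ℕ} [hp : Fact p.Prime] {H V : Type*} [Group H] [Finite H] [AddCommGroup V] [DistribMulAction H V]
  {T M : Subgroup H}

/-- the minimal subgroup -/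
theorem YM.zip (st : St p V T M) {S : Set (Subgroup H)} (fam : IsF p V S) {Y : Subgroup H} (ym : YM S T M Y)
    {A : Subgroup H} (hA : A ∈ S) (hAN : A ≤ normalizer (Y : Set H)) (hAY : ¬ A ≤ Y) (hAM : A ≤ M) :
    ∃ (L : Subgroup H) (TL : Sylow p L), A ≤ L ∧ L ≤ normalizer (Y : Set H) ∧ ¬ L ≤ M ∧
      PM p V (TL : Subgroup L) (M.subgroupOf L) (A.subgroupOf L) := by
  obtain ⟨L, ⟨hAL, hLN, hLM⟩, hmin⟩ := Set.exists_min_image
    {L : Subgroup H | A ≤ L ∧ L ≤ normalizer (Y : Set H) ∧ ¬ L ≤ M} (fun L => Nat.card L)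
    (Set.toFinite _) ⟨normalizer (Y : Set H), hAN, le_rfl, ym.nM⟩
  have hsub : ∀ K : Subgroup H, A ≤ K → K ≤ L → K ≠ L → K ≤ M := by
    intro K hAK hKL hne
    by_contra hcon
    exact hne (Subgroup.eq_of_le_of_card_ge hKL (hmin K ⟨hAK, hKL.trans hLN, hcon⟩))
  obtain ⟨TL, hTL⟩ := (H13.Cores.isPGroup_subgroupOf (fam.pg A hA) L).exists_le_sylow
  have hR : IsPGroup p ((TL : Subgroup L).map L.subtype) := TL.isPGroup'.map _
  have hAR : A ≤ (TL : Subgroup L).map L.subtype := by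
    rw [← map_subgroupOf' hAL]
    exact Subgroup.map_mono hTL
  have hRN : (TL : Subgroup L).map L.subtype ≤ normalizer (Y : Set H) := (Subgroup.map_subtype_le _).trans hLN
  have hRM : (TL : Subgroup L).map L.subtype ≤ M := ym.le_M st fam.conj hA hAY hAM hAR hR hRN
  refine ⟨L, TL, hAL, hLN, hLM, ?_⟩
  refine ⟨st.pz, ?_, TL.isPGroup', ?_, ?_, ?_, hTL, ?_, ?_, ?_, ?_, ?_⟩
  · intro h hh
    exact Subtype.ext (st.faith h hh)
  · intro h
    exact hLM (Subgroup.subgroupOf_eq_top.1 h)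
  · intro x hx
    exact hRM ⟨x, hx, rfl⟩
  · intro N hN hTN
    have h1 : N.map L.subtype ≤ M := by
      apply hsub
      · rw [← map_subgroupOf' hAL]; exact Subgroup.map_mono (hTL.trans hTN)
      · exact Subgroup.map_subtype_le _
      · intro h
        apply hN
        rw [eq_top_iff]
        intro x _
        have h2 : (x : H) ∈ N.map L.subtype := by rw [h]; exact x.2
        obtain ⟨y, hy, e⟩ := h2
        rwa [show x = y from Subtype.ext e.symm]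
    intro x hx
    exact h1 ⟨x, hx, rfl⟩
  · intro a ha b hb
    exact Subtype.ext (fam.comm A hA a ha b hb)
  · rw [card_subgroupOf' hAL, fx_subgroupOf hAL]
    exact fam.ff A hA
  · intro Z hZ hZ1 hZ2
    have h1 := fam.strict A hA (Z.map L.subtype) ?_ ?_ ?_
    · rwa [vl_map, ← map_subgroupOf' hAL, vl_map] at h1
    · rw [← map_subgroupOf' hAL]; exact Subgroup.map_mono hZ
    · intro h
      exact hZ1 ((Subgroup.map_eq_bot_iff_of_injective _ L.subtype_injective).1 h)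
    · intro h
      apply hZ2
      rw [← map_subgroupOf' hAL] at h
      exact Subgroup.map_injective L.subtype_injective h
  · obtain ⟨w, hw, hw1⟩ := st.wit hR (g := 1) (by rw [cg_one]; exact hRM)
    rw [cg_one] at hw1
    refine ⟨w, ?_, ?_⟩
    · rw [← fx_map]; exact hw
    · intro h
      apply hLM
      intro x hx
      exact hw1 x (h ⟨x, hx⟩ (mem_top _))
  · intro x hx
    have h1 : cg (x : H) A ≤ L := by
      rw [cg_le_iff, cg_mem (inv_mem x.2)]; exact hAL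
    have h2 : A ⊔ cg (x : H) A = L := by
      by_contra hne
      have h3 := hsub _ le_sup_left (sup_le hAL h1) hne
      exact hx (ym.mem st fam.conj hA (fam.pg A hA) hAN hAY hAM (hLN x.2) (le_sup_right.trans h3))
    apply Subgroup.map_injective L.subtype_injective
    rw [Subgroup.map_sup, map_cg, map_subgroupOf' hAL, h2, ← MonoidHom.range_eq_map, Subgroup.range_subtype]

end

section

variable {p : ℕ} [hp : Fact p.Prime] {H V : Type*} [Group H] [Finite H] [AddCommGroup V] [Finite V]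
  [DistribMulAction H V]

theorem PM_fix_one {T : Sylow p H} {M A : Subgroup H} (pm : PM p V (T : Subgroup H) M A) {a : H} (ha : a ∈ A)
    (ha1 : a ≠ 1) {v : V} (h : a • v = v) : v ∈ fx V A := by
  obtain ⟨x, hx⟩ := pm.exists_nM
  have hx' : (1 : H)⁻¹ * x ∉ M := by rwa [inv_one, one_mul]
  have hsp := pm.sp hx'
  have hI := pm.int hx'
  rw [cg_one] at hsp hI
  obtain ⟨y, hy, z, hz, rfl⟩ := hsp.exists_add v
  rw [smul_add, hy a ha] at h
  have h1 : a • z = z := add_left_cancel h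
  exact AddSubgroup.add_mem _ hy (hI a ha ha1 z hz (by rw [h1]; exact hz))

theorem PM_cardV {T : Sylow p H} {M A : Subgroup H} (pm : PM p V (T : Subgroup H) M A) :
    Nat.card V = Nat.card A * Nat.card (fx V A) := by
  obtain ⟨x, hx⟩ := pm.exists_nM
  have hx' : (1 : H)⁻¹ * x ∉ M := by rwa [inv_one, one_mul]
  have hsp := pm.sp hx'
  rw [cg_one] at hsp
  rw [hsp.cA, hsp.cV]

/-- the offenders we work with -/
def Sg (p q : ℕ) {H : Type*} (V : Type*) [Group H] [AddCommGroup V] [DistribMulAction H V] : Set (Subgroup H) :=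
  {E | Off p q V E ∧ ∀ e ∈ E, e ≠ 1 → ∀ v : V, e • v = v → v ∈ fx V E}

variable {T M : Subgroup H}

theorem YM.zip_sg (st : St p V T M) {S : Set (Subgroup H)} (fam : IsF p V S) {Y : Subgroup H} (ym : YM S T M Y)
    {A : Subgroup H} (hA : A ∈ S) (hAN : A ≤ normalizer (Y : Set H)) (hAY : ¬ A ≤ Y) (hAM : A ≤ M) :
    A ∈ Sg p (Nat.card A) V ∧ Nat.card V = Nat.card A * Nat.card (fx V A) := by
  obtain ⟨L, TL, hAL, _, _, pm⟩ := ym.zip st fam hA hAN hAY hAM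
  have h1 := pm.off
  have h2 := PM_cardV pm
  rw [card_subgroupOf' hAL, fx_subgroupOf hAL] at h2
  refine ⟨⟨⟨rfl, fam.pg A hA, fam.comm A hA, ?_, h2.le⟩, ?_⟩, h2⟩
  · intro a ha v
    have h3 := h1.quad ⟨a, hAL ha⟩ ha v
    rwa [fx_subgroupOf hAL] at h3
  · intro a ha ha1 v hv
    rw [← fx_subgroupOf hAL]
    exact PM_fix_one pm (a := ⟨a, hAL ha⟩) ha (fun h => ha1 (congrArg Subtype.val h)) hv

theorem cg_ne_bot {g : H} {A : Subgroup H} (h : A ≠ ⊥) : cg g A ≠ ⊥ := by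
  intro h1
  apply h
  rw [← cg_inv_cg g A, h1, cg_bot]

omit [Finite H] [Finite V] hp in
theorem Sg.conj {q : ℕ} {E : Subgroup H} (hE : E ∈ Sg p q V) (g : H) : cg g E ∈ Sg p q V := by
  refine ⟨hE.1.cg g, ?_⟩
  intro e he he1 v hv
  rw [mem_fx_cg]
  apply hE.2 _ (mem_cg.1 he)
  · intro h
    apply he1
    have e1 : e = g * (g⁻¹ * e * g) * g⁻¹ := by group
    rw [e1, h]; group
  · rw [mul_smul, mul_smul, smul_inv_smul, hv]

omit [Finite H] in
theorem Sg.isF {q : ℕ} (hq : 1 < q) : IsF p V (Sg p q V : Set (Subgroup H)) := by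
  refine ⟨fun A hA g => Sg.conj hA g, ?_, fun A hA => hA.1.pg, fun A hA => hA.1.comm, ?_, ?_⟩
  · intro A hA h
    obtain ⟨a, ha, ha1⟩ := hA.1.ne hq
    rw [h, Subgroup.mem_bot] at ha
    exact ha1 ha
  · intro A hA
    rw [hA.1.card]; exact hA.1.ff
  · intro A hA Z hZ hZ1 hZ2
    have hfA : Finite A := Nat.finite_of_card_ne_zero (by rw [hA.1.card]; omega)
    obtain ⟨z, hz⟩ := (Subgroup.ne_bot_iff_exists_ne_one).1 hZ1
    have h1 : fx V Z = fx V A := by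
      apply le_antisymm _ (fx_anti hZ)
      intro v hv
      exact hA.2 z (hZ z.2) (fun h => hz (Subtype.ext h)) v (hv z z.2)
    unfold vl
    rw [h1]
    apply Nat.mul_lt_mul_of_pos_right _ Nat.card_pos
    have hle : Nat.card Z ≤ Nat.card A := Subgroup.card_le_of_le hZ
    rcases hle.lt_or_eq with h2 | h2
    · exact h2
    · exact absurd (Subgroup.eq_of_le_of_card_ge hZ h2.ge) hZ2

theorem exists_conj_le_T (st : St p V T M) {A : Subgroup H} (hA : IsPGroup p A) : ∃ g, cg g A ≤ T := by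
  obtain ⟨g, _, hg⟩ := st.syl.exists_conj_le le_top hA
  exact ⟨g⁻¹, le_cg_iff.1 hg⟩

/-- **stage 1** -/
theorem stage1 (st : St p V T M) (hff : ∃ A : Subgroup H, A ≠ ⊥ ∧ IsPGroup p A ∧ (∀ a ∈ A, ∀ b ∈ A, a * b = b * a) ∧
    Nat.card V ≤ Nat.card A * Nat.card (fx V A)) :
    ∃ q : ℕ, 1 < q ∧ Mx p H V ∧ ∃ A, A ∈ (Sg p q V : Set (Subgroup H)) := by
  obtain ⟨A0, hA0, hA0p, hA0c, hA0f⟩ := hff
  obtain ⟨X, ⟨hX1, hX2, hX3⟩, hXmax⟩ := Set.exists_max_image
    {X : Subgroup H | X ≠ ⊥ ∧ IsPGroup p X ∧ (∀ a ∈ X, ∀ b ∈ X, a * b = b * a)} (fun X => vl V X)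
    (Set.toFinite _) ⟨A0, hA0, hA0p, hA0c⟩
  have hVm : Nat.card V ≤ vl V X := hA0f.trans (hXmax A0 ⟨hA0, hA0p, hA0c⟩)
  set S : Set (Subgroup H) := {A | (A ≠ ⊥ ∧ IsPGroup p A ∧ (∀ a ∈ A, ∀ b ∈ A, a * b = b * a)) ∧ vl V A = vl V X ∧
    ∀ Z ≤ A, Z ≠ ⊥ → Z ≠ A → vl V Z < vl V A} with hS
  have hvc : ∀ (g : H) (A : Subgroup H), vl V (cg g A) = vl V A := fun g A => vl_cg g A
  have fam : IsF p V S := by
    refine ⟨?_, fun A hA => hA.1.1, fun A hA => hA.1.2.1, fun A hA => hA.1.2.2, ?_, fun A hA => hA.2.2⟩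
    · rintro A ⟨⟨h1, h2, h3⟩, h4, h5⟩ g
      refine ⟨⟨cg_ne_bot h1, h2.map _, ?_⟩, by rw [hvc, h4], ?_⟩
      · intro a ha b hb
        have h6 := h3 _ (mem_cg.1 ha) _ (mem_cg.1 hb)
        have e1 : g⁻¹ * a * g * (g⁻¹ * b * g) = g⁻¹ * (a * b) * g := by group
        have e2 : g⁻¹ * b * g * (g⁻¹ * a * g) = g⁻¹ * (b * a) * g := by group
        rw [e1, e2] at h6
        exact mul_left_cancel (mul_right_cancel h6)
      · intro Z hZ hZ1 hZ2
        have h6 := h5 (cg g⁻¹ Z) (le_cg_iff.1 hZ) (cg_ne_bot hZ1) (by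
          intro h; apply hZ2; rw [← h, cg_cg_inv])
        rw [hvc] at h6
        rw [hvc]
        exact h6
    · rintro A ⟨_, h4, _⟩
      have : Nat.card V ≤ vl V A := by rw [h4]; exact hVm
      exact this
  obtain ⟨A1, ⟨⟨hA1, hA1'⟩, hA1min⟩⟩ : ∃ A1 : Subgroup H, (((A1 ≠ ⊥ ∧ IsPGroup p A1 ∧
      (∀ a ∈ A1, ∀ b ∈ A1, a * b = b * a)) ∧ vl V A1 = vl V X) ∧
      ∀ B : Subgroup H, (B ≠ ⊥ ∧ IsPGroup p B ∧ (∀ a ∈ B, ∀ b ∈ B, a * b = b * a)) ∧ vl V B = vl V X →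
        Nat.card A1 ≤ Nat.card B) := by
    obtain ⟨A1, h1, h2⟩ := Set.exists_min_image
      {B : Subgroup H | (B ≠ ⊥ ∧ IsPGroup p B ∧ (∀ a ∈ B, ∀ b ∈ B, a * b = b * a)) ∧ vl V B = vl V X}
      (fun B => Nat.card B) (Set.toFinite _) ⟨X, ⟨hX1, hX2, hX3⟩, rfl⟩
    exact ⟨A1, h1, h2⟩
  have hA1S : A1 ∈ S := by
    refine ⟨hA1, hA1', ?_⟩
    intro Z hZ hZ1 hZ2
    have h1 : Z ≠ ⊥ ∧ IsPGroup p Z ∧ (∀ a ∈ Z, ∀ b ∈ Z, a * b = b * a) :=
      ⟨hZ1, hA1.2.1.to_le hZ, fun a ha b hb => hA1.2.2 a (hZ ha) b (hZ hb)⟩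
    rw [hA1']
    apply lt_of_le_of_ne (hXmax Z h1)
    intro h2
    exact hZ2 (Subgroup.eq_of_le_of_card_ge hZ (hA1min Z ⟨h1, h2⟩))
  obtain ⟨g, hg⟩ := exists_conj_le_T st hA1.2.1
  obtain ⟨Y, ym⟩ := st.exists_YM S
  obtain ⟨A, hA, hAT, hAN, hAY⟩ := ym.exists_A st fam.conj ⟨cg g A1, fam.conj _ hA1S g, hg, cg_ne_bot hA1.1⟩
  obtain ⟨h1, h2⟩ := ym.zip_sg st fam hA hAN hAY (hAT.trans st.TM)
  refine ⟨Nat.card A, ?_, ?_, A, h1⟩
  · rw [Subgroup.one_lt_card_iff_ne_bot]; exact fam.ne A hA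
  · intro Z hZ1 hZ2
    by_cases hZ : Z = ⊥
    · rw [hZ]
      exact vl_bot'.le
    · have h3 : vl V Z ≤ vl V X := hXmax Z ⟨hZ, hZ1, hZ2⟩
      have h4 : vl V A = vl V X := hA.2.1
      rw [h2]
      exact h3.trans h4.ge

end

end H53.FS
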