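import Cfsg.Agent.Lib.H53.FS6

/-!
Offenders: two members generating a `p`-group commute.
-/

set_option autoImplicit false

namespace H53.FS

open Subgroup H53.PU
open H52.Syl (SylIn exists_sylIn_le sylIn_of_max)
open H51.FF (Off At cg mem_cg card_cg mem_fx_cg card_fx_cg Off.cg At.cg Off.ne Sp card_le V_le Int' int_inj cg_cg cg_one
  cg_sup cg_top Sp.sup_top Sp.exists_add Sp.cover PM)

section

variable {p q : ℕ} [hp : Fact p.Prime] {H V : Type*} [Group H] [Finite H] [AddCommGroup V] [Finite V]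
  [DistribMulAction H V]

omit hp [Finite H] [Finite V] in
theorem Sg.cardV (mx : Mx p H V) {E : Subgroup H} (hE : E ∈ Sg p q V) : Nat.card V = q * Nat.card (fx V E) := by
  apply le_antisymm hE.1.ff
  have h1 := mx E hE.1.pg hE.1.comm
  rwa [hE.1.card] at h1

omit hp [Finite H] [Finite V] in
theorem Sg.eq_of_mem {A C : Subgroup H} (hA : A ∈ Sg p q V) (hC : C ∈ Sg p q V) {x : H} (hx : x ∈ A) (hx' : x ∈ C)
    (hx1 : x ≠ 1) : fx V A = fx V C := by
  ext v
  constructor
  · intro h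
    exact hC.2 x hx' hx1 v (h x hx)
  · intro h
    exact hA.2 x hx hx1 v (h x hx')

theorem Sg.inf_bot (pz : ∀ v : V, p • v = 0) (faith : ∀ g : H, (∀ v : V, g • v = v) → g = 1) (mx : Mx p H V)
    {A C : Subgroup H} (hA : A ∈ Sg p q V) (hC : C ∈ Sg p q V) (hne : A ≠ C) : A ⊓ C = ⊥ := by
  by_contra h
  obtain ⟨x, hx⟩ := ne_bot_iff_exists_ne_one.1 h
  apply hne
  apply Off.axis pz faith mx hA.1 hC.1
  exact Sg.eq_of_mem hA hC x.2.1 x.2.2 (fun h1 => hx (Subtype.ext h1))

/-- commuting members -/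
theorem Sg.cp (hq : 1 < q) (pz : ∀ v : V, p • v = 0) (faith : ∀ g : H, (∀ v : V, g • v = v) → g = 1) (mx : Mx p H V)
    {A C : Subgroup H} (hA : A ∈ Sg p q V) (hC : C ∈ Sg p q V) (hne : A ≠ C) (hcomm : ∀ a ∈ A, ∀ c ∈ C, a * c = c * a) :
    Nat.card V = q * (q * Nat.card ↥(fx V A ⊓ fx V C)) ∧ fx V A ⊔ fx V C = ⊤ ∧
      (∀ a ∈ A, ∀ v : V, a • v - v ∈ fx V C) ∧ Nat.card ↥(A ⊔ C) = q * q := by
  obtain ⟨h1, h2⟩ := sup_comm_pgroup hA.1.pg hC.1.pg hA.1.comm hC.1.comm hcomm
  have h3 := card_sup_inf_comm h2 le_sup_left le_sup_right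
  rw [Sg.inf_bot pz faith mx hA hC hne, Subgroup.card_bot, mul_one, hA.1.card, hC.1.card] at h3
  have h4 := mx _ h1 h2
  rw [h3, fx_sup, mul_assoc] at h4
  have h5 : Nat.card V = q * (q * Nat.card ↥(fx V A ⊓ fx V C)) := le_antisymm (V_le hA.1 hC.1) h4
  have h6 := Sg.cardV mx hA
  have h7 := Sg.cardV mx hC
  have h8 := add_card_sup_inf (fx V A) (fx V C)
  have h0 : 0 < Nat.card ↥(fx V A ⊓ fx V C) := Nat.card_pos
  have hq0 : 0 < q := by omega
  have h9 : Nat.card (fx V A) = q * Nat.card ↥(fx V A ⊓ fx V C) := by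
    apply Nat.eq_of_mul_eq_mul_left hq0
    rw [← h6, ← h5]
  have h10 : Nat.card (fx V C) = q * Nat.card ↥(fx V A ⊓ fx V C) := by
    apply Nat.eq_of_mul_eq_mul_left hq0
    rw [← h7, ← h5]
  have h11 : fx V A ⊔ fx V C = ⊤ := by
    apply AddSubgroup.eq_top_of_card_eq
    apply Nat.eq_of_mul_eq_mul_right h0
    rw [h8, h5, h9, h10]
    ring
  refine ⟨h5, h11, ?_, h3⟩
  intro a ha v
  have h12 : v ∈ fx V A ⊔ fx V C := by rw [h11]; exact AddSubgroup.mem_top _
  obtain ⟨x, hx, y, hy, rfl⟩ := AddSubgroup.mem_sup.1 h12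
  have h13 : a • y ∈ fx V C := by
    intro c hc
    rw [← mul_smul, ← hcomm a ha c hc, mul_smul, hy c hc]
  have e : a • (x + y) - (x + y) = a • y - y := by
    rw [smul_add, hx a ha]; abel
  rw [e]
  exact AddSubgroup.sub_mem _ h13 hy

/-- a proper subgroup of a `p`-group lies in a proper normal subgroup -/
theorem exists_normal_between {A R : Subgroup H} (hR : IsPGroup p R) (hAR : A ≤ R) (hne : A ≠ R) :
    ∃ K : Subgroup H, A ≤ K ∧ K ≤ R ∧ K ≠ R ∧ R ≤ normalizer (K : Set H) := by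
  obtain ⟨K, ⟨h1, h2, h3⟩, hmax⟩ := Set.exists_max_image {K : Subgroup H | A ≤ K ∧ K ≤ R ∧ K ≠ R} (fun K => Nat.card K)
    (Set.toFinite _) ⟨A, le_rfl, hAR, hne⟩
  refine ⟨K, h1, h2, h3, ?_⟩
  obtain ⟨x, hxR, hxP, hxn⟩ := H5.PLocal.exists_mem_normalizer_not_mem hR (lt_of_le_of_ne h2 h3)
  have h4 : R ⊓ normalizer (K : Set H) = R := by
    by_contra h5
    have h6 := hmax (R ⊓ normalizer (K : Set H)) ⟨h1.trans (le_inf h2 le_normalizer), inf_le_left, h5⟩
    have h7 := Subgroup.eq_of_le_of_card_ge (le_inf h2 le_normalizer) h6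
    apply hxP
    rw [h7]
    exact ⟨hxR, hxn⟩
  rw [← h4]
  exact inf_le_right

theorem Sg.comm_aux (hq : 1 < q) (pz : ∀ v : V, p • v = 0) (faith : ∀ g : H, (∀ v : V, g • v = v) → g = 1)
    (mx : Mx p H V) (n : ℕ) : ∀ A C : Subgroup H, A ∈ Sg p q V → C ∈ Sg p q V → IsPGroup p ↥(A ⊔ C) →
      Nat.card ↥(A ⊔ C) ≤ n → ∀ a ∈ A, ∀ c ∈ C, a * c = c * a := by
  induction n with
  | zero =>
    intro A C _ _ _ h
    have : 0 < Nat.card ↥(A ⊔ C) := Nat.card_pos
    omega
  | succ n ih =>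
    have key : ∀ A C : Subgroup H, A ∈ Sg p q V → C ∈ Sg p q V → IsPGroup p ↥(A ⊔ C) →
        Nat.card ↥(A ⊔ C) ≤ n + 1 → (∀ a ∈ A, ∀ c ∈ C, a * c = c * a) ∨ ∀ c ∈ C, cg c A = A := by
      intro A C hA hC hR hn
      by_cases hAR : A = A ⊔ C
      · left
        intro a ha c hc
        exact hA.1.comm a ha c (by rw [hAR]; exact mem_sup_right hc)
      obtain ⟨K, hAK, hKR, hne, hRK⟩ := exists_normal_between hR le_sup_left hAR
      have hlt : Nat.card K < Nat.card ↥(A ⊔ C) := by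
        have h1 := Subgroup.card_le_of_le hKR
        rcases h1.lt_or_eq with h2 | h2
        · exact h2
        · exact absurd (Subgroup.eq_of_le_of_card_ge hKR h2.ge) hne
      by_cases hall : ∀ c ∈ C, cg c A = A
      · exact Or.inr hall
      left
      push Not at hall
      obtain ⟨c, hc, hcA⟩ := hall
      have hA' := Sg.conj hA c
      have hA'K : cg c A ≤ K := by
        have h1 : cg c K = K := mem_norm.1 (hRK (mem_sup_right hc))
        rw [← h1]
        exact cg_mono hAK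
      have hsup : A ⊔ cg c A ≤ K := sup_le hAK hA'K
      have hcomm := ih A (cg c A) hA hA' (hR.to_le (hsup.trans hKR))
        (by have := Subgroup.card_le_of_le hsup; omega)
      have hcomm' : ∀ a ∈ cg c A, ∀ b ∈ A, a * b = b * a := fun a ha b hb => (hcomm b hb a ha).symm
      obtain ⟨h1, h2, h3, _⟩ := Sg.cp hq pz faith mx hA hA' (Ne.symm hcA) hcomm
      obtain ⟨_, _, h3', _⟩ := Sg.cp hq pz faith mx hA' hA hcA hcomm'
      have hU : fx V A ⊓ fx V C = fx V A ⊓ fx V (cg c A) := by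
        apply AddSubgroup.eq_of_le_of_card_ge
        · apply le_inf inf_le_left
          intro v hv
          rw [mem_fx_cg]
          have h4 := hv.2 c⁻¹ (inv_mem hc)
          rw [h4]
          exact hv.1
        · have h4 := V_le hA.1 hC.1
          rw [h1] at h4
          have hq0 : 0 < q := by omega
          exact Nat.le_of_mul_le_mul_left (Nat.le_of_mul_le_mul_left h4 hq0) hq0
      have hAU : ∀ a ∈ A, ∀ v : V, a • v - v ∈ fx V C := by
        intro a ha v
        have h4 : a • v - v ∈ fx V A ⊓ fx V (cg c A) := ⟨hA.1.quad a ha v, h3 a ha v⟩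
        rw [← hU] at h4
        exact h4.2
      have hAU' : ∀ a ∈ cg c A, ∀ v : V, a • v - v ∈ fx V C := by
        intro a ha v
        have h4 : a • v - v ∈ fx V A ⊓ fx V (cg c A) := ⟨h3' a ha v, hA'.1.quad a ha v⟩
        rw [← hU] at h4
        exact h4.2
      have hmem : ∀ a ∈ A, c * a * c⁻¹ ∈ cg c A := by
        intro a ha
        rw [mem_cg]
        have e : c⁻¹ * (c * a * c⁻¹) * c = a := by group
        rw [e]; exact ha
      let φ : A →* H := MonoidHom.mk' (fun a => (a : H)⁻¹ * (c * a * c⁻¹)) (by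
        intro a b
        show ((a : H) * b)⁻¹ * (c * (a * b) * c⁻¹) = (a : H)⁻¹ * (c * a * c⁻¹) * ((b : H)⁻¹ * (c * b * c⁻¹))
        have e1 : (b : H)⁻¹ * (c * a * c⁻¹) = (c * a * c⁻¹) * (b : H)⁻¹ :=
          hcomm _ (inv_mem b.2) _ (hmem a a.2)
        have e2 : (b : H)⁻¹ * (a : H)⁻¹ = (a : H)⁻¹ * (b : H)⁻¹ := hA.1.comm _ (inv_mem b.2) _ (inv_mem a.2)
        calc ((a : H) * b)⁻¹ * (c * (a * b) * c⁻¹) = (b : H)⁻¹ * (a : H)⁻¹ * ((c * a * c⁻¹) * (c * b * c⁻¹)) := by group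
          _ = (a : H)⁻¹ * ((b : H)⁻¹ * (c * a * c⁻¹)) * (c * b * c⁻¹) := by rw [e2]; group
          _ = _ := by rw [e1]; group)
      have hφ : ∀ a : A, φ a = (a : H)⁻¹ * (c * a * c⁻¹) := fun a => rfl
      have hinj : Function.Injective φ := by
        rw [injective_iff_map_eq_one]
        intro a ha
        rw [hφ, inv_mul_eq_one] at ha
        have h4 : (a : H) ∈ A ⊓ cg c A := ⟨a.2, by rw [ha]; exact hmem a a.2⟩
        rw [Sg.inf_bot pz faith mx hA hA' (Ne.symm hcA)] at h4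
        exact Subtype.ext (Subgroup.mem_bot.1 h4)
      have hDcard : Nat.card φ.range = q := by
        rw [← hA.1.card]
        exact (Nat.card_congr (MonoidHom.ofInjective hinj).toEquiv).symm
      have hDT : φ.range ≤ Trv H (fx V C) := by
        rintro _ ⟨a, rfl⟩
        rw [mem_Trv]
        constructor
        · intro w hw
          have h4 := hAU a a.2 w
          have h5 : (a : H) • w ∈ fx V C := by
            have e : (a : H) • w = ((a : H) • w - w) + w := by abel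
            rw [e]; exact AddSubgroup.add_mem _ h4 hw
          rw [hφ, mul_smul, mul_smul, mul_smul, hw c⁻¹ (inv_mem hc), h5 c hc, inv_smul_smul]
        · intro v
          rw [hφ]
          have e : ((a : H)⁻¹ * (c * a * c⁻¹)) • v - v = ((a : H)⁻¹ • ((c * a * c⁻¹) • v) - (c * a * c⁻¹) • v) +
              ((c * a * c⁻¹) • v - v) := by rw [mul_smul]; abel
          rw [e]
          exact AddSubgroup.add_mem _ (hAU _ (inv_mem a.2) _) (hAU' _ (hmem a a.2) v)
      rw [← eq_Trv pz faith mx hC.1.quad (by rw [hC.1.card]; exact hC.1.ff)] at hDT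
      have hDC : φ.range = C := Subgroup.eq_of_le_of_card_ge hDT (by rw [hDcard, hC.1.card])
      intro a ha d hd
      rw [← hDC] at hd
      obtain ⟨b, rfl⟩ := hd
      rw [hφ]
      have e1 : a * (b : H)⁻¹ = (b : H)⁻¹ * a := hA.1.comm a ha _ (inv_mem b.2)
      have e2 : a * (c * b * c⁻¹) = (c * b * c⁻¹) * a := hcomm a ha _ (hmem b b.2)
      rw [← mul_assoc, e1, mul_assoc, e2, ← mul_assoc]
    intro A C hA hC hR hn
    by_cases hne : A = C
    · subst hne
      exact hA.1.comm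
    rcases key A C hA hC hR hn with h1 | h1
    · exact h1
    rcases key C A hC hA (by rw [sup_comm]; exact hR) (by rw [sup_comm]; exact hn) with h2 | h2
    · exact fun a ha c hc => (h2 c hc a ha).symm
    intro a ha c hc
    have h3 : a * c * a⁻¹ * c⁻¹ ∈ A ⊓ C := by
      constructor
      · have h4 : c * a⁻¹ * c⁻¹ ∈ cg c A := by
          rw [mem_cg]
          have e : c⁻¹ * (c * a⁻¹ * c⁻¹) * c = a⁻¹ := by group
          rw [e]; exact inv_mem ha
        rw [h1 c hc] at h4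
        have e : a * c * a⁻¹ * c⁻¹ = a * (c * a⁻¹ * c⁻¹) := by group
        rw [e]
        exact Subgroup.mul_mem _ ha h4
      · have h4 : a * c * a⁻¹ ∈ cg a C := by
          rw [mem_cg]
          have e : a⁻¹ * (a * c * a⁻¹) * a = c := by group
          rw [e]; exact hc
        rw [h2 a ha] at h4
        exact Subgroup.mul_mem _ h4 (inv_mem hc)
    rw [Sg.inf_bot pz faith mx hA hC hne, Subgroup.mem_bot] at h3
    have h4 := mul_inv_eq_one.1 h3
    exact mul_inv_eq_iff_eq_mul.1 h4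

/-- **Lemma 3** -/
theorem Sg.comm_le (hq : 1 < q) (pz : ∀ v : V, p • v = 0) (faith : ∀ g : H, (∀ v : V, g • v = v) → g = 1)
    (mx : Mx p H V) {A C R : Subgroup H} (hA : A ∈ Sg p q V) (hC : C ∈ Sg p q V) (hR : IsPGroup p R) (hAR : A ≤ R)
    (hCR : C ≤ R) : ∀ a ∈ A, ∀ c ∈ C, a * c = c * a :=
  Sg.comm_aux hq pz faith mx _ A C hA hC (hR.to_le (sup_le hAR hCR)) le_rfl

end

end H53.FS
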