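import Cfsg.Agent.Lib.H53.FS7

/-!
Offenders: stage 2.
-/

set_option autoImplicit false

namespace H53.FS

open Subgroup H53.PU
open H52.Syl (SylIn exists_sylIn_le sylIn_of_max)
open H51.FF (Off At cg mem_cg card_cg mem_fx_cg card_fx_cg Off.cg At.cg Off.ne Sp card_le V_le Int' int_inj cg_cg cg_one
  cg_sup cg_top Sp.sup_top Sp.exists_add Sp.cover PM)

section trans

variable {p q : ℕ} {H V : Type*} [Group H] [AddCommGroup V] [DistribMulAction H V] {N M : Subgroup H}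

theorem at_mk_iff {A : Subgroup N} {n : N} :
    At A (QuotientGroup.mk n : N ⧸ M.subgroupOf N) ↔ A.map N.subtype ≤ cg (n : H) M := by
  constructor
  · rintro h _ ⟨a, ha, rfl⟩
    have h1 : (QuotientGroup.mk (a * n) : N ⧸ M.subgroupOf N) = QuotientGroup.mk n := h a ha
    have h2 := QuotientGroup.eq.1 h1.symm
    rw [mem_cg]
    have h3 : (n : H)⁻¹ * ((a : H) * n) ∈ M := h2
    show (n : H)⁻¹ * (a : H) * n ∈ M
    rwa [mul_assoc]
  · intro h a ha
    have h1 : (a : H) ∈ cg (n : H) M := h ⟨a, ha, rfl⟩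
    rw [mem_cg] at h1
    show (QuotientGroup.mk (a * n) : N ⧸ M.subgroupOf N) = QuotientGroup.mk n
    symm
    rw [QuotientGroup.eq]
    show (n : H)⁻¹ * ((a : H) * n) ∈ M
    rwa [← mul_assoc]

theorem smul_mk_iff' {a n : N} : a • (QuotientGroup.mk n : N ⧸ M.subgroupOf N) = QuotientGroup.mk n ↔
    (a : H) ∈ cg (n : H) M := by
  constructor
  · intro h
    have h1 : (QuotientGroup.mk (a * n) : N ⧸ M.subgroupOf N) = QuotientGroup.mk n := h
    have h2 := QuotientGroup.eq.1 h1.symm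
    rw [mem_cg]
    have h3 : (n : H)⁻¹ * ((a : H) * n) ∈ M := h2
    rwa [mul_assoc]
  · intro h1
    rw [mem_cg] at h1
    show (QuotientGroup.mk (a * n) : N ⧸ M.subgroupOf N) = QuotientGroup.mk n
    symm
    rw [QuotientGroup.eq]
    show (n : H)⁻¹ * ((a : H) * n) ∈ M
    rwa [← mul_assoc]

theorem Off_of_map {A : Subgroup N} (h : Off p q V (A.map N.subtype)) : Off p q V A := by
  refine ⟨?_, ?_, ?_, ?_, ?_⟩
  · rw [← card_map']; exact h.card
  · exact h.pg.of_equiv (A.equivMapOfInjective _ N.subtype_injective).symm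
  · intro a ha b hb
    exact Subtype.ext (h.comm a ⟨a, ha, rfl⟩ b ⟨b, hb, rfl⟩)
  · intro a ha v
    rw [← fx_map]
    exact h.quad a ⟨a, ha, rfl⟩ v
  · rw [← fx_map]; exact h.ff

end trans

section

variable {p q : ℕ} [hp : Fact p.Prime] {H V : Type*} [Group H] [Finite H] [AddCommGroup V] [Finite V]
  [DistribMulAction H V] {T M : Subgroup H} (st : St p V T M) (hq : 1 < q) (mx : Mx p H V)
  {Y : Subgroup H} (ym : YM (Sg p q V) T M Y)

include st hq ym

theorem YM.pfix {A R : Subgroup H} (hA : A ∈ (Sg p q V : Set (Subgroup H))) (hAY : ¬ A ≤ Y) {n : H} (hn : n ∈ normalizer (Y : Set H))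
    (hAM : A ≤ cg n M) (hAR : A ≤ R) (hR : IsPGroup p R) (hRN : R ≤ normalizer (Y : Set H)) : R ≤ cg n M := by
  have fam : IsF p V (Sg p q V : Set (Subgroup H)) := Sg.isF hq
  have hnY : cg n⁻¹ Y = Y := mem_norm.1 (inv_mem hn)
  rw [le_cg_iff] at hAM ⊢
  have h1 : ¬ cg n⁻¹ A ≤ Y := by
    intro h
    rw [← hnY, cg_le_cg] at h
    exact hAY h
  exact ym.le_M st fam.conj (fam.conj A hA n⁻¹) h1 hAM (cg_mono hAR) (hR.map _) (by
    rw [cg_le_iff, inv_inv, cg_mem hn]; exact hRN)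

theorem YM.mem' {A : Subgroup H} (hA : A ∈ (Sg p q V : Set (Subgroup H))) (hAN : A ≤ normalizer (Y : Set H)) (hAY : ¬ A ≤ Y)
    {n n' : H} (hn : n ∈ normalizer (Y : Set H)) (hn' : n' ∈ normalizer (Y : Set H)) (hAn : A ≤ cg n M)
    (hAn' : A ≤ cg n' M) : n'⁻¹ * n ∈ M := by
  have fam : IsF p V (Sg p q V : Set (Subgroup H)) := Sg.isF hq
  have hnY : cg n⁻¹ Y = Y := mem_norm.1 (inv_mem hn)
  rw [le_cg_iff] at hAn hAn'
  refine ym.mem st fam.conj (fam.conj A hA n⁻¹) (hA.1.pg.map _) ?_ ?_ hAn (mul_mem (inv_mem hn') hn) ?_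
  · rw [cg_le_iff, inv_inv, cg_mem hn]; exact hAN
  · intro h
    rw [← hnY, cg_le_cg] at h
    exact hAY h
  · rw [cg_cg]
    have e : n'⁻¹ * n * n⁻¹ = n'⁻¹ := by group
    rw [e]; exact hAn'

theorem YM.exists_n {A : Subgroup H} (hA : A ∈ (Sg p q V : Set (Subgroup H))) (hAN : A ≤ normalizer (Y : Set H))
    (hAY : ¬ A ≤ Y) (hAM : A ≤ M) {E : Subgroup H} (hE : IsPGroup p E) (hEN : E ≤ normalizer (Y : Set H)) :
    ∃ n ∈ normalizer (Y : Set H), E ≤ cg n M := by
  have fam : IsF p V (Sg p q V : Set (Subgroup H)) := Sg.isF hq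
  obtain ⟨R, hR, hAR⟩ := exists_sylIn_le (p := p) (Q := A) (L := M ⊓ normalizer (Y : Set H)) (le_inf hAM hAN) hA.1.pg
  have hRN : SylIn p R (normalizer (Y : Set H)) := by
    apply sylIn_of_max (hR.le.trans inf_le_right) hR.isPGroup
    intro Q hQ hQp hRQ
    have h1 := ym.le_M st fam.conj hA hAY hAM (hAR.trans hRQ) hQp hQ
    exact (hR.max (le_inf h1 hQ) hQp hRQ).le
  obtain ⟨n, hn, h1⟩ := hRN.exists_conj_le hEN hE
  exact ⟨n, hn, h1.trans (cg_mono (hR.le.trans inf_le_left))⟩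

/-- the members of the family in `N(Y)`, not in `Y` -/
def SN (p q : ℕ) {H : Type*} (V : Type*) [Group H] [AddCommGroup V] [DistribMulAction H V] (Y : Subgroup H) :
    Set (Subgroup (normalizer (Y : Set H))) :=
  {E | E.map (normalizer (Y : Set H)).subtype ∈ (Sg p q V : Set (Subgroup H)) ∧
    ¬ E.map (normalizer (Y : Set H)).subtype ≤ Y}

include mx in
theorem YM.am2 {A : Subgroup H} (hA : A ∈ (Sg p q V : Set (Subgroup H))) (hAN : A ≤ normalizer (Y : Set H))
    (hAY : ¬ A ≤ Y) (hAM : A ≤ M) :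
    Am2 p q (normalizer (Y : Set H)) V (normalizer (Y : Set H) ⧸ M.subgroupOf (normalizer (Y : Set H))) (SN p q V Y) := by
  set N := normalizer (Y : Set H) with hN
  refine ⟨⟨st.pz, ?_, ?_, ?_, ?_, ?_, ?_⟩, hq, ?_, ?_, ?_⟩
  · intro g hg
    exact Subtype.ext (st.faith g hg)
  · intro E hE
    exact Off_of_map hE.1.1
  · intro E hE g
    have h1 : (cg g E).map N.subtype = cg (g : H) (E.map N.subtype) := map_cg g E
    refine ⟨?_, ?_⟩
    · show (cg g E).map N.subtype ∈ (Sg p q V : Set (Subgroup H))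
      rw [h1]; exact Sg.conj hE.1 _
    · show ¬ (cg g E).map N.subtype ≤ Y
      rw [h1]
      intro h
      apply hE.2
      have h2 : cg (g : H) Y = Y := mem_norm.1 g.2
      exact cg_le_cg.1 (h.trans h2.ge)
  · intro E hE x hx hx1
    obtain ⟨n, hn, h1⟩ := ym.exists_n st hq hA hAN hAY hAM hE.1.1.pg (Subgroup.map_subtype_le E)
    refine ⟨QuotientGroup.mk ⟨n, hn⟩, smul_mk_iff'.2 (h1 ⟨x, hx, rfl⟩), ?_⟩
    intro ε
    induction ε using QuotientGroup.induction_on with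
    | H n' =>
      intro h2
      rw [smul_mk_iff'] at h2
      have h3 : Subgroup.zpowers (x : H) ≤ cg (n' : H) M := (Subgroup.zpowers_le).2 h2
      have h4 : IsPGroup p (Subgroup.zpowers (x : H)) :=
        hE.1.1.pg.to_le ((Subgroup.zpowers_le).2 (⟨x, hx, rfl⟩ : (x : H) ∈ E.map N.subtype))
      obtain ⟨w, hw, hw1⟩ := st.wit h4 h3
      have h5 : w ∈ fx V (E.map N.subtype) :=
        hE.1.2 x ⟨x, hx, rfl⟩ (fun h => hx1 (Subtype.ext h)) w (hw x (Subgroup.mem_zpowers _))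
      have h6 : E.map N.subtype ≤ cg (n' : H) M := fun e he => hw1 e (h5 e he)
      have h7 := ym.mem' st hq hE.1 (Subgroup.map_subtype_le E) hE.2 hn n'.2 h1 h6
      rw [QuotientGroup.eq]
      exact h7
  · intro δ ε
    induction δ using QuotientGroup.induction_on with
    | H d =>
      induction ε using QuotientGroup.induction_on with
      | H e =>
        refine ⟨e * d⁻¹, ?_⟩
        show (QuotientGroup.mk (e * d⁻¹ * d) : N ⧸ M.subgroupOf N) = QuotientGroup.mk e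
        rw [inv_mul_cancel_right]
  · obtain ⟨x, hx, hxM⟩ := SetLike.not_le_iff_exists.1 ym.nM
    refine ⟨QuotientGroup.mk 1, QuotientGroup.mk ⟨x, hx⟩, ?_⟩
    intro h
    rw [QuotientGroup.eq, inv_one, one_mul] at h
    exact hxM h
  · intro X hX hXc
    have h1 := mx (X.map N.subtype) (hX.map _) (by
      rintro _ ⟨a, ha, rfl⟩ _ ⟨b, hb, rfl⟩
      exact congrArg Subtype.val (hXc a ha b hb))
    rwa [card_map', fx_map] at h1
  · intro R hR E hE hER δ
    induction δ using QuotientGroup.induction_on with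
    | H n =>
      intro h
      rw [at_mk_iff] at h ⊢
      exact ym.pfix st hq hE.1 hE.2 n.2 h (Subgroup.map_mono hER) (hR.map _) (Subgroup.map_subtype_le R)
  · intro R hR δ
    induction δ using QuotientGroup.induction_on with
    | H n =>
      intro h
      rw [at_mk_iff] at h
      obtain ⟨w, hw, hw1⟩ := st.wit (hR.map _ : IsPGroup p (R.map N.subtype)) h
      refine ⟨w, ?_, ?_⟩
      · rw [← fx_map]; exact hw
      · intro x hx
        rw [smul_mk_iff']
        exact hw1 x hx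

end

section

variable {p q : ℕ} [hp : Fact p.Prime] {H V : Type*} [Group H] [Finite H] [AddCommGroup V] [Finite V]
  [DistribMulAction H V] {T M : Subgroup H}

omit [Finite H] [Finite V] hp in
theorem Pr_of_sub {L A B : Subgroup H} (hAL : A ≤ L) (hBL : B ≤ L) (hA : Off p q V A) (hB : Off p q V B)
    (h : Pr p q V (A.subgroupOf L) (B.subgroupOf L)) : Pr p q V A B := by
  have hA' : fx V (A.subgroupOf L) = fx V A := fx_subgroupOf hAL
  have hB' : fx V (B.subgroupOf L) = fx V B := fx_subgroupOf hBL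
  obtain ⟨h1, h2, h3, h4, h5⟩ := h
  have h6 := h3.cA
  have h7 := h3.cB
  have h8 := h3.cV
  rw [hA', hB'] at h6 h7 h8
  refine ⟨hA, hB, ⟨h6, h7, h8⟩, ?_, ?_⟩
  · intro a ha ha1 w hw haw
    have h9 := h4 ⟨a, hAL ha⟩ ha (fun h => ha1 (congrArg Subtype.val h)) w
    rw [hA', hB'] at h9
    exact h9 hw haw
  · intro a ha ha1 w hw haw
    have h9 := h5 ⟨a, hBL ha⟩ ha (fun h => ha1 (congrArg Subtype.val h)) w
    rw [hA', hB'] at h9
    exact h9 hw haw

/-- **stage 2** -/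
theorem stage2 (st : St p V T M) (hq : 1 < q) (mx : Mx p H V) {Y A : Subgroup H} (ym : YM (Sg p q V) T M Y)
    (hA : A ∈ (Sg p q V : Set (Subgroup H))) (hAT : A ≤ T) (hAN : A ≤ normalizer (Y : Set H)) (hAY : ¬ A ≤ Y) :
    ∃ L : Subgroup H, ¬ L ≤ M ∧
      (∃ x ∈ L, x ∉ M ∧ cg x A ∈ (Sg p q V : Set (Subgroup H)) ∧ cg x A ≤ normalizer (Y : Set H) ∧ ¬ cg x A ≤ Y ∧
        ¬ cg x A ≤ M ∧ L = A ⊔ cg x A ∧ Pr p q V A (cg x A)) ∧
      (∃ TL : Sylow p L, PM p V (TL : Subgroup L) (M.subgroupOf L) (A.subgroupOf L)) ∧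
      (∀ E ∈ (Sg p q V : Set (Subgroup H)), E ≤ normalizer (Y : Set H) → ¬ E ≤ Y → E ≤ L) ∧
      (∀ E ∈ (Sg p q V : Set (Subgroup H)), E ≤ normalizer (Y : Set H) → ¬ E ≤ Y → E ≤ M → E = A) ∧
      (∀ D ∈ (Sg p q V : Set (Subgroup H)), D ≤ Y → ∀ l ∈ L, ∀ d ∈ D, l * d = d * l) := by
  have fam : IsF p V (Sg p q V : Set (Subgroup H)) := Sg.isF hq
  have hAM : A ≤ M := hAT.trans st.TM
  obtain ⟨L, TL, hAL, hLN, hLM, pm⟩ := ym.zip st fam hA hAN hAY hAM
  have am2 := ym.am2 st hq mx hA hAN hAY hAM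
  set N := normalizer (Y : Set H) with hN
  obtain ⟨x, hxL, hxM⟩ := SetLike.not_le_iff_exists.1 hLM
  have hBL : cg x A ≤ L := by
    rw [cg_le_iff, cg_mem (inv_mem hxL)]; exact hAL
  have hLeq : L = A ⊔ cg x A := by
    have h1 := pm.gen ⟨x, hxL⟩ hxM
    have h2 := congrArg (Subgroup.map L.subtype) h1
    rw [Subgroup.map_sup, map_cg, map_subgroupOf' hAL, ← MonoidHom.range_eq_map, Subgroup.range_subtype] at h2
    exact h2.symm
  have hB : cg x A ∈ (Sg p q V : Set (Subgroup H)) := fam.conj A hA x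
  have hBN : cg x A ≤ N := hBL.trans hLN
  have hBY : ¬ cg x A ≤ Y := by
    intro h
    have h2 : cg x Y = Y := mem_norm.1 (hLN hxL)
    rw [← h2, cg_le_cg] at h
    exact hAY h
  have hBM : ¬ cg x A ≤ M := fun h => hxM (ym.mem st fam.conj hA hA.1.pg hAN hAY hAM (hLN hxL) h)
  -- members of the family in `N`
  have hsub : ∀ E ∈ (Sg p q V : Set (Subgroup H)), E ≤ N → ¬ E ≤ Y → E.subgroupOf N ∈ SN p q V Y := by
    intro E hE hEN hEY
    have h1 : (E.subgroupOf N).map N.subtype = E := map_subgroupOf' hEN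
    refine ⟨?_, ?_⟩
    · show (E.subgroupOf N).map N.subtype ∈ _
      rw [h1]; exact hE
    · show ¬ (E.subgroupOf N).map N.subtype ≤ Y
      rw [h1]; exact hEY
  have hAtA : At (A.subgroupOf N) (QuotientGroup.mk 1 : N ⧸ M.subgroupOf N) := by
    rw [at_mk_iff, map_subgroupOf' hAN]
    show A ≤ cg ((1 : N) : H) M
    rw [OneMemClass.coe_one, cg_one]
    exact hAM
  have hAtB : At ((cg x A).subgroupOf N) (QuotientGroup.mk ⟨x, hLN hxL⟩ : N ⧸ M.subgroupOf N) := by
    rw [at_mk_iff, map_subgroupOf' hBN]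
    exact cg_mono hAM
  have hne' : (QuotientGroup.mk 1 : N ⧸ M.subgroupOf N) ≠ QuotientGroup.mk ⟨x, hLN hxL⟩ := by
    intro h
    rw [QuotientGroup.eq, inv_one, one_mul] at h
    exact hxM h
  have hpr0 := am2.pr (hsub A hA hAN hAY) (hsub _ hB hBN hBY) hAtA hAtB hne'
  have hpr : Pr p q V A (cg x A) := Pr_of_sub hAN hBN hA.1 hB.1 hpr0
  refine ⟨L, hLM, ⟨x, hxL, hxM, hB, hBN, hBY, hBM, hLeq, hpr⟩, ⟨TL, pm⟩, ?_, ?_, ?_⟩
  · intro E hE hEN hEY
    have h1 := am2.le_sup (hsub A hA hAN hAY) (hsub _ hB hBN hBY) (hsub E hE hEN hEY) hAtA hAtB hne'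
    have h2 := Subgroup.map_mono (f := N.subtype) h1
    rw [Subgroup.map_sup, map_subgroupOf' hAN, map_subgroupOf' hBN, map_subgroupOf' hEN, ← hLeq] at h2
    exact h2
  · intro E hE hEN hEY hEM
    have h1 : At (E.subgroupOf N) (QuotientGroup.mk 1 : N ⧸ M.subgroupOf N) := by
      rw [at_mk_iff, map_subgroupOf' hEN]
      show E ≤ cg ((1 : N) : H) M
      rw [OneMemClass.coe_one, cg_one]
      exact hEM
    have h2 := am2.unique (hsub E hE hEN hEY) (hsub A hA hAN hAY) h1 hAtA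
    have h3 := congrArg (Subgroup.map N.subtype) h2
    rwa [map_subgroupOf' hAN, map_subgroupOf' hEN] at h3
  · intro D hD hDY
    obtain ⟨w, hw, hw1⟩ := st.wit0
    have h1 : w ∉ fx V (A ⊔ cg x A) := by
      intro h
      apply hBM
      intro b hb
      exact hw1 b (h b (mem_sup_right hb))
    have hinv : ∀ g ∈ A ⊔ cg x A, ∀ u ∈ fx V Y, g • u ∈ fx V Y := by
      intro g hg u hu
      rw [← hLeq] at hg
      apply smul_mem_fx _ hu
      intro a ha
      have h2 := hLN hg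
      have h3 := (mem_normalizer_iff.1 (inv_mem h2) a).1 ha
      rwa [inv_inv] at h3
    have h2 := hpr.sup_eq_top hq hinv (fx_anti ym.YT hw) h1
    rw [hLeq]
    exact hpr.cent hq st.pz st.faith mx hD.1.quad (by rw [hD.1.card]; exact hD.1.ff) (by
      rw [hD.1.card]
      exact lt_mul_of_one_lt_left (by omega) hq) hinv (fx_anti hDY) h2

end

end H53.FS
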