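import Cfsg.Agent.Lib.H53.FS8

/-!
Offenders: stage 3.
-/

set_option autoImplicit false

namespace H53.FS

open Subgroup H53.PU
open H52.Syl (SylIn exists_sylIn_le sylIn_of_max)
open H51.FF (Off At cg mem_cg card_cg mem_fx_cg card_fx_cg Off.cg At.cg Off.ne Sp card_le V_le Int' int_inj cg_cg cg_one
  cg_sup cg_top Sp.sup_top Sp.exists_add Sp.cover PM)

section defs

variable (p q : ℕ) {H : Type*} (V : Type*) [Group H] [AddCommGroup V] [DistribMulAction H V] (T : Subgroup H)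

/-- the other members in `T` -/
def YY (C : Subgroup H) : Subgroup H := sSup {D | D ∈ (Sg p q V : Set (Subgroup H)) ∧ D ≤ T ∧ D ≠ C}

/-- the component of `C` -/
def LL (C : Subgroup H) : Subgroup H :=
  sSup {E | E ∈ (Sg p q V : Set (Subgroup H)) ∧ E ≤ normalizer ((YY p q V T C : Subgroup H) : Set H) ∧ ¬ E ≤ YY p q V T C}

end defs

section

variable {p q : ℕ} {H V : Type*} [Group H] [AddCommGroup V] [DistribMulAction H V] {T : Subgroup H}

theorem cg_YY_le {t : H} (ht : t ∈ T) (C : Subgroup H) : cg t (YY p q V T C) ≤ YY p q V T (cg t C) := by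
  rw [cg_le_iff]
  apply sSup_le
  rintro D ⟨h1, h2, h3⟩
  rw [← cg_le_iff]
  apply le_sSup
  refine ⟨Sg.conj h1 t, ?_, fun h => h3 (cg_inj.1 h)⟩
  rw [cg_le_iff, cg_mem (inv_mem ht)]
  exact h2

theorem cg_YY {t : H} (ht : t ∈ T) (C : Subgroup H) : cg t (YY p q V T C) = YY p q V T (cg t C) := by
  apply le_antisymm (cg_YY_le ht C)
  rw [le_cg_iff]
  have := cg_YY_le (p := p) (q := q) (V := V) (inv_mem ht) (cg t C)
  rwa [cg_inv_cg] at this

theorem cg_LL_le {t : H} (ht : t ∈ T) (C : Subgroup H) : cg t (LL p q V T C) ≤ LL p q V T (cg t C) := by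
  rw [cg_le_iff]
  apply sSup_le
  rintro D ⟨h1, h2, h3⟩
  rw [← cg_le_iff]
  apply le_sSup
  refine ⟨Sg.conj h1 t, ?_, ?_⟩
  · rw [← cg_YY ht, ← cg_normalizer]
    exact cg_mono h2
  · rw [← cg_YY ht]
    intro h
    exact h3 (cg_le_cg.1 h)

theorem cg_LL {t : H} (ht : t ∈ T) (C : Subgroup H) : cg t (LL p q V T C) = LL p q V T (cg t C) := by
  apply le_antisymm (cg_LL_le ht C)
  rw [le_cg_iff]
  have := cg_LL_le (p := p) (q := q) (V := V) (inv_mem ht) (cg t C)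
  rwa [cg_inv_cg] at this

/-- a set of subgroups permuted by `g` -/
theorem cg_sSup_of {S : Set (Subgroup H)} {g : H} (h : ∀ C ∈ S, cg g C ∈ S) (h' : ∀ C ∈ S, cg g⁻¹ C ∈ S) :
    cg g (sSup S) = sSup S := by
  apply le_antisymm
  · rw [cg_le_iff]
    apply sSup_le
    intro C hC
    rw [← cg_le_iff]
    exact le_sSup (h C hC)
  · apply sSup_le
    intro C hC
    rw [le_cg_iff]
    exact le_sSup (h' C hC)

theorem cg_comm {C : Subgroup H} {g : H} (h : ∀ c ∈ C, g * c = c * g) : cg g C = C := by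
  ext x
  rw [mem_cg]
  constructor
  · intro hx
    have h1 := h _ hx
    have e : x = g * (g⁻¹ * x * g) * g⁻¹ := by group
    rw [e, h1, mul_inv_cancel_right]
    exact hx
  · intro hx
    have h1 := h _ hx
    have e : g⁻¹ * x * g = x := by rw [mul_assoc, ← h1, inv_mul_cancel_left]
    rw [e]; exact hx

end

/-- the conclusion of stage 3 -/
structure S3 (p q : ℕ) {H : Type*} (V : Type*) [Group H] [AddCommGroup V] [DistribMulAction H V] (T M : Subgroup H)
    (C : Subgroup H) (L : Subgroup H) : Prop where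
  nM : ¬ L ≤ M
  pr : ∃ B ∈ (Sg p q V : Set (Subgroup H)), ¬ B ≤ M ∧ L = C ⊔ B ∧ Pr p q V C B
  pm : ∃ TL : Sylow p L, PM p V (TL : Subgroup L) (M.subgroupOf L) (C.subgroupOf L)
  comm : ∀ C' ∈ (Sg p q V : Set (Subgroup H)), C' ≤ T → C' ≠ C → ∀ l ∈ L, ∀ c ∈ C', l * c = c * l
  top : T ⊔ L = ⊤
  nrm : ∀ m ∈ L, m ∈ M → cg m C = C
  pr2 : ∃ x ∈ L, x ∉ M ∧ L = C ⊔ cg x C ∧ Pr p q V C (cg x C)

section

variable {p q : ℕ} [hp : Fact p.Prime] {H V : Type*} [Group H] [Finite H] [AddCommGroup V] [Finite V]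
  [DistribMulAction H V] {T M : Subgroup H}

/-- **stage 3** -/
theorem stage3 (st : St p V T M) (hq : 1 < q) (mx : Mx p H V) (hne : ∃ A, A ∈ (Sg p q V : Set (Subgroup H))) :
    (∃ A ∈ (Sg p q V : Set (Subgroup H)), A ≤ T) ∧
    (∀ C ∈ (Sg p q V : Set (Subgroup H)), C ≤ T → ∀ C' ∈ (Sg p q V : Set (Subgroup H)), C' ≤ T → ∃ t ∈ T, cg t C = C') ∧
    (∀ C ∈ (Sg p q V : Set (Subgroup H)), C ≤ T → S3 p q V T M C (LL p q V T C)) := by
  have fam : IsF p V (Sg p q V : Set (Subgroup H)) := Sg.isF hq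
  obtain ⟨Y, ym⟩ := st.exists_YM (Sg p q V)
  obtain ⟨A0, hA0⟩ := hne
  obtain ⟨g, hg⟩ := exists_conj_le_T st hA0.1.pg
  obtain ⟨A, hA, hAT, hAN, hAY⟩ := ym.exists_A st fam.conj ⟨cg g A0, fam.conj _ hA0 g, hg, cg_ne_bot (fam.ne A0 hA0)⟩
  -- the argument for one choice of `Y` and `A`
  have key : ∀ (Y A : Subgroup H), YM (Sg p q V) T M Y → A ∈ (Sg p q V : Set (Subgroup H)) → A ≤ T →
      A ≤ normalizer (Y : Set H) → ¬ A ≤ Y → S3 p q V T M A (LL p q V T A) ∧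
        ∀ C ∈ (Sg p q V : Set (Subgroup H)), C ≤ T → ∃ t ∈ T, cg t A = C := by
    intro Y A ym hA hAT hAN hAY
    obtain ⟨L, hLM, ⟨x, hxL, hxM, hB, hBN, hBY, hBM, hLeq, hpr⟩, ⟨TL, pm⟩, hall, huniq, hcomm⟩ :=
      stage2 st hq mx ym hA hAT hAN hAY
    have hLN : L ≤ normalizer (Y : Set H) := by rw [hLeq]; exact sup_le hAN hBN
    have hnrm : ∀ m ∈ L, m ∈ M → cg m A = A := by
      intro m hm hmM
      apply huniq _ (Sg.conj hA m)
      · rw [cg_le_iff, cg_mem (inv_mem (hLN hm))]; exact hAN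
      · intro h
        have h2 : cg m Y = Y := mem_norm.1 (hLN hm)
        rw [← h2, cg_le_cg] at h
        exact hAY h
      · rw [cg_le_iff, cg_mem (inv_mem hmM)]; exact hAT.trans st.TM
    have ha : ∀ C ∈ (Sg p q V : Set (Subgroup H)), C ≤ T → C ≠ A → C ≤ Y := by
      intro C hC hCT hCA
      by_contra hCY
      have h1 : C ≤ normalizer (Y : Set H) := by
        intro c hc
        rw [mem_norm]
        have h2 : cg c (sSup {D | D ∈ (Sg p q V : Set (Subgroup H)) ∧ D ≤ Y}) =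
            sSup {D | D ∈ (Sg p q V : Set (Subgroup H)) ∧ D ≤ Y} := by
          apply cg_sSup_of
          · rintro D ⟨hD, hDY⟩
            rw [cg_comm (Sg.comm_le hq st.pz st.faith mx hC hD st.pT hCT (hDY.trans ym.YT) c hc)]
            exact ⟨hD, hDY⟩
          · rintro D ⟨hD, hDY⟩
            rw [cg_comm (Sg.comm_le hq st.pz st.faith mx hC hD st.pT hCT (hDY.trans ym.YT) c⁻¹ (inv_mem hc))]
            exact ⟨hD, hDY⟩
        have h3 : sSup {D | D ∈ (Sg p q V : Set (Subgroup H)) ∧ D ≤ Y} = Y := ym.gen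
        rwa [h3] at h2
      exact hCA (huniq C hC h1 hCY (hCT.trans st.TM))
    have htop : T ⊔ L = ⊤ := by
      by_contra h
      exact hLM (le_sup_right.trans (st.huniq _ h le_sup_left))
    have hYY : YY p q V T A = Y := by
      apply le_antisymm
      · exact sSup_le fun D hD => ha D hD.1 hD.2.1 hD.2.2
      · have h3 : sSup {D | D ∈ (Sg p q V : Set (Subgroup H)) ∧ D ≤ Y} = Y := ym.gen
        nth_rewrite 1 [← h3]
        apply sSup_le
        rintro D ⟨hD, hDY⟩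
        exact le_sSup ⟨hD, hDY.trans ym.YT, fun h => hAY (h ▸ hDY)⟩
    have hLL : LL p q V T A = L := by
      unfold LL
      rw [hYY]
      apply le_antisymm
      · exact sSup_le fun E hE => hall E hE.1 hE.2.1 hE.2.2
      · rw [hLeq]
        exact sup_le (le_sSup ⟨hA, hAN, hAY⟩) (le_sSup ⟨hB, hBN, hBY⟩)
    have hcomm' : ∀ C' ∈ (Sg p q V : Set (Subgroup H)), C' ≤ T → C' ≠ A → ∀ l ∈ L, ∀ c ∈ C', l * c = c * l :=
      fun C' hC' hC'T hne => hcomm C' hC' (ha C' hC' hC'T hne)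
    rw [hLL]
    refine ⟨⟨hLM, ⟨cg x A, hB, hBM, hLeq, hpr⟩, ⟨TL, pm⟩, hcomm', htop, hnrm, ⟨x, hxL, hxM, hLeq, hpr⟩⟩, ?_⟩
    intro C hC hCT
    by_contra hcon
    push Not at hcon
    set O : Set (Subgroup H) := {D | D ∈ (Sg p q V : Set (Subgroup H)) ∧ D ≤ T ∧ ∀ t ∈ T, cg t A ≠ D} with hO
    have hOT : ∀ t ∈ T, ∀ D ∈ O, cg t D ∈ O := by
      rintro t ht D ⟨h1, h2, h3⟩
      refine ⟨Sg.conj h1 t, ?_, ?_⟩
      · rw [cg_le_iff, cg_mem (inv_mem ht)]
        exact h2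
      · intro s hs h
        apply h3 (t⁻¹ * s) (mul_mem (inv_mem ht) hs)
        rw [← cg_cg, h, cg_inv_cg]
    have hOL : ∀ l ∈ L, ∀ D ∈ O, cg l D ∈ O := by
      rintro l hl D ⟨h1, h2, h3⟩
      have h4 : D ≠ A := by
        intro h
        exact h3 1 (one_mem _) (by rw [cg_one, h])
      rw [cg_comm (hcomm' D h1 h2 h4 l hl)]
      exact ⟨h1, h2, h3⟩
    have hn : normalizer ((sSup O : Subgroup H) : Set H) = ⊤ := by
      rw [eq_top_iff, ← htop]
      apply sup_le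
      · intro t ht
        rw [mem_norm]
        exact cg_sSup_of (hOT t ht) (hOT t⁻¹ (inv_mem ht))
      · intro l hl
        rw [mem_norm]
        exact cg_sSup_of (hOL l hl) (hOL l⁻¹ (inv_mem hl))
    have h1 : (sSup O : Subgroup H) ≤ T := sSup_le fun D hD => hD.2.1
    have h2 := st.noP _ (normalizer_eq_top_iff.1 hn) (st.pT.to_le h1)
    apply fam.ne C hC
    rw [eq_bot_iff, ← h2]
    exact le_sSup ⟨hC, hCT, hcon⟩
  obtain ⟨-, horb⟩ := key Y A ym hA hAT hAN hAY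
  refine ⟨⟨A, hA, hAT⟩, ?_, ?_⟩
  · intro C hC hCT C' hC' hC'T
    obtain ⟨t, ht, rfl⟩ := horb C hC hCT
    obtain ⟨s, hs, rfl⟩ := horb C' hC' hC'T
    refine ⟨s * t⁻¹, mul_mem hs (inv_mem ht), ?_⟩
    rw [← cg_cg, cg_inv_cg]
  · intro C hC hCT
    obtain ⟨t, ht, rfl⟩ := horb C hC hCT
    have hTt : cg t T = T := cg_mem ht
    have ym' : YM (Sg p q V) T M (cg t Y) := by
      refine ⟨?_, ?_, ?_, ?_⟩
      · rw [cg_le_iff, cg_mem (inv_mem ht)]
        exact ym.YT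
      · rw [← cg_gn fam.conj, ym.gen]
      · rw [← cg_normalizer, cg_le_iff, cg_mem (inv_mem (st.TM ht))]
        exact ym.nM
      · intro Y' h1 h2 h3
        rw [card_cg]
        exact ym.max Y' h1 h2 h3
    have h1 : cg t A ≤ normalizer ((cg t Y : Subgroup H) : Set H) := by
      rw [← cg_normalizer]; exact cg_mono hAN
    exact (key (cg t Y) (cg t A) ym' hC hCT h1 (fun h => hAY (cg_le_cg.1 h))).1

end

end H53.FS
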