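import Cfsg.Agent.Lib.H52.PuCrit
import Cfsg.Agent.Lib.H51.PuElem

/-!
Glauberman-Niles pair of characteristic subgroups: one pushing up group `G` over `S` in the ambient group `X`
(no push condition) and critical pairs of such groups.
-/

set_option autoImplicit false
set_option linter.unusedSectionVars false

open Cfsg Subgroup H28.Cj H28.RelSyl H52.PU
open scoped commutatorElement

namespace H53.GN

variable {X : Type*} [Group X] {p : ℕ}

/-- the pushing up situation inside the ambient group `X` (case: `Z(S)` not normal and `J(S)` not in `O_p(G)`,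
`Z(S)` elementary abelian, the module facts being already proved), without any push condition -/
structure Ty (p : ℕ) (G S : Subgroup X) : Prop where
  syl : IsSyl p S G
  ne_bot : S ≠ ⊥
  /-- `C_G(O_p(G)) ≤ O_p(G)` -/
  self : G ⊓ centralizer (Qf p G : Set X) ≤ Qf p G
  V_le : Vf p G ≤ Qf p G
  Q_cent : Qf p G ≤ centralizer (Vf p G : Set X)
  /-- `|V : Z(S)| = |S : Q|` -/
  idx : (Zf S).relIndex (Vf p G) = (Qf p G).relIndex S
  /-- `[v, s] ∈ Z(G)` with `s ∈ S ∖ Q`, `v ∈ V` forces `v ∈ Z(S)` (in particular `C_V(s) = Z(S)`) -/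
  key : ∀ s ∈ S, s ∉ Qf p G → ∀ v ∈ Vf p G, v * s * v⁻¹ * s⁻¹ ∈ centralizer (G : Set X) → v ∈ Zf S
  /-- two Sylow subgroups generate -/
  opp : ∃ x ∈ G, S ⊔ cj x S = G
  V_nle : ¬ Vf p G ≤ Zf S
  comm : ⁅Vf p G, S⁆ ≤ Zf S
  powV : ∀ v ∈ Vf p G, v ^ p = 1
  powS : ∀ s ∈ S, s ^ p ∈ Qf p G
  /-- a noncentral `G`-invariant subgroup of `V` covers `V/Z(S)` -/
  irr : ∀ N ≤ Vf p G, G ≤ normalizer (N : Set X) → ¬ N ≤ centralizer (G : Set X) → Vf p G ≤ N ⊔ Zf S
  /-- either `|S/Q| = 2` or there is a torus element -/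
  tor : (Qf p G).relIndex S = 2 ∨ ∃ h ∈ G, h ∈ normalizer (S : Set X) ∧
    (∀ z ∈ Zf S, h * z * h⁻¹ * z⁻¹ ∈ ⁅Vf p G, S⁆) ∧
    ∀ z ∈ Zf S, h * z * h⁻¹ * z⁻¹ ∈ centralizer (G : Set X) → z ∈ centralizer (G : Set X)

theorem Ty.conjBy {G S : Subgroup X} (h : Ty p G S) (x : X) :
    Ty p (cj x G) (cj x S) where
  syl := h.syl.cj x
  ne_bot := fun h0 => h.ne_bot (cj_eq_bot.mp h0)
  self := by
    rw [← cj_Qf, ← cj_centralizer, ← cj_inf, cj_le_cj]
    exact h.self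
  V_le := by
    rw [← cj_Qf, ← cj_Vf, cj_le_cj]
    exact h.V_le
  Q_cent := by
    rw [← cj_Qf, ← cj_Vf, ← cj_centralizer, cj_le_cj]
    exact h.Q_cent
  idx := by
    rw [← cj_Qf, ← cj_Vf, ← cj_Zf, relIndex_cj, relIndex_cj]
    exact h.idx
  key := by
    intro s hs hsQ v hv hc
    rw [← cj_Qf, mem_cj] at hsQ
    rw [← cj_Vf, mem_cj] at hv
    rw [cj_centralizer'] at hc
    rw [← cj_Zf, mem_cj]
    refine h.key _ (mem_cj.mp hs) hsQ _ hv ?_
    have e : x⁻¹ * v * x * (x⁻¹ * s * x) * (x⁻¹ * v * x)⁻¹ * (x⁻¹ * s * x)⁻¹ =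
        x⁻¹ * (v * s * v⁻¹ * s⁻¹) * x := by group
    rw [e]
    exact hc
  opp := by
    obtain ⟨y, hy, hyy⟩ := h.opp
    refine ⟨x * y * x⁻¹, conj_mem_cj.mpr hy, ?_⟩
    rw [cj_cj]
    have : x * y * x⁻¹ * x = x * y := by group
    rw [this, ← cj_cj, ← cj_sup, hyy]
  V_nle := by
    rw [← cj_Vf, ← cj_Zf, cj_le_cj]
    exact h.V_nle
  comm := by
    rw [← cj_Vf, ← cj_Zf, ← cj_commutator, cj_le_cj]
    exact h.comm
  powV := by
    intro v hv
    rw [← cj_Vf, mem_cj] at hv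
    have h1 := h.powV _ hv
    have e : (x⁻¹ * v * x) ^ p = x⁻¹ * v ^ p * x := by
      have := conj_pow (i := p) (a := x⁻¹) (b := v)
      simpa using this
    rw [e] at h1
    have : v ^ p = x * (x⁻¹ * v ^ p * x) * x⁻¹ := by group
    rw [this, h1]; group
  powS := by
    intro s hs
    rw [mem_cj] at hs
    rw [← cj_Qf, mem_cj]
    have h1 := h.powS _ hs
    have e : (x⁻¹ * s * x) ^ p = x⁻¹ * s ^ p * x := by
      have := conj_pow (i := p) (a := x⁻¹) (b := s)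
      simpa using this
    rwa [e] at h1
  irr := by
    intro N hN hn hc
    rw [← cj_Vf] at hN ⊢
    rw [← cj_Zf]
    have h1 := h.irr (cj x⁻¹ N) (by rwa [cj_le_iff, inv_inv])
      (by rw [← cj_normalizer, le_cj_iff, inv_inv]; exact hn)
      (fun h0 => hc (by rw [← cj_centralizer]; rw [cj_le_iff, inv_inv] at h0; exact h0))
    rw [cj_le_iff, cj_sup, cj_inv_cj]
    exact h1
  tor := by
    rcases h.tor with h1 | ⟨t, ht, hn, h2, h3⟩
    · left
      rw [← cj_Qf, relIndex_cj]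
      exact h1
    · right
      refine ⟨x * t * x⁻¹, conj_mem_cj.mpr ht, ?_, ?_, ?_⟩
      · rw [mem_normalizer_iff_cj] at hn ⊢
        rw [cj_cj]
        have : x * t * x⁻¹ * x = x * t := by group
        rw [this, ← cj_cj, hn]
      · intro z hz
        rw [← cj_Zf, mem_cj] at hz
        rw [← cj_Vf, ← cj_commutator, mem_cj]
        have := h2 _ hz
        have e : x⁻¹ * (x * t * x⁻¹ * z * (x * t * x⁻¹)⁻¹ * z⁻¹) * x =
          t * (x⁻¹ * z * x) * t⁻¹ * (x⁻¹ * z * x)⁻¹ := by group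
        rw [e]; exact this
      · intro z hz hc
        rw [← cj_Zf, mem_cj] at hz
        rw [cj_centralizer'] at hc ⊢
        refine h3 _ hz ?_
        have e : x⁻¹ * (x * t * x⁻¹ * z * (x * t * x⁻¹)⁻¹ * z⁻¹) * x =
          t * (x⁻¹ * z * x) * t⁻¹ * (x⁻¹ * z * x)⁻¹ := by group
        rwa [e] at hc

/-! ### one vertex -/

namespace Ty

variable {G S : Subgroup X} (h : Ty p G S)

include h

theorem S_le : S ≤ G := h.syl.le

theorem pS : IsPGroup p S := h.syl.isPGroup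

theorem Q_le [Finite X] [Fact p.Prime] : Qf p G ≤ S := by
  obtain ⟨g, hg, hle⟩ := h.syl.exists_conj_ge (isPGroup_Qf (p := p) G) (Qf_le G)
  rwa [← cj_le_cj (g := g⁻¹), cj_inv_cj,
    mem_normalizer_iff_cj.mp (inv_mem (le_normalizer_Qf G hg))] at hle

theorem Z_le_V : Zf S ≤ Vf p G := Zf_le_Vf h.syl

theorem V_le_S [Finite X] [Fact p.Prime] : Vf p G ≤ S := h.V_le.trans h.Q_le

theorem Z_le_Q : Zf S ≤ Qf p G := h.Z_le_V.trans h.V_le

theorem V_cent : Vf p G ≤ centralizer (Vf p G : Set X) := h.V_le.trans h.Q_cent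

theorem V_comm {v w : X} (hv : v ∈ Vf p G) (hw : w ∈ Vf p G) : Commute v w :=
  commute_of_le_centralizer h.V_cent hw hv

theorem S_norm_Q : S ≤ normalizer (Qf p G : Set X) := h.S_le.trans (le_normalizer_Qf G)

theorem S_norm_V : S ≤ normalizer (Vf p G : Set X) := h.S_le.trans (le_normalizer_Vf G)

theorem mem_Z_of_commute {s v : X} (hs : s ∈ S) (hsQ : s ∉ Qf p G) (hv : v ∈ Vf p G)
    (hc : Commute v s) : v ∈ Zf S := by
  refine h.key s hs hsQ v hv ?_
  have : v * s * v⁻¹ * s⁻¹ = 1 := by rw [hc.eq]; group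
  rw [this]
  exact one_mem _

theorem Z_ne_bot [Finite X] [Fact p.Prime] : Zf S ≠ ⊥ := by
  intro h0
  have : Nontrivial S := (Subgroup.nontrivial_iff_ne_bot S).mpr h.ne_bot
  have h1 := h.pS.center_nontrivial
  rw [Subgroup.nontrivial_iff_exists_ne_one] at h1
  obtain ⟨z, hz, hz1⟩ := h1
  have h2 : (z : X) ∈ Zf S := by
    refine ⟨z.2, mem_centralizer_iff.mpr ?_⟩
    intro s hs
    have := (mem_center_iff.mp hz) ⟨s, hs⟩
    exact congrArg Subtype.val this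
  rw [h0, mem_bot] at h2
  exact hz1 (Subtype.ext h2)

theorem V_ne_bot [Finite X] [Fact p.Prime] : Vf p G ≠ ⊥ := by
  intro h0
  exact h.Z_ne_bot (le_bot_iff.mp (h0 ▸ h.Z_le_V))

theorem V_not_le_Z [Finite X] [Fact p.Prime] : ¬ Vf p G ≤ Zf S := h.V_nle

theorem Q_ne_S [Finite X] [Fact p.Prime] : Qf p G ≠ S := by
  intro h0
  have h1 : (Zf S).relIndex (Vf p G) = 1 := by rw [h.idx, h0]; exact relIndex_self S
  exact h.V_nle (relIndex_eq_one.mp h1)

/-- an element of `S` centralising `V` is in `Q` -/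
theorem mem_Q_of_cent [Finite X] [Fact p.Prime] {s : X} (hs : s ∈ S)
    (hc : s ∈ centralizer (Vf p G : Set X)) : s ∈ Qf p G := by
  by_contra hsQ
  exact h.V_not_le_Z fun v hv => h.mem_Z_of_commute hs hsQ hv (mem_centralizer_iff.mp hc v hv)

theorem inf_cent_le [Finite X] [Fact p.Prime] : S ⊓ centralizer (Vf p G : Set X) ≤ Qf p G :=
  fun _ hs => h.mem_Q_of_cent hs.1 hs.2

theorem exists_mem_S_not_Q [Finite X] [Fact p.Prime] : ∃ s ∈ S, s ∉ Qf p G := by
  by_contra hcon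
  push Not at hcon
  exact h.Q_ne_S (le_antisymm h.Q_le hcon)

/-- `[V, S]` is not central in `G` -/
theorem commutator_not_le [Finite X] [Fact p.Prime] : ¬ ⁅Vf p G, S⁆ ≤ centralizer (G : Set X) := by
  intro h0
  obtain ⟨s, hs, hsQ⟩ := h.exists_mem_S_not_Q
  refine h.V_not_le_Z fun v hv => h.key s hs hsQ v hv (h0 ?_)
  exact commutator_mem_commutator hv hs

theorem relIndex_pos [Finite X] : 0 < (Qf p G).relIndex S := Nat.pos_of_ne_zero
  (by have : Finite (↥S ⧸ (Qf p G).subgroupOf S) := inferInstance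
      exact index_ne_zero_of_finite)

end Ty

/-! ### critical pairs -/

/-- a critical pair of flags -/
structure Cr (p : ℕ) (α δ β ε : Subgroup X) : Prop where
  sα : Ty p α δ
  sβ : Ty p β ε
  hα : Vf p α ≤ ε
  hβ : Vf p β ≤ δ
  nle : ¬ Vf p α ≤ Qf p β

namespace Cr

variable {α δ β ε : Subgroup X} [Finite X] [Fact p.Prime] (h : Cr p α δ β ε)

include h

theorem nle' : ¬ Vf p β ≤ Qf p α := by
  intro h0
  obtain ⟨v, hv, hvQ⟩ := Set.not_subset.mp h.nle
  refine h.sβ.V_not_le_Z fun w hw => ?_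
  refine h.sβ.mem_Z_of_commute (h.hα hv) hvQ hw ?_
  exact (commute_of_le_centralizer h.sα.Q_cent (h0 hw) hv).symm

theorem symm : Cr p β ε α δ := ⟨h.sβ, h.sα, h.hβ, h.hα, h.nle'⟩

theorem V_inf_Q : Vf p α ⊓ Qf p β = Zf δ := by
  apply le_antisymm
  · rintro v ⟨hv, hvQ⟩
    obtain ⟨w, hw, hwQ⟩ := Set.not_subset.mp h.nle'
    refine h.sα.mem_Z_of_commute (h.hβ hw) hwQ hv ?_
    exact (commute_of_le_centralizer h.sβ.Q_cent hvQ hw).symm
  · intro z hz
    refine ⟨h.sα.Z_le_V hz, ?_⟩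
    by_contra hzQ
    refine h.sβ.V_not_le_Z fun w hw => ?_
    refine h.sβ.mem_Z_of_commute (h.hα (h.sα.Z_le_V hz)) hzQ hw ?_
    exact (mem_centralizer_iff.mp (Zf_cent δ hz) w (h.hβ hw))

theorem q_le : (Qf p α).relIndex δ ≤ (Qf p β).relIndex ε := by
  have h3 : (Qf p β).relIndex (Vf p α) = (Qf p α).relIndex δ := by
    rw [← h.sα.idx, ← h.V_inf_Q, inf_comm, inf_relIndex_right]
  rw [← h3]
  exact relIndex_le_of_le_right h.hα (h.sβ.relIndex_pos.ne')

theorem q : (Qf p α).relIndex δ = (Qf p β).relIndex ε := le_antisymm h.q_le h.symm.q_le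

theorem sup_eq : Vf p α ⊔ Qf p β = ε := by
  have h1 : Vf p α ≤ normalizer (Qf p β : Set X) := h.hα.trans h.sβ.S_norm_Q
  have h2 := relIndex_sup_of_le_normalizer h1
  have h3 : (Qf p β).relIndex (Vf p α) = (Qf p β).relIndex ε := by
    rw [← h.q, ← h.sα.idx, ← h.V_inf_Q, inf_comm, inf_relIndex_right]
  have hle : Vf p α ⊔ Qf p β ≤ ε := sup_le h.hα h.sβ.Q_le
  have h4 : (Qf p β).relIndex (Vf p α ⊔ Qf p β) * (Vf p α ⊔ Qf p β).relIndex ε =
      (Qf p β).relIndex ε := relIndex_mul_relIndex _ _ _ le_sup_right hle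
  rw [h2, h3] at h4
  have h5 : (Vf p α ⊔ Qf p β).relIndex ε = 1 := by
    have := h.sβ.relIndex_pos
    exact Nat.eq_of_mul_eq_mul_left this (by rw [h4, mul_one])
  exact le_antisymm hle (relIndex_eq_one.mp h5)

theorem sup_eq' : Vf p β ⊔ Qf p α = δ := h.symm.sup_eq

theorem comm_eq : ⁅Vf p α, δ⁆ = ⁅Vf p α, Vf p β⁆ := by
  rw [← h.sup_eq']
  exact commutator_sup_of_cent (h.hβ.trans h.sα.S_norm_Q) h.sα.Q_cent

theorem comm_eq' : ⁅Vf p β, ε⁆ = ⁅Vf p α, Vf p β⁆ := by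
  rw [h.symm.comm_eq, commutator_comm]

theorem comm_le_V : ⁅Vf p α, Vf p β⁆ ≤ Vf p α := by
  rw [commutator_le]
  intro v hv w hw
  have h1 := conj_mem_of_le_normalizer (h.hβ.trans h.sα.S_norm_V) hw (inv_mem hv)
  have e : ⁅v, w⁆ = v * (w * v⁻¹ * w⁻¹) := by rw [commutatorElement_def]; group
  rw [e]
  exact mul_mem hv h1

theorem comm_le_V' : ⁅Vf p α, Vf p β⁆ ≤ Vf p β := by
  rw [commutator_comm]
  exact h.symm.comm_le_V

theorem comm_le_Z : ⁅Vf p α, Vf p β⁆ ≤ Zf δ := by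
  intro r hr
  refine ⟨h.sα.V_le_S (h.comm_le_V hr), mem_centralizer_iff.mpr ?_⟩
  intro s hs
  have hs : s ∈ δ := hs
  rw [← h.sup_eq'] at hs
  obtain ⟨w, hw, u, hu, rfl⟩ :=
    (mem_sup_iff_of_le_normalizer (h.hβ.trans h.sα.S_norm_Q)).mp hs
  have h1 : Commute r w := h.sβ.V_comm (h.comm_le_V' hr) hw
  have h2 : Commute r u := commute_of_le_centralizer h.sα.Q_cent hu (h.comm_le_V hr)
  exact (h1.mul_right h2).eq.symm

theorem comm_le_Z' : ⁅Vf p α, Vf p β⁆ ≤ Zf ε := by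
  rw [commutator_comm]
  exact h.symm.comm_le_Z

theorem comm_ne_bot : ⁅Vf p α, Vf p β⁆ ≠ ⊥ := by
  intro h0
  refine h.sα.commutator_not_le ?_
  rw [h.comm_eq, h0]
  exact bot_le

end Cr

end H53.GN
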