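import Cfsg.Agent.Lib.H53.GN9

/-!
The Chermak-Delgado part: from a normal subgroup `N` between `V` and `O_p(G)` to a normal centrally large one.
-/

set_option autoImplicit false

open Subgroup H53.PU H55.CD H28.Cj

universe u

namespace H53.GN

variable {S G : Type*} [Group S] [Group G]

/-- join of the Chermak-Delgado members inside `N` -/
def RR (N : Subgroup S) : Subgroup S := sSup {T | Mem T ∧ T ≤ N}

theorem RR_le (N : Subgroup S) : RR N ≤ N := sSup_le fun _ hT => hT.2

theorem le_RR {N T : Subgroup S} (h : Mem T) (hT : T ≤ N) : T ≤ RR N := le_sSup ⟨h, hT⟩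

theorem mem_sSup [Finite S] (F : Set (Subgroup S)) (hne : F.Nonempty) (hF : ∀ R ∈ F, Mem R) : Mem (sSup F) := by
  classical
  have key : ∀ T : Finset (Subgroup S), (∀ R ∈ T, Mem R) → ∀ R₀ : Subgroup S,
      Mem R₀ → Mem (R₀ ⊔ T.sup id) := by
    intro T
    induction T using Finset.induction_on with
    | empty => intro _ R₀ hR₀; simpa using hR₀
    | insert a T ha ih =>
      intro hT R₀ hR₀
      rw [Finset.sup_insert, id, ← sup_assoc]
      exact ih (fun R hR => hT R (Finset.mem_insert_of_mem hR)) _
        (hR₀.sup (hT a (Finset.mem_insert_self _ _)))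
  obtain ⟨R₀, hR₀⟩ := hne
  have hfin : F.Finite := Set.toFinite F
  have h1 := key hfin.toFinset (fun R hR => hF R (hfin.mem_toFinset.1 hR)) R₀ (hF R₀ hR₀)
  have h2 : sSup F = R₀ ⊔ hfin.toFinset.sup id := by
    apply le_antisymm
    · apply sSup_le
      intro R hR
      exact le_sup_of_le_right (Finset.le_sup (f := id) (hfin.mem_toFinset.2 hR))
    · apply sup_le (le_sSup hR₀)
      apply Finset.sup_le
      intro R hR
      exact le_sSup (hfin.mem_toFinset.1 hR)
  rw [h2]; exact h1

theorem mem_RR [Finite S] {N T : Subgroup S} (h : Mem T) (hT : T ≤ N) : Mem (RR N) :=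
  mem_sSup _ ⟨T, h, hT⟩ fun _ hR => hR.1

theorem mu_map [Finite S] (φ : S ≃* S) (H : Subgroup S) : mu (H.map φ.toMonoidHom) = mu H := by
  unfold mu
  rw [card_map_of_injective φ.injective]
  congr 1
  have h := map_cent φ.toMonoidHom φ.injective H
  have h2 : φ.toMonoidHom.range = ⊤ := MonoidHom.range_eq_top.mpr φ.surjective
  rw [h2, top_inf_eq] at h
  rw [← h, card_map_of_injective φ.injective]

theorem Mem.map [Finite S] {H : Subgroup S} (h : Mem H) (φ : S ≃* S) : Mem (H.map φ.toMonoidHom) :=
  mem_of_le h (mu_map φ H).ge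

theorem char_RR [Finite S] {N : Subgroup S} (hN : N.Characteristic) : (RR N).Characteristic := by
  rw [characteristic_iff_map_le]
  intro φ
  rw [map_le_iff_le_comap]
  apply sSup_le
  intro T hT
  rw [← map_le_iff_le_comap]
  refine le_RR (Mem.map hT.1 φ) ?_
  rw [characteristic_iff_map_eq] at hN
  rw [← hN φ]
  exact map_mono hT.2

/-- conjugation of a Chermak-Delgado member -/
theorem conj_mem [Finite S] [Finite G] (j : S →* G) (hj : Function.Injective j) {Q : Subgroup G} (hQ : Q.Normal)
    (hQr : Q ≤ j.range) {T : Subgroup S} (hT : Mem T) (hTQ : T.map j ≤ Q)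
    (hC : (centralizer (T : Set S)).map j ≤ Q) (g : G) :
    ∃ T' : Subgroup S, Mem T' ∧ T'.map j = cj g (T.map j) ∧
      (centralizer (T' : Set S)).map j = cj g ((centralizer (T : Set S)).map j) := by
  have hQg : cj g Q = Q := H55.CLPushG.cj_eq_of_normal hQ g
  have h1 : cj g (T.map j) ≤ j.range := by
    refine le_trans ?_ hQr
    rw [← hQg]
    exact cj_le_cj.mpr hTQ
  have h2 : cj g ((centralizer (T : Set S)).map j) ≤ j.range := by
    refine le_trans ?_ hQr
    rw [← hQg]
    exact cj_le_cj.mpr hC
  have e1 : ((cj g (T.map j)).comap j).map j = cj g (T.map j) := by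
    rw [map_comap_eq, inf_eq_right.mpr h1]
  have e2 : ((cj g ((centralizer (T : Set S)).map j)).comap j).map j =
      cj g ((centralizer (T : Set S)).map j) := by
    rw [map_comap_eq, inf_eq_right.mpr h2]
  set T' := (cj g (T.map j)).comap j with hT'
  set C' := (cj g ((centralizer (T : Set S)).map j)).comap j with hC'
  have hle : C' ≤ centralizer (T' : Set S) := by
    intro c hc
    rw [mem_centralizer_iff]
    intro t ht
    have hc' : g⁻¹ * j c * g ∈ (centralizer (T : Set S)).map j := mem_cj.mp hc
    have ht' : g⁻¹ * j t * g ∈ T.map j := mem_cj.mp ht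
    obtain ⟨c0, hc0, ec⟩ := hc'
    obtain ⟨t0, ht0, et⟩ := ht'
    have h3 := mem_centralizer_iff.mp hc0 t0 ht0
    have h4 : j t0 * j c0 = j c0 * j t0 := by rw [← map_mul, ← map_mul, h3]
    rw [ec, et] at h4
    apply hj
    rw [map_mul, map_mul]
    have h5 : g⁻¹ * (j t * j c) * g = g⁻¹ * (j c * j t) * g := by
      calc g⁻¹ * (j t * j c) * g = g⁻¹ * j t * g * (g⁻¹ * j c * g) := by group
        _ = g⁻¹ * j c * g * (g⁻¹ * j t * g) := h4
        _ = g⁻¹ * (j c * j t) * g := by group
    exact mul_left_cancel (mul_right_cancel h5)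
  have c1 : Nat.card T' = Nat.card T := by
    rw [← card_map_of_injective hj (K := T'), e1, card_cj, card_map_of_injective hj]
  have c2 : Nat.card C' = Nat.card (centralizer (T : Set S)) := by
    rw [← card_map_of_injective hj (K := C'), e2, card_cj, card_map_of_injective hj]
  have hm : Mem T' := by
    apply mem_of_le hT
    unfold mu
    rw [c1, ← c2]
    exact Nat.mul_le_mul_left _ (card_le_of_le hle)
  refine ⟨T', hm, e1, ?_⟩
  have h6 : mu T' = mu T := hm.mu_eq hT
  unfold mu at h6
  rw [c1] at h6
  have h7 := Nat.eq_of_mul_eq_mul_left Nat.card_pos h6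
  have h8 : C' = centralizer (T' : Set S) := eq_of_le_of_card_ge hle (by rw [h7, c2])
  rw [← h8, e2]

/-- the normality of the centrally large subgroup -/
theorem normal_RR [Finite S] [Finite G] (j : S →* G) (hj : Function.Injective j) {Q : Subgroup G} (hQ : Q.Normal)
    (hQr : Q ≤ j.range) {N T : Subgroup S} (hT : Mem T) (hTN : T ≤ N) (hN : (N.map j).Normal)
    (hNQ : N.map j ≤ Q) (hC : (centralizer (T : Set S)).map j ≤ Q) :
    ((RR N ⊔ centralizer (RR N : Set S)).map j).Normal := by
  have hR : Mem (RR N) := mem_RR hT hTN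
  have hRQ : (RR N).map j ≤ Q := (map_mono (RR_le N)).trans hNQ
  have hCQ : (centralizer (RR N : Set S)).map j ≤ Q :=
    (map_mono (centralizer_le (SetLike.coe_subset_coe.2 (le_RR hT hTN)))).trans hC
  apply H55.CLPushG.normal_of_cj
  intro g
  obtain ⟨T', h1, h2, h3⟩ := conj_mem j hj hQ hQr hR hRQ hCQ g
  have h4 : T' ≤ N := by
    rw [← map_le_map_iff_of_injective hj, h2, ← H55.CLPushG.cj_eq_of_normal hN g]
    exact cj_le_cj.mpr (map_mono (RR_le N))
  have h5 : T' ≤ RR N := le_RR h1 h4
  have h6 : T' = RR N := by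
    apply eq_of_le_of_card_ge h5
    have := card_map_of_injective hj (K := T')
    rw [h2, card_cj, card_map_of_injective hj] at this
    exact this.le
  rw [h6] at h2 h3
  rw [Subgroup.map_sup, cj_sup, ← h2, ← h3]

/-- `R C(R)` is centrally large -/
theorem cl_sup [Finite S] {R : Subgroup S} (hR : Mem R) :
    Cfsg.IsCentrallyLarge (R ⊔ centralizer (R : Set S)) := by
  refine (H55.CL.isCentrallyLarge_iff _).2 ⟨hR.sup hR.centralizer, ?_⟩
  rw [hR.sup_centralizer]
  exact inf_le_left.trans le_sup_left

/-- the maximal central product of a subgroup containing a centrally large one -/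
theorem max_eq_top [Finite S] {R H : Subgroup S} (hR : Cfsg.IsCentrallyLarge R) (hRH : R ≤ H) :
    Cfsg.maxCentralProduct H = Cfsg.maxCentralProduct S := by
  apply le_antisymm
  · obtain ⟨R', hR'⟩ := H55.CL.exists_isCentrallyLarge H
    obtain ⟨M, hM⟩ := exists_mem S
    have h2 : Nat.card R' * Nat.card (center R') = Cfsg.maxCentralProduct H := hR'
    rw [H55.CL.maxCentralProduct_eq hM, ← h2, ← H55.CLPushG.card_center_map R',
      ← card_map_of_injective H.subtype_injective]
    exact (H55.CL.central_le_mu _).trans (hM _)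
  · have h1 : Nat.card R * Nat.card (center R) = Cfsg.maxCentralProduct S := hR
    rw [← h1]
    exact H55.CLPushG.le_max hRH

end H53.GN
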