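import Cfsg.Agent.S2769
import Cfsg.Agent.S2770
import Cfsg.Agent.S2989
import Cfsg.Agent.S2990
import Cfsg.Agent.Lib.H53.GN7
import Cfsg.Agent.Lib.H53.GN10
import Cfsg.Agent.Lib.H65.PBasic

/-!
Assembly of the pushing up theorems with two characteristic subgroups: the reductions.
-/

set_option autoImplicit false

open Subgroup H53.PU H55.CD H51.ThompsonA

universe u

namespace H53.GN

variable {S : Type u} [Group S] {p : ℕ}

/-- conclusion of the pushing up theorems -/
def Pair (p : ℕ) (S : Type u) [Group S] (S₁ S₂ : Subgroup S) : Prop :=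
  ∀ (G : Type u) [Group G] [Finite G] (j : S →* G), Function.Injective j →
    Cfsg.IsPushingUpSituation p j.range → (S₁.map j).Normal ∨ (S₂.map j).Normal

theorem one_le_of_card {F : Type} [Field F] [Fintype F] {n : ℕ} (h : Fintype.card F = p ^ n) : 1 ≤ n := by
  rcases Nat.eq_zero_or_pos n with h0 | h0
  · rw [h0, pow_zero] at h
    have := Fintype.one_lt_card (α := F)
    omega
  · exact h0

theorem map_bracket {G : Type u} [Group G] (j : S →* G) (hj : Function.Injective j) :
    (⁅ZJ S, (⊤ : Subgroup S)⁆).map j = ⁅Cfsg.centerThompsonAOf j.range, j.range⁆ := by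
  rw [map_commutator, map_ZJ j hj, map_top']

theorem map_CZJ {G : Type u} [Group G] (j : S →* G) (hj : Function.Injective j) :
    (centralizer (ZJ S : Set S)).map j = j.range ⊓ centralizer (Cfsg.centerThompsonAOf j.range : Set G) := by
  rw [map_cent j hj, map_ZJ j hj]

theorem case_i [Fact p.Prime] (h : ⁅ZJ S, (⊤ : Subgroup S)⁆ ≠ ⊥) :
    Pair p S (⁅ZJ S, (⊤ : Subgroup S)⁆ ⊓ center S) (centralizer (ZJ S : Set S)) := by
  intro G _ _ j hj hE
  obtain ⟨-, ⟨P, hP⟩, hE1, hE2, K, hK, F, _, _, n, hF, hE3⟩ := hE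
  rw [← hP] at hE2
  have h1 : ⁅Cfsg.centerThompsonAOf (P : Subgroup G), (P : Subgroup G)⁆ ≠ ⊥ := by
    rw [hP, ← map_bracket j hj]
    intro h0
    rw [map_eq_bot_iff_of_injective _ hj] at h0
    exact h h0
  have h2 := Cfsg.Agent.S2769.result P hE1 hE2 K F n (one_le_of_card hF) hF hE3 h1
  rw [hP] at h2
  rw [map_inf_eq _ _ _ hj, map_bracket j hj, map_center j hj, map_CZJ j hj]
  exact h2

theorem case_ii [Fact p.Prime] (h : ¬ Cfsg.IsElementaryAbelian p (center S)) :
    Pair p S (Cfsg.powerClosure p 1 (center S)) (centralizer (ZJ S : Set S)) := by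
  intro G _ _ j hj hE
  obtain ⟨-, ⟨P, hP⟩, hE1, hE2, K, hK, F, _, _, n, hF, hE3⟩ := hE
  rw [← hP] at hE2
  have h1 : ¬ Cfsg.IsElementaryAbelian p ((P : Subgroup G) ⊓ centralizer ((P : Subgroup G) : Set G)) := by
    rw [hP, ← map_center j hj, isElem_map_iff j hj]
    exact h
  have h2 := Cfsg.Agent.S2770.result P hE1 hE2 K F n (one_le_of_card hF) hF hE3 h1
  rw [hP] at h2
  rw [map_powerClosure, map_center j hj, map_CZJ j hj]
  exact h2

theorem card_prod_equiv {P P' : Type*} [Group P] [Group P'] (e : P ≃* P') (R : Subgroup P) :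
    Nat.card (R.map e.toMonoidHom) * Nat.card (center (R.map e.toMonoidHom)) =
      Nat.card R * Nat.card (center R) := by
  rw [card_map_of_injective e.injective]
  congr 1
  exact (H55.CLPushG.card_center_congr (R.equivMapOfInjective _ e.injective)).symm

theorem isCL_equiv {P P' : Type*} [Group P] [Group P'] (e : P ≃* P') {R : Subgroup P}
    (h : Cfsg.IsCentrallyLarge R) : Cfsg.IsCentrallyLarge (R.map e.toMonoidHom) := by
  have hmax : Cfsg.maxCentralProduct P' = Cfsg.maxCentralProduct P := by
    unfold Cfsg.maxCentralProduct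
    congr 1
    ext k
    constructor
    · rintro ⟨R, rfl⟩
      exact ⟨R.map e.symm.toMonoidHom, card_prod_equiv e.symm R⟩
    · rintro ⟨R, rfl⟩
      exact ⟨R.map e.toMonoidHom, card_prod_equiv e R⟩
  unfold Cfsg.IsCentrallyLarge at *
  rw [hmax, ← h]
  exact card_prod_equiv e R

theorem isMCL_equiv {P P' : Type*} [Group P] [Group P'] (e : P ≃* P') {R : Subgroup P}
    (h : Cfsg.IsMinimalCentrallyLarge R) : Cfsg.IsMinimalCentrallyLarge (R.map e.toMonoidHom) := by
  refine ⟨isCL_equiv e h.1, fun R' hR' hR'2 => ?_⟩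
  have h1 := h.2 (R'.map e.symm.toMonoidHom) ?_ (isCL_equiv e.symm hR'2)
  · rw [← h1, map_map]
    have : e.toMonoidHom.comp e.symm.toMonoidHom = MonoidHom.id P' := by
      ext x; simp
    rw [this, map_id]
  · rintro _ ⟨x, hx, rfl⟩
    obtain ⟨y, hy, rfl⟩ := hR' hx
    simpa using hy

theorem join_le {P P' : Type*} [Group P] [Group P'] (e : P ≃* P') :
    (Cfsg.minimalCentrallyLargeJoin P).map e.toMonoidHom ≤ Cfsg.minimalCentrallyLargeJoin P' := by
  rw [map_le_iff_le_comap]
  apply sSup_le
  intro R hR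
  rw [← map_le_iff_le_comap]
  exact le_sSup (isMCL_equiv e hR)

theorem join_equiv {P P' : Type*} [Group P] [Group P'] (e : P ≃* P') :
    (Cfsg.minimalCentrallyLargeJoin P).map e.toMonoidHom = Cfsg.minimalCentrallyLargeJoin P' := by
  apply le_antisymm (join_le e)
  intro x hx
  refine ⟨e.symm x, join_le e.symm ⟨x, hx, rfl⟩, ?_⟩
  simp

theorem char_join : (Cfsg.minimalCentrallyLargeJoin S).Characteristic := by
  rw [characteristic_iff_map_eq]
  exact fun φ => join_equiv φ

theorem comp_ofInjective {G : Type u} [Group G] (j : S →* G) (hj : Function.Injective j) :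
    j.range.subtype.comp (MonoidHom.ofInjective hj).toMonoidHom = j := by
  ext x
  rfl

theorem map_map_ofInjective {G : Type u} [Group G] (j : S →* G) (hj : Function.Injective j) (H : Subgroup S) :
    (H.map (MonoidHom.ofInjective hj).toMonoidHom).map j.range.subtype = H.map j := by
  rw [map_map, comp_ofInjective]

theorem cent_of_range {G : Type u} [Group G] (j : S →* G) (hj : Function.Injective j)
    (hZ : centralizer (ZJ S : Set S) = ⊤) :
    j.range ≤ centralizer (Cfsg.centerThompsonAOf j.range : Set G) := by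
  have h := map_CZJ j hj
  rw [hZ, map_top'] at h
  exact inf_eq_left.mp h.symm

theorem case_iii [Finite S] [Fact p.Prime] (hZ : centralizer (ZJ S : Set S) = ⊤) {R : Subgroup S}
    (hR : Cfsg.IsMinimalCentrallyLarge R) :
    Pair p S (center S ⊓ ⁅R, R⁆) (Cfsg.minimalCentrallyLargeJoin S) := by
  intro G _ _ j hj hE
  have h1 := (Cfsg.Agent.S2990.result j.range hE (cent_of_range j hj hZ) _
    (isMCL_equiv (MonoidHom.ofInjective hj) hR)).2.1
  rw [← map_commutator, map_map_ofInjective, ← map_center j hj, ← map_inf_eq _ _ _ hj,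
    ← join_equiv (MonoidHom.ofInjective hj), map_map_ofInjective] at h1
  exact h1

theorem char_derived [Finite S] {R : Subgroup S} (hR : Cfsg.IsMinimalCentrallyLarge R) :
    (⁅R, R⁆).Characteristic := by
  rw [characteristic_iff_map_le]
  intro e
  rw [map_commutator]
  exact (H55.MCL.commutator_eq (isMCL_equiv e hR) hR).le

end H53.GN
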