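import Cfsg.Agent.Lib.H53.GN11

/-!
Assembly of the pushing up theorems with two characteristic subgroups: the main case.
-/

set_option autoImplicit false

open Subgroup H53.PU H55.CD H51.ThompsonA
open scoped Pointwise

universe u

namespace H53.GN

section one

variable {G : Type*} [Group G] [Finite G] {p : ℕ} [hp : Fact p.Prime] {P : Subgroup G}

theorem ff_data (hE : Cfsg.IsPushingUpSituation p P) (hZ : ¬ (PSit.ZS P).Normal) (hJ : J P = P) :
    PSit.VS P ≤ Cfsg.pCore p G ∧ Cfsg.pCore p G ≤ P ∧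
    Cfsg.pCore p G ≤ centralizer (PSit.VS P : Set G) ∧
    (PSit.ZS P).relIndex (PSit.VS P) = (Cfsg.pCore p G).relIndex P ∧
    P ⊓ centralizer (PSit.VS P : Set G) ≤ Cfsg.pCore p G := by
  have hQP : Cfsg.pCore p G ≤ P := by
    obtain ⟨-, ⟨T, hT⟩, -⟩ := id hE
    rw [← hT]
    exact H1.Cores.pCore_le_sylow T
  obtain ⟨A, hA, hAQ⟩ : ∃ A, MaxAb A P ∧ ¬ A ≤ Cfsg.pCore p G := by
    by_contra hcon
    push Not at hcon
    have h1 : P ≤ Cfsg.pCore p G := by
      conv_lhs => rw [← hJ]
      exact sSup_le fun A hA => hcon A hA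
    have h2 : P = Cfsg.pCore p G := le_antisymm h1 hQP
    have h3 : P.Normal := by rw [h2]; infer_instance
    exact hZ (by unfold PSit.ZS; infer_instance)
  obtain ⟨F, _, _, M, π, h, -⟩ := exists_psit_of_isPushingUpSituation hE
  obtain ⟨ρ, ψ, hff⟩ := h.exists_ffg hZ (ma_iff.2 hA) hAQ
  refine ⟨h.VS_le.trans inf_le_left, hQP, h.pCore_le_C, ?_, ?_⟩
  · rw [hff.relV, hff.relS]
  · rintro s ⟨hs, hsc⟩
    by_contra hsQ
    have h1 := hff.cent s hs hsQ
    have h2 : PSit.VS P ⊓ centralizer {s} = PSit.VS P := by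
      rw [inf_eq_left]
      intro v hv
      rw [mem_centralizer_singleton_iff]
      exact (mem_centralizer_iff.mp hsc v hv)
    rw [h2] at h1
    apply hZ
    rw [← h1]
    infer_instance

end one

variable {S : Type u} [Group S] [Finite S] {p : ℕ} [hp : Fact p.Prime]

theorem center_le_cent (H : Subgroup S) : center S ≤ centralizer (H : Set S) := by
  intro z hz
  rw [mem_centralizer_iff]
  intro h _
  exact mem_center_iff.mp hz h

theorem cent_top : centralizer ((⊤ : Subgroup S) : Set S) = center S := by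
  rw [coe_top, centralizer_univ]

theorem center_le_thompson : center S ≤ Cfsg.thompsonSubgroupA S := by
  intro z hz
  rw [thompson_eq]
  exact mem_J_of_center (mem_top z) fun a _ => mem_center_iff.mp hz a

/-- reduction: minimal centrally large subgroups abelian -/
theorem red (hZ : ZJ S ≤ center S) {R : Subgroup S} (hR : Cfsg.IsMinimalCentrallyLarge R)
    (hab : IsMulCommutative R) :
    Mem (⊤ : Subgroup S) ∧ Cfsg.thompsonSubgroupA S = ⊤ ∧
    ∀ A ∈ Cfsg.maxAbelianSubgroups S, Mem A ∧ centralizer (A : Set S) = A := by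
  have hiff := H55.MCL.iff_maxAbelian hR hab
  have hA : ∀ A ∈ Cfsg.maxAbelianSubgroups S, Mem A ∧ centralizer (A : Set S) = A := fun A hA =>
    ⟨((H55.CL.isCentrallyLarge_iff A).1 ((hiff A).2 hA).1).1, H55.LA.self_centralizing hA⟩
  have hne : (Cfsg.maxAbelianSubgroups S).Nonempty := H55.LA.exists_maxAbelian S
  have hJ : Cfsg.IsCentrallyLarge (Cfsg.thompsonSubgroupA S) :=
    H55.CL.sSup_isCentrallyLarge _ hne fun A hA => ((hiff A).2 hA).1
  rw [H55.CL.isCentrallyLarge_iff] at hJ
  have h1 : centralizer (Cfsg.thompsonSubgroupA S : Set S) = center S := by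
    apply le_antisymm
    · refine le_trans ?_ hZ
      exact le_inf hJ.2 le_rfl
    · exact center_le_cent _
  have h2 : Cfsg.thompsonSubgroupA S = ⊤ := by
    have h3 := hJ.1 ⊤
    unfold mu at h3
    rw [h1, cent_top] at h3
    have h4 := Nat.le_of_mul_le_mul_right h3 Nat.card_pos
    exact eq_of_le_of_card_ge le_top h4
  refine ⟨?_, h2, hA⟩
  rw [← h2]
  exact hJ.1

/-- the exceptional conditions on large abelian subgroups -/
theorem exc_ab (hm : Mem (⊤ : Subgroup S))
    (hA : ∀ A ∈ Cfsg.maxAbelianSubgroups S, Mem A ∧ centralizer (A : Set S) = A) :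
    ∀ A ∈ Cfsg.maxAbelianSubgroups S, ∀ B ∈ Cfsg.maxAbelianSubgroups S, ∀ Q : Subgroup S,
      Nat.card ↥A ^ 2 = Nat.card S * Nat.card ↥(Subgroup.center S) ∧
      Nat.card ↥Q * Nat.card ↥(Subgroup.center ↥Q) ≤ Nat.card S * Nat.card ↥(Subgroup.center S) ∧
      ((A ⊔ B : Subgroup S) : Set S) = (A : Set S) * (B : Set S) ∧
      A ⊔ B = Subgroup.centralizer ((A ⊓ B : Subgroup S) : Set S) := by
  intro A hA1 B hB1 Q
  have htop : mu (⊤ : Subgroup S) = Nat.card S * Nat.card (center S) := by
    unfold mu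
    rw [cent_top, card_top]
  obtain ⟨a1, a2⟩ := hA A hA1
  obtain ⟨b1, b2⟩ := hA B hB1
  refine ⟨?_, ?_, a1.coe_sup b1, ?_⟩
  · rw [← htop, ← a1.mu_eq hm]
    unfold mu
    rw [a2, sq]
  · rw [← htop]
    exact (H55.CL.central_le_mu Q).trans (hm Q)
  · rw [a1.centralizer_inf b1, a2, b2]

/-- the main case -/
theorem main_case [Nontrivial S] (hS : IsPGroup p S) (hZ : ZJ S ≤ center S)
    (hm : Mem (⊤ : Subgroup S)) (hJ : Cfsg.thompsonSubgroupA S = ⊤) (core : CoreOut p S) :
    ∃ S₁ S₂ : Subgroup S, S₁ ≠ ⊥ ∧ S₂ ≠ ⊥ ∧ S₁.Characteristic ∧ S₂.Characteristic ∧ S₁ ≤ center S ∧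
      Cfsg.IsCentrallyLarge S₂ ∧ Pair p S S₁ S₂ := by
  obtain ⟨S₁, N, h1, h2, h3, h4, h5⟩ := core
  have hJr : ∀ (G : Type u) [Group G] (j : S →* G), Function.Injective j → J j.range = j.range := by
    intro G _ j hj
    have := map_thompson j hj
    rw [hJ, map_top', thompsonSubgroupAOf_eq] at this
    exact this.symm
  have hcl : Cfsg.IsCentrallyLarge (⊤ : Subgroup S) :=
    (H55.CL.isCentrallyLarge_iff _).2 ⟨hm, le_top⟩
  have hnt : center S ≠ ⊥ := by
    intro h0
    have := hS.center_nontrivial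
    exact (Subgroup.nontrivial_iff_ne_bot _).mp this h0
  -- the key computation
  have key : ∀ (G : Type u) [Group G] [Finite G] (j : S →* G), Function.Injective j →
      Cfsg.IsPushingUpSituation p j.range → ¬ (S₁.map j).Normal →
      ∃ T : Subgroup S, Mem T ∧ T ≤ N ∧ (centralizer (T : Set S)).map j ≤ Cfsg.pCore p G := by
    intro G _ _ j hj hE hn
    obtain ⟨a1, a2, a3⟩ := (h5 G j hj hE).resolve_left hn
    have hZn : ¬ (PSit.ZS j.range).Normal := by
      intro h0
      apply hn
      apply PSit.normal_of_le_center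
      refine le_trans ?_ (center_of hE h0)
      rw [← map_center j hj]
      exact map_mono h3
    obtain ⟨b1, b2, b3, b4, b5⟩ := ff_data hE hZn (hJr G j hj)
    have hVr : PSit.VS j.range ≤ j.range := b1.trans b2
    have eV : ((PSit.VS j.range).comap j).map j = PSit.VS j.range := by
      rw [map_comap_eq, inf_eq_right.mpr hVr]
    have eQ : ((Cfsg.pCore p G).comap j).map j = Cfsg.pCore p G := by
      rw [map_comap_eq, inf_eq_right.mpr b2]
    have hC : (centralizer (((PSit.VS j.range).comap j : Subgroup S) : Set S)).map j ≤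
        Cfsg.pCore p G := by
      rw [map_cent j hj, eV]
      exact b5
    have hQC : (Cfsg.pCore p G).comap j ≤ centralizer (((PSit.VS j.range).comap j : Subgroup S) : Set S) := by
      rw [← map_le_map_iff_of_injective hj, eQ, map_cent j hj, eV]
      exact le_inf b2 b3
    refine ⟨(PSit.VS j.range).comap j, ?_, ?_, hC⟩
    · apply mem_of_le hm
      unfold mu
      rw [cent_top, card_top]
      refine le_trans ?_ (Nat.mul_le_mul_left _ (card_le_of_le hQC))
      have c1 : Nat.card S = Nat.card j.range := Nat.card_congr (MonoidHom.ofInjective hj).toEquiv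
      have c2 : Nat.card (center S) = Nat.card (PSit.ZS j.range) := by
        rw [← card_map_of_injective hj (K := center S), map_center j hj]
      have c3 : Nat.card ((PSit.VS j.range).comap j : Subgroup S) = Nat.card (PSit.VS j.range) := by
        rw [← card_map_of_injective hj (K := (PSit.VS j.range).comap j), eV]
      have c4 : Nat.card ((Cfsg.pCore p G).comap j : Subgroup S) = Nat.card (Cfsg.pCore p G) := by
        rw [← card_map_of_injective hj (K := (Cfsg.pCore p G).comap j), eQ]
      rw [c1, c2, c3, c4]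
      have d1 := relIndex_mul_relIndex ⊥ (PSit.ZS j.range) (PSit.VS j.range) bot_le PSit.ZS_le_VS
      have d2 := relIndex_mul_relIndex ⊥ (Cfsg.pCore p G) j.range bot_le b2
      rw [relIndex_bot_left, relIndex_bot_left] at d1 d2
      rw [← d1, ← d2, b4]
      exact le_of_eq (by ring)
    · rw [← map_le_map_iff_of_injective hj, eV]
      exact a2
  by_cases hT : ∃ T : Subgroup S, Mem T ∧ T ≤ N
  · obtain ⟨T, hT1, hT2⟩ := hT
    have hR := mem_RR hT1 hT2
    refine ⟨S₁, RR N ⊔ centralizer (RR N : Set S), h1, ?_, h2, ?_, h3, cl_sup hR, ?_⟩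
    · intro h0
      apply hnt
      rw [eq_bot_iff, ← h0]
      exact (center_le_cent _).trans le_sup_right
    · exact char_sup (char_RR h4) (char_centralizer (char_RR h4))
    · intro G _ _ j hj hE
      by_cases hn : (S₁.map j).Normal
      · exact Or.inl hn
      · right
        obtain ⟨a1, a2, a3⟩ := (h5 G j hj hE).resolve_left hn
        obtain ⟨T', e1, e2, e3⟩ := key G j hj hE hn
        have hQP : Cfsg.pCore p G ≤ j.range := by
          obtain ⟨-, ⟨T, hT⟩, -⟩ := id hE
          rw [← hT]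
          exact H1.Cores.pCore_le_sylow T
        exact normal_RR j hj (Q := Cfsg.pCore p G) inferInstance hQP e1 e2 a1 a3 e3
  · refine ⟨S₁, ⊤, h1, ?_, h2, inferInstance, h3, hcl, ?_⟩
    · intro h0
      apply hnt
      rw [eq_bot_iff, ← h0]
      exact le_top
    · intro G _ _ j hj hE
      left
      by_contra hn
      obtain ⟨T', e1, e2, e3⟩ := key G j hj hE hn
      exact hT ⟨T', e1, e2⟩

end H53.GN
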