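import Cfsg.Agent.Lib.H53.GN13

/-!
S2988 from the core theorem.
-/

set_option autoImplicit false

open Subgroup H53.PU H55.CD H51.ThompsonA
open scoped Pointwise commutatorElement

universe u

namespace H53.GN

theorem phi_le {P P' : Type*} [Group P] [Group P'] {p : ℕ} (e : P ≃* P') :
    (Cfsg.frattiniOfMinimalCLJoin p P).map e.toMonoidHom ≤ Cfsg.frattiniOfMinimalCLJoin p P' := by
  have hmax : Cfsg.maxOmegaCenterOfMinimalCL p P' = Cfsg.maxOmegaCenterOfMinimalCL p P := by
    unfold Cfsg.maxOmegaCenterOfMinimalCL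
    congr 1
    ext k
    constructor
    · rintro ⟨Q, hQ, rfl⟩
      exact ⟨Q.map e.symm.toMonoidHom, isMCL_equiv e.symm hQ, H55.CLPushB.card_omega_map e.symm.injective Q⟩
    · rintro ⟨Q, hQ, rfl⟩
      exact ⟨Q.map e.toMonoidHom, isMCL_equiv e hQ, H55.CLPushB.card_omega_map e.injective Q⟩
  unfold Cfsg.frattiniOfMinimalCLJoin
  rw [Subgroup.map_iSup]
  apply iSup_le
  rintro ⟨Q, hQ, hQ2⟩
  have h1 := H55.CLPushB.PhiG_map (f := e.toMonoidHom) e.injective Q
  unfold H55.CLPushB.PhiG at h1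
  change ((frattini Q).map Q.subtype).map e.toMonoidHom ≤ _
  rw [← h1]
  exact le_iSup (fun Q : {Q : Subgroup P' // Cfsg.IsMinimalCentrallyLarge Q ∧
    Nat.card (Cfsg.omegaOneCenter p Q) = Cfsg.maxOmegaCenterOfMinimalCL p P'} =>
    (frattini (Q : Subgroup P')).map (Q : Subgroup P').subtype) ⟨Q.map e.toMonoidHom, isMCL_equiv e hQ, by
      rw [H55.CLPushB.card_omega_map e.injective Q, hmax, hQ2]⟩

theorem phi_equiv {P P' : Type*} [Group P] [Group P'] {p : ℕ} (e : P ≃* P') :
    (Cfsg.frattiniOfMinimalCLJoin p P).map e.toMonoidHom = Cfsg.frattiniOfMinimalCLJoin p P' := by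
  apply le_antisymm (phi_le e)
  intro x hx
  refine ⟨e.symm x, phi_le e.symm ⟨x, hx, rfl⟩, ?_⟩
  simp

variable {S : Type u} [Group S] [Finite S] {p : ℕ} [hp : Fact p.Prime]

theorem s2988_aux [Nontrivial S] (hS : IsPGroup p S) (core : CoreHyp p S)
    (hexc : ¬ (¬ IsMulCommutative S ∧ Cfsg.thompsonSubgroupA S = ⊤ ∧
      Cfsg.IsElementaryAbelian p (Subgroup.center S) ∧ Cfsg.IsElementaryAbelian p (frattini S) ∧
      (p = 2 → frattini S ≤ Subgroup.center S) ∧ (p = 3 → frattini S ≤ Subgroup.upperCentralSeries S 2) ∧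
      (3 < p → frattini S ≤ Subgroup.center S ∧ Monoid.exponent S = p) ∧
      (∃ A ∈ Cfsg.maxAbelianSubgroups S, Cfsg.IsElementaryAbelian p A) ∧
      (∀ A ∈ Cfsg.maxAbelianSubgroups S, ∀ B ∈ Cfsg.maxAbelianSubgroups S, ∀ Q : Subgroup S,
        Nat.card ↥A ^ 2 = Nat.card S * Nat.card ↥(Subgroup.center S) ∧
        Nat.card ↥Q * Nat.card ↥(Subgroup.center ↥Q) ≤ Nat.card S * Nat.card ↥(Subgroup.center S) ∧
        ((A ⊔ B : Subgroup S) : Set S) = (A : Set S) * (B : Set S) ∧
        A ⊔ B = Subgroup.centralizer ((A ⊓ B : Subgroup S) : Set S)))) :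
    ∃ S₁ S₂ : Subgroup S, Concl p S S₁ S₂ := by
  by_cases hex : (¬ IsMulCommutative S ∧ Cfsg.thompsonSubgroupA S = ⊤ ∧
      Cfsg.IsElementaryAbelian p (Subgroup.center S) ∧ Cfsg.IsElementaryAbelian p (frattini S) ∧
      (p = 2 → frattini S ≤ Subgroup.center S) ∧ (p = 3 → frattini S ≤ Subgroup.upperCentralSeries S 2) ∧
      (3 < p → frattini S ≤ Subgroup.center S ∧ Monoid.exponent S = p) ∧
      (∀ A ∈ Cfsg.maxAbelianSubgroups S, ∀ B ∈ Cfsg.maxAbelianSubgroups S, ∀ Q : Subgroup S,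
        Nat.card ↥A ^ 2 = Nat.card S * Nat.card ↥(Subgroup.center S) ∧
        Nat.card ↥Q * Nat.card ↥(Subgroup.center ↥Q) ≤ Nat.card S * Nat.card ↥(Subgroup.center S) ∧
        ((A ⊔ B : Subgroup S) : Set S) = (A : Set S) * (B : Set S) ∧
        A ⊔ B = Subgroup.centralizer ((A ⊓ B : Subgroup S) : Set S)))
  swap
  · obtain ⟨S₁, S₂, h1, -⟩ := s2991_aux hS core hex
    exact ⟨S₁, S₂, h1⟩
  obtain ⟨a1, a2, a3, a4, a5, a6, a7, a8⟩ := hex
  have hnoA : ¬ ∃ A ∈ Cfsg.maxAbelianSubgroups S, Cfsg.IsElementaryAbelian p A :=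
    fun h => hexc ⟨a1, a2, a3, a4, a5, a6, a7, h, a8⟩
  have hcb := center_ne_bot hS
  have hZJ : ZJ S = center S := by
    unfold ZJ
    rw [a2, cent_top, top_inf_eq]
  have hCT : centralizer (ZJ S : Set S) = ⊤ := by
    rw [hZJ, eq_top_iff]
    intro x _
    rw [mem_centralizer_iff]
    intro z hz
    exact (mem_center_iff.mp hz x).symm
  have key : ∀ (G : Type u) [Group G] [Finite G] (j : S →* G), Function.Injective j →
      Cfsg.IsPushingUpSituation p j.range →
      (((center S).map j).Normal ∨ ((Cfsg.frattiniOfMinimalCLJoin p S).map j).Normal) ∧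
      Cfsg.frattiniOfMinimalCLJoin p S ≠ ⊥ := by
    intro G _ _ j hj hE
    have h1 := Cfsg.Agent.S2989.result j.range hE (cent_of_range j hj hCT)
    rw [← phi_equiv (MonoidHom.ofInjective hj), map_map_ofInjective, ← map_center j hj] at h1
    refine ⟨h1.1, fun h0 => ?_⟩
    obtain ⟨-, A, hA, hAe⟩ := h1.2 (by rw [h0, Subgroup.map_bot])
    apply hnoA
    set e := MonoidHom.ofInjective hj with he
    refine ⟨A.map e.symm.toMonoidHom, ?_, ?_⟩
    · constructor
      · have := hA.1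
        exact ab_iff.mp ((ab_iff.mpr this).map _)
      · intro B hB
        have h2 := hA.2 (B.map e.toMonoidHom) (ab_iff.mp ((ab_iff.mpr hB).map _))
        have c1 : Nat.card (B.map e.toMonoidHom) = Nat.card B :=
          Nat.card_congr (B.equivMapOfInjective e.toMonoidHom e.injective).toEquiv.symm
        have c2 : Nat.card (A.map e.symm.toMonoidHom) = Nat.card A :=
          Nat.card_congr (A.equivMapOfInjective e.symm.toMonoidHom e.symm.injective).toEquiv.symm
        rw [c1] at h2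
        rw [c2]
        exact h2
    · exact (isElem_map_iff e.symm.toMonoidHom e.symm.injective).mpr hAe
  by_cases h0 : Cfsg.frattiniOfMinimalCLJoin p S = ⊥
  · refine ⟨center S, center S, hcb, hcb, inferInstance, inferInstance, le_rfl, ?_, ?_, ?_⟩
    · rw [hCT]; exact le_top
    · exact char_subgroupOf_of_eq_top hCT inferInstance
    · intro G _ _ j hj hE
      exact absurd h0 (key G j hj hE).2
  · have hch : (Cfsg.frattiniOfMinimalCLJoin p S).Characteristic := by
      rw [characteristic_iff_map_eq]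
      exact fun φ => phi_equiv φ
    refine ⟨center S, Cfsg.frattiniOfMinimalCLJoin p S, hcb, h0, inferInstance, hch, le_rfl, ?_,
      char_subgroupOf_of_eq_top hCT hch, fun G _ _ j hj hE => (key G j hj hE).1⟩
    rw [hCT]; exact le_top

end H53.GN
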