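import Cfsg.Agent.Lib.H53.GN13

/-!
S2808 from the core theorem.
-/

set_option autoImplicit false

open Subgroup H53.PU H55.CD H51.ThompsonA
open scoped Pointwise commutatorElement

universe u

namespace H53.GN

variable {S : Type u} [Group S] [Finite S] {p : ℕ} [hp : Fact p.Prime]

theorem s2808_aux (hS : IsPGroup p S) (core : CoreHyp p S)
    (h : ⁅ZJ S, (⊤ : Subgroup S)⁆ ≠ ⊥ ∨ H52.PM.S0 p (⊤ : Subgroup S) ≠ ⊥) :
    ∃ S₁ S₂ : Subgroup S, Concl p S S₁ S₂ := by
  have hnt : Nontrivial S := by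
    by_contra hcon
    rw [not_nontrivial_iff_subsingleton] at hcon
    rcases h with h | h
    · exact h (Subsingleton.elim _ _)
    · exact h (Subsingleton.elim _ _)
  have hcb := center_ne_bot hS
  by_cases c1 : ⁅ZJ S, (⊤ : Subgroup S)⁆ = ⊥
  swap
  · refine ⟨⁅ZJ S, (⊤ : Subgroup S)⁆ ⊓ center S, centralizer (ZJ S : Set S), ⟨?_, ?_, ?_, ?_, inf_le_right,
      le_rfl, char_subgroupOf_self, case_i c1⟩⟩
    · have : (⁅ZJ S, (⊤ : Subgroup S)⁆).Normal := by
        have := char_comm (S := S) char_ZJ char_top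
        infer_instance
      exact H65.PBasic.inf_center_ne_bot hS _ c1
    · intro h0
      exact hcb (by rw [eq_bot_iff, ← h0]; exact center_le_cent _)
    · exact char_inf (char_comm char_ZJ char_top) inferInstance
    · exact char_centralizer char_ZJ
  have c5 := h.resolve_left (fun h0 => h0 c1)
  obtain ⟨hZ, hCT⟩ := cent_ZJ_top c1
  by_cases c2 : Cfsg.IsElementaryAbelian p (center S)
  swap
  · refine ⟨Cfsg.powerClosure p 1 (center S), centralizer (ZJ S : Set S), ⟨?_, ?_, ?_, ?_, ?_,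
      le_rfl, char_subgroupOf_self, case_ii c2⟩⟩
    · intro h0
      apply c2
      refine ⟨⟨⟨?_⟩⟩, fun x hx => ?_⟩
      · rintro ⟨x, hx⟩ ⟨y, hy⟩
        exact Subtype.ext (mem_center_iff.mp hy x)
      · have h1 : x ^ p ∈ Cfsg.powerClosure p 1 (center S) :=
          subset_closure ⟨x, hx, by rw [pow_one]⟩
        rwa [h0, mem_bot] at h1
    · intro h0
      exact hcb (by rw [eq_bot_iff, ← h0]; exact center_le_cent _)
    · exact char_powerClosure inferInstance
    · exact char_centralizer char_ZJ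
    · unfold Cfsg.powerClosure
      rw [closure_le]
      rintro _ ⟨x, hx, rfl⟩
      exact pow_mem hx _
  obtain ⟨S₁, N, h1, h2, h3, h4, h5⟩ := core hZ (fun z hz => c2.2 z hz) c5
  by_cases hN : N = ⊥
  · refine ⟨S₁, ⊤, h1, top_ne_bot, h2, inferInstance, h3, hCT.ge,
      char_subgroupOf_of_eq_top hCT inferInstance, ?_⟩
    intro G _ _ j hj hE
    rcases h5 G j hj hE with h6 | ⟨-, h6, -⟩
    · exact Or.inl h6
    · exfalso
      rw [hN, Subgroup.map_bot, le_bot_iff] at h6
      have h7 : (center S).map j ≤ PSit.VS j.range := by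
        rw [map_center j hj]
        exact PSit.ZS_le_VS
      rw [h6, le_bot_iff, map_eq_bot_iff_of_injective _ hj] at h7
      exact hcb h7
  · refine ⟨S₁, N, h1, hN, h2, h4, h3, by rw [hCT]; exact le_top,
      char_subgroupOf_of_eq_top hCT h4, ?_⟩
    intro G _ _ j hj hE
    rcases h5 G j hj hE with h6 | ⟨h6, -, -⟩
    · exact Or.inl h6
    · exact Or.inr h6

omit [Finite S] in
theorem pushing_of [Nontrivial S] {G : Type u} [Group G] [Finite G] (τ : S →* G) (hτ : Function.Injective τ)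
    (h1 : ∃ P : Sylow p G, (P : Subgroup G) = τ.range)
    (h2 : Subgroup.centralizer (Cfsg.pCore p G : Set G) ≤ Cfsg.pCore p G)
    (h3 : ∃! M : Subgroup G, IsCoatom M ∧ τ.range ≤ M)
    (h4 : ∃ (K : Subgroup G) (_ : K.Normal) (F : Type) (_ : Field F) (_ : Fintype F) (n : ℕ), 1 ≤ n ∧
      Fintype.card F = p ^ n ∧ Nonempty (G ⧸ K ≃* Matrix.ProjectiveSpecialLinearGroup (Fin 2) F)) :
    Cfsg.IsPushingUpSituation p τ.range := by
  refine ⟨?_, h1, h2, h3, ?_⟩
  · intro h0
    obtain ⟨x, hx⟩ := exists_ne (1 : S)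
    apply hx
    apply hτ
    have h5 : τ x ∈ (⊤ : Subgroup G) := mem_top _
    rw [h0, mem_bot] at h5
    rw [h5, map_one]
  · obtain ⟨K, hK, F, i1, i2, n, -, h5, h6⟩ := h4
    exact ⟨K, hK, F, i1, i2, n, h5, h6⟩

end H53.GN
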