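import Cfsg.Agent.Lib.H53.GN14
import Cfsg.Agent.Lib.H53.GN15
import Cfsg.Agent.Lib.H52.PmOut

set_option autoImplicit false

universe u

namespace H53.GN

theorem core_final {S : Type u} [Group S] [Finite S] {p : ℕ} [hp : Fact p.Prime] (hS : IsPGroup p S) :
    CoreHyp p S := H52.PM.coreHyp hS

end H53.GN
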