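import Cfsg.Agent.Lib.H53.GR2
import Cfsg.Agent.Lib.H52.PuStr
import Cfsg.Agent.Lib.H52.PuPow

/-!
# The local data from rank one pushing up
-/

set_option autoImplicit false
set_option linter.unusedSectionVars false
set_option linter.unusedVariables false

open Cfsg Subgroup H28.Cj H28.RelSyl
open scoped commutatorElement MatrixGroups

namespace H53.GR

open H53.PU H52.PU

section

variable {G X : Type*} [Group G] [Group X] [Finite G] [Finite X]
  {F : Type*} [Field F] [Finite F] {S M : Subgroup G}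
  {π : G →* Matrix.ProjectiveSpecialLinearGroup (Fin 2) F}

omit [Finite G] in
theorem cent_normal_of {R Y O : Subgroup G} [hR : R.Normal] (hY : Y ≤ centralizer (R : Set G))
    (htop : ∀ N : Subgroup G, N.Normal → Y ⊔ O ≤ N → N = ⊤) [hO : O.Normal] {r : G} (hr : r ∈ R)
    (hrO : ∀ o ∈ O, r * o = o * r) : r ∈ center G := by
  have h1 : (centralizer (R : Set G)) ⊔ O = ⊤ := htop _ inferInstance (sup_le_sup_right hY O)
  rw [Subgroup.mem_center_iff]
  intro g
  have hg : g ∈ centralizer (R : Set G) ⊔ O := by rw [h1]; exact mem_top g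
  have h2 : centralizer (R : Set G) ⊔ O ≤ centralizer ({r} : Set G) := by
    apply sup_le
    · intro c hc
      rw [mem_centralizer_iff]
      intro r' hr'
      rw [Set.mem_singleton_iff] at hr'
      rw [hr']
      exact mem_centralizer_iff.1 hc r hr
    · intro o ho
      rw [mem_centralizer_iff]
      intro r' hr'
      rw [Set.mem_singleton_iff] at hr'
      rw [hr']
      exact hrO o ho
  exact (mem_centralizer_iff.1 (h2 hg) r rfl).symm

theorem mb_of_psit (h : PSit 2 S M π) (i : G →* X) (hi : Function.Injective i)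
    (push : ∀ T : Subgroup X, T ≤ S.map i → i.range ≤ normalizer (T : Set X) →
      normalizer (S.map i : Set X) ≤ normalizer (T : Set X) → T = ⊥) :
    Mb (Nat.card F) S (PSit.ZS S) (PSit.VS S) (center G) := by
  have hcharF : CharP F 2 := h.hcF
  obtain ⟨hZ, A, hA, hAQ⟩ := ff_of_push h i hi push
  obtain ⟨ρ, ψ, hff, hρ, hψ, key⟩ := h.exists_V hZ hA hAQ
  obtain ⟨hs, hpow, -⟩ := setup_of_psit h i hi push
  have hS := isSyl_of_psit h
  have hVm : Vf 2 i.range = (PSit.VS S).map i := Vf_range i hi hS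
  have hpw : ∀ x ∈ PSit.VS S, x * x = 1 := by
    intro x hx
    apply hi
    have h1 := V_pow hs hpow (i x) (by rw [hVm]; exact ⟨x, hx, rfl⟩)
    rw [map_mul, map_one, ← sq]; exact h1
  have hO : S ⊓ centralizer (PSit.VS S : Set G) = Cfsg.pCore 2 G := by
    rw [inf_comm]; exact h.C_inf_S hZ
  have hOn : (Cfsg.pCore 2 G).Normal := inferInstance
  have htop : ∀ Y : Subgroup G, Y ⊔ Cfsg.pCore 2 G = S → ∀ N : Subgroup G, N.Normal → Y ⊔ Cfsg.pCore 2 G ≤ N → N = ⊤ := by
    intro Y hY N hN hYN
    exact h.eq_top_of_le hN (hY ▸ hYN)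
  have hnQ : ∀ b ∈ S, b ∉ centralizer (PSit.VS S : Set G) → b ∉ Cfsg.pCore 2 G :=
    fun b _ hbC hbQ => hbC (h.pCore_le_C hbQ)
  refine ⟨h.VS_le_S, ?_, hpw, PSit.ZS_le_VS, ?_, ?_, ?_, ?_, ?_, ?_, ?_⟩
  · intro b _ x hx
    exact (inferInstance : (PSit.VS S).Normal).conj_mem x hx b
  · intro z hz b hb
    exact (mem_centralizer_iff.1 hz.2 b hb).symm
  · have h1 := Subgroup.relIndex_mul_relIndex ⊥ (PSit.ZS S) (PSit.VS S) bot_le PSit.ZS_le_VS
    rw [Subgroup.relIndex_bot_left, Subgroup.relIndex_bot_left, hff.relV] at h1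
    rw [← h1, mul_comm]
  · have h1 := Subgroup.relIndex_mul_relIndex ⊥ (Cfsg.pCore 2 G) S bot_le h.pCore_le_S
    rw [Subgroup.relIndex_bot_left, Subgroup.relIndex_bot_left, hff.relS] at h1
    rw [hO, ← h1, mul_comm]
  · intro b hb hbC x hx hxb
    rw [← hff.cent b hb (hnQ b hb hbC)]
    refine mem_inf.2 ⟨hx, ?_⟩
    rw [mem_centralizer_iff]
    rintro _ rfl
    exact hxb.symm
  · intro b hb hbC x hx hxb
    exact key b hb (hnQ b hb hbC) x hx hxb
  · intro Y hYS hY hc c hcO hcX
    rw [hO] at hY hc hcO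
    let R : Subgroup G := Subgroup.closure {g | ∃ c ∈ Cfsg.pCore 2 G, g = c * c}
    have hR : R.Normal := by
      constructor
      intro n hn g
      have h1 : R ≤ R.comap (MulAut.conj g).toMonoidHom := by
        rw [closure_le]
        rintro _ ⟨c, hc, rfl⟩
        apply Subgroup.subset_closure
        refine ⟨g * c * g⁻¹, hOn.conj_mem c hc g, ?_⟩
        show g * (c * c) * g⁻¹ = _
        group
      exact h1 hn
    have hYR : Y ≤ centralizer (R : Set G) := by
      rw [Subgroup.le_centralizer_iff]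
      rw [closure_le]
      rintro _ ⟨c, hc', rfl⟩
      rw [SetLike.mem_coe, mem_centralizer_iff]
      intro y hy
      exact (hc c hc' y hy).symm
    refine cent_normal_of hYR (htop Y hY) (Subgroup.subset_closure ⟨c, hcO, rfl⟩) ?_
    intro o ho
    exact (mem_centralizer_iff.1 (h.pCore_le_C ho) _ hcX)
  · intro Y hYS hY hc c hcO hcX
    rw [hO] at hY hc hcO
    have hYR : Y ≤ centralizer ((⁅Cfsg.pCore 2 G, Cfsg.pCore 2 G⁆ : Subgroup G) : Set G) := by
      intro y hy
      rw [mem_centralizer_iff]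
      intro c hc'
      exact hc c hc' y hy
    refine cent_normal_of hYR (htop Y hY) hcO ?_
    intro o ho
    exact (mem_centralizer_iff.1 (h.pCore_le_C ho) _ hcX)

/-- the normality of intermediate subgroups -/
theorem norm_of_le (h : PSit 2 S M π) {A : Subgroup G} (hA : A ⊔ Cfsg.pCore 2 G = S) (hSA : ⁅S, A⁆ ≤ PSit.VS S)
    {N : Subgroup G} (hVN : PSit.VS S ≤ N) (hNQ : N ≤ Cfsg.pCore 2 G) (hSN : S ≤ normalizer (N : Set G)) : N.Normal := by
  have hOn : (Cfsg.pCore 2 G).Normal := inferInstance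
  have hVn : (PSit.VS S).Normal := inferInstance
  -- the elements centralizing `N` modulo `VS`
  let C : Subgroup G :=
    { carrier := {g | ∀ q ∈ Cfsg.pCore 2 G, ⁅q, g⁆ ∈ PSit.VS S}
      one_mem' := fun q _ => by rw [commutatorElement_one_right]; exact one_mem _
      mul_mem' := by
        intro a b ha hb q hq
        have e : ⁅q, a * b⁆ = ⁅q, a⁆ * (a * ⁅q, b⁆ * a⁻¹) := by
          rw [commutatorElement_def, commutatorElement_def, commutatorElement_def]; group
        rw [e]
        exact mul_mem (ha q hq) (hVn.conj_mem _ (hb q hq) a)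
      inv_mem' := by
        intro a ha q hq
        have e : ⁅q, a⁻¹⁆ = a⁻¹ * (⁅q, a⁆)⁻¹ * a⁻¹⁻¹ := by
          rw [commutatorElement_def, commutatorElement_def]; group
        rw [e]
        exact hVn.conj_mem _ (inv_mem (ha q hq)) a⁻¹ }
  have hCn : C.Normal := by
    constructor
    intro n hn g q hq
    have h1 := hn (g⁻¹ * q * g) (by
      have := hOn.conj_mem q hq g⁻¹
      rwa [inv_inv] at this)
    have e : ⁅q, g * n * g⁻¹⁆ = g * ⁅g⁻¹ * q * g, n⁆ * g⁻¹ := by
      rw [commutatorElement_def, commutatorElement_def]; group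
    rw [e]
    exact hVn.conj_mem _ h1 g
  have hAC : A ≤ C := fun a ha q hq => hSA (commutator_mem_commutator (h.pCore_le_S hq) ha)
  have htop : C ⊔ Cfsg.pCore 2 G = ⊤ := h.eq_top_of_le inferInstance (hA.symm.le.trans (sup_le_sup_right hAC _))
  rw [← Subgroup.normalizer_eq_top_iff, eq_top_iff, ← htop]
  apply sup_le
  · intro c hc
    have key : ∀ c ∈ C, ∀ n ∈ N, c * n * c⁻¹ ∈ N := by
      intro c hc n hn
      have h1 := hc n (hNQ hn)
      have e : c * n * c⁻¹ = (⁅n, c⁆)⁻¹ * n := by rw [commutatorElement_def]; group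
      rw [e]
      exact mul_mem (inv_mem (hVN h1)) hn
    rw [mem_normalizer_iff]
    intro n
    constructor
    · exact key c hc n
    · intro h2
      have h3 := key c⁻¹ (inv_mem hc) _ h2
      have e : c⁻¹ * (c * n * c⁻¹) * c⁻¹⁻¹ = n := by group
      rwa [e] at h3
  · exact h.pCore_le_S.trans hSN

end

end H53.GR
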