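import Cfsg.Agent.Lib.H53.GR3

/-!
# Transport of the local data along injections; odd groups of automorphisms
-/

set_option autoImplicit false
set_option linter.unusedSectionVars false
set_option linter.unusedVariables false

namespace H53.GR

open Subgroup
open scoped commutatorElement

section

variable {P R : Type*} [Group P] [Group R] {q : ℕ} {B Z X ZX : Subgroup P} {f : P →* R}

theorem mem_map_inj (hf : Function.Injective f) {K : Subgroup P} {g : P} : f g ∈ K.map f ↔ g ∈ K :=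
  Subgroup.mem_map_iff_mem hf

theorem cen_inj (hf : Function.Injective f) {g : P} :
    f g ∈ centralizer ((X.map f : Subgroup R) : Set R) ↔ g ∈ centralizer (X : Set P) := by
  rw [mem_cen, mem_cen]
  constructor
  · intro h x hx
    apply hf
    rw [map_mul, map_mul]
    exact h _ ⟨x, hx, rfl⟩
  · rintro h _ ⟨x, hx, rfl⟩
    rw [← map_mul, h x hx, map_mul]

theorem O_inj (hf : Function.Injective f) : B.map f ⊓ centralizer ((X.map f : Subgroup R) : Set R) =
    (B ⊓ centralizer (X : Set P)).map f := by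
  ext g
  constructor
  · rintro ⟨⟨b, hb, rfl⟩, h⟩
    exact ⟨b, ⟨hb, (cen_inj hf).1 h⟩, rfl⟩
  · rintro ⟨b, ⟨hb, hc⟩, rfl⟩
    exact ⟨⟨b, hb, rfl⟩, (cen_inj hf).2 hc⟩

theorem Mb.mapInj (m : Mb q B Z X ZX) (hf : Function.Injective f) :
    Mb q (B.map f) (Z.map f) (X.map f) (ZX.map f) := by
  have hsup : ∀ Y ≤ B.map f, Y ⊔ (B.map f ⊓ centralizer ((X.map f : Subgroup R) : Set R)) = B.map f →
      (Y.comap f) ≤ B ∧ (Y.comap f) ⊔ (B ⊓ centralizer (X : Set P)) = B := by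
    intro Y hY h
    have h0 : (Y.comap f).map f = Y := by
      rw [Subgroup.map_comap_eq]
      exact inf_eq_right.2 (hY.trans (map_le_range f B))
    constructor
    · rw [← Subgroup.map_le_map_iff_of_injective hf, h0]; exact hY
    · apply Subgroup.map_injective hf
      show ((Y.comap f) ⊔ (B ⊓ centralizer (X : Set P))).map f = B.map f
      rw [Subgroup.map_sup, h0, ← O_inj hf, h]
  refine ⟨map_mono m.le, ?_, ?_, map_mono m.ZX, ?_, ?_, ?_, ?_, ?_, ?_, ?_⟩
  · rintro _ ⟨b, hb, rfl⟩ _ ⟨x, hx, rfl⟩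
    exact ⟨b * x * b⁻¹, m.nor b hb x hx, by rw [map_mul, map_mul, map_inv]⟩
  · rintro _ ⟨x, hx, rfl⟩
    rw [← map_mul, m.inv x hx, map_one]
  · rintro _ ⟨z, hz, rfl⟩ _ ⟨b, hb, rfl⟩
    rw [← map_mul, m.ZB z hz b hb, map_mul]
  · rw [card_map_of_injective hf, card_map_of_injective hf]; exact m.cX
  · rw [O_inj hf, card_map_of_injective hf, card_map_of_injective hf]; exact m.cO
  · rintro _ ⟨b, hb, rfl⟩ hbX _ ⟨x, hx, rfl⟩ h
    rw [cen_inj hf] at hbX
    rw [← map_mul, ← map_mul] at h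
    exact ⟨x, m.cen b hb hbX x hx (hf h), rfl⟩
  · rintro _ ⟨b, hb, rfl⟩ hbX _ ⟨x, hx, rfl⟩ h
    rw [cen_inj hf] at hbX
    rw [← map_commutatorElement, mem_map_inj hf] at h
    exact ⟨x, m.key b hb hbX x hx h, rfl⟩
  · intro Y hY hsupY hc c hcO hcX
    obtain ⟨h1, h2⟩ := hsup Y hY hsupY
    rw [O_inj hf] at hcO
    obtain ⟨c', hc', rfl⟩ := hcO
    rw [← map_mul, mem_map_inj hf] at hcX ⊢
    refine m.sq _ h1 h2 ?_ _ hc' hcX
    intro c'' hc'' y hy
    apply hf
    have h3 := hc (f c'') (by rw [O_inj hf]; exact ⟨c'', hc'', rfl⟩) (f y) hy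
    simp only [map_mul]
    exact h3
  · intro Y hY hsupY hc c hcO hcX
    obtain ⟨h1, h2⟩ := hsup Y hY hsupY
    rw [O_inj hf, ← Subgroup.map_commutator] at hcO
    obtain ⟨c', hc', rfl⟩ := hcO
    rw [mem_map_inj hf] at hcX ⊢
    refine m.cm _ h1 h2 ?_ _ hc' hcX
    intro c'' hc'' y hy
    apply hf
    have h3 := hc (f c'') (by rw [O_inj hf, ← Subgroup.map_commutator]; exact ⟨c'', hc'', rfl⟩) (f y) hy
    rw [map_mul, map_mul]
    exact h3

theorem Mb.ofMap {ZR : Subgroup R} (hf : Function.Injective f) (m : Mb q (B.map f) (Z.map f) (X.map f) ZR) :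
    Mb q B Z X (ZR.comap f) := by
  have hO := O_inj (B := B) (X := X) hf
  refine ⟨?_, ?_, ?_, ?_, ?_, ?_, ?_, ?_, ?_, ?_, ?_⟩
  · exact (Subgroup.map_le_map_iff_of_injective hf).1 m.le
  · intro b hb x hx
    rw [← mem_map_inj hf, map_mul, map_mul, map_inv]
    exact m.nor _ ⟨b, hb, rfl⟩ _ ⟨x, hx, rfl⟩
  · intro x hx
    apply hf
    rw [map_mul, map_one]
    exact m.inv _ ⟨x, hx, rfl⟩
  · exact (Subgroup.map_le_map_iff_of_injective hf).1 m.ZX
  · intro z hz b hb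
    apply hf
    rw [map_mul, map_mul]
    exact m.ZB _ ⟨z, hz, rfl⟩ _ ⟨b, hb, rfl⟩
  · have := m.cX
    rwa [card_map_of_injective hf, card_map_of_injective hf] at this
  · have := m.cO
    rwa [hO, card_map_of_injective hf, card_map_of_injective hf] at this
  · intro b hb hbX x hx h
    rw [← mem_map_inj hf]
    refine m.cen _ ⟨b, hb, rfl⟩ (fun h1 => hbX ((cen_inj hf).1 h1)) _ ⟨x, hx, rfl⟩ ?_
    rw [← map_mul, ← map_mul, h]
  · intro b hb hbX x hx h
    rw [← mem_map_inj hf]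
    refine m.key _ ⟨b, hb, rfl⟩ (fun h1 => hbX ((cen_inj hf).1 h1)) _ ⟨x, hx, rfl⟩ ?_
    rw [← map_commutatorElement]
    exact h
  · intro Y hY hsupY hc c hcO hcX
    have h1 := m.sq (Y.map f) (map_mono hY) (by rw [hO, ← Subgroup.map_sup, hsupY]) (by
      rw [hO]
      rintro _ ⟨c', hc', rfl⟩ _ ⟨y, hy, rfl⟩
      rw [← map_mul, ← map_mul, hc c' hc' y hy, map_mul]) (f c) (by rw [hO]; exact ⟨c, hcO, rfl⟩)
      ⟨c * c, hcX, map_mul f c c⟩
    rw [← map_mul] at h1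
    exact h1
  · intro Y hY hsupY hc c hcO hcX
    exact m.cm (Y.map f) (map_mono hY) (by rw [hO, ← Subgroup.map_sup, hsupY]) (by
      rw [hO, ← Subgroup.map_commutator]
      rintro _ ⟨c', hc', rfl⟩ _ ⟨y, hy, rfl⟩
      rw [← map_mul, hc c' hc' y hy, map_mul]) (f c) (by rw [hO, ← Subgroup.map_commutator]; exact ⟨c, hcO, rfl⟩)
      ⟨c, hcX, rfl⟩

/-- odd powers are inner -/
theorem exists_odd_pow {A : Subgroup (MulAut P)} (hA : Odd (Nat.card A)) {γ : MulAut P}
    (hγ : γ ∈ A ⊔ (MulAut.conj : P →* MulAut P).range) : ∃ (k : ℕ) (s : P), γ ^ (2 * k + 1) = MulAut.conj s := by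
  haveI hn : ((MulAut.conj : P →* MulAut P).range).Normal := by
    constructor
    rintro _ ⟨s, rfl⟩ φ
    refine ⟨φ s, ?_⟩
    ext x
    show φ s * x * (φ s)⁻¹ = φ (s * (φ⁻¹ x) * s⁻¹)
    rw [map_mul, map_mul, map_inv, MulAut.apply_inv_self]
  obtain ⟨k, hk⟩ := hA
  rw [Subgroup.mem_sup_of_normal_right] at hγ
  obtain ⟨a, ha, c, hc, rfl⟩ := hγ
  have h1 : QuotientGroup.mk' ((MulAut.conj : P →* MulAut P).range) (a * c) =
      QuotientGroup.mk' ((MulAut.conj : P →* MulAut P).range) a := by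
    rw [map_mul, (QuotientGroup.eq_one_iff c).2 hc |> fun h => (show QuotientGroup.mk' _ c = 1 from h), mul_one]
  have h2 : QuotientGroup.mk' ((MulAut.conj : P →* MulAut P).range) ((a * c) ^ (2 * k + 1)) = 1 := by
    rw [map_pow, h1, ← map_pow, ← hk]
    have h3 : (⟨a, ha⟩ : A) ^ Nat.card A = 1 := pow_card_eq_one'
    have h4 : a ^ Nat.card A = 1 := congrArg Subtype.val h3
    rw [h4, map_one]
  obtain ⟨s, hs⟩ := (QuotientGroup.eq_one_iff _).1 h2
  exact ⟨k, s, hs.symm⟩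

end

end H53.GR
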