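import Cfsg.Agent.Lib.H53.GR4
import Cfsg.Agent.Lib.H52.Foc6

/-!
# Baumann subgroups in irreducible groups: the rank one subgroup
-/

set_option autoImplicit false
set_option linter.unusedSectionVars false
set_option linter.unusedVariables false
set_option linter.style.haveILetI false

namespace H53.GR

open Subgroup Cfsg H14.MaxIn H52.Foc H52.Bau H52.CSS H51.OG

section

variable {G : Type*} [Group G] [Finite G] {p : ℕ} [hp : Fact p.Prime]

/-- the standing hypotheses hold -/
theorem exists_std {S : Sylow p G} (hirr : ∃! M : Subgroup G, IsCoatom M ∧ (S : Subgroup G) ≤ M)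
    (hcp : centralizer (pCore p G : Set G) ≤ pCore p G)
    (hno : ∀ K : Subgroup G, K ≠ ⊥ → Ch (S : Subgroup G) K → ¬ K.Normal) :
    ∃ M : Subgroup G, Std p S M (omegaOneCenter p (pCore p G)) := by
  obtain ⟨M, ⟨hM, hSM⟩, hu⟩ := hirr
  have huniq : ∀ N : Subgroup G, N ≠ ⊤ → (S : Subgroup G) ≤ N → N ≤ M := by
    intro N hN hTN
    obtain ⟨M₁, hM₁, hNM₁⟩ := (eq_top_or_exists_le_coatom N).resolve_left hN
    rw [← hu M₁ ⟨hM₁, hTN.trans hNM₁⟩]
    exact hNM₁
  have hSne : (S : Subgroup G) ≠ ⊥ := by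
    intro h0
    apply hM.1
    have h1 : pCore p G = ⊥ := by
      rw [eq_bot_iff, ← h0]; exact H1.Cores.pCore_le_sylow S
    rw [h1] at hcp
    rw [eq_top_iff]
    intro g _
    have h2 : g ∈ centralizer ((⊥ : Subgroup G) : Set G) := by
      rw [mem_centralizer_iff]
      intro x hx
      rw [Subgroup.mem_bot.1 hx, one_mul, mul_one]
    rw [Subgroup.mem_bot.1 (hcp h2)]
    exact one_mem _
  have hmin : IsPMinimal p G := by
    refine H51.PMinimal.isPMinimal_of_one S ⟨fun hn => ?_, M, ⟨hM, hSM⟩, hu⟩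
    exact hno S hSne ⟨le_rfl, fun φ x _ => (φ x).2⟩ hn
  have hloc : H52.CSS.Loc p S M := by
    refine ⟨hM, hSM, huniq, ?_, ?_⟩
    · apply huniq
      · intro htop
        refine hno (omegaOneCenter p (S : Subgroup G)) ?_ ?_ ?_
        · exact H52.FrakM.omegaOne_ne_bot (S.2.to_le inf_le_left) (H52.FrakM.inf_centralizer_ne_bot S.2 hSne)
        · exact ch_omega ⟨le_rfl, fun φ x _ => (φ x).2⟩
        · constructor
          intro n hn g
          have h1 : g ∈ centralizer (omegaOneCenter p (S : Subgroup G) : Set G) := by rw [htop]; trivial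
          have h2 := mem_centralizer_iff.1 h1 n hn
          rw [← h2, mul_inv_cancel_right]
          exact hn
      · have h1 : omegaOneCenter p (S : Subgroup G) ≤ centralizer ((S : Subgroup G) : Set G) :=
          fun x hx => (H52.CSS.mem_omegaOneCenter.1 hx).2.1
        exact (Subgroup.le_centralizer_iff).1 h1
    · apply huniq
      · intro htop
        refine hno (thompsonSubgroupOf p (S : Subgroup G)) ?_ (ch_of inferInstance) (normalizer_eq_top_iff.1 htop)
        intro h0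
        have h1 : p ∣ Nat.card ↥(S : Subgroup G) := by
          have hn : Nontrivial ↥(S : Subgroup G) := (nontrivial_iff_ne_bot _).2 hSne
          obtain ⟨n, hn0, hn⟩ := S.2.nontrivial_iff_card.1 hn
          rw [hn]; exact dvd_pow_self p (by omega)
        apply H13.Thompson.thompson_ne_bot (p := p) (G := ↥(S : Subgroup G)) h1
        exact (map_eq_bot_iff_of_injective _ (S : Subgroup G).subtype_injective).1 h0
      · exact le_normalizer.trans (H13.SylowN.normalizer_le_normalizer_thompsonOf _)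
  exact ⟨M, { hloc with mn := hmin, cp := hcp, eqV := rfl }⟩

/-- the rank one subgroup -/
theorem exists_H {S : Sylow p G} {M V : Subgroup G} (s : Std p S M V)
    (hno : ∀ K : Subgroup G, K ≠ ⊥ → Ch (S : Subgroup G) K → ¬ K.Normal) :
    ∃ L : Subgroup G, BB p (S : Subgroup G) ≤ L ∧ ¬ L ≤ M ∧ ∃ T₂ : Sylow p ↥L,
      (T₂ : Subgroup ↥L) = (BB p (S : Subgroup G)).subgroupOf L ∧
      centralizer (pCore p ↥L : Set ↥L) ≤ pCore p ↥L ∧
      (∃! M₂ : Subgroup ↥L, IsCoatom M₂ ∧ (T₂ : Subgroup ↥L) ≤ M₂) ∧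
      (∀ T : Subgroup ↥(T₂ : Subgroup ↥L), T ≠ ⊥ → T.Characteristic → ¬ (T.map (T₂ : Subgroup ↥L).subtype).Normal) ∧
      ∃ (F : Type) (_ : Field F) (_ : Fintype F) (n : ℕ) (K : Subgroup ↥L) (_ : K.Normal),
        1 ≤ n ∧ Fintype.card F = p ^ n ∧ Nonempty (↥L ⧸ K ≃* Matrix.ProjectiveSpecialLinearGroup (Fin 2) F) := by
  haveI := s.nor
  letI := H51.NAct.addV V (ab_of s.elV)
  letI := actH V (ab_of s.elV)
  have m := Std.mo s
  obtain ⟨X, hX, -⟩ := H52.Bau.exists_at s m
  obtain ⟨A₁, g₁, l₁⟩ := exists_lt s m hX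
  obtain ⟨g, l, hmin⟩ := l₁.exists_min
  obtain ⟨T₂, hT₂⟩ := exists_syl2 s m l
  exact ⟨L2 p (S : Subgroup G) A₁ g, B_le_L2, L2_not_le s m l, T₂, hT₂, cen2 s m l,
    by rw [hT₂]; exact uniq2 s m l hmin, no_ch2 s m l hno hT₂, exists_psl s m l⟩

end

end H53.GR
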