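import Cfsg.Agent.Lib.H53.GR5
import Cfsg.Agent.Lib.H39.PuAmb

/-!
# Odd automorphisms of Sylow 2-subgroups of irreducible groups
-/

set_option autoImplicit false
set_option linter.unusedSectionVars false
set_option linter.unusedVariables false
set_option linter.style.haveILetI false

namespace H53.GR

open Subgroup Cfsg H14.MaxIn H52.Foc H52.Bau H52.CSS H51.OG H53.PU
open scoped commutatorElement

section

variable {G : Type*} [Group G] [Finite G]

theorem ch_refl (S : Subgroup G) : Ch S S := ⟨le_rfl, fun φ x _ => (φ x).2⟩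

/-- central involutions of the Baumann subgroup -/
theorem mem_ZJ_of {S : Subgroup G} {z : G} (hz : z ∈ S) (hc : z ∈ centralizer (BB 2 S : Set G)) (h2 : z ^ 2 = 1) :
    z ∈ ZJ 2 S := by
  obtain ⟨A₀, hA₀⟩ := maxIn_nonempty true 2 S
  have hE : PrE true 2 (zpowers z) := by
    refine prE_true.2 ⟨inferInstance, ?_⟩
    rintro _ ⟨n, rfl⟩
    show (z ^ n) ^ 2 = 1
    rw [← zpow_natCast, ← zpow_mul, mul_comm, zpow_mul, zpow_natCast, h2, one_zpow]
  have hcom : ∀ A ∈ maxIn true 2 S, ∀ a ∈ A, a * z = z * a := fun A hA a ha =>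
    mem_centralizer_iff.1 hc a (max_le_BB hA ha)
  have h4 : z ∈ A₀ := by
    refine le_of_maxIn hA₀ (zpowers_le.2 hz) hE ?_ (mem_zpowers _)
    rintro a ha _ ⟨n, rfl⟩
    have h5 : Commute a z := hcom A₀ hA₀ a ha
    exact (h5.zpow_right n).eq
  refine mem_ZJ.2 ⟨le_Jt hA₀ h4, ?_, h2⟩
  have h5 : Jt 2 S ≤ centralizer ({z} : Set G) := by
    rw [Jt, H52.SFour.thompsonOf_eq]
    apply sSup_le
    intro A hA a ha
    rw [mem_centralizer_iff]
    rintro _ rfl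
    exact (hcom A hA a ha).symm
  rw [mem_centralizer_iff]
  intro y hy
  exact (mem_centralizer_iff.1 (h5 hy) _ rfl).symm

theorem main {S : Sylow 2 G} {M V : Subgroup G} (s : Std 2 S M V)
    (hno : ∀ K : Subgroup G, K ≠ ⊥ → Ch (S : Subgroup G) K → ¬ K.Normal)
    (A : Subgroup (MulAut ↥(S : Subgroup G))) (hA : Odd (Nat.card A)) :
    ∃ U : Subgroup G, U ≠ ⊥ ∧ U.Normal ∧ U ≤ (S : Subgroup G) ∧
      ∀ a ∈ A, ∀ x : ↥(S : Subgroup G), (x : G) ∈ U → ((a x : ↥(S : Subgroup G)) : G) ∈ U := by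
  haveI hp2 : Fact (Nat.Prime 2) := ⟨Nat.prime_two⟩
  obtain ⟨L, hBL, hLM, T₂, hT₂, hcen, huq, hnch, F, i1, i2, n, K, hK, hn, hF, ⟨hiso⟩⟩ := exists_H s hno
  obtain ⟨M₂, π, h, -, -⟩ := H53.PU.exists_psit' (p := 2) (T₂ : Subgroup ↥L) ⟨T₂, rfl⟩ hcen huq hF K hiso
  obtain ⟨i, hi, push⟩ := H39.PuAmb.ambient (T₂ : Subgroup ↥L) hnch
  obtain ⟨-, hcase⟩ := H52.PU.str h i hi push
  obtain ⟨A₂, hA₂, hSA⟩ : ∃ A₂ : Subgroup ↥L, A₂ ⊔ Cfsg.pCore 2 ↥L = (T₂ : Subgroup ↥L) ∧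
      ⁅(T₂ : Subgroup ↥L), A₂⁆ ≤ PSit.VS (T₂ : Subgroup ↥L) := by
    rcases hcase with ⟨-, -, -, -, h1⟩ | ⟨h1, -⟩
    · exact h1
    · norm_num at h1
  obtain ⟨hZn, -⟩ := H52.PU.ff_of_push h i hi push
  have hOQ : (T₂ : Subgroup ↥L) ⊓ centralizer (PSit.VS (T₂ : Subgroup ↥L) : Set ↥L) = Cfsg.pCore 2 ↥L := by
    rw [inf_comm]; exact h.C_inf_S hZn
  have m0 := mb_of_psit h i hi push
  -- names
  set B : Subgroup G := BB 2 (S : Subgroup G) with hB
  have hBS : B ≤ (S : Subgroup G) := B_le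
  have hTB : (T₂ : Subgroup ↥L).map L.subtype = B := by
    rw [hT₂, subgroupOf_map_subtype, inf_eq_left.2 hBL]
  obtain ⟨Z1, hZ1⟩ : ∃ Z1, Z1 = (PSit.ZS (T₂ : Subgroup ↥L)).map L.subtype := ⟨_, rfl⟩
  obtain ⟨X1, hX1⟩ : ∃ X1, X1 = (PSit.VS (T₂ : Subgroup ↥L)).map L.subtype := ⟨_, rfl⟩
  have m1 := m0.mapInj L.subtype_injective
  rw [hTB, ← hZ1, ← hX1] at m1
  have hX1B : X1 ≤ B := m1.le
  have hX1S : X1 ≤ (S : Subgroup G) := hX1B.trans hBS
  have hZ1S : Z1 ≤ (S : Subgroup G) := m1.ZX.trans hX1S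
  have hmapS : ∀ {K : Subgroup G}, K ≤ (S : Subgroup G) → (K.subgroupOf (S : Subgroup G)).map (S : Subgroup G).subtype = K := by
    intro K hK
    rw [subgroupOf_map_subtype, inf_eq_left.2 hK]
  rw [← hmapS hBS, ← hmapS hX1S, ← hmapS hZ1S] at m1
  have m2 := m1.ofMap (S : Subgroup G).subtype_injective
  -- characteristic subgroups
  have hZ1B : Z1 = B ⊓ centralizer (B : Set G) := by
    rw [hZ1]
    have h1 := O_inj (B := (T₂ : Subgroup ↥L)) (X := (T₂ : Subgroup ↥L)) L.subtype_injective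
    rw [hTB] at h1
    exact h1.symm
  have hchB : Ch (S : Subgroup G) B := ch_BB (p := 2) (S : Subgroup G)
  have hchZ : Ch (S : Subgroup G) Z1 := by
    rw [hZ1B]
    exact hchB.trans (ch_cent (ch_refl B))
  have hBφ : ∀ γ : MulAut ↥(S : Subgroup G), (B.subgroupOf (S : Subgroup G)).map γ.toMonoidHom = B.subgroupOf (S : Subgroup G) :=
    fun γ => characteristic_iff_map_eq.1 hchB.char γ
  have hZφ : ∀ γ : MulAut ↥(S : Subgroup G), (Z1.subgroupOf (S : Subgroup G)).map γ.toMonoidHom = Z1.subgroupOf (S : Subgroup G) :=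
    fun γ => characteristic_iff_map_eq.1 hchZ.char γ
  -- `X1` lies in an abelian normal subgroup
  have hYn := YJ_normal s
  have hX1Y : X1 ≤ V ⊔ ZJ 2 (S : Subgroup G) := by
    rw [hX1, map_le_iff_le_comap]
    apply normalClosure_le_normal
    intro z hz
    have h1 : (L.subtype z) ∈ Z1 := by rw [hZ1]; exact ⟨z, hz, rfl⟩
    have h2 : z * z = 1 := m0.inv z (m0.ZX hz)
    have h3 : (L.subtype z) ∈ B ⊓ centralizer (B : Set G) := by rw [← hZ1B]; exact h1
    refine mem_sup_right (mem_ZJ_of (hBS h3.1) h3.2 ?_)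
    rw [sq, ← map_mul, h2, map_one]
  set X := X1.subgroupOf (S : Subgroup G) with hX
  have hs : ∀ t : ↥(S : Subgroup G), X.map (MulAut.conj t).toMonoidHom ≤ centralizer (X : Set ↥(S : Subgroup G)) := by
    rintro t _ ⟨x, hx, rfl⟩
    rw [mem_centralizer_iff]
    intro y hy
    apply Subtype.ext
    have h1 : ((y : ↥(S : Subgroup G)) : G) ∈ V ⊔ ZJ 2 (S : Subgroup G) := hX1Y hy
    have h2 : ((t * x * t⁻¹ : ↥(S : Subgroup G)) : G) ∈ V ⊔ ZJ 2 (S : Subgroup G) := hYn.conj_mem _ (hX1Y hx) t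
    exact (YJ_el s).comm h1 h2
  -- the group generated by `A` and the inner automorphisms
  set Ah := A ⊔ (MulAut.conj : ↥(S : Subgroup G) →* MulAut ↥(S : Subgroup G)).range with hAh
  have hall : ∀ γ ∈ Ah, X.map γ.toMonoidHom ≤ centralizer (X : Set ↥(S : Subgroup G)) := by
    intro γ hγ
    obtain ⟨k, t, hk⟩ := exists_odd_pow hA hγ
    exact all_comm m2 (hBφ γ) (hZφ γ) hk (hs t)
  let N0 : Subgroup ↥(S : Subgroup G) := ⨆ γ ∈ Ah, X.map γ.toMonoidHom
  have hN0C : N0 ≤ centralizer (X : Set ↥(S : Subgroup G)) := iSup_le fun γ => iSup_le fun hγ => hall γ hγ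
  have hN0B : N0 ≤ B.subgroupOf (S : Subgroup G) := by
    refine iSup_le fun γ => iSup_le fun hγ => ?_
    rw [← hBφ γ]
    exact map_mono m2.le
  have hXN0 : X ≤ N0 := by
    have h1 : X.map (1 : MulAut ↥(S : Subgroup G)).toMonoidHom ≤ N0 :=
      le_iSup₂_of_le (1 : MulAut ↥(S : Subgroup G)) (one_mem Ah) le_rfl
    rwa [map_one'] at h1
  have hinv : ∀ γ ∈ Ah, N0.map γ.toMonoidHom ≤ N0 := by
    intro γ hγ
    rw [map_le_iff_le_comap]
    refine iSup_le fun δ => iSup_le fun hδ => ?_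
    rw [← map_le_iff_le_comap, map_mul']
    exact le_iSup₂_of_le (γ * δ) (mul_mem hγ hδ) le_rfl
  set N : Subgroup G := N0.map (S : Subgroup G).subtype with hN
  have hNB : N ≤ B := by
    rw [hN, map_le_iff_le_comap]; exact hN0B
  have hNS : N ≤ (S : Subgroup G) := hNB.trans hBS
  have hXN : X1 ≤ N := by
    rw [← hmapS hX1S]
    exact map_mono hXN0
  have hNbot : N ≠ ⊥ := by
    intro h1
    rw [h1, le_bot_iff, hX1, Subgroup.map_eq_bot_iff_of_injective _ L.subtype_injective] at hXN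
    apply H52.PU.ZS_ne_bot_of_psit h
    rw [eq_bot_iff, ← hXN]
    exact PSit.ZS_le_VS
  have hSN : (S : Subgroup G) ≤ normalizer (N : Set G) := by
    have key : ∀ g ∈ (S : Subgroup G), ∀ x ∈ N, g * x * g⁻¹ ∈ N := by
      rintro g hg _ ⟨x, hx, rfl⟩
      have h1 := hinv (MulAut.conj ⟨g, hg⟩) (mem_sup_right ⟨_, rfl⟩) ⟨x, hx, rfl⟩
      exact ⟨_, h1, rfl⟩
    intro g hg
    rw [mem_normalizer_iff]
    intro x
    refine ⟨key g hg x, fun hx => ?_⟩
    have h1 := key g⁻¹ (inv_mem hg) _ hx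
    have e : g⁻¹ * (g * x * g⁻¹) * g⁻¹⁻¹ = x := by group
    rwa [e] at h1
  -- normality in `L`
  have hNL : (N.subgroupOf L).Normal := by
    refine norm_of_le h hA₂ hSA ?_ ?_ ?_
    · intro x hx
      have h1 : (L.subtype x) ∈ X1 := by rw [hX1]; exact ⟨x, hx, rfl⟩
      exact hXN h1
    · intro x hx
      have hx' : (x : G) ∈ N := hx
      rw [← hOQ]
      refine mem_inf.2 ⟨?_, ?_⟩
      · rw [hT₂]; exact hNB hx'
      · rw [mem_centralizer_iff]
        intro y hy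
        apply Subtype.ext
        have h1 : (y : G) ∈ X1 := by rw [hX1]; exact ⟨y, hy, rfl⟩
        obtain ⟨x₀, hx₀, hxx⟩ := hx'
        have h2 := mem_centralizer_iff.1 (hN0C hx₀) ⟨y, hX1S h1⟩ h1
        have h3 := congrArg Subtype.val h2
        show (y : G) * x = x * y
        rw [← hxx]
        exact h3
    · intro t ht
      rw [hT₂] at ht
      have ht' : (t : G) ∈ normalizer (N : Set G) := hSN (hBS ht)
      rw [mem_normalizer_iff] at ht' ⊢
      intro x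
      exact ht' x
  have hLN : L ≤ normalizer (N : Set G) := by
    have key : ∀ g ∈ L, ∀ x ∈ N, g * x * g⁻¹ ∈ N := by
      intro g hg x hx
      exact hNL.conj_mem (⟨x, hBL (hNB hx)⟩ : ↥L) hx ⟨g, hg⟩
    intro g hg
    rw [mem_normalizer_iff]
    intro x
    refine ⟨key g hg x, fun hx => ?_⟩
    have h1 := key g⁻¹ (inv_mem hg) _ hx
    have e : g⁻¹ * (g * x * g⁻¹) * g⁻¹⁻¹ = x := by group
    rwa [e] at h1
  have hNn : N.Normal := by
    rw [← normalizer_eq_top_iff]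
    by_contra hne
    exact hLM (hLN.trans (s.uniq _ hne hSN))
  refine ⟨N, hNbot, hNn, hNS, ?_⟩
  rintro a ha x ⟨x₀, hx₀, hxx⟩
  have e : x₀ = x := Subtype.ext hxx
  subst e
  exact ⟨a x₀, hinv a (mem_sup_left ha) ⟨x₀, hx₀, rfl⟩, rfl⟩

end

end H53.GR
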