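import Cfsg.Agent.Lib.H52.Irr
import Cfsg.Agent.Lib.H52.Sub

set_option autoImplicit false
set_option linter.unusedSectionVars false
set_option linter.unusedVariables false

/-! Families of subgroups permuted transitively, each normal in the join. -/

namespace H53.Kfam

open Subgroup Cfsg H52.PCore H52.PRes H52.Syl H52.Sub H52.YL2 H52.Irr
open scoped commutatorElement

variable {G : Type*} [Group G] [Finite G] {p : ℕ} [Fact p.Prime]

theorem le_normalizer_top_of_cj {X : Subgroup G} (h : ∀ g : G, cj g X ≤ X) : (⊤ : Subgroup G) ≤ normalizer (X : Set G) :=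
  fun g _ => mem_normalizer_of_cj_le (h g)

theorem cj_resOf (g : G) (E : Subgroup G) : resOf p (cj g E) = cj g (resOf p E) := resOf_map _ E

/-- conjugation invariant transitive family, each member normalized by the join -/
structure Fam (p : ℕ) (𝒦 : Set (Subgroup G)) : Prop where
  ne : 𝒦.Nonempty
  inv : ∀ h : G, ∀ E ∈ 𝒦, cj h E ∈ 𝒦
  tr : ∀ E ∈ 𝒦, ∀ K ∈ 𝒦, ∃ h : G, K = cj h E
  res : resOf p ⊤ ≤ sSup 𝒦
  norm : ∀ E ∈ 𝒦, sSup 𝒦 ≤ normalizer (E : Set G)

namespace Fam

variable {𝒦 : Set (Subgroup G)} (h : Fam p 𝒦)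
include h

theorem le_join {E : Subgroup G} (hE : E ∈ 𝒦) : E ≤ sSup 𝒦 := le_sSup hE

theorem join_normal : (⊤ : Subgroup G) ≤ normalizer ((sSup 𝒦 : Subgroup G) : Set G) := by
  apply le_normalizer_top_of_cj
  intro g
  rw [cj_le_iff]
  apply sSup_le
  intro E hE
  rw [le_cj_iff, inv_inv]
  exact h.le_join (h.inv g E hE)

theorem subnormal {E : Subgroup G} (hE : E ∈ 𝒦) : E.IsSubnormal := by
  refine IsSubnormal.step E (sSup 𝒦) (h.le_join hE) ?_ ?_
  · exact (normal_iff_top_le_normalizer.2 h.join_normal).isSubnormal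
  · exact (normal_subOf_iff (h.le_join hE)).2 (h.norm E hE)

theorem sylIn {T E : Subgroup G} (hT : SylIn p T ⊤) (hE : E ∈ 𝒦) : SylIn p (T ⊓ E) E :=
  hT.inf_subnormal (h.subnormal hE)

theorem sup_res {T E : Subgroup G} (hT : SylIn p T ⊤) (hE : E ∈ 𝒦) : (T ⊓ E) ⊔ resOf p E = E :=
  (h.sylIn hT hE).sup_resOf_eq

theorem join_sup {T : Subgroup G} (hT : SylIn p T ⊤) : sSup 𝒦 ⊔ T = ⊤ := by
  rw [eq_top_iff]
  conv_lhs => rw [← hT.sup_resOf_eq]
  exact sup_le le_sup_right (h.res.trans le_sup_left)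

/-- transitivity of `T` -/
theorem tr_T {T : Subgroup G} (hT : SylIn p T ⊤) {E K : Subgroup G} (hE : E ∈ 𝒦) (hK : K ∈ 𝒦) :
    ∃ t ∈ T, K = cj t E := by
  obtain ⟨g, rfl⟩ := h.tr E hE K hK
  have hg : g ∈ T ⊔ sSup 𝒦 := by rw [sup_comm, h.join_sup hT]; exact mem_top g
  rw [mem_sup_iff_of_le_normalizer (le_top.trans h.join_normal)] at hg
  obtain ⟨t, ht, r, hr, rfl⟩ := hg
  refine ⟨t, ht, ?_⟩
  rw [← cj_cj, cj_eq_of_mem_normalizer (h.norm E hE hr)]

theorem res_norm {E : Subgroup G} (hE : E ∈ 𝒦) : sSup 𝒦 ≤ normalizer (resOf p E : Set G) :=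
  (h.norm E hE).trans (normalizer_le_normalizer_resOf E)

/-- `O^p(G)` is generated by the `O^p(E)` -/
theorem res_le {Λ : Subgroup G} (hΛn : (⊤ : Subgroup G) ≤ normalizer (Λ : Set G))
    (hΛ : ∀ E ∈ 𝒦, resOf p E ≤ Λ) : resOf p (⊤ : Subgroup G) ≤ Λ := by
  obtain ⟨T, hT⟩ := exists_sylIn (p := p) (⊤ : Subgroup G)
  have h1 : T ⊔ Λ = ⊤ := by
    rw [eq_top_iff, ← h.join_sup hT]
    refine sup_le (sSup_le ?_) le_sup_left
    intro E hE
    conv_lhs => rw [← h.sup_res hT hE]
    exact sup_le (inf_le_left.trans le_sup_left) ((hΛ E hE).trans le_sup_right)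
  apply resOf_le_of_pMod
  rw [← h1]
  exact pMod_of_sup hT.isPGroup (le_top.trans hΛn)

/-- a normal subgroup containing one `O^p(E)` contains `O^p(G)` -/
theorem res_le_of_one {Λ E : Subgroup G} (hE : E ∈ 𝒦) (hΛn : (⊤ : Subgroup G) ≤ normalizer (Λ : Set G))
    (hΛ : resOf p E ≤ Λ) : resOf p (⊤ : Subgroup G) ≤ Λ := by
  apply h.res_le hΛn
  intro F hF
  obtain ⟨g, rfl⟩ := h.tr E hE F hF
  rw [cj_resOf]
  exact (cj_mono hΛ).trans (cj_eq_of_mem_normalizer (hΛn (mem_top g))).le

/-- comparing `O^p(E)` and `O^p(F)` -/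
theorem res_eq_of_le {E F : Subgroup G} (hE : E ∈ 𝒦) (hF : F ∈ 𝒦) (hle : resOf p E ≤ F) :
    resOf p E = resOf p F := by
  have h1 : resOf p E ≤ resOf p F := by
    rw [← resOf_resOf E]; exact resOf_mono hle
  apply eq_of_le_of_card_ge h1
  obtain ⟨g, rfl⟩ := h.tr E hE F hF
  rw [cj_resOf, card_cj]

theorem pCoreOf_eq_bot (h0 : pCore p G = ⊥) {E : Subgroup G} (hE : E ∈ 𝒦) : pCoreOf p E = ⊥ := by
  rw [eq_bot_iff, ← h0]
  exact pCoreOf_le_pCore_of_subnormal (h.subnormal hE)

end Fam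

section strongly

variable {𝒦 : Set (Subgroup G)}

theorem comm_swap {A B : Subgroup G} : ⁅A, B⁆ = ⊥ ↔ A ≤ centralizer (B : Set G) :=
  commutator_eq_bot_iff_le_centralizer

theorem three {A B C : Subgroup G} (h1 : ⁅⁅A, B⁆, C⁆ = ⊥) (h2 : ⁅⁅B, C⁆, A⁆ = ⊥) : ⁅⁅C, A⁆, B⁆ = ⊥ :=
  commutator_commutator_eq_bot_of_rotate h1 h2

/-- the strongly irreducible case with `O_p(G) = 1` -/
theorem strongly (h : Fam p 𝒦) (h0 : pCore p G = ⊥)
    (hSI : ∀ E ∈ 𝒦, ∀ X : Subgroup G, X ≤ E → E ≤ normalizer (X : Set G) → ⁅X, E⁆ ≠ ⊥ → resOf p E ≤ X)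
    (hNP : ∀ E ∈ 𝒦, ∃ Q : Subgroup G, Q ≤ E ∧ IsPGroup p Q ∧ Q ≠ ⊥) :
    IsPIrreducible p G ∧ ∀ E ∈ 𝒦, ∀ K ∈ 𝒦, resOf p E = resOf p K ∨ ⁅E, K⁆ = ⊥ := by
  obtain ⟨T, hT⟩ := exists_sylIn (p := p) (⊤ : Subgroup G)
  -- `T ∩ E` is not normal in `E`
  have hTE : ∀ E ∈ 𝒦, ¬ E ≤ normalizer ((T ⊓ E : Subgroup G) : Set G) := by
    intro E hE hn
    obtain ⟨Q, hQE, hQp, hQ1⟩ := hNP E hE
    apply hQ1
    rw [eq_bot_iff, ← h.pCoreOf_eq_bot h0 hE]
    obtain ⟨x, hx, hQx⟩ := (h.sylIn hT hE).exists_conj_le hQE hQp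
    rw [cj_eq_of_mem_normalizer (hn hx)] at hQx
    exact hQx.trans (le_pCoreOf inf_le_right hn (h.sylIn hT hE).isPGroup)
  -- `K_E ≤ [K_E, E]`
  have hKE : ∀ E ∈ 𝒦, resOf p E ≤ ⁅resOf p E, E⁆ := by
    intro E hE
    obtain ⟨X, hX⟩ : ∃ X : Subgroup G, X = ⁅resOf p E, T ⊓ E⁆ := ⟨_, rfl⟩
    have hTn : T ⊓ E ≤ normalizer (resOf p E : Set G) := inf_le_right.trans (le_normalizer_resOf E)
    have hXK : X ≤ resOf p E := by rw [hX]; exact le_normalizer_iff_commutator_le_left.1 hTn
    have hXE : X ≤ E := hXK.trans (resOf_le E)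
    have hEX : E ≤ normalizer (X : Set G) := by
      conv_lhs => rw [← h.sup_res hT hE]
      rw [hX]
      exact sup_le (normalizer_commutator_ge_right _ _) (normalizer_commutator_ge_left _ _)
    by_cases hc : ⁅X, E⁆ = ⊥
    · exfalso
      -- `(T ∩ E) X` is normal in `E`
      apply hTE E hE
      obtain ⟨N, hN⟩ : ∃ N : Subgroup G, N = (T ⊓ E) ⊔ X := ⟨_, rfl⟩
      have hNE : N ≤ E := by rw [hN]; exact sup_le inf_le_right hXE
      have hEN : E ≤ normalizer (N : Set G) := by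
        conv_lhs => rw [← h.sup_res hT hE]
        apply sup_le
        · intro x hx
          rw [hN]
          exact normalizer_sup_le (mem_inf.2 ⟨le_normalizer hx, hEX hx.2⟩)
        · rw [le_normalizer_iff_commutator_le_right, hN]
          refine le_trans ?_ (le_sup_right : X ≤ (T ⊓ E) ⊔ X)
          have e1 : T ⊓ E ≤ normalizer (X : Set G) := inf_le_right.trans hEX
          rw [← le_cmod_iff (sup_le e1 le_normalizer)]
          apply sup_le
          · rw [le_cmod_iff e1, hX]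
          · rw [le_cmod_iff le_normalizer]
            exact le_normalizer_iff_commutator_le_right.1 ((resOf_le E).trans hEX)
      have hTN : SylIn p (T ⊓ E) N := (h.sylIn hT hE).of_le (by rw [hN]; exact le_sup_left) hNE
      have hNT : N ≤ normalizer ((T ⊓ E : Subgroup G) : Set G) := by
        rw [hN]
        apply sup_le le_normalizer
        refine le_trans ?_ (H52.Syl.centralizer_le_normalizer _)
        rw [comm_swap] at hc
        exact hc.trans (centralizer_le inf_le_right)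
      -- Frattini
      intro x hx
      obtain ⟨k, hk, n, hn, rfl⟩ := hTN.frattini hNE hEN hx
      exact mul_mem (hNT hk) hn.2
    · refine (hSI E hE X hXE hEX hc).trans ?_
      rw [hX]; exact commutator_mono le_rfl inf_le_right
  have hKne : ∀ E ∈ 𝒦, ¬ ⁅resOf p E, E⁆ = ⊥ := by
    intro E hE hc
    have h1 := hKE E hE
    rw [hc, le_bot_iff] at h1
    apply hTE E hE
    conv_lhs => rw [← h.sup_res hT hE, h1, sup_bot_eq]
    exact le_normalizer
  -- dichotomy
  have hdic : ∀ E ∈ 𝒦, ∀ K ∈ 𝒦, resOf p E = resOf p K ∨ ⁅E, K⁆ = ⊥ := by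
    intro E hE F hF
    obtain ⟨X, hX⟩ : ∃ X : Subgroup G, X = E ⊓ F := ⟨_, rfl⟩
    have hXE : X ≤ E := hX ▸ inf_le_left
    have hXF : X ≤ F := hX ▸ inf_le_right
    have hEF : E ≤ normalizer (F : Set G) := (h.le_join hE).trans (h.norm F hF)
    have hFE : F ≤ normalizer (E : Set G) := (h.le_join hF).trans (h.norm E hE)
    have hEX : E ≤ normalizer (X : Set G) := by
      rw [hX]; exact fun x hx => normalizer_inf_le (mem_inf.2 ⟨le_normalizer hx, hEF hx⟩)
    have hFX : F ≤ normalizer (X : Set G) := by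
      rw [hX]; exact fun x hx => normalizer_inf_le (mem_inf.2 ⟨hFE hx, le_normalizer hx⟩)
    by_cases hc1 : ⁅X, E⁆ = ⊥
    · by_cases hc2 : ⁅X, F⁆ = ⊥
      · right
        have hcX : ⁅E, F⁆ ≤ X := by
          rw [hX]
          exact le_inf (le_normalizer_iff_commutator_le_left.1 hFE) (le_normalizer_iff_commutator_le_right.1 hEF)
        have k1 : ⁅⁅E, F⁆, E⁆ = ⊥ := by
          rw [eq_bot_iff, ← hc1]; exact commutator_mono hcX le_rfl
        have k2 : ⁅⁅F, E⁆, E⁆ = ⊥ := by rw [commutator_comm F E]; exact k1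
        have k3 : ⁅⁅E, E⁆, F⁆ = ⊥ := three k1 k2
        have k1' : ⁅⁅F, E⁆, F⁆ = ⊥ := by
          rw [eq_bot_iff, ← hc2, commutator_comm F E]; exact commutator_mono hcX le_rfl
        have k2' : ⁅⁅E, F⁆, F⁆ = ⊥ := by rw [commutator_comm E F]; exact k1'
        have k3' : ⁅⁅F, F⁆, E⁆ = ⊥ := three k1' k2'
        have hKEF : resOf p E ≤ centralizer (F : Set G) := by
          rw [comm_swap] at k3
          exact ((hKE E hE).trans (commutator_mono (resOf_le E) le_rfl)).trans k3
        have hKFE : resOf p F ≤ centralizer (E : Set G) := by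
          rw [comm_swap] at k3'
          exact ((hKE F hF).trans (commutator_mono (resOf_le F) le_rfl)).trans k3'
        -- `[E, F] ≤ T`
        have hle : ⁅E, F⁆ ≤ T := by
          rw [commutator_le]
          intro e he f hf
          have he' := he
          rw [← h.sup_res hT hE, mem_sup_iff_of_le_normalizer
            (inf_le_right.trans (le_normalizer_resOf E))] at he'
          obtain ⟨t, ht, k, hk, rfl⟩ := he'
          have hf' := hf
          rw [← h.sup_res hT hF, mem_sup_iff_of_le_normalizer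
            (inf_le_right.trans (le_normalizer_resOf F))] at hf'
          obtain ⟨s, hs, k', hk', rfl⟩ := hf'
          have e1 : s * k' * k = k * (s * k') := mem_centralizer_iff.1 (hKEF hk) _ hf
          have e2 : t * k' = k' * t := mem_centralizer_iff.1 (hKFE hk') _ ht.2
          have e3 : ⁅t * k, s * k'⁆ = t * s * t⁻¹ * s⁻¹ := by
            simp only [commutatorElement_def, mul_inv_rev]
            calc t * k * (s * k') * (k⁻¹ * t⁻¹) * (k'⁻¹ * s⁻¹)
                = t * (k * (s * k')) * k⁻¹ * t⁻¹ * k'⁻¹ * s⁻¹ := by group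
              _ = t * (s * k' * k) * k⁻¹ * t⁻¹ * k'⁻¹ * s⁻¹ := by rw [e1]
              _ = t * s * k' * (t⁻¹ * k'⁻¹) * s⁻¹ := by group
              _ = t * s * k' * (k'⁻¹ * t⁻¹) * s⁻¹ := by rw [← mul_inv_rev, ← mul_inv_rev, e2]
              _ = t * s * t⁻¹ * s⁻¹ := by group
          rw [e3]
          exact mul_mem (mul_mem (mul_mem ht.1 hs.1) (inv_mem ht.1)) (inv_mem hs.1)
        rw [eq_bot_iff, ← h.pCoreOf_eq_bot h0 hE]
        apply le_pCoreOf (hcX.trans hXE) _ (hT.isPGroup.to_le hle)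
        exact normalizer_commutator_ge_left _ _
      · left
        exact (h.res_eq_of_le hF hE ((hSI F hF X hXF hFX hc2).trans hXE)).symm
    · left
      exact h.res_eq_of_le hE hF ((hSI E hE X hXE hEX hc1).trans hXF)
  refine ⟨⟨?_, ?_⟩, hdic⟩
  · rw [isPClosed_iff_group, h0]
    intro hc
    obtain ⟨E, hE⟩ := h.ne
    obtain ⟨Q, hQE, hQp, hQ1⟩ := hNP E hE
    exact hQ1 (le_bot_iff.1 (hc Q hQp))
  · intro N hN hc
    rw [← resOf_top]
    by_contra hres
    apply hc
    have hNn : (⊤ : Subgroup G) ≤ normalizer (N : Set G) := normal_iff_top_le_normalizer.1 hN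
    have hresE : ∀ E ∈ 𝒦, ¬ resOf p E ≤ N := fun E hE h1 => hres (h.res_le_of_one hE hNn h1)
    have hNE : ∀ E ∈ 𝒦, ⁅N ⊓ E, E⁆ = ⊥ := by
      intro E hE
      by_contra h1
      apply hresE E hE
      refine (hSI E hE (N ⊓ E) inf_le_right ?_ h1).trans inf_le_left
      intro x hx
      exact normalizer_inf_le (mem_inf.2 ⟨hNn (mem_top x), le_normalizer hx⟩)
    obtain ⟨N₁, hN₁⟩ : ∃ N₁ : Subgroup G, N₁ = N ⊓ sSup 𝒦 := ⟨_, rfl⟩
    have hN₁C : ∀ E ∈ 𝒦, ⁅N₁, resOf p E⁆ = ⊥ := by
      intro E hE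
      have k0 : ⁅N₁, E⁆ ≤ N ⊓ E := by
        rw [hN₁]
        apply le_inf
        · exact (commutator_mono inf_le_left le_rfl).trans
            (le_normalizer_iff_commutator_le_left.1 (le_top.trans hNn))
        · exact le_normalizer_iff_commutator_le_right.1 (inf_le_right.trans (h.norm E hE))
      have k1 : ⁅⁅N₁, E⁆, E⁆ = ⊥ := by
        rw [eq_bot_iff, ← hNE E hE]; exact commutator_mono k0 le_rfl
      have k2 : ⁅⁅E, N₁⁆, E⁆ = ⊥ := by rw [commutator_comm E N₁]; exact k1
      have k3 : ⁅⁅E, E⁆, N₁⁆ = ⊥ := three k2 k1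
      rw [commutator_comm] at k3
      rw [eq_bot_iff, ← k3]
      exact commutator_mono le_rfl ((hKE E hE).trans (commutator_mono (resOf_le E) le_rfl))
    have hNK : ∀ E ∈ 𝒦, ⁅N, resOf p E⁆ = ⊥ := by
      intro E hE
      -- `[N, E] ≤ N₁`
      have k0 : ⁅N, E⁆ ≤ N₁ := by
        rw [hN₁]
        apply le_inf
        · exact le_normalizer_iff_commutator_le_left.1 (le_top.trans hNn)
        · exact (commutator_mono le_top (h.le_join hE)).trans
            (le_normalizer_iff_commutator_le_right.1 h.join_normal)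
      -- `N` normalizes `K_E`
      have hNn' : N ≤ normalizer (resOf p E : Set G) := by
        intro x hx
        apply mem_normalizer_of_cj_eq
        rw [← cj_resOf]
        rcases hdic E hE _ (h.inv x E hE) with h1 | h1
        · exact h1.symm
        · exfalso
          apply hKne E hE
          rw [commutator_comm, comm_swap]
          intro e he
          have e1 : ⁅x, e⁆ ∈ N₁ := k0 (commutator_mem_commutator hx he)
          have e2 : ⁅x, e⁆ ∈ centralizer (resOf p E : Set G) := comm_swap.1 (hN₁C E hE) e1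
          have e3 : x * e * x⁻¹ ∈ centralizer (resOf p E : Set G) := by
            rw [commutator_comm, comm_swap] at h1
            exact centralizer_le (resOf_le E) (h1 (conj_mem_cj he))
          have e4 : e = ⁅x, e⁆⁻¹ * (x * e * x⁻¹) := by simp only [commutatorElement_def]; group
          rw [e4]; exact mul_mem (inv_mem e2) e3
      have k1 : ⁅⁅resOf p E, N⁆, E⁆ = ⊥ := by
        rw [eq_bot_iff, ← hNE E hE]
        apply commutator_mono _ le_rfl
        apply le_inf
        · exact le_normalizer_iff_commutator_le_right.1 (le_top.trans hNn)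
        · exact (le_normalizer_iff_commutator_le_left.1 hNn').trans (resOf_le E)
      have k2 : ⁅⁅N, E⁆, resOf p E⁆ = ⊥ := by
        rw [eq_bot_iff, ← hN₁C E hE]; exact commutator_mono k0 le_rfl
      have k3 : ⁅⁅E, resOf p E⁆, N⁆ = ⊥ := three k1 k2
      rw [commutator_comm] at k3
      rw [eq_bot_iff, ← k3]
      apply commutator_mono le_rfl
      rw [commutator_comm E]; exact hKE E hE
    -- `N` centralizes `O^p(G)`
    have hNC : resOf p (⊤ : Subgroup G) ≤ centralizer (N : Set G) := by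
      apply h.res_le (hNn.trans (normalizer_le_normalizer_centralizer N))
      intro E hE
      have := hNK E hE
      rwa [commutator_comm, comm_swap] at this
    rw [isPClosed_iff_sylow hN.isSubnormal hT, h0, le_bot_iff, eq_bot_iff]
    have hS := hT.inf_subnormal hN.isSubnormal
    have h1 : N ≤ normalizer ((T ⊓ N : Subgroup G) : Set G) := by
      conv_lhs => rw [← hS.sup_resOf_eq]
      apply sup_le le_normalizer
      refine ((resOf_mono le_top).trans hNC).trans ?_
      have h5 : centralizer (N : Set G) ≤ centralizer ((T ⊓ N : Subgroup G) : Set G) :=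
        centralizer_le (fun x hx => hx.2)
      exact h5.trans (H52.Syl.centralizer_le_normalizer _)
    rw [← h0]
    exact (le_pCoreOf inf_le_right h1 hS.isPGroup).trans (pCoreOf_le_pCore_of_subnormal hN.isSubnormal)

end strongly

end H53.Kfam
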