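import Cfsg.Agent.Lib.H53.Kfam
import Mathlib

set_option autoImplicit false
set_option linter.unusedSectionVars false
set_option linter.unusedVariables false

/-! Families of subgroups: the `p`-minimal case. -/

namespace H53.Kfam

open Subgroup Cfsg H52.PCore H52.PRes H52.Syl H52.Sub H52.YL2 H52.Irr
open scoped commutatorElement

variable {G : Type*} [Group G] [Finite G] {p : ℕ} [Fact p.Prime]

/-- Dedekind, the normalizing subgroup on the left -/
theorem dedekind {A B C : Subgroup G} (hAB : A ≤ normalizer (B : Set G)) (hBC : B ≤ C) :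
    (A ⊔ B) ⊓ C = (A ⊓ C) ⊔ B := by
  apply le_antisymm
  · rintro x ⟨hx, hxC⟩
    have hx' : x ∈ A ⊔ B := hx
    rw [mem_sup_iff_of_le_normalizer hAB] at hx'
    obtain ⟨a, ha, b, hb, rfl⟩ := hx'
    have haC : a ∈ C := by
      have := C.mul_mem hxC (C.inv_mem (hBC hb))
      simpa using this
    exact mul_mem (mem_sup_left ⟨ha, haC⟩) (mem_sup_right hb)
  · exact sup_le (le_inf (inf_le_left.trans le_sup_left) inf_le_right) (le_inf le_sup_right hBC)

/-- Dedekind, the big subgroup contains the normalizing subgroup -/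
theorem dedekind' {A B C : Subgroup G} (hAB : A ≤ normalizer (B : Set G)) (hAC : A ≤ C) :
    (A ⊔ B) ⊓ C = A ⊔ (B ⊓ C) := by
  apply le_antisymm
  · rintro x ⟨hx, hxC⟩
    have hx' : x ∈ A ⊔ B := hx
    rw [mem_sup_iff_of_le_normalizer hAB] at hx'
    obtain ⟨a, ha, b, hb, rfl⟩ := hx'
    have hbC : b ∈ C := by
      have := C.mul_mem (C.inv_mem (hAC ha)) hxC
      simpa [mul_assoc] using this
    exact mul_mem (mem_sup_left ha) (mem_sup_right ⟨hb, hbC⟩)
  · exact sup_le (le_inf le_sup_left hAC) (le_inf (inf_le_left.trans le_sup_right) inf_le_right)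

section minimal

variable {𝒦 : Set (Subgroup G)}

/-- the minimal case, all `M_E` core-free -/
theorem coreFree (h : Fam p 𝒦) {T : Subgroup G} (hT : SylIn p T ⊤)
    (K4 : ∀ E ∈ 𝒦, ∃ M : Subgroup G, M < E ∧ ∀ X : Subgroup G, T ⊓ E ≤ X → X < E → X ≤ M)
    (K5 : ∀ E ∈ 𝒦, ∀ X : Subgroup G, X ≤ E → E ≤ normalizer (X : Set G) → X = ⊥ ∨ resOf p E ≤ X)
    (K6 : ∀ E ∈ 𝒦, ¬ E ≤ normalizer ((T ⊓ E : Subgroup G) : Set G))
    {M₁ M₂ : Subgroup G} (hM₁ : T ≤ M₁) (hM₂ : T ≤ M₂) (h1 : M₁ ≠ ⊤) (h2 : M₂ ≠ ⊤) : M₁ ⊔ M₂ ≠ ⊤ := by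
  -- (a)
  have hdic : ∀ E ∈ 𝒦, ∀ F ∈ 𝒦, resOf p E = resOf p F ∨ ⁅E, resOf p F⁆ = ⊥ := by
    intro E hE F hF
    obtain ⟨X, hX⟩ : ∃ X : Subgroup G, X = E ⊓ resOf p F := ⟨_, rfl⟩
    have hXF : X ≤ F := by rw [hX]; exact inf_le_right.trans (resOf_le F)
    have hn : F ≤ normalizer (X : Set G) := by
      rw [hX]
      exact (le_inf ((h.le_join hF).trans (h.norm E hE)) (le_normalizer_resOf F)).trans normalizer_inf_le
    rcases K5 F hF X hXF hn with h3 | h3
    · right
      rw [eq_bot_iff, ← h3, hX]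
      apply le_inf
      · exact le_normalizer_iff_commutator_le_left.1 (((resOf_le F).trans (h.le_join hF)).trans (h.norm E hE))
      · exact le_normalizer_iff_commutator_le_right.1 ((h.le_join hE).trans (h.res_norm hF))
    · left
      exact (h.res_eq_of_le hF hE (h3.trans (by rw [hX]; exact inf_le_left))).symm
  have hKC : ∀ E ∈ 𝒦, ¬ resOf p E ≤ centralizer ((T ⊓ E : Subgroup G) : Set G) := by
    intro E hE hc
    apply K6 E hE
    conv_lhs => rw [← h.sup_res hT hE]
    exact sup_le le_normalizer (hc.trans (H52.Syl.centralizer_le_normalizer _))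
  obtain ⟨L, hL⟩ : ∃ L : Subgroup G, L = resOf p (⊤ : Subgroup G) := ⟨_, rfl⟩
  have hLn : (⊤ : Subgroup G) ≤ normalizer (L : Set G) := by rw [hL]; exact le_normalizer_resOf ⊤
  have hTL : T ⊔ L = ⊤ := by rw [hL]; exact hT.sup_resOf_eq
  have hLR : L ≤ sSup 𝒦 := by rw [hL]; exact h.res
  have hKL : ∀ E ∈ 𝒦, resOf p E ≤ L := by
    intro E hE; rw [hL]; exact resOf_mono le_top
  -- `D_E`
  obtain ⟨D, hD⟩ : ∃ D : Subgroup G → Subgroup G, D = fun E => sSup {X | ∃ F ∈ 𝒦, resOf p F ≠ resOf p E ∧ X = resOf p F} :=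
    ⟨_, rfl⟩
  have hDC : ∀ E ∈ 𝒦, D E ≤ centralizer (E : Set G) := by
    intro E hE
    rw [hD]
    apply sSup_le
    rintro X ⟨F, hF, hne, rfl⟩
    rcases hdic E hE F hF with h3 | h3
    · exact absurd h3.symm hne
    · rwa [commutator_comm, comm_swap] at h3
  have hLD : ∀ E ∈ 𝒦, L ≤ resOf p E ⊔ D E := by
    intro E hE
    obtain ⟨Λ, hΛ⟩ : ∃ Λ : Subgroup G, Λ = sSup {X | ∃ F ∈ 𝒦, X = resOf p F} := ⟨_, rfl⟩
    have h3 : L ≤ Λ := by
      rw [hL]
      apply h.res_le
      · apply le_normalizer_top_of_cj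
        intro g
        rw [cj_le_iff, hΛ]
        apply sSup_le
        rintro X ⟨F, hF, rfl⟩
        rw [le_cj_iff, inv_inv, ← cj_resOf]
        exact le_sSup ⟨_, h.inv g F hF, rfl⟩
      · intro F hF
        rw [hΛ]; exact le_sSup ⟨F, hF, rfl⟩
    refine h3.trans ?_
    rw [hΛ]
    apply sSup_le
    rintro X ⟨F, hF, rfl⟩
    by_cases hFE : resOf p F = resOf p E
    · rw [hFE]; exact le_sup_left
    · refine le_trans ?_ le_sup_right
      rw [hD]; exact le_sSup ⟨F, hF, hFE, rfl⟩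
  have hKD : ∀ E ∈ 𝒦, resOf p E ⊓ D E = ⊥ := by
    intro E hE
    have hn : E ≤ normalizer ((resOf p E ⊓ D E : Subgroup G) : Set G) := by
      refine (le_inf (le_normalizer_resOf E) ?_).trans normalizer_inf_le
      have h3 : E ≤ centralizer (D E : Set G) := le_centralizer_iff.1 (hDC E hE)
      exact h3.trans (H52.Syl.centralizer_le_normalizer _)
    rcases K5 E hE _ (inf_le_left.trans (resOf_le E)) hn with h3 | h3
    · exact h3
    · exfalso
      apply hKC E hE
      have h4 : resOf p E ≤ centralizer (E : Set G) := (h3.trans inf_le_right).trans (hDC E hE)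
      exact h4.trans (centralizer_le (fun x hx => hx.2))
  have hDE : ∀ E ∈ 𝒦, E ≤ normalizer (D E : Set G) := by
    intro E hE
    have h3 : E ≤ centralizer (D E : Set G) := le_centralizer_iff.1 (hDC E hE)
    exact h3.trans (H52.Syl.centralizer_le_normalizer _)
  -- Step 1
  have step1 : ∀ M : Subgroup G, T ≤ M → M ≠ ⊤ → ∀ E ∈ 𝒦, ¬ resOf p E ≤ (M ⊓ L) ⊔ D E := by
    intro M hTM hM E hE hle
    obtain ⟨A, hA⟩ : ∃ A : Subgroup G, A = M ⊓ L := ⟨_, rfl⟩
    rw [← hA] at hle
    have hTA : T ≤ normalizer (A : Set G) := by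
      rw [hA]
      exact (le_inf (hTM.trans le_normalizer) (le_top.trans hLn)).trans normalizer_inf_le
    have hAE : A ≤ normalizer (E : Set G) := by
      rw [hA]; exact (inf_le_right.trans hLR).trans (h.norm E hE)
    have hDE' : D E ≤ normalizer ((A ⊓ E : Subgroup G) : Set G) := by
      have h3 : D E ≤ centralizer ((A ⊓ E : Subgroup G) : Set G) :=
        (hDC E hE).trans (centralizer_le (fun x hx => hx.2))
      exact h3.trans (H52.Syl.centralizer_le_normalizer _)
    have hn : E ≤ normalizer ((A ⊓ E : Subgroup G) : Set G) := by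
      conv_lhs => rw [← h.sup_res hT hE]
      apply sup_le
      · exact (le_inf (inf_le_left.trans hTA) (inf_le_right.trans le_normalizer)).trans normalizer_inf_le
      · refine hle.trans (sup_le ?_ hDE')
        exact (le_inf le_normalizer hAE).trans normalizer_inf_le
    rcases K5 E hE _ inf_le_right hn with h3 | h3
    · apply hKC E hE
      refine hle.trans (sup_le ?_ ?_)
      · rw [← comm_swap, eq_bot_iff, ← h3]
        apply le_inf
        · exact le_normalizer_iff_commutator_le_left.1 (inf_le_left.trans hTA)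
        · exact (commutator_mono le_rfl inf_le_right).trans (le_normalizer_iff_commutator_le_right.1 hAE)
      · exact (hDC E hE).trans (centralizer_le (fun x hx => hx.2))
    · have hKA : resOf p E ≤ A := h3.trans inf_le_left
      apply hM
      rw [eq_top_iff, ← hTL]
      refine sup_le hTM ?_
      have h4 : A ≤ M := by rw [hA]; exact inf_le_left
      refine le_trans ?_ h4
      obtain ⟨Λ, hΛ⟩ : ∃ Λ : Subgroup G, Λ = sSup {X | ∃ F ∈ 𝒦, X = resOf p F} := ⟨_, rfl⟩
      have h5 : L ≤ Λ := by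
        rw [hL]
        apply h.res_le
        · apply le_normalizer_top_of_cj
          intro g
          rw [cj_le_iff, hΛ]
          apply sSup_le
          rintro X ⟨F, hF, rfl⟩
          rw [le_cj_iff, inv_inv, ← cj_resOf]
          exact le_sSup ⟨_, h.inv g F hF, rfl⟩
        · intro F hF
          rw [hΛ]; exact le_sSup ⟨F, hF, rfl⟩
      refine h5.trans ?_
      rw [hΛ]
      apply sSup_le
      rintro X ⟨F, hF, rfl⟩
      obtain ⟨t, ht, rfl⟩ := h.tr_T hT hE hF
      rw [cj_resOf, ← cj_eq_of_mem_normalizer (hTA ht)]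
      exact cj_mono hKA
  -- Step 2
  intro htop
  obtain ⟨E, hE⟩ := h.ne
  obtain ⟨ME, hME, huniq⟩ := K4 E hE
  have hT_ME : T ⊓ E ≤ ME := huniq _ le_rfl (lt_of_le_of_ne inf_le_right (by
    intro h3; apply K6 E hE; rw [h3]; exact le_normalizer))
  have step2 : ∀ M : Subgroup G, T ≤ M → M ≠ ⊤ → (M ⊓ L ⊔ D E) ⊓ resOf p E ≤ ME := by
    intro M hTM hM
    obtain ⟨A, hA⟩ : ∃ A : Subgroup G, A = M ⊓ L := ⟨_, rfl⟩
    have hs1 := step1 M hTM hM E hE
    rw [← hA] at hs1 ⊢
    obtain ⟨B, hB⟩ : ∃ B : Subgroup G, B = (A ⊔ D E) ⊓ resOf p E := ⟨_, rfl⟩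
    rw [← hB]
    have hTA : T ≤ normalizer (A : Set G) := by
      rw [hA]
      exact (le_inf (hTM.trans le_normalizer) (le_top.trans hLn)).trans normalizer_inf_le
    have hTB : T ⊓ E ≤ normalizer (B : Set G) := by
      rw [hB]
      refine (le_inf ?_ (inf_le_right.trans (le_normalizer_resOf E))).trans normalizer_inf_le
      exact (le_inf (inf_le_left.trans hTA) (inf_le_right.trans (hDE E hE))).trans normalizer_sup_le
    have hBK : B ≤ resOf p E := by rw [hB]; exact inf_le_right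
    have hBE : B ≤ E := hBK.trans (resOf_le E)
    have h3 : (T ⊓ E ⊔ B) ⊓ resOf p E = B := by
      rw [dedekind hTB hBK]
      apply sup_of_le_right
      rw [hB]
      apply le_inf _ inf_le_right
      refine le_trans ?_ (le_sup_left : A ≤ A ⊔ D E)
      rw [hA]
      exact le_inf ((inf_le_left.trans inf_le_left).trans hTM) (inf_le_right.trans (hKL E hE))
    have h4 : T ⊓ E ⊔ B < E := by
      refine lt_of_le_of_ne (sup_le inf_le_right hBE) ?_
      intro he
      apply hs1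
      rw [he, inf_eq_right.2 (resOf_le E)] at h3
      rw [h3, hB]; exact inf_le_left
    exact le_sup_right.trans (huniq _ le_sup_left h4)
  -- Step 3
  obtain ⟨A₁, hA₁⟩ : ∃ A : Subgroup G, A = M₁ ⊓ L := ⟨_, rfl⟩
  obtain ⟨A₂, hA₂⟩ : ∃ A : Subgroup G, A = M₂ ⊓ L := ⟨_, rfl⟩
  have hTA : ∀ M : Subgroup G, T ≤ M → T ≤ normalizer ((M ⊓ L : Subgroup G) : Set G) := by
    intro M hTM
    exact (le_inf (hTM.trans le_normalizer) (le_top.trans hLn)).trans normalizer_inf_le
  have hMA : ∀ M : Subgroup G, T ≤ M → M = T ⊔ (M ⊓ L) := by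
    intro M hTM
    apply le_antisymm
    · have := dedekind' (A := T) (B := L) (C := M) (le_top.trans hLn) hTM
      rw [hTL, top_inf_eq, inf_comm L] at this
      exact this.le
    · exact sup_le hTM inf_le_left
  have hJ : L ≤ A₁ ⊔ A₂ := by
    have h3 : T ⊔ (A₁ ⊔ A₂) = ⊤ := by
      rw [eq_top_iff, ← htop]
      apply sup_le
      · rw [hMA M₁ hM₁, ← hA₁]
        exact sup_le le_sup_left (le_sup_left.trans le_sup_right)
      · rw [hMA M₂ hM₂, ← hA₂]
        exact sup_le le_sup_left (le_sup_right.trans le_sup_right)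
    have h4 : T ≤ normalizer ((A₁ ⊔ A₂ : Subgroup G) : Set G) := by
      rw [hA₁, hA₂]
      exact (le_inf (hTA M₁ hM₁) (hTA M₂ hM₂)).trans normalizer_sup_le
    have h5 := dedekind (A := T) (B := A₁ ⊔ A₂) (C := L) h4
      (by rw [hA₁, hA₂]; exact sup_le inf_le_right inf_le_right)
    rw [h3, top_inf_eq] at h5
    rw [h5]
    refine sup_le ?_ le_rfl
    refine le_trans ?_ le_sup_left
    rw [hA₁]; exact inf_le_inf_right _ hM₁
  have hAi : ∀ M : Subgroup G, T ≤ M → M ≠ ⊤ → M ⊓ L ≤ (ME ⊓ resOf p E) ⊔ D E := by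
    intro M hTM hM
    have h3 : M ⊓ L ≤ (resOf p E ⊔ D E) ⊓ (M ⊓ L ⊔ D E) := le_inf (inf_le_right.trans (hLD E hE)) le_sup_left
    refine h3.trans ?_
    rw [dedekind ((resOf_le E).trans (hDE E hE)) le_sup_right]
    apply sup_le_sup_right
    apply le_inf _ inf_le_left
    rw [inf_comm]
    exact step2 M hTM hM
  have hK : resOf p E ≤ ME := by
    have h3 : L ≤ (ME ⊓ resOf p E) ⊔ D E := by
      refine hJ.trans (sup_le ?_ ?_)
      · rw [hA₁]; exact hAi M₁ hM₁ h1
      · rw [hA₂]; exact hAi M₂ hM₂ h2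
    have h4 : resOf p E ≤ ((ME ⊓ resOf p E) ⊔ D E) ⊓ resOf p E := le_inf ((hKL E hE).trans h3) le_rfl
    rw [dedekind' (inf_le_right.trans ((resOf_le E).trans (hDE E hE))) inf_le_right, inf_comm (D E), hKD E hE,
      sup_bot_eq] at h4
    exact h4.trans inf_le_left
  apply hME.not_ge
  conv_lhs => rw [← h.sup_res hT hE]
  exact sup_le hT_ME hK

end minimal

end H53.Kfam
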