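import Cfsg.Agent.Lib.H53.Kfam2
import Cfsg.Agent.Lib.H28.RelHall
import Mathlib

set_option autoImplicit false
set_option linter.unusedSectionVars false
set_option linter.unusedVariables false

/-! Families of subgroups: passage to quotients, and the reduction to the core-free case. -/

namespace H53.Kfam

open Subgroup Cfsg H52.PCore H52.PRes H52.Syl H52.Sub H52.YL2 H52.Irr
open scoped commutatorElement

variable {G : Type*} [Group G] [Finite G] {p : ℕ} [Fact p.Prime]

section map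

variable {G' : Type*} [Group G'] [Finite G'] (f : G →* G') (hf : Function.Surjective f)

theorem map_cj (g : G) (E : Subgroup G) : (cj g E).map f = cj (f g) (E.map f) := by
  apply le_antisymm
  · rintro _ ⟨x, hx, rfl⟩
    have hx' : x ∈ cj g E := hx
    rw [H52.Syl.mem_cj] at hx' ⊢
    exact ⟨_, hx', by simp⟩
  · intro x hx
    rw [H52.Syl.mem_cj] at hx
    obtain ⟨y, hy, hx⟩ := hx
    refine ⟨g * y * g⁻¹, conj_mem_cj hy, ?_⟩
    rw [map_mul, map_mul, hx, map_inv]; group

theorem map_le_normalizer_map {A B : Subgroup G} (h : A ≤ normalizer (B : Set G)) :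
    A.map f ≤ normalizer ((B.map f : Subgroup G') : Set G') := by
  rintro _ ⟨a, ha, rfl⟩
  apply mem_normalizer_of_cj_eq
  rw [← map_cj, cj_eq_of_mem_normalizer (h ha)]

include hf in
/-- passage to a quotient -/
theorem fam_map {𝒦 : Set (Subgroup G)} (hne : 𝒦.Nonempty) (hinv : ∀ h : G, ∀ E ∈ 𝒦, cj h E ∈ 𝒦)
    (htr : ∀ E ∈ 𝒦, ∀ K ∈ 𝒦, ∃ h : G, K = cj h E) (hres : resOf p ⊤ ≤ sSup 𝒦)
    (hnorm : ∀ E ∈ 𝒦, sSup 𝒦 ≤ normalizer ((E ⊔ f.ker : Subgroup G) : Set G)) :
    Fam p ((Subgroup.map f) '' 𝒦) where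
  ne := hne.image _
  inv := by
    rintro h _ ⟨E, hE, rfl⟩
    obtain ⟨g, rfl⟩ := hf h
    exact ⟨cj g E, hinv g E hE, map_cj f g E⟩
  tr := by
    rintro _ ⟨E, hE, rfl⟩ _ ⟨K, hK, rfl⟩
    obtain ⟨g, rfl⟩ := htr E hE K hK
    exact ⟨f g, map_cj f g E⟩
  res := by
    have h1 : (⊤ : Subgroup G').map (MonoidHom.id G') = ⊤ := by simp
    rw [← map_top_of_surjective f hf, resOf_map]
    rw [map_le_iff_le_comap]
    refine hres.trans (sSup_le ?_)
    intro E hE
    rw [← map_le_iff_le_comap]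
    exact le_sSup ⟨E, hE, rfl⟩
  norm := by
    rintro _ ⟨E, hE, rfl⟩
    apply sSup_le
    rintro _ ⟨K, hK, rfl⟩
    have h1 := map_le_normalizer_map f ((le_sSup hK).trans (hnorm E hE))
    have h2 : (E ⊔ f.ker).map f = E.map f := by
      rw [Subgroup.map_sup, (MonoidHom.ker f).map_eq_bot_iff.2 le_rfl, sup_bot_eq]
    rwa [h2] at h1

theorem map_comap_inf {E : Subgroup G} {X : Subgroup G'} (hX : X ≤ E.map f) :
    (X.comap f ⊓ E).map f = X := by
  apply le_antisymm
  · rintro _ ⟨y, hy, rfl⟩; exact hy.1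
  · intro x hx
    obtain ⟨y, hy, rfl⟩ := hX hx
    exact ⟨y, ⟨hx, hy⟩, rfl⟩

theorem le_normalizer_comap_inf {E : Subgroup G} {X : Subgroup G'} (hX : E.map f ≤ normalizer (X : Set G')) :
    E ≤ normalizer ((X.comap f ⊓ E : Subgroup G) : Set G) := by
  refine (le_inf ?_ le_normalizer).trans normalizer_inf_le
  intro e he
  apply mem_normalizer_of_cj_le
  intro x hx
  rw [mem_cj] at hx
  rw [mem_comap] at hx ⊢
  have h1 : f e ∈ normalizer (X : Set G') := hX ⟨e, he, rfl⟩
  have := (mem_normalizer_iff.1 h1 _).1 hx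
  rw [map_mul, map_mul, map_inv] at this
  have e1 : f e * ((f e)⁻¹ * f x * f e) * (f e)⁻¹ = f x := by group
  rwa [e1] at this

include hf in
theorem sylIn_map_top {T : Subgroup G} (hT : SylIn p T ⊤) : SylIn p (T.map f) ⊤ := by
  apply sylIn_of_relIndex le_top (hT.isPGroup.map f)
  intro h
  apply hT.relIndex
  rw [relIndex_top_right] at h ⊢
  exact h.trans (index_map_dvd T hf)

end map

section minimal

variable {𝒦 : Set (Subgroup G)}

/-- the general minimal case with `O_p(G) = 1` -/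
theorem minimal_unique (h : Fam p 𝒦) (h0 : pCore p G = ⊥) {T : Subgroup G} (hT : SylIn p T ⊤)
    (K4 : ∀ E ∈ 𝒦, ∃ M : Subgroup G, M < E ∧ ∀ X : Subgroup G, T ⊓ E ≤ X → X < E → X ≤ M)
    (K7 : ∀ E ∈ 𝒦, ∀ X : Subgroup G, T ⊓ E ≤ X → X ≤ E → E ≤ normalizer (X : Set G) → X = E)
    (K8 : ∀ E ∈ 𝒦, T ⊓ E ≠ E)
    {M₁ M₂ : Subgroup G} (hM₁ : T ≤ M₁) (hM₂ : T ≤ M₂) (h1 : IsCoatom M₁) (h2 : IsCoatom M₂) : M₁ = M₂ := by
  choose! ME hME huniq using K4
  have hTME : ∀ E ∈ 𝒦, T ⊓ E ≤ ME E := fun E hE =>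
    huniq E hE _ le_rfl (lt_of_le_of_ne inf_le_right (K8 E hE))
  -- normal subgroups of `E`
  have hN : ∀ E ∈ 𝒦, ∀ X : Subgroup G, X ≤ E → E ≤ normalizer (X : Set G) → (X ≤ ME E ↔ ¬ resOf p E ≤ X) := by
    intro E hE X hXE hEX
    constructor
    · intro h3 h4
      apply (hME E hE).not_ge
      conv_lhs => rw [← h.sup_res hT hE]
      exact sup_le (hTME E hE) (h4.trans h3)
    · intro h3
      by_contra h4
      apply h3
      have h5 : T ⊓ E ⊔ X = E := by
        by_contra h6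
        exact h4 (le_sup_right.trans (huniq E hE _ le_sup_left (lt_of_le_of_ne (sup_le inf_le_right hXE) h6)))
      apply resOf_le_of_pMod
      have h6 := pMod_of_sup (p := p) (h.sylIn hT hE).isPGroup (inf_le_right.trans hEX : T ⊓ E ≤ normalizer (X : Set G))
      rwa [h5] at h6
  -- `C_E`
  obtain ⟨C, hC⟩ : ∃ C : Subgroup G → Subgroup G, C = fun E : Subgroup G =>
      sSup {X : Subgroup G | X ≤ E ∧ E ≤ normalizer (X : Set G) ∧ ¬ resOf p E ≤ X} := ⟨_, rfl⟩
  have hCM : ∀ E ∈ 𝒦, C E ≤ ME E := by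
    intro E hE
    rw [hC]; apply sSup_le
    rintro X ⟨hXE, hEX, hX⟩
    exact (hN E hE X hXE hEX).2 hX
  have hCE : ∀ E ∈ 𝒦, C E ≤ E := fun E hE => (hCM E hE).trans (hME E hE).le
  have hCcj : ∀ g : G, ∀ E : Subgroup G, cj g (C E) ≤ C (cj g E) := by
    intro g E
    rw [cj_le_iff, hC]
    apply sSup_le
    rintro X ⟨hXE, hEX, hX⟩
    rw [le_cj_iff, inv_inv]
    apply le_sSup
    refine ⟨cj_mono hXE, ?_, ?_⟩
    · rw [← cj_normalizer]; exact cj_mono hEX
    · rw [cj_resOf, cj_le_cj_iff]; exact hX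
  have hCN : ∀ E : Subgroup G, normalizer (E : Set G) ≤ normalizer (C E : Set G) := by
    intro E g hg
    apply mem_normalizer_of_cj_le
    have := hCcj g E
    rwa [cj_eq_of_mem_normalizer hg] at this
  have hEC : ∀ E ∈ 𝒦, E ≤ normalizer (C E : Set G) := fun E hE => le_normalizer.trans (hCN E)
  have hCR : ∀ E ∈ 𝒦, sSup 𝒦 ≤ normalizer (C E : Set G) := fun E hE => (h.norm E hE).trans (hCN E)
  have hCmax : ∀ E ∈ 𝒦, ∀ X : Subgroup G, X ≤ E → E ≤ normalizer (X : Set G) → ¬ resOf p E ≤ X → X ≤ C E := by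
    intro E hE X hXE hEX hX
    rw [hC]; exact le_sSup ⟨hXE, hEX, hX⟩
  have hCsub : ∀ E ∈ 𝒦, (C E).IsSubnormal := by
    intro E hE
    exact IsSubnormal_of_normal_step (hCE E hE) (h.subnormal hE) (hEC E hE)
  have hTC : ∀ E ∈ 𝒦, T ⊓ C E = ⊥ := by
    intro E hE
    have hS : SylIn p (T ⊓ C E) (C E) := hT.inf_subnormal (hCsub E hE)
    have hn : E ≤ normalizer ((T ⊓ C E : Subgroup G) : Set G) := by
      by_contra hne
      have h3 : normalizer ((T ⊓ C E : Subgroup G) : Set G) ⊓ E < E :=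
        lt_of_le_of_ne inf_le_right (by intro h4; exact hne (inf_eq_right.1 h4))
      have h4 : T ⊓ E ≤ normalizer ((T ⊓ C E : Subgroup G) : Set G) ⊓ E := by
        apply le_inf _ inf_le_right
        exact (le_inf (inf_le_left.trans le_normalizer) (inf_le_right.trans (hEC E hE))).trans normalizer_inf_le
      have h5 := huniq E hE _ h4 h3
      apply (hME E hE).not_ge
      intro x hx
      obtain ⟨k, hk, n, hn, rfl⟩ := hS.frattini (hCE E hE) (hEC E hE) hx
      exact mul_mem (hCM E hE hk) (h5 ⟨hn.2, hn.1⟩)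
    rw [eq_bot_iff, ← h.pCoreOf_eq_bot h0 hE]
    exact le_pCoreOf (inf_le_right.trans (hCE E hE)) hn hS.isPGroup
  -- nongenerators
  have hng : ∀ E ∈ 𝒦, ∀ U : Subgroup G, U ≤ sSup 𝒦 → E ≤ U ⊔ C E → E ≤ U := by
    intro E hE U hUR hU
    obtain ⟨V, hV⟩ : ∃ V : Subgroup G, V = U ⊓ E := ⟨_, rfl⟩
    have hVE : V ≤ E := by rw [hV]; exact inf_le_right
    have h3 : V ⊔ C E = E := by
      rw [hV, ← dedekind (hUR.trans (hCR E hE)) (hCE E hE)]
      exact inf_eq_right.2 hU
    have h4 : ¬ p ∣ V.relIndex E := by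
      have h5 := H28.RelHall.relIndex_sup_eq' (H := V) (N := C E) (hVE.trans (hEC E hE))
      rw [h3] at h5
      rw [h5]
      intro h6
      have h7 : SylIn p (T ⊓ C E) (C E) := hT.inf_subnormal (hCsub E hE)
      rw [hTC E hE] at h7
      apply h7.relIndex
      rw [relIndex_bot_left]
      exact h6.trans (relIndex_dvd_card V (C E))
    obtain ⟨S, hS⟩ := exists_sylIn (p := p) V
    have hSE : SylIn p S E := by
      apply sylIn_of_relIndex (hS.le.trans hVE) hS.isPGroup
      rw [← relIndex_mul_relIndex S V E hS.le hVE]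
      intro h5
      rcases (Fact.out : p.Prime).dvd_mul.1 h5 with h6 | h6
      · exact hS.relIndex h6
      · exact h4 h6
    obtain ⟨e, he, hSe⟩ := (h.sylIn hT hE).conj hSE
    by_contra hne
    have hVlt : V < E := lt_of_le_of_ne hVE (by intro h5; apply hne; rw [← h5, hV]; exact inf_le_left)
    have h5 : cj e⁻¹ V ≤ ME E := by
      apply huniq E hE
      · rw [le_cj_iff, inv_inv, ← hSe]; exact hS.le
      · refine lt_of_le_of_ne ?_ ?_
        · rw [cj_le_iff, inv_inv, cj_of_mem he]; exact hVE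
        · intro h6
          apply hVlt.ne
          rw [← cj_cj_inv e V, h6, cj_of_mem he]
    have h6 : cj e⁻¹ (C E) ≤ ME E := by
      rw [cj_eq_of_mem_normalizer (hEC E hE (E.inv_mem he))]; exact hCM E hE
    apply (hME E hE).not_ge
    have h7 : E ≤ cj e⁻¹ (V ⊔ C E) := by rw [h3, cj_of_mem (E.inv_mem he)]
    rw [cj_sup] at h7
    exact h7.trans (sup_le h5 h6)
  -- the product of the `C_E`
  obtain ⟨R, hR⟩ : ∃ R : Subgroup G, R = sSup 𝒦 := ⟨_, rfl⟩
  obtain ⟨Cs, hCs⟩ : ∃ Cs : Subgroup G, Cs = sSup {X | ∃ E ∈ 𝒦, X = C E} := ⟨_, rfl⟩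
  have hCsE : ∀ E ∈ 𝒦, C E ≤ Cs := by
    intro E hE; rw [hCs]; exact le_sSup ⟨E, hE, rfl⟩
  have hCsR : Cs ≤ R := by
    rw [hCs, hR]
    apply sSup_le
    rintro X ⟨E, hE, rfl⟩
    exact (hCE E hE).trans (h.le_join hE)
  have hCsn : (⊤ : Subgroup G) ≤ normalizer (Cs : Set G) := by
    apply le_normalizer_top_of_cj
    intro g
    rw [cj_le_iff, hCs]
    apply sSup_le
    rintro X ⟨E, hE, rfl⟩
    rw [le_cj_iff, inv_inv]
    exact (hCcj g E).trans (le_sSup ⟨_, h.inv g E hE, rfl⟩)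
  have hCsN : Cs.Normal := normal_iff_top_le_normalizer.2 hCsn
  have hcoat : ∀ M : Subgroup G, IsCoatom M → T ≤ M → Cs ≤ M := by
    intro M hM hTM
    by_contra hne
    have h3 : M ⊔ Cs = ⊤ := hM.2 _ (lt_of_le_of_ne le_sup_left (by
      intro h4; apply hne; rw [h4]; exact le_sup_right))
    have h4 : (M ⊓ R) ⊔ Cs = R := by
      rw [← dedekind (le_top.trans hCsn) hCsR, h3, top_inf_eq]
    have h5 : (M ⊓ R).subgroupOf R ≠ ⊤ := by
      intro h6
      rw [subgroupOf_eq_top] at h6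
      exact hne (hCsR.trans (h6.trans inf_le_left))
    obtain ⟨U', hU', hMU'⟩ := (eq_top_or_exists_le_coatom _).resolve_left h5
    obtain ⟨U, hU⟩ : ∃ U : Subgroup G, U = U'.map R.subtype := ⟨_, rfl⟩
    have hUR : U ≤ R := by rw [hU]; exact map_subtype_le _
    have hMU : M ⊓ R ≤ U := by
      have := map_mono (f := R.subtype) hMU'
      rwa [map_subgroupOf_eq_of_le inf_le_right, ← hU] at this
    have hUne : U ≠ R := by
      intro h6
      apply hU'.1
      apply map_injective R.subtype_injective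
      rw [← hU, h6, ← MonoidHom.range_eq_map, range_subtype]
    obtain ⟨E, hE, hCU⟩ : ∃ E ∈ 𝒦, ¬ C E ≤ U := by
      by_contra h6
      push Not at h6
      apply hUne
      apply le_antisymm hUR
      rw [← h4]
      apply sup_le hMU
      rw [hCs]
      apply sSup_le
      rintro X ⟨E, hE, rfl⟩
      exact h6 E hE
    have h6 : U ⊔ C E = R := by
      have h7 : U' < (U ⊔ C E).subgroupOf R := by
        refine lt_of_le_of_ne ?_ ?_
        · rw [← map_le_map_iff_of_injective R.subtype_injective,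
            map_subgroupOf_eq_of_le (sup_le hUR ((hCsE E hE).trans hCsR)), ← hU]
          exact le_sup_left
        · intro h8
          apply hCU
          rw [hU, h8, map_subgroupOf_eq_of_le (sup_le hUR ((hCsE E hE).trans hCsR))]
          exact le_sup_right
      have h8 := hU'.2 _ h7
      rw [subgroupOf_eq_top] at h8
      exact le_antisymm (sup_le hUR ((hCsE E hE).trans hCsR)) h8
    apply hCU
    refine (hCE E hE).trans (hng E hE U (hR ▸ hUR) ?_)
    rw [h6, hR]; exact h.le_join hE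
  have hKCs : ∀ E ∈ 𝒦, ¬ resOf p E ≤ Cs := by
    intro E hE h3
    apply h1.1
    rw [eq_top_iff, ← hT.sup_resOf_eq]
    exact sup_le hM₁ ((h.res_le_of_one hE hCsn h3).trans (hcoat M₁ h1 hM₁))
  have hCsi : ∀ E ∈ 𝒦, Cs ⊓ E ≤ C E := by
    intro E hE
    apply hCmax E hE _ inf_le_right
    · exact (le_inf (le_top.trans hCsn) le_normalizer).trans normalizer_inf_le
    · exact fun h3 => hKCs E hE (h3.trans inf_le_left)
  -- the quotient
  obtain ⟨f, hfdef⟩ : ∃ f : G →* G ⧸ Cs, f = QuotientGroup.mk' Cs := ⟨_, rfl⟩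
  have hf : Function.Surjective f := by rw [hfdef]; exact QuotientGroup.mk'_surjective Cs
  have hker : f.ker = Cs := by rw [hfdef]; exact QuotientGroup.ker_mk' Cs
  have hfam : Fam p ((Subgroup.map f) '' 𝒦) := by
    apply fam_map f hf h.ne h.inv h.tr h.res
    intro E hE
    exact (le_inf (h.norm E hE) (le_top.trans (by rw [hker]; exact hCsn))).trans normalizer_sup_le
  have hmap : ∀ X : Subgroup G, X ≤ Cs → X.map f = ⊥ := by
    intro X hX; rw [Subgroup.map_eq_bot_iff, hker]; exact hX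
  have hTmap : ∀ E : Subgroup G, ∀ X : Subgroup (G ⧸ Cs), T.map f ⊓ E.map f ≤ X → T ⊓ E ≤ X.comap f ⊓ E := by
    intro E X hX
    apply le_inf _ inf_le_right
    rw [← map_le_iff_le_comap]
    refine le_trans ?_ hX
    exact le_inf (map_mono inf_le_left) (map_mono inf_le_right)
  have hkey := coreFree (T := T.map f) (M₁ := M₁.map f) (M₂ := M₂.map f) hfam (sylIn_map_top f hf hT)
    (by
      rintro _ ⟨E, hE, rfl⟩
      refine ⟨(ME E).map f, ?_, ?_⟩
      · refine lt_of_le_of_ne (map_mono (hME E hE).le) ?_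
        intro h3
        apply (hME E hE).not_ge
        have h4 : E ≤ (ME E ⊔ Cs) ⊓ E := by
          apply le_inf _ le_rfl
          have h5 := map_le_iff_le_comap.1 h3.ge
          rwa [comap_map_eq, hker] at h5
        rw [dedekind' (le_top.trans hCsn) (hME E hE).le] at h4
        exact h4.trans (sup_le le_rfl ((hCsi E hE).trans (hCM E hE)))
      · intro X hTX hXE
        rw [← map_comap_inf f hXE.le]
        apply map_mono
        apply huniq E hE _ (hTmap E X hTX)
        refine lt_of_le_of_ne inf_le_right ?_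
        intro h3
        apply hXE.ne
        rw [← map_comap_inf f hXE.le, h3])
    (by
      rintro _ ⟨E, hE, rfl⟩ X hXE hEX
      by_cases h3 : resOf p E ≤ X.comap f ⊓ E
      · right
        rw [resOf_map, ← map_comap_inf f hXE]
        exact map_mono h3
      · left
        rw [← map_comap_inf f hXE]
        apply hmap
        exact (hCmax E hE _ inf_le_right (le_normalizer_comap_inf f hEX) h3).trans (hCsE E hE))
    (by
      rintro _ ⟨E, hE, rfl⟩ hn
      have h3 := K7 E hE _ (hTmap E _ le_rfl) inf_le_right (le_normalizer_comap_inf f hn)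
      have h4 : E.map f ≤ T.map f := by
        have h5 := map_comap_inf f (E := E) (X := T.map f ⊓ E.map f) inf_le_right
        rw [h3] at h5
        rw [h5]; exact inf_le_left
      apply hKCs E hE
      rw [← hker, ← Subgroup.map_eq_bot_iff, ← resOf_map, eq_bot_iff]
      apply resOf_le_of_pMod
      have h5 := pMod_of_sup (p := p) (P := E.map f) (C := ⊥) ((hT.isPGroup.map f).to_le h4)
        (le_top.trans (normal_iff_top_le_normalizer.1 inferInstance))
      rwa [sup_bot_eq] at h5)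
    (map_mono hM₁) (map_mono hM₂)
    (by
      intro h3
      apply h1.1
      have h4 : (⊤ : Subgroup G) ≤ M₁ ⊔ Cs := by
        rw [← hker, ← comap_map_eq, ← map_le_iff_le_comap, h3]; exact le_top
      rw [eq_top_iff]
      exact h4.trans (sup_le le_rfl (hcoat M₁ h1 hM₁)))
    (by
      intro h3
      apply h2.1
      have h4 : (⊤ : Subgroup G) ≤ M₂ ⊔ Cs := by
        rw [← hker, ← comap_map_eq, ← map_le_iff_le_comap, h3]; exact le_top
      rw [eq_top_iff]
      exact h4.trans (sup_le le_rfl (hcoat M₂ h2 hM₂)))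
  by_contra hne
  apply hkey
  rw [← Subgroup.map_sup]
  have h3 : M₁ ⊔ M₂ = ⊤ := by
    apply h1.2
    refine lt_of_le_of_ne le_sup_left ?_
    intro h4
    have h5 : M₂ ≤ M₁ := by rw [h4]; exact le_sup_right
    rcases h2.le_iff.1 h5 with h6 | h6
    · exact h1.1 h6
    · exact hne h6
  rw [h3]
  exact map_top_of_surjective f hf

end minimal

end H53.Kfam
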