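import Cfsg.Agent.Lib.H53.Kfam3
import Cfsg.Agent.S2828
import Mathlib

set_option autoImplicit false
set_option linter.unusedSectionVars false
set_option linter.unusedVariables false

/-! Families of subgroups: final form. -/

namespace H53.Kfam

open Subgroup Cfsg H52.PCore H52.PRes H52.Syl H52.Sub H52.YL2 H52.Irr
open scoped commutatorElement

variable {G : Type*} [Group G] [Finite G] {p : ℕ} [Fact p.Prime]

section transfer

variable {𝒦 : Set (Subgroup G)} (hne : 𝒦.Nonempty) (hinv : ∀ h : G, ∀ E ∈ 𝒦, cj h E ∈ 𝒦)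
    (htr : ∀ E ∈ 𝒦, ∀ K ∈ 𝒦, ∃ h : G, K = cj h E) (hres : pResidual p G ≤ sSup 𝒦)
    (hnorm : ∀ E ∈ 𝒦, sSup 𝒦 ⊔ pCore p G ≤ normalizer ((E ⊔ pCore p G : Subgroup G) : Set G))

include hne hinv htr hres hnorm

theorem fam_quot : Fam p ((Subgroup.map (QuotientGroup.mk' (pCore p G))) '' 𝒦) := by
  apply fam_map _ (QuotientGroup.mk'_surjective _) hne hinv htr
  · rw [resOf_top]; exact hres
  · intro E hE
    rw [QuotientGroup.ker_mk']
    exact le_sup_left.trans (hnorm E hE)

omit hne hinv htr hres hnorm in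
theorem pCore_quot : pCore p (G ⧸ pCore p G) = ⊥ := by
  rw [← map_pCore' (D := pCore p G) isPGroup_pCore, Subgroup.map_eq_bot_iff, QuotientGroup.ker_mk']

theorem subnormal_sup {E : Subgroup G} (hE : E ∈ 𝒦) : (E ⊔ pCore p G).IsSubnormal := by
  have h1 : (⊤ : Subgroup G) ≤ normalizer ((sSup 𝒦 ⊔ pCore p G : Subgroup G) : Set G) := by
    refine (le_inf ?_ (normal_iff_top_le_normalizer.1 inferInstance)).trans normalizer_sup_le
    apply le_normalizer_top_of_cj
    intro g
    rw [cj_le_iff]
    apply sSup_le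
    intro E hE
    rw [le_cj_iff, inv_inv]
    exact le_sSup (hinv g E hE)
  refine IsSubnormal_of_normal_step (sup_le_sup_right (le_sSup hE) _) ?_ (hnorm E hE)
  exact (normal_iff_top_le_normalizer.2 h1).isSubnormal

theorem pCoreOf_le_pCore {E : Subgroup G} (hE : E ∈ 𝒦) : pCoreOf p E ≤ pCore p G := by
  have h1 := pCoreOf_le_pCore_of_subnormal (p := p) (subnormal_sup hne hinv htr hres hnorm hE)
  refine le_trans ?_ h1
  have hO : (⊤ : Subgroup G) ≤ normalizer (pCore p G : Set G) := normal_iff_top_le_normalizer.1 inferInstance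
  have h2 : pCoreOf p E ⊔ pCore p G ≤ pCoreOf p (E ⊔ pCore p G) := by
    apply le_pCoreOf
    · exact sup_le_sup_right (pCoreOf_le E) _
    · apply sup_le
      · exact (le_inf (le_normalizer_pCoreOf E) (le_top.trans hO)).trans normalizer_sup_le
      · exact le_sup_right.trans le_normalizer
    · exact (isPGroup_pCoreOf E).to_sup_of_normal_right' isPGroup_pCore (le_top.trans hO)
  exact le_sup_left.trans h2

theorem strongly_final (hSI : ∀ E ∈ 𝒦, IsStronglyPIrreducible p E) :
    IsPIrreducible p G ∧ ∀ E ∈ 𝒦, ∀ K ∈ 𝒦,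
      resOf p (E ⊔ pCore p G) = resOf p (K ⊔ pCore p G) ∨ ⁅E, K⁆ ≤ pCore p G := by
  have hO : (⊤ : Subgroup G) ≤ normalizer (pCore p G : Set G) := normal_iff_top_le_normalizer.1 inferInstance
  obtain ⟨f, hfdef⟩ : ∃ f : G →* G ⧸ pCore p G, f = QuotientGroup.mk' (pCore p G) := ⟨_, rfl⟩
  have hf : Function.Surjective f := by rw [hfdef]; exact QuotientGroup.mk'_surjective _
  have hker : f.ker = pCore p G := by rw [hfdef]; exact QuotientGroup.ker_mk' _
  have hfam := fam_quot hne hinv htr hres hnorm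
  rw [← hfdef] at hfam
  have hkey := strongly hfam pCore_quot
    (by
      rintro _ ⟨E, hE, rfl⟩ X hXE hEX hc
      have h1 := (hSI E hE).2 ((X.comap f ⊓ E).subgroupOf E)
        ((normal_subgroupOf_iff_le_normalizer inf_le_right).2 (le_normalizer_comap_inf f hEX))
      have h2 : ¬ ⁅(X.comap f ⊓ E).subgroupOf E, (⊤ : Subgroup E)⁆ ≤ pCore p E := by
        intro h3
        apply hc
        have h4 := map_mono (f := E.subtype) h3
        rw [map_commutator, map_subgroupOf_eq_of_le inf_le_right, ← MonoidHom.range_eq_map, range_subtype] at h4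
        have h5 : ⁅X.comap f ⊓ E, E⁆ ≤ pCore p G :=
          h4.trans (pCoreOf_le_pCore hne hinv htr hres hnorm hE)
        rw [← map_comap_inf f hXE, ← map_commutator, Subgroup.map_eq_bot_iff, hker]
        exact h5
      have h3 := map_mono (f := E.subtype) (h1 h2)
      rw [map_subgroupOf_eq_of_le inf_le_right] at h3
      rw [resOf_map, ← map_comap_inf f hXE]
      exact map_mono h3)
    (by
      rintro _ ⟨E, hE, rfl⟩
      have h1 := (hSI E hE).1
      rw [isPClosed_iff] at h1
      push Not at h1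
      obtain ⟨Q, hQE, hQp, hQ⟩ := h1
      refine ⟨Q.map f, map_mono hQE, hQp.map f, ?_⟩
      intro h2
      rw [Subgroup.map_eq_bot_iff, hker] at h2
      apply hQ
      have h3 : pCore p G ⊓ E ≤ pCoreOf p E := by
        apply le_pCoreOf inf_le_right
        · exact (le_inf (le_top.trans hO) le_normalizer).trans normalizer_inf_le
        · exact isPGroup_pCore.to_le inf_le_left
      exact (le_inf h2 hQE).trans h3)
  constructor
  · exact ((Cfsg.Agent.S2828.result (p := p) (pCore p G) isPGroup_pCore).1).2 hkey.1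
  · intro E hE K hK
    have hmap : ∀ E : Subgroup G, (E ⊔ pCore p G).map f = E.map f := by
      intro E
      rw [Subgroup.map_sup, (Subgroup.map_eq_bot_iff (pCore p G)).2 hker.ge, sup_bot_eq]
    rcases hkey.2 _ ⟨E, hE, rfl⟩ _ ⟨K, hK, rfl⟩ with h1 | h1
    · left
      have key : ∀ E K : Subgroup G, resOf p (E.map f) = resOf p (K.map f) →
          resOf p (E ⊔ pCore p G) ≤ resOf p (K ⊔ pCore p G) := by
        intro E K h1
        rw [← hmap E, ← hmap K, resOf_map, resOf_map] at h1
        have h2 := map_le_iff_le_comap.1 h1.le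
        rw [comap_map_eq, hker] at h2
        rw [← resOf_resOf (E ⊔ pCore p G)]
        refine (resOf_mono h2).trans ?_
        apply resOf_le_of_pMod
        rw [sup_comm]
        apply pMod_of_sup isPGroup_pCore
        exact (le_sup_right : pCore p G ≤ K ⊔ pCore p G).trans (le_normalizer_resOf _)
      exact le_antisymm (key E K h1) (key K E h1.symm)
    · right
      rwa [← map_commutator, Subgroup.map_eq_bot_iff, hker] at h1


theorem minimal_final (hmin : ∀ E ∈ 𝒦, ∀ T : Sylow p E, IsMinimalOver (T : Subgroup E)) (T : Sylow p G) :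
    IsMinimalOver (T : Subgroup G) := by
  have hO : (⊤ : Subgroup G) ≤ normalizer (pCore p G : Set G) := normal_iff_top_le_normalizer.1 inferInstance
  obtain ⟨f, hfdef⟩ : ∃ f : G →* G ⧸ pCore p G, f = QuotientGroup.mk' (pCore p G) := ⟨_, rfl⟩
  have hf : Function.Surjective f := by rw [hfdef]; exact QuotientGroup.mk'_surjective _
  have hker : f.ker = pCore p G := by rw [hfdef]; exact QuotientGroup.ker_mk' _
  have hfam := fam_quot hne hinv htr hres hnorm
  rw [← hfdef] at hfam
  obtain ⟨S, hS⟩ : ∃ S : Subgroup G, S = (T : Subgroup G) := ⟨_, rfl⟩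
  rw [← hS]
  have hT : SylIn p S ⊤ := by rw [hS]; exact sylIn_top T
  have hOS : pCore p G ≤ S := by rw [← pCoreOf_top]; exact hT.pCoreOf_le
  -- Sylow subgroups of `E`
  have hSE : ∀ E ∈ 𝒦, SylIn p (S ⊓ E) E := by
    intro E hE
    apply sylIn_of_max inf_le_right (hT.isPGroup.to_le inf_le_left)
    intro Q hQE hQp hSQ
    apply le_inf _ hQE
    have h1 := hT.inf_subnormal (subnormal_sup hne hinv htr hres hnorm hE)
    have h2 : IsPGroup p (Q ⊔ pCore p G : Subgroup G) := hQp.to_sup_of_normal_right' isPGroup_pCore (le_top.trans hO)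
    have h3 : S ⊓ (E ⊔ pCore p G) ≤ Q ⊔ pCore p G := by
      have h4 : S ⊓ (E ⊔ pCore p G) = (E ⊓ S) ⊔ pCore p G := by
        rw [inf_comm, dedekind (le_top.trans hO) hOS]
      rw [h4, inf_comm]
      exact sup_le_sup_right hSQ _
    have h4 := h1.max (sup_le_sup_right hQE _) h2 h3
    have h5 : Q ≤ S ⊓ (E ⊔ pCore p G) := le_sup_left.trans h4.le
    exact h5.trans inf_le_left
  -- minimality of `E`
  have hminE : ∀ E ∈ 𝒦, IsMinimalOver ((S ⊓ E).subgroupOf E) := by
    intro E hE
    obtain ⟨P, hP⟩ := hSE E hE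
    have h1 : (S ⊓ E).subgroupOf E = (P : Subgroup E) := by
      rw [← hP]; exact comap_map_eq_self_of_injective E.subtype_injective _
    rw [h1]; exact hmin E hE P
  have K7 : ∀ E ∈ 𝒦, ∀ X : Subgroup G, S ⊓ E ≤ X → X ≤ E → E ≤ normalizer (X : Set G) → X = E := by
    intro E hE X hSX hXE hEX
    have h1 := eq_top_of_normal_of_minimal (hminE E hE)
      ((normal_subgroupOf_iff_le_normalizer hXE).2 hEX) (comap_mono hSX)
    rw [subgroupOf_eq_top] at h1
    exact le_antisymm hXE h1
  have K4 : ∀ E ∈ 𝒦, ∃ M : Subgroup G, M < E ∧ S ⊓ E ≤ M ∧ ∀ X : Subgroup G, S ⊓ E ≤ X → X < E → X ≤ M := by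
    intro E hE
    obtain ⟨M, hM, hSM⟩ := exists_coatom_of_minimal (hminE E hE)
    refine ⟨M.map E.subtype, ?_, ?_, ?_⟩
    · refine lt_of_le_of_ne (map_subtype_le _) ?_
      intro h1
      apply hM.1
      apply map_injective E.subtype_injective
      rw [h1, ← MonoidHom.range_eq_map, range_subtype]
    · rw [← map_subgroupOf_eq_of_le (inf_le_right : S ⊓ E ≤ E)]
      exact map_mono hSM
    · intro X hSX hXE
      have h1 : X.subgroupOf E ≠ ⊤ := by
        rw [Ne, subgroupOf_eq_top]; exact hXE.not_ge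
      have h2 : X.subgroupOf E ≤ M := le_of_minimal (hminE E hE) hM hSM (comap_mono hSX) h1
      have := map_mono (f := E.subtype) h2
      rwa [map_subgroupOf_eq_of_le hXE.le] at this
  have K8 : ∀ E ∈ 𝒦, S ⊓ E ≠ E := by
    intro E hE h1
    obtain ⟨M, hM, hSM, -⟩ := K4 E hE
    rw [h1] at hSM
    exact hM.not_ge hSM
  have hSmap : ∀ E : Subgroup G, S.map f ⊓ E.map f ≤ (S ⊓ E).map f := by
    rintro E _ ⟨⟨s, hs, rfl⟩, ⟨e, he, hse⟩⟩
    have h1 : s⁻¹ * e ∈ pCore p G := by
      rw [← hker, MonoidHom.mem_ker, map_mul, map_inv, hse]; simp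
    refine ⟨e, ⟨?_, he⟩, hse⟩
    have := mul_mem hs (hOS h1)
    simpa using this
  have hTmap : ∀ E : Subgroup G, ∀ X : Subgroup (G ⧸ pCore p G), S.map f ⊓ E.map f ≤ X → S ⊓ E ≤ X.comap f ⊓ E := by
    intro E X hX
    apply le_inf _ inf_le_right
    rw [← map_le_iff_le_comap]
    refine le_trans ?_ hX
    exact le_inf (map_mono inf_le_left) (map_mono inf_le_right)
  have hlift : ∀ M : Subgroup G, IsCoatom M → S ≤ M → IsCoatom (M.map f) := by
    intro M hM hSM
    have hc : (M.map f).comap f = M := by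
      rw [comap_map_eq, hker]; exact sup_eq_left.2 (hOS.trans hSM)
    constructor
    · intro h1
      apply hM.1
      rw [← hc, h1, comap_top]
    · intro N hN
      have h1 : M < N.comap f := by
        refine lt_of_le_of_ne (map_le_iff_le_comap.1 hN.le) ?_
        intro h2
        apply hN.ne
        rw [h2, map_comap_eq_self_of_surjective hf]
      have h2 := hM.2 _ h1
      rw [← map_comap_eq_self_of_surjective hf N, h2, map_top_of_surjective f hf]
  have hkey : ∀ M₁ M₂ : Subgroup G, S ≤ M₁ → S ≤ M₂ → IsCoatom M₁ → IsCoatom M₂ → M₁.map f = M₂.map f := by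
    intro M₁ M₂ h1 h2 hc1 hc2
    apply minimal_unique (T := S.map f) hfam pCore_quot (sylIn_map_top f hf hT) _ _ _ (map_mono h1) (map_mono h2)
      (hlift _ hc1 h1) (hlift _ hc2 h2)
    · rintro _ ⟨E, hE, rfl⟩
      obtain ⟨M, hM, hSM, huniq⟩ := K4 E hE
      refine ⟨M.map f, ?_, ?_⟩
      · refine lt_of_le_of_ne (map_mono hM.le) ?_
        intro h3
        apply hM.not_ge
        have h4 : E ≤ (M ⊔ pCore p G) ⊓ E := by
          apply le_inf _ le_rfl
          have h5 := map_le_iff_le_comap.1 h3.ge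
          rwa [comap_map_eq, hker] at h5
        rw [dedekind' (le_top.trans hO) hM.le] at h4
        exact h4.trans (sup_le le_rfl ((inf_le_inf_right _ hOS).trans hSM))
      · intro X hTX hXE
        rw [← map_comap_inf f hXE.le]
        apply map_mono
        apply huniq _ (hTmap E X hTX)
        refine lt_of_le_of_ne inf_le_right ?_
        intro h3
        apply hXE.ne
        rw [← map_comap_inf f hXE.le, h3]
    · rintro _ ⟨E, hE, rfl⟩ X hSX hXE hEX
      have h3 := K7 E hE _ (hTmap E X hSX) inf_le_right (le_normalizer_comap_inf f hEX)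
      rw [← map_comap_inf f hXE, h3]
    · rintro _ ⟨E, hE, rfl⟩ h3
      apply K8 E hE
      apply le_antisymm inf_le_right
      apply le_inf _ le_rfl
      have h4 : E.map f ≤ S.map f := by
        rw [← h3]; exact inf_le_left
      have h5 := map_le_iff_le_comap.1 h4
      rw [comap_map_eq, hker] at h5
      exact h5.trans (sup_le le_rfl hOS)
  obtain ⟨E, hE⟩ := hne
  have hStop : S ≠ ⊤ := by
    intro h1; apply K8 E hE; rw [h1, top_inf_eq]
  constructor
  · have h1 : ∀ E ∈ 𝒦, E ≤ normalClosure (S : Set G) := by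
      intro E hE
      have h2 := K7 E hE (normalClosure (S : Set G) ⊓ E) (le_inf (inf_le_left.trans le_normalClosure) inf_le_right)
        inf_le_right ((le_inf (le_top.trans (normal_iff_top_le_normalizer.1 inferInstance)) le_normalizer).trans
          normalizer_inf_le)
      rw [← h2]; exact inf_le_left
    rw [eq_top_iff, ← hT.sup_resOf_eq, resOf_top]
    exact sup_le le_normalClosure (hres.trans (sSup_le h1))
  · obtain ⟨M, hM, hSM⟩ := (eq_top_or_exists_le_coatom S).resolve_left hStop
    refine ⟨M, ⟨hM, hSM⟩, ?_⟩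
    rintro M' ⟨hM', hSM'⟩
    have h1 := hkey M' M hSM' hSM hM' hM
    have hc : ∀ M : Subgroup G, S ≤ M → (M.map f).comap f = M := by
      intro M hSM
      rw [comap_map_eq, hker]; exact sup_eq_left.2 (hOS.trans hSM)
    rw [← hc M' hSM', h1, hc M hSM]

end transfer

end H53.Kfam
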