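import Cfsg.Agent.Lib.H53.WCP
import Cfsg.Agent.Lib.H26.Components
import Cfsg.Agent.S2843
import Mathlib

set_option autoImplicit false
set_option linter.unusedSectionVars false
set_option linter.unusedVariables false

/-! Large `Q` acting on a group with quasisimple `O^p`. -/

namespace H53.LQS

open Subgroup Cfsg H52.PCore H52.PRes H52.Syl H52.Sub H52.YL2 H52.YL H52.WC
open scoped commutatorElement

section abs

variable {A : Type*} [Group A] [Finite A] {p : ℕ} [Fact p.Prime]

theorem perfect_sub {L : Subgroup A} (hqs : IsQuasisimple L) : ⁅L, L⁆ = L := by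
  have h1 := H26.Quasisimple.commutator_eq_top hqs
  have h2 : (⁅(⊤ : Subgroup L), (⊤ : Subgroup L)⁆).map L.subtype = L := by
    have h3 : ⁅(⊤ : Subgroup L), (⊤ : Subgroup L)⁆ = ⊤ := h1
    rw [h3, ← MonoidHom.range_eq_map, range_subtype]
  rwa [map_commutator, ← MonoidHom.range_eq_map, range_subtype] at h2

/-- a nontrivial `p`-subgroup acts fully on a quasisimple `O^p(A)` if `O_p(A) = 1` -/
theorem comm_eq (h0 : pCore p A = ⊥) {L : Subgroup A} (hL : L = pResidual p A) (hqs : IsQuasisimple L)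
    {Y : Subgroup A} (hYp : IsPGroup p Y) (hY : Y ≠ ⊥) : ⁅L, Y⁆ = L := by
  have hLn : L.Normal := by rw [hL]; infer_instance
  have hLn' : (⊤ : Subgroup A) ≤ normalizer (L : Set A) := normal_iff_top_le_normalizer.1 hLn
  have hLL := perfect_sub hqs
  have hne : ⁅L, Y⁆ ≠ ⊥ := by
    intro hc
    apply hY
    obtain ⟨C, hC⟩ : ∃ C : Subgroup A, C = centralizer (L : Set A) := ⟨_, rfl⟩
    have hCn : C.Normal := by rw [hC]; infer_instance
    have hYC : Y ≤ C := by
      rw [commutator_comm, commutator_eq_bot_iff_le_centralizer] at hc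
      rw [hC]; exact hc
    have h1 : resOf p C ≤ L := by
      rw [hL, ← resOf_top]; exact resOf_mono le_top
    obtain ⟨T, hT⟩ := exists_sylIn (p := p) C
    have h2 : C ≤ normalizer (T : Set A) := by
      conv_lhs => rw [← hT.sup_resOf_eq]
      apply sup_le Subgroup.le_normalizer
      have h3 : resOf p C ≤ centralizer (C : Set A) := by
        rw [hC] at h1 ⊢
        rw [le_centralizer_iff]
        exact centralizer_le h1
      exact (h3.trans (centralizer_le hT.le)).trans (H52.Syl.centralizer_le_normalizer _)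
    have h3 : T = ⊥ := by
      rw [eq_bot_iff, ← h0]
      exact (le_pCoreOf hT.le h2 hT.isPGroup).trans (pCoreOf_le_pCore_of_subnormal hCn.isSubnormal)
    obtain ⟨x, hx, hxY⟩ := hT.exists_conj_le hYC hYp
    rw [h3] at hxY
    rw [eq_bot_iff]
    refine hxY.trans ?_
    rw [cj_normal (inferInstance : (⊥ : Subgroup A).Normal)]
  have h1 : ⁅L, Y⁆ ≤ L := le_normalizer_iff_commutator_le_left.1 (le_top.trans hLn')
  have h2 : (⁅L, Y⁆.subgroupOf L).Normal :=
    (normal_subgroupOf_iff_le_normalizer h1).2 (normalizer_commutator_ge_left L Y)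
  rcases H26.Components.normal_eq_or_le_center_of_le hqs h2 h1 with h3 | h3
  · exact h3
  · exfalso
    apply hne
    have h4 : ⁅⁅Y, L⁆, L⁆ = ⊥ := by rw [commutator_comm Y L]; exact h3
    have h5 := commutator_commutator_eq_bot_of_rotate h3 h4
    rwa [hLL] at h5

end abs

section bar

variable {G : Type*} [Group G] [Finite G] {p : ℕ} [Fact p.Prime]
variable (E U : Subgroup G) [hn : ((centralizer (U : Set G)).subgroupOf E).Normal]

def bar (X : Subgroup G) : Subgroup (↥E ⧸ (centralizer (U : Set G)).subgroupOf E) :=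
  (X.subgroupOf E).map (QuotientGroup.mk' ((centralizer (U : Set G)).subgroupOf E))

variable {E U}

theorem inf_subgroupOf_eq : (E ⊓ centralizer (U : Set G)).subgroupOf E = (centralizer (U : Set G)).subgroupOf E := by
  ext x; simp [mem_subgroupOf]

theorem bar_le_iff {X Y : Subgroup G} (hX : X ≤ E) (hY : Y ≤ E) :
    bar E U X ≤ bar E U Y ↔ X ≤ Y ⊔ (E ⊓ centralizer (U : Set G)) := by
  unfold bar
  rw [map_le_iff_le_comap, comap_map_eq, QuotientGroup.ker_mk', ← inf_subgroupOf_eq,
    ← subgroupOf_sup hY inf_le_left]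
  constructor
  · intro h
    have h1 := map_mono (f := E.subtype) h
    rwa [map_subgroupOf_eq_of_le hX, map_subgroupOf_eq_of_le (sup_le hY inf_le_left)] at h1
  · intro h
    exact comap_mono h

theorem bar_eq_bot_iff {X : Subgroup G} (hX : X ≤ E) : bar E U X = ⊥ ↔ X ≤ centralizer (U : Set G) := by
  unfold bar
  rw [Subgroup.map_eq_bot_iff, QuotientGroup.ker_mk']
  constructor
  · intro h x hx
    exact h (mem_subgroupOf.2 hx : (⟨x, hX hx⟩ : E) ∈ _)
  · intro h
    exact comap_mono h

theorem bar_commutator {X Y : Subgroup G} (hX : X ≤ E) (hY : Y ≤ E) :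
    bar E U ⁅X, Y⁆ = ⁅bar E U X, bar E U Y⁆ := by
  unfold bar
  rw [← map_commutator]
  congr 1
  apply map_injective E.subtype_injective
  rw [map_commutator, map_subgroupOf_eq_of_le hX, map_subgroupOf_eq_of_le hY,
    map_subgroupOf_eq_of_le ((commutator_mono hX hY).trans (commutator_le_self E))]

theorem bar_resOf {X : Subgroup G} (hX : X ≤ E) : bar E U (resOf p X) = resOf p (bar E U X) := by
  unfold bar
  rw [resOf_map]
  congr 1
  apply map_injective E.subtype_injective
  rw [map_subgroupOf_eq_of_le ((resOf_le X).trans hX), ← resOf_map, map_subgroupOf_eq_of_le hX]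

theorem bar_self : bar E U E = ⊤ := by
  unfold bar
  rw [subgroupOf_self, map_top_of_surjective _ (QuotientGroup.mk'_surjective _)]

theorem bar_isPGroup {X : Subgroup G} (hX : IsPGroup p X) : IsPGroup p (bar E U X) :=
  (hX.comap_subtype).map _

end bar

section main

variable {G : Type*} [Group G] [Finite G] {p : ℕ} [Fact p.Prime]
variable {E U Q : Subgroup G} [hn : ((centralizer (U : Set G)).subgroupOf E).Normal]

/-- data extracted from the statement -/
structure Dat (p : ℕ) (Q E U : Subgroup G) [((centralizer (U : Set G)).subgroupOf E).Normal] : Prop where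
  Qp : IsPGroup p Q
  wc : WC p Q
  QE : Q ≤ E
  QU : ¬ Q ≤ centralizer (U : Set G)
  red : pCore p (↥E ⧸ (centralizer (U : Set G)).subgroupOf E) = ⊥
  qs : IsQuasisimple ↥(bar E U (resOf p E))
  cent : ⁅ncl E Q, centralizer (U : Set G)⁆ ≤ pCoreOf p (ncl E Q)

namespace Dat

variable (h : Dat p Q E U)
include h

theorem barL : bar E U (resOf p E) = pResidual p (↥E ⧸ (centralizer (U : Set G)).subgroupOf E) := by
  rw [bar_resOf le_rfl, bar_self, resOf_top]

theorem comm_bar {Y : Subgroup G} (hYE : Y ≤ E) (hYp : IsPGroup p Y) (hYU : ¬ Y ≤ centralizer (U : Set G)) :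
    ⁅bar E U (resOf p E), bar E U Y⁆ = bar E U (resOf p E) :=
  comm_eq h.red h.barL h.qs (bar_isPGroup hYp) (by rw [Ne, bar_eq_bot_iff hYE]; exact hYU)

theorem R_le : resOf p (ncl E Q) ≤ resOf p E := resOf_mono (ncl_le_self h.QE)

theorem barR : bar E U (resOf p (ncl E Q)) = bar E U (resOf p E) := by
  apply le_antisymm
  · exact map_mono (comap_mono h.R_le)
  · have h1 : bar E U (resOf p E) ≤ bar E U (ncl E Q) := by
      rw [← h.comm_bar h.QE h.Qp h.QU, ← bar_commutator (resOf_le E) h.QE]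
      apply map_mono
      apply comap_mono
      exact (commutator_mono (resOf_le E) (le_ncl E Q)).trans
        (le_normalizer_iff_commutator_le_right.1 (le_normalizer_ncl E Q))
    rw [bar_resOf (ncl_le_self h.QE)]
    conv_lhs => rw [← resOf_resOf, bar_resOf (resOf_le E)]
    exact resOf_mono h1

theorem sup_eq : resOf p E ⊔ (E ⊓ centralizer (U : Set G)) = resOf p (ncl E Q) ⊔ (E ⊓ centralizer (U : Set G)) := by
  have hRE : resOf p (ncl E Q) ≤ E := h.R_le.trans (resOf_le E)
  apply le_antisymm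
  · exact sup_le ((bar_le_iff (resOf_le E) hRE).1 h.barR.ge) le_sup_right
  · exact sup_le_sup_right h.R_le _

theorem nR : E ≤ normalizer ((resOf p (ncl E Q) : Subgroup G) : Set G) :=
  (le_normalizer_ncl E Q).trans (normalizer_le_normalizer_resOf _)

/-- key: a subgroup `Z ⊴ R` with `R ≤ Z C_E(U)` and a `p`-group error equals `R` -/
theorem centD : ⁅resOf p (ncl E Q), E ⊓ centralizer (U : Set G)⁆ ≤ pCoreOf p (resOf p (ncl E Q)) := by
  obtain ⟨R, hR⟩ : ∃ R : Subgroup G, R = resOf p (ncl E Q) := ⟨_, rfl⟩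
  have hRN : R ≤ ncl E Q := by rw [hR]; exact resOf_le _
  have hnR : E ≤ normalizer (R : Set G) := by rw [hR]; exact h.nR
  have hRE : R ≤ E := hRN.trans (ncl_le_self h.QE)
  rw [← hR]
  have h1 : ⁅R, E ⊓ centralizer (U : Set G)⁆ ≤ R ⊓ pCoreOf p (ncl E Q) :=
    le_inf (le_normalizer_iff_commutator_le_left.1 (inf_le_left.trans hnR))
      ((commutator_mono hRN inf_le_right).trans h.cent)
  refine h1.trans (le_pCoreOf inf_le_left ?_ ((isPGroup_pCoreOf _).to_le inf_le_right))
  exact (le_inf Subgroup.le_normalizer (hRN.trans (le_normalizer_pCoreOf _))).trans normalizer_inf_le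

theorem resR : resOf p (resOf p (ncl E Q)) = resOf p (ncl E Q) := resOf_resOf _

/-- a normal subgroup `Z` of `R` such that `R = Z O_p(R)` is `R` -/
theorem eq_of_sup {Z : Subgroup G} (hZR : Z ≤ resOf p (ncl E Q))
    (hRZ : resOf p (ncl E Q) ≤ normalizer (Z : Set G))
    (hs : resOf p (ncl E Q) ≤ Z ⊔ pCoreOf p (resOf p (ncl E Q))) : Z = resOf p (ncl E Q) := by
  apply le_antisymm hZR
  have hres := h.resR
  obtain ⟨R, hR⟩ : ∃ R : Subgroup G, R = resOf p (ncl E Q) := ⟨_, rfl⟩
  rw [← hR] at hZR hRZ hs hres ⊢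
  have h1 : pCoreOf p R ⊔ Z = R := by
    apply le_antisymm (sup_le (pCoreOf_le R) hZR)
    rw [sup_comm]; exact hs
  rw [← hres]
  apply resOf_le_of_pMod
  have h2 := pMod_of_sup (p := p) (isPGroup_pCoreOf R) ((pCoreOf_le R).trans hRZ)
  rwa [h1] at h2

theorem le_sup_inf {Z : Subgroup G} (hZR : Z ≤ resOf p (ncl E Q))
    (hZ : bar E U (resOf p E) ≤ bar E U Z) : resOf p (ncl E Q) ≤ Z ⊔ (E ⊓ centralizer (U : Set G)) ⊓ resOf p (ncl E Q) := by
  have hRE : resOf p (ncl E Q) ≤ E := h.R_le.trans (resOf_le E)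
  have hZE := hZR.trans hRE
  have h1 := (bar_le_iff hRE hZE).1 (h.barR.le.trans hZ)
  have hCn : E ≤ normalizer ((E ⊓ centralizer (U : Set G) : Subgroup G) : Set G) := by
    have := (normal_subgroupOf_iff_le_normalizer (inf_le_left : E ⊓ centralizer (U : Set G) ≤ E)).1
      (by rw [inf_subgroupOf_eq]; exact hn)
    exact this
  rw [← H53.Kfam.dedekind' (hZE.trans hCn) hZR]
  exact le_inf h1 le_rfl

theorem perfect : ⁅resOf p (ncl E Q), resOf p (ncl E Q)⁆ = resOf p (ncl E Q) := by
  have hRE : resOf p (ncl E Q) ≤ E := h.R_le.trans (resOf_le E)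
  have h1 : bar E U (resOf p E) ≤ bar E U ⁅resOf p (ncl E Q), resOf p (ncl E Q)⁆ := by
    rw [bar_commutator hRE hRE, h.barR, perfect_sub h.qs]
  have h2 := h.le_sup_inf (commutator_le_self _) h1
  apply h.eq_of_sup (commutator_le_self _) ((le_inf le_normalizer le_normalizer).trans normalizer_commutator_le)
  -- `R = [R, Q]`
  have hRQ : ⁅resOf p (ncl E Q), Q⁆ = resOf p (ncl E Q) := H53.WCP.res_eq_commutator h.Qp h.wc h.QE
  have hcent := h.cent
  have hnR := h.nR
  obtain ⟨R, hR⟩ : ∃ R : Subgroup G, R = resOf p (ncl E Q) := ⟨_, rfl⟩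
  have hRN : R ≤ ncl E Q := by rw [hR]; exact resOf_le _
  rw [← hR] at h1 h2 hRQ hRE hnR ⊢
  have hQn : Q ≤ normalizer (R : Set G) := h.QE.trans hnR
  have hQn' : Q ≤ normalizer ((⁅R, R⁆ : Subgroup G) : Set G) := (le_inf hQn hQn).trans normalizer_commutator_le
  have hD : Q ≤ normalizer ((pCoreOf p R : Subgroup G) : Set G) := hQn.trans (normalizer_le_normalizer_pCoreOf R)
  have hBn : R ≤ normalizer ((⁅R, R⁆ ⊔ pCoreOf p R : Subgroup G) : Set G) :=
    (le_inf ((le_inf Subgroup.le_normalizer Subgroup.le_normalizer).trans normalizer_commutator_le)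
      (le_normalizer_pCoreOf R)).trans normalizer_sup_le
  have h3 : R ≤ cmod Q (⁅R, R⁆ ⊔ pCoreOf p R) := by
    refine h2.trans (sup_le ?_ ?_)
    · rw [le_cmod_iff ((commutator_le_self R).trans hBn)]
      exact (le_normalizer_iff_commutator_le_right.1 hQn').trans le_sup_left
    · rw [le_cmod_iff (inf_le_right.trans hBn)]
      refine le_trans ?_ le_sup_right
      have h4 : ⁅Q, (E ⊓ centralizer (U : Set G)) ⊓ R⁆ ≤ R ⊓ pCoreOf p (ncl E Q) := by
        apply le_inf
        · exact (commutator_mono le_rfl inf_le_right).trans (le_normalizer_iff_commutator_le_right.1 hQn)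
        · exact (commutator_mono (le_ncl E Q) (inf_le_left.trans inf_le_right)).trans hcent
      refine h4.trans (le_pCoreOf inf_le_left ?_ ((isPGroup_pCoreOf _).to_le inf_le_right))
      exact (le_inf Subgroup.le_normalizer (hRN.trans (le_normalizer_pCoreOf _))).trans normalizer_inf_le
  rw [le_cmod_iff hBn, commutator_comm, hRQ] at h3
  exact h3

theorem comm_Y {Y : Subgroup G} (hYE : Y ≤ E) (hYp : IsPGroup p Y) (hYU : ¬ Y ≤ centralizer (U : Set G)) :
    ⁅resOf p (ncl E Q), Y⁆ = resOf p (ncl E Q) := by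
  have hRE : resOf p (ncl E Q) ≤ E := h.R_le.trans (resOf_le E)
  have hle : ⁅resOf p (ncl E Q), Y⁆ ≤ resOf p (ncl E Q) :=
    le_normalizer_iff_commutator_le_left.1 (hYE.trans h.nR)
  have h1 : bar E U (resOf p E) ≤ bar E U ⁅resOf p (ncl E Q), Y⁆ := by
    rw [bar_commutator hRE hYE, h.barR, h.comm_bar hYE hYp hYU]
  have h2 := h.le_sup_inf hle h1
  have hRZ : resOf p (ncl E Q) ≤ normalizer ((⁅resOf p (ncl E Q), Y⁆ : Subgroup G) : Set G) :=
    normalizer_commutator_ge_left _ _
  apply h.eq_of_sup hle hRZ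
  have hper := h.perfect
  have hcD := h.centD
  obtain ⟨R, hR⟩ : ∃ R : Subgroup G, R = resOf p (ncl E Q) := ⟨_, rfl⟩
  rw [← hR] at h1 h2 hRE hRZ hper hcD hle ⊢
  have hBn : R ≤ normalizer ((⁅R, Y⁆ ⊔ pCoreOf p R : Subgroup G) : Set G) :=
    (le_inf hRZ (le_normalizer_pCoreOf R)).trans normalizer_sup_le
  have h3 : R ≤ cmod R (⁅R, Y⁆ ⊔ pCoreOf p R) := by
    refine h2.trans (sup_le ?_ ?_)
    · rw [le_cmod_iff (hle.trans hBn)]
      exact (le_normalizer_iff_commutator_le_right.1 hRZ).trans le_sup_left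
    · rw [le_cmod_iff (inf_le_right.trans hBn)]
      exact ((commutator_mono le_rfl inf_le_left).trans hcD).trans le_sup_right
  rw [le_cmod_iff hBn, hper] at h3
  exact h3

end Dat

end main

end H53.LQS
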