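import Cfsg.Agent.Lib.H53.LQS
import Mathlib

set_option autoImplicit false
set_option linter.unusedSectionVars false
set_option linter.unusedVariables false

/-! Large `Q` acting on a group with quasisimple `O^p`: quotients of `O^p(⟨Q^E⟩)`. -/

namespace H53.LQS

open Subgroup Cfsg H52.PCore H52.PRes H52.Syl H52.Sub H52.YL2 H52.YL H52.WC
open scoped commutatorElement

variable {G : Type*} [Group G] [Finite G] {p : ℕ} [Fact p.Prime]
variable {E U Q : Subgroup G} [hn : ((centralizer (U : Set G)).subgroupOf E).Normal]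

theorem qs_bar (h : Dat p Q E U) (R : Subgroup G) (hR : R = resOf p (ncl E Q))
    [hn2 : ((centralizer (U : Set G)).subgroupOf R).Normal] :
    IsQuasisimple (↥R ⧸ (centralizer (U : Set G)).subgroupOf R) := by
  have hRE : R ≤ E := by rw [hR]; exact h.R_le.trans (resOf_le E)
  have hbar : bar E U R = bar E U (resOf p E) := by rw [hR]; exact h.barR
  have hqs := h.qs
  rw [← hbar] at hqs
  obtain ⟨g, hg⟩ : ∃ g : ↥R →* ↥(bar E U R), ∀ x : R, ((g x : ↥(bar E U R)) : ↥E ⧸ (centralizer (U : Set G)).subgroupOf E) =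
      QuotientGroup.mk' _ (inclusion hRE x) := by
    refine ⟨((QuotientGroup.mk' ((centralizer (U : Set G)).subgroupOf E)).comp (inclusion hRE)).codRestrict _ ?_, fun x => rfl⟩
    intro x
    exact ⟨inclusion hRE x, mem_subgroupOf.2 x.2, rfl⟩
  have hsurj : Function.Surjective g := by
    rintro ⟨_, ⟨x, hx, rfl⟩⟩
    refine ⟨⟨(x : G), mem_subgroupOf.1 hx⟩, ?_⟩
    apply Subtype.ext
    rw [hg]
    rfl
  have hker : g.ker = (centralizer (U : Set G)).subgroupOf R := by
    ext x
    rw [MonoidHom.mem_ker, Subtype.ext_iff, hg, mem_subgroupOf]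
    have h1 : (QuotientGroup.mk' ((centralizer (U : Set G)).subgroupOf E)) (inclusion hRE x) = 1 ↔
        inclusion hRE x ∈ (centralizer (U : Set G)).subgroupOf E := by
      rw [← MonoidHom.mem_ker, QuotientGroup.ker_mk']
    exact h1
  have e : (↥R ⧸ (centralizer (U : Set G)).subgroupOf R) ≃* ↥(bar E U R) :=
    (QuotientGroup.quotientMulEquivOfEq hker.symm).trans (QuotientGroup.quotientKerEquivOfSurjective g hsurj)
  exact H26.Quasisimple.of_mulEquiv e.symm hqs

theorem pCore_le (h : Dat p Q E U) (R : Subgroup G) (hR : R = resOf p (ncl E Q)) :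
    pCoreOf p R ≤ centralizer (U : Set G) := by
  have hRE : R ≤ E := by rw [hR]; exact h.R_le.trans (resOf_le E)
  have hnR : E ≤ normalizer (R : Set G) := by rw [hR]; exact h.nR
  have h1 : pCoreOf p R ≤ E := (pCoreOf_le R).trans hRE
  rw [← bar_eq_bot_iff h1, eq_bot_iff, ← h.red]
  apply le_pCore
  · have h2 : ((pCoreOf p R).subgroupOf E).Normal :=
      (normal_subgroupOf_iff_le_normalizer h1).2 (hnR.trans (normalizer_le_normalizer_pCoreOf R))
    exact h2.map _ (QuotientGroup.mk'_surjective _)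
  · exact bar_isPGroup (isPGroup_pCoreOf R)

theorem qs_core (h : Dat p Q E U) (R : Subgroup G) (hR : R = resOf p (ncl E Q))
    [hn2 : ((centralizer (U : Set G)).subgroupOf R).Normal] :
    IsQuasisimple (↥R ⧸ pCore p ↥R) := by
  have hqs := qs_bar h R hR
  have hRE : R ≤ E := by rw [hR]; exact h.R_le.trans (resOf_le E)
  have hper : ⁅R, R⁆ = R := by rw [hR]; exact h.perfect
  have hPer : Group.IsPerfect ↥R := by
    rw [Group.isPerfect_def]
    show ⁅(⊤ : Subgroup R), (⊤ : Subgroup R)⁆ = ⊤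
    apply map_injective R.subtype_injective
    rw [map_commutator, ← MonoidHom.range_eq_map, range_subtype, hper]
  have hle : pCore p ↥R ≤ (centralizer (U : Set G)).subgroupOf R := by
    intro x hx
    rw [mem_subgroupOf]
    exact pCore_le h R hR ⟨x, hx, rfl⟩
  obtain ⟨f, hf⟩ : ∃ f : (↥R ⧸ pCore p ↥R) →* (↥R ⧸ (centralizer (U : Set G)).subgroupOf R),
      ∀ x : R, f (QuotientGroup.mk' _ x) = QuotientGroup.mk' _ x := by
    refine ⟨QuotientGroup.map _ _ (MonoidHom.id R) hle, fun x => rfl⟩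
  have hsurj : Function.Surjective f := by
    intro y
    obtain ⟨x, rfl⟩ := QuotientGroup.mk'_surjective _ y
    exact ⟨QuotientGroup.mk' _ x, hf x⟩
  have hker : f.ker ≤ center (↥R ⧸ pCore p ↥R) := by
    intro y hy
    obtain ⟨x, rfl⟩ := QuotientGroup.mk'_surjective _ y
    rw [MonoidHom.mem_ker, hf, ← MonoidHom.mem_ker, QuotientGroup.ker_mk', mem_subgroupOf] at hy
    rw [mem_center_iff]
    intro z
    obtain ⟨w, rfl⟩ := QuotientGroup.mk'_surjective _ z
    rw [← map_mul, ← map_mul]
    have h1 : ⁅(w : G), (x : G)⁆ ∈ pCoreOf p R := by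
      have h2 := h.centD
      rw [← hR] at h2
      exact h2 (commutator_mem_commutator w.2 ⟨hRE x.2, hy⟩)
    obtain ⟨c, hc, hcx⟩ := h1
    have h3 : c = ⁅w, x⁆ := Subtype.ext hcx
    rw [h3] at hc
    have h4 : QuotientGroup.mk' (pCore p ↥R) ⁅w, x⁆ = 1 := by
      rw [← MonoidHom.mem_ker, QuotientGroup.ker_mk']; exact hc
    rw [map_commutatorElement, commutatorElement_eq_one_iff_mul_comm] at h4
    rw [map_mul, map_mul]; exact h4
  have hPq : Group.IsPerfect (↥R ⧸ pCore p ↥R) := Group.IsPerfect.ofSurjective (QuotientGroup.mk'_surjective _)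
  exact H26.Quasisimple.of_quotient hPq f hsurj hker hqs

end H53.LQS
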