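import Cfsg.Agent.Lib.H57.M24Fus
import Cfsg.Agent.Lib.H52.Syl
import Mathlib

set_option autoImplicit false

/-! Sylow 2-subgroups of `M24` are self-normalizing. -/

namespace H53.M24SN

open Cfsg Equiv Equiv.Perm

/-- a self-normalizing `p`-subgroup is Sylow, so all Sylow `p`-subgroups are self-normalizing -/
theorem sylow_of_self_normalizing {G : Type*} [Group G] [Finite G] {p : ℕ} [Fact p.Prime] {T : Subgroup G}
    (hT : IsPGroup p T) (hN : Subgroup.normalizer (T : Set G) = T) (S : Sylow p G) :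
    Subgroup.normalizer ((S : Subgroup G) : Set G) = S := by
  obtain ⟨P, hP⟩ := hT.exists_le_sylow
  have hTP : T = (P : Subgroup G) := by
    by_contra hne
    have hlt : T < (P : Subgroup G) := lt_of_le_of_ne hP hne
    have hnil : Group.IsNilpotent (P : Subgroup G) := P.2.isNilpotent
    have hnc := Group.normalizerCondition_of_isNilpotent (G := (P : Subgroup G))
    have h1 : T.subgroupOf P < ⊤ := by
      rw [lt_top_iff_ne_top]
      intro h2
      rw [Subgroup.subgroupOf_eq_top] at h2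
      exact absurd (lt_of_lt_of_le hlt h2) (lt_irrefl _)
    have h2 := hnc _ h1
    obtain ⟨x, hx, hxT⟩ := SetLike.exists_of_lt h2
    apply hxT
    rw [Subgroup.mem_subgroupOf, ← hN, Subgroup.mem_normalizer_iff]
    intro t
    rw [Subgroup.mem_normalizer_iff] at hx
    constructor
    · intro ht
      exact (hx ⟨t, hP ht⟩).1 (Subgroup.mem_subgroupOf.2 ht)
    · intro ht
      have h3 : t ∈ (P : Subgroup G) := by
        have h4 := (P : Subgroup G).mul_mem ((P : Subgroup G).mul_mem ((P : Subgroup G).inv_mem x.2) (hP ht)) x.2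
        have e : (x : G)⁻¹ * ((x : G) * t * (x : G)⁻¹) * (x : G) = t := by group
        rwa [e] at h4
      exact (hx ⟨t, h3⟩).2 (Subgroup.mem_subgroupOf.2 ht)
  obtain ⟨g, hg⟩ := MulAction.exists_smul_eq G P S
  have h1 : (S : Subgroup G) = H52.Syl.cj g (P : Subgroup G) := by
    rw [← hg]; rfl
  rw [h1, ← H52.Syl.cj_normalizer, ← hTP, hN]

theorem apply_inv_self' {α : Type*} (f : Perm α) (x : α) : f (f⁻¹ x) = x := Equiv.apply_symm_apply f x

theorem inv_apply_self' {α : Type*} (f : Perm α) (x : α) : f⁻¹ (f x) = x := Equiv.symm_apply_apply f x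

/-- the binary tree on eight points is preserved -/
def Tree (g : Perm (Fin 8)) : Prop :=
  (∀ i j, (g i).val / 2 = (g j).val / 2 ↔ i.val / 2 = j.val / 2) ∧
    (∀ i j, (g i).val / 4 = (g j).val / 4 ↔ i.val / 4 = j.val / 4)

def Q : Subgroup (Perm (Fin 8)) where
  carrier := {g | Tree g}
  one_mem' := ⟨fun _ _ => Iff.rfl, fun _ _ => Iff.rfl⟩
  mul_mem' := by
    rintro a b ⟨ha1, ha2⟩ ⟨hb1, hb2⟩
    refine ⟨fun i j => ?_, fun i j => ?_⟩
    · rw [Perm.mul_apply, Perm.mul_apply, ha1, hb1]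
    · rw [Perm.mul_apply, Perm.mul_apply, ha2, hb2]
  inv_mem' := by
    rintro a ⟨ha1, ha2⟩
    refine ⟨fun i j => ?_, fun i j => ?_⟩
    · rw [← ha1, apply_inv_self', apply_inv_self']
    · rw [← ha2, apply_inv_self', apply_inv_self']

theorem pow_eight {g : Perm (Fin 8)} (hg : g ∈ Q) : g ^ 8 = 1 := by
  obtain ⟨h1, h2⟩ := hg
  have hh : g ^ 2 ∈ Q := Q.pow_mem ⟨h1, h2⟩ 2
  obtain ⟨k1, k2⟩ := hh
  have a1 : ∀ i, ((g ^ 2) i).val / 4 = i.val / 4 := by
    intro i
    have e : (g ^ 2) i = g (g i) := by rw [pow_two]; rfl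
    rw [e]
    have h3 := h2 (g i) i
    have b1 := i.2
    have b2 := (g i).2
    have b3 := (g (g i)).2
    omega
  have hh4 : g ^ 4 ∈ Q := Q.pow_mem ⟨h1, h2⟩ 4
  obtain ⟨l1, l2⟩ := hh4
  have e4 : ∀ i, (g ^ 4) i = (g ^ 2) ((g ^ 2) i) := by
    intro i
    rw [← Perm.mul_apply, ← pow_add]
  have a2 : ∀ i, ((g ^ 4) i).val / 2 = i.val / 2 := by
    intro i
    rw [e4]
    have h3 := k1 ((g ^ 2) i) i
    have b1 := a1 i
    have b2 := a1 ((g ^ 2) i)
    omega
  ext i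
  have e8 : (g ^ 8) i = (g ^ 4) ((g ^ 4) i) := by rw [← Perm.mul_apply, ← pow_add]
  rw [e8, Perm.one_apply]
  have b1 := a2 i
  have b2 := a2 ((g ^ 4) i)
  by_cases h : (g ^ 4) i = i
  · rw [h, h]
  · have h3 : (g ^ 4) ((g ^ 4) i) ≠ (g ^ 4) i := fun h4 => h ((g ^ 4).injective h4)
    have h4 : ((g ^ 4) i).val ≠ i.val := fun h5 => h (Fin.ext h5)
    have h5 : ((g ^ 4) ((g ^ 4) i)).val ≠ ((g ^ 4) i).val := fun h6 => h3 (Fin.ext h6)
    omega

/-- explicit elements -/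
def invo (v : Fin 8 → Fin 8) (h : ∀ i, v (v i) = i) : Perm (Fin 8) := ⟨v, v, h, h⟩

def c0 : Perm (Fin 8) := invo ![2, 3, 0, 1, 4, 5, 6, 7] (by decide)
def c1 : Perm (Fin 8) := invo ![0, 1, 2, 3, 6, 7, 4, 5] (by decide)
def e1 : Perm (Fin 8) := invo ![0, 1, 3, 2, 5, 4, 6, 7] (by decide)
def e2 : Perm (Fin 8) := invo ![1, 0, 2, 3, 5, 4, 6, 7] (by decide)
def e3 : Perm (Fin 8) := invo ![1, 0, 2, 3, 4, 5, 7, 6] (by decide)

theorem c0_eq : c0 = swap 0 2 * swap 1 3 := by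
  apply Equiv.ext; decide
theorem c1_eq : c1 = swap 4 6 * swap 5 7 := by
  apply Equiv.ext; decide
theorem e1_eq : e1 = swap 2 3 * swap 4 5 := by
  apply Equiv.ext; decide
theorem e2_eq : e2 = swap 0 1 * swap 4 5 := by
  apply Equiv.ext; decide
theorem e3_eq : e3 = swap 6 7 * swap 0 1 := by
  apply Equiv.ext; decide

def lst : List (Perm (Fin 8)) := [c0, c1, e1, e2, e3]

theorem c0_tree : Tree c0 := by unfold Tree; decide
theorem c1_tree : Tree c1 := by unfold Tree; decide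
theorem e1_tree : Tree e1 := by unfold Tree; decide
theorem e2_tree : Tree e2 := by unfold Tree; decide
theorem e3_tree : Tree e3 := by unfold Tree; decide

theorem lst_mem : ∀ q ∈ lst, q ∈ Q ∧ sign q = 1 := by
  intro q hq
  simp only [lst, List.mem_cons, List.not_mem_nil, or_false] at hq
  rcases hq with rfl | rfl | rfl | rfl | rfl
  · exact ⟨c0_tree, by rw [c0_eq, map_mul, sign_swap (by decide), sign_swap (by decide)]; rfl⟩
  · exact ⟨c1_tree, by rw [c1_eq, map_mul, sign_swap (by decide), sign_swap (by decide)]; rfl⟩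
  · exact ⟨e1_tree, by rw [e1_eq, map_mul, sign_swap (by decide), sign_swap (by decide)]; rfl⟩
  · exact ⟨e2_tree, by rw [e2_eq, map_mul, sign_swap (by decide), sign_swap (by decide)]; rfl⟩
  · exact ⟨e3_tree, by rw [e3_eq, map_mul, sign_swap (by decide), sign_swap (by decide)]; rfl⟩

theorem sep2 : ∀ a b : Fin 8, a.val / 2 ≠ b.val / 2 → ∃ q ∈ lst, q a = a ∧ q b ≠ b := by decide +kernel

theorem sep4 : ∀ a b : Fin 8, a.val / 4 ≠ b.val / 4 → ∃ q ∈ lst, q a = a ∧ (q b).val / 2 ≠ b.val / 2 := by decide +kernel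

theorem fixes_partner {q : Perm (Fin 8)} (hq : q ∈ Q) {i j : Fin 8} (hij : i.val / 2 = j.val / 2) (hi : q i = i) :
    q j = j := by
  by_cases h : i = j
  · rw [← h, hi]
  · have h1 := (hq.1 i j).2 hij
    rw [hi] at h1
    have h2 : q j ≠ i := by
      intro h3
      exact h (q.injective (hi.trans h3.symm))
    have h3 : i.val ≠ j.val := fun h5 => h (Fin.ext h5)
    have h4 : (q j).val ≠ i.val := fun h5 => h2 (Fin.ext h5)
    apply Fin.ext
    omega

theorem pair_of_norm {g : Perm (Fin 8)} (hg : ∀ q ∈ Q, sign q = 1 → g⁻¹ * q * g ∈ Q) {i j : Fin 8}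
    (hij : i.val / 2 = j.val / 2) : (g i).val / 2 = (g j).val / 2 := by
  by_contra hne
  obtain ⟨q, hq, h1, h2⟩ := sep2 (g i) (g j) hne
  obtain ⟨hqQ, hqs⟩ := lst_mem q hq
  have h3 := hg q hqQ hqs
  have h4 : (g⁻¹ * q * g) i = i := by
    rw [Perm.mul_apply, Perm.mul_apply, h1, inv_apply_self']
  have h5 := fixes_partner h3 hij h4
  apply h2
  rw [Perm.mul_apply, Perm.mul_apply, Perm.inv_eq_iff_eq] at h5
  exact h5

theorem quad_of_norm {g : Perm (Fin 8)} (hg : ∀ q ∈ Q, sign q = 1 → g⁻¹ * q * g ∈ Q) {i j : Fin 8}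
    (hij : i.val / 4 = j.val / 4) : (g i).val / 4 = (g j).val / 4 := by
  by_cases h2 : i.val / 2 = j.val / 2
  · have := pair_of_norm hg h2
    omega
  by_contra hne
  obtain ⟨q, hq, h1, h3⟩ := sep4 (g i) (g j) hne
  obtain ⟨hqQ, hqs⟩ := lst_mem q hq
  have h4 := hg q hqQ hqs
  have h5 : (g⁻¹ * q * g) i = i := by
    rw [Perm.mul_apply, Perm.mul_apply, h1, inv_apply_self']
  -- `q'` preserves the quad of `i`, and so the pair of `j`
  set q' := g⁻¹ * q * g with hq'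
  have h6 := (h4.2 j i).2 hij.symm
  have h7 := h4.1 j i
  rw [h5] at h6 h7
  have h8 : (q' j).val / 2 = j.val / 2 := by omega
  have h9 := pair_of_norm hg h8
  have h10 : g (q' j) = q (g j) := by
    rw [hq', Perm.mul_apply, Perm.mul_apply, apply_inv_self']
  rw [h10] at h9
  exact h3 h9

theorem mem_Q_of_norm {g : Perm (Fin 8)} (hg : ∀ q ∈ Q, sign q = 1 → g⁻¹ * q * g ∈ Q)
    (hg' : ∀ q ∈ Q, sign q = 1 → g * q * g⁻¹ ∈ Q) : g ∈ Q := by
  have hg'' : ∀ q ∈ Q, sign q = 1 → (g⁻¹)⁻¹ * q * g⁻¹ ∈ Q := by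
    intro q hq hs; rw [inv_inv]; exact hg' q hq hs
  refine ⟨fun i j => ⟨fun h => ?_, fun h => pair_of_norm hg h⟩, fun i j => ⟨fun h => ?_, fun h => quad_of_norm hg h⟩⟩
  · have := pair_of_norm hg'' h
    rwa [inv_apply_self', inv_apply_self'] at this
  · have := quad_of_norm hg'' h
    rwa [inv_apply_self', inv_apply_self'] at this

section main
open H8.GolayCode H57.OctTab H57.OctStab H57.M24Fus

theorem hG0 : ∀ g, g ∈ M24 ↔ g ∈ M24 ∧ ∀ x ∈ (∅ : Finset GolayPt), g x = x := by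
  intro g; simp

noncomputable def eps : B (∅ : Finset GolayPt) ≃ Fin 8 :=
  Fintype.equivFinOfCardEq (by rw [card_B (Finset.empty_subset _)]; rfl)

/-- the action of the octad stabiliser on eight points -/
noncomputable def Phi : Hs M24 →* Perm (Fin 8) := (eps.permCongrHom).toMonoidHom.comp (phi hG0)

theorem Phi_surj {σ : Perm (Fin 8)} (hσ : sign σ = 1) : ∃ h, Phi h = σ := by
  classical
  have h1 : (eps.symm.permCongr σ) ∈ alternatingGroup (B (∅ : Finset GolayPt)) := by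
    rw [mem_alternatingGroup, sign_permCongr, hσ]
  obtain ⟨h, hh⟩ := alt_le_range (Finset.empty_subset _) hG0 h1
  refine ⟨h, ?_⟩
  show eps.permCongr (phi hG0 h) = σ
  rw [hh]
  ext i
  simp [Equiv.permCongr_apply]

theorem Phi_ker {h : Hs M24} (hh : Phi h = 1) : ((h : M24) : Perm GolayPt) ∈ VO := by
  rw [← ker_phi hG0]
  apply eps.permCongrHom.injective
  rw [map_one]; exact hh

/-- the Sylow subgroup -/
noncomputable def T : Subgroup M24 := (Q.comap Phi).map (Hs M24).subtype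

theorem T_isPGroup : IsPGroup 2 T := by
  rintro ⟨_, ⟨t, ht, rfl⟩⟩
  refine ⟨4, ?_⟩
  apply Subtype.ext
  have h1 : Phi (t ^ 8) = 1 := by rw [map_pow]; exact pow_eight ht
  have h2 := VO_sq (Phi_ker h1)
  have h3 : (t ^ 8) * (t ^ 8) = 1 := by
    apply Subtype.ext
    apply Subtype.ext
    exact h2
  have h4 : t ^ 2 ^ 4 = 1 := by
    rw [← h3, ← pow_add]; norm_num
  show ((Hs M24).subtype t) ^ 2 ^ 4 = 1
  rw [← map_pow, h4, map_one]

theorem VO_mem_T {v : Perm GolayPt} (hv : v ∈ VO) : (⟨v, hv.1⟩ : M24) ∈ T := by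
  have h1 : (⟨v, hv.1⟩ : M24) ∈ Hs M24 := fun x => VO_mem_O hv
  refine ⟨⟨⟨v, hv.1⟩, h1⟩, ?_, rfl⟩
  have h2 : phi hG0 ⟨⟨v, hv.1⟩, h1⟩ = 1 := (ker_phi hG0 _).2 hv
  show Phi _ ∈ Q
  have h3 : Phi ⟨⟨v, hv.1⟩, h1⟩ = 1 := by
    show eps.permCongrHom (phi hG0 _) = 1
    rw [h2, map_one]
  rw [h3]; exact Q.one_mem

theorem T_pres {t : M24} (ht : t ∈ T) (x : GolayPt) : (t : Perm GolayPt) x ∈ O ↔ x ∈ O := by
  obtain ⟨h, _, rfl⟩ := ht
  exact h.2 x

theorem pres_of_norm {g : M24} (hg : ∀ t ∈ T, g * t * g⁻¹ ∈ T) {x : GolayPt} (hx : x ∉ O) :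
    (g : Perm GolayPt) x ∉ O := by
  classical
  have key : ∀ y, y ∉ O → ∃ t ∈ T, (t : Perm GolayPt) (pt 4) = y := by
    intro y hy
    obtain ⟨v, hv, _, hvy⟩ := VO_trans hy
    exact ⟨⟨v, hv.1⟩, VO_mem_T hv, hvy⟩
  have hact : ∀ t : M24, (g : Perm GolayPt) ((t : Perm GolayPt) (pt 4)) =
      ((g * t * g⁻¹ : M24) : Perm GolayPt) ((g : Perm GolayPt) (pt 4)) := by
    intro t
    show _ = (g : Perm GolayPt) ((t : Perm GolayPt) ((g : Perm GolayPt)⁻¹ ((g : Perm GolayPt) (pt 4))))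
    rw [inv_apply_self']
  have h4 : (g : Perm GolayPt) (pt 4) ∉ O := by
    intro h4
    -- all points outside `O` are mapped into `O`
    have h5 : ∀ y, y ∉ O → (g : Perm GolayPt) y ∈ O := by
      intro y hy
      obtain ⟨t, ht, rfl⟩ := key y hy
      rw [hact, T_pres (hg t ht)]
      exact h4
    have h6 : (Finset.univ \ O).image (g : Perm GolayPt) ⊆ O := by
      intro y hy
      obtain ⟨z, hz, rfl⟩ := Finset.mem_image.1 hy
      exact h5 z (Finset.mem_sdiff.1 hz).2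
    have h7 := Finset.card_le_card h6
    rw [Finset.card_image_of_injective _ (g : Perm GolayPt).injective,
      Finset.card_sdiff_of_subset (Finset.subset_univ _), Finset.card_univ, card_pt, card_O] at h7
    omega
  obtain ⟨t, ht, rfl⟩ := key x hx
  rw [hact, T_pres (hg t ht)]
  exact h4

theorem normalizer_T : Subgroup.normalizer (T : Set M24) = T := by
  apply le_antisymm _ Subgroup.le_normalizer
  intro g hg
  rw [Subgroup.mem_normalizer_iff] at hg
  have h1 : ∀ t ∈ T, g * t * g⁻¹ ∈ T := fun t ht => (hg t).1 ht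
  have h2 : ∀ t ∈ T, g⁻¹ * t * g⁻¹⁻¹ ∈ T := by
    intro t ht
    rw [hg, inv_inv]
    have e : g * (g⁻¹ * t * g) * g⁻¹ = t := by group
    rw [e]; exact ht
  have hO : g ∈ Hs M24 := by
    intro x
    constructor
    · intro h
      by_contra hx
      exact pres_of_norm h1 hx h
    · intro h
      by_contra hx
      have h3 := pres_of_norm h2 hx
      apply h3
      have e : ((g⁻¹ : M24) : Perm GolayPt) ((g : Perm GolayPt) x) = x := by
        show (g : Perm GolayPt)⁻¹ ((g : Perm GolayPt) x) = x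
        rw [inv_apply_self']
      rw [e]; exact h
  refine ⟨⟨g, hO⟩, ?_, rfl⟩
  show Phi ⟨g, hO⟩ ∈ Q
  have hmem : ∀ h : Hs M24, (h : M24) ∈ T ↔ Phi h ∈ Q := by
    intro h
    constructor
    · rintro ⟨k, hk, hkh⟩
      have : k = h := Subtype.ext hkh
      rw [← this]; exact hk
    · intro hk
      exact ⟨h, hk, rfl⟩
  apply mem_Q_of_norm
  · intro q hq hs
    obtain ⟨t, rfl⟩ := Phi_surj hs
    have h3 := h2 _ ((hmem t).2 hq)
    rw [inv_inv] at h3
    have h4 : ((⟨g, hO⟩⁻¹ * t * ⟨g, hO⟩ : Hs M24) : M24) ∈ T := h3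
    rw [hmem, map_mul, map_mul, map_inv] at h4
    exact h4
  · intro q hq hs
    obtain ⟨t, rfl⟩ := Phi_surj hs
    have h3 := h1 _ ((hmem t).2 hq)
    have h4 : ((⟨g, hO⟩ * t * ⟨g, hO⟩⁻¹ : Hs M24) : M24) ∈ T := h3
    rw [hmem, map_mul, map_mul, map_inv] at h4
    exact h4

theorem main (S : Sylow 2 M24) : Subgroup.normalizer ((S : Subgroup M24) : Set M24) = S :=
  have : Fact (Nat.Prime 2) := ⟨Nat.prime_two⟩
  sylow_of_self_normalizing T_isPGroup normalizer_T S

end main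

end H53.M24SN
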