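import Cfsg.Agent.Lib.H53.FS20

/-!
# The product of the members in `T`
-/

set_option autoImplicit false
set_option linter.unusedSectionVars false
set_option linter.unusedVariables false

namespace H53.MS

open Subgroup H51.FF H51.SylowAmb H53.PU H51.OG

section

variable {p : ℕ} [hp : Fact p.Prime] {H V : Type*} [Group H] [Finite H] [AddCommGroup V] [Finite V]
  [DistribMulAction H V] {T M : Subgroup H}

theorem exists_fixed_of_norm {C : Subgroup H} (hCp : IsPGroup p C) (hC1 : C ≠ ⊥) {x : H}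
    (hx : IsPGroup p (zpowers x)) (hxC : cg x C = C) : ∃ e ∈ C, e ≠ 1 ∧ x * e = e * x := by
  have hn : ∀ g ∈ zpowers x, cg g C = C := by
    intro g hg
    have h1 : zpowers x ≤ normalizer (C : Set H) := by rw [zpowers_le]; exact mem_nz_iff.2 hxC
    exact mem_nz_iff.1 (h1 hg)
  letI act : MulAction (zpowers x) C :=
    { smul := fun g c => ⟨(g : H) * c * (g : H)⁻¹, by
        have h1 := hn g g.2
        have h2 : (g : H) * c * (g : H)⁻¹ ∈ cg (g : H) C := by
          rw [mem_cg]
          have e1 : (g : H)⁻¹ * ((g : H) * c * (g : H)⁻¹) * g = c := by group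
          rw [e1]; exact c.2
        rwa [h1] at h2⟩
      one_smul := fun c => Subtype.ext (by
        show ((1 : zpowers x) : H) * c * ((1 : zpowers x) : H)⁻¹ = c
        rw [OneMemClass.coe_one]; group)
      mul_smul := fun a b c => Subtype.ext (by
        show ((a * b : zpowers x) : H) * c * ((a * b : zpowers x) : H)⁻¹ = (a : H) * ((b : H) * c * (b : H)⁻¹) * (a : H)⁻¹
        rw [Subgroup.coe_mul]; group) }
  have hdvd : p ∣ Nat.card C := by
    obtain ⟨k, hk⟩ := IsPGroup.iff_card.1 hCp
    have h1 : 1 < Nat.card C := (Subgroup.one_lt_card_iff_ne_bot C).2 hC1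
    rw [hk]
    apply dvd_pow_self
    rintro rfl
    rw [hk, pow_zero] at h1
    omega
  obtain ⟨e, he, hne⟩ := hx.exists_fixed_point_of_prime_dvd_card_of_fixed_point C hdvd (a := (1 : C)) (by
    intro g
    apply Subtype.ext
    show (g : H) * ((1 : C) : H) * (g : H)⁻¹ = ((1 : C) : H)
    rw [OneMemClass.coe_one]; group)
  refine ⟨e, e.2, fun h1 => hne (Subtype.ext h1.symm), ?_⟩
  have h1 := congrArg Subtype.val (he ⟨x, mem_zpowers x⟩)
  exact mul_inv_eq_iff_eq_mul.1 h1

section

variable (sit : Sit p V T M) (wd : Wd p H V) (fam : H51.OG.Fam p (offs p H V))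

include sit wd fam

omit fam in
theorem jt_ab : Cm (sSup (AT p V T)) (sSup (AT p V T)) :=
  ab_sSup fun X hX Y hY => at_cm wd sit.ms.pgT hX hY

omit sit wd fam in
theorem jt_le : sSup (AT p V T) ≤ T := sSup_le fun X hX => hX.2

omit wd fam in
theorem jt_pg : IsPGroup p ↥(sSup (AT p V T)) := sit.ms.pgT.to_le jt_le

omit fam in
theorem jt_vl : vl V (sSup (AT p V T)) = Nat.card V := by
  classical
  have key : ∀ s : Finset (Subgroup H), ((s : Set (Subgroup H)) ⊆ AT p V T) →
      vl V (sSup (s : Set (Subgroup H))) = Nat.card V := by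
    intro s
    induction s using Finset.induction_on with
    | empty =>
      intro _
      rw [Finset.coe_empty, sSup_empty]
      exact vl_bot
    | insert X s hX ih =>
      intro hs
      rw [Finset.coe_insert, Set.insert_subset_iff] at hs
      rw [Finset.coe_insert, sSup_insert]
      have hle : X ≤ sSup (AT p V T) := le_sSup hs.1
      have hle2 : sSup (s : Set (Subgroup H)) ≤ sSup (AT p V T) := sSup_le_sSup hs.2
      exact (le_vl_inf (V := V) (jt_ab sit wd) hle hle2
        (fun Z hZ => wd.le Z ((jt_pg sit).to_le hZ) ((jt_ab sit wd).mono hZ hZ)) hs.1.1.2.2.2.1 (ih hs.2)).2.2.1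
  have h1 := key (Set.toFinite (AT p V T)).toFinset (by rw [Set.Finite.coe_toFinset])
  rwa [Set.Finite.coe_toFinset] at h1

/-- commutators with one member are fixed by the line group of another one -/
theorem cmt_fx_lx {X Y : Subgroup H} (hX : X ∈ AT p V T) (hY : Y ∈ AT p V T) (hne : Y ≠ X) :
    ∀ y ∈ Y, ∀ v : V, y • v - v ∈ fx V (LX p V T X) := by
  intro y hy v
  apply fx_sSup
  intro W hW
  have h1 : Cm Y W := ((at_cmD sit wd fam hX hW).mono le_rfl (le_sSup ⟨hY, hne⟩)).symm
  exact wd.cmt_le hY.1 hW.1 h1 y hy v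

/-- no commutators in the fixed points of the line group -/
theorem sep_lx {X : Subgroup H} (hX : X ∈ AT p V T) {x : H} (hx : x ∈ X) (hx1 : x ≠ 1) {v : V}
    (h : x • v - v ∈ fx V (LX p V T X)) : v ∈ fx V X := by
  obtain ⟨Z, hZ, hne, _⟩ := at_exZ sit wd fam hX
  have pq := at_pq sit wd fam hX (at_self sit wd fam hX) hZ hne.symm
  rw [at_lx sit wd fam hX (at_self sit wd fam hX) hZ hne.symm] at h
  obtain ⟨a, ha, b, hb, rfl⟩ := pq.sp.exists_add v
  have h1 : x • (a + b) - (a + b) = x • b - b := by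
    rw [smul_add, ha x hx]; abel
  rw [h1] at h
  have h2 := pq.IA x hx hx1 b hb (by
    have e : x • b = (x • b - b) + b := by abel
    rw [e]
    exact AddSubgroup.add_mem _ (fx_anti le_sup_right h) hb)
  exact AddSubgroup.add_mem _ ha h2

omit fam in
theorem cmt_fx_jt {X : Subgroup H} (hX : X ∈ AT p V T) : ∀ x ∈ X, ∀ v : V, x • v - v ∈ fx V (sSup (AT p V T)) := by
  intro x hx v
  apply fx_sSup
  intro Y hY
  exact wd.cmt_le hX.1 hY.1 (at_cm wd sit.ms.pgT hX hY) x hx v

/-- **M2** -/
theorem m2 {b : H} (hb : b ∈ T) (hfix : ∀ v ∈ fx V (sSup (AT p V T)), b • v = v) : b ∈ sSup (AT p V T) := by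
  have hbp : IsPGroup p (zpowers b) := sit.ms.pgT.to_le ((zpowers_le).2 hb)
  -- `b` normalizes the members
  have hnorm : ∀ X ∈ AT p V T, cg b X = X := by
    intro X hX
    by_contra hne
    have hY : cg b X ∈ AT p V T := at_cg hX hb
    obtain ⟨x, hx, hx1, v, hv⟩ := exists_moved sit wd fam (Classical.choose_spec (Classical.choose_spec
      (⟨_, _, (at_gd sit wd fam hX).choose_spec.1⟩ : ∃ D R, Gd p (offs p H V) M D R))) hX.1
    apply hv
    have h1 := cmt_fx_jt sit wd hX x hx v
    have h2 := hfix _ h1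
    have h3 : (b * x * b⁻¹) • (b • v) - b • v = x • v - v := by
      rw [← mul_smul, inv_mul_cancel_right, mul_smul, ← smul_sub, h2]
    have h4 : b * x * b⁻¹ ∈ cg b X := by
      rw [mem_cg]
      have e : b⁻¹ * (b * x * b⁻¹) * b = x := by group
      rw [e]; exact hx
    have h5 := cmt_fx_lx sit wd fam hX hY hne _ h4 (b • v)
    rw [h3] at h5
    exact sep_lx sit wd fam hX hx hx1 h5 x hx
  have hcomm : ∀ X ∈ AT p V T, ∀ x ∈ X, b * x = x * b := by
    intro X hX
    obtain ⟨e, he, he1, hbe⟩ := exists_fixed_of_norm hX.1.1 hX.1.2.2.1 hbp (hnorm X hX)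
    have h1 : ∀ v : V, b • v - v ∈ fx V X := by
      intro v
      apply wd.fixed X hX.1 e he he1
      have h2 := hfix _ (cmt_fx_jt sit wd hX e he v)
      rw [smul_sub, ← mul_smul, hbe, mul_smul] at h2
      rw [smul_sub]
      have e1 : e • b • v = e • v - v + b • v := by rw [← h2]; abel
      rw [e1]; abel
    intro x hx
    rw [← inv_mul_eq_one]
    apply wd.faith
    intro v
    rw [mul_smul, inv_smul_eq_iff]
    have h2 := hfix _ (cmt_fx_jt sit wd hX x hx v)
    have h3 := h1 v x hx
    rw [smul_sub] at h2 h3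
    have e1 : x • b • v = b • v - v + x • v := by rw [← h3]; abel
    have e2 : b • x • v = x • v - v + b • v := by rw [← h2]; abel
    rw [mul_smul, mul_smul, e1, e2]; abel
  have hbJ : Cm (zpowers b) (sSup (AT p V T)) := by
    have h1 : sSup (AT p V T) ≤ centralizer ({b} : Set H) := by
      apply sSup_le
      intro X hX x hx
      rw [mem_centralizer_iff]
      rintro _ rfl
      exact hcomm X hX x hx
    rw [cm_iff, zpowers_le, mem_centralizer_iff]
    intro y hy
    exact (mem_centralizer_iff.1 (h1 hy) b rfl).symm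
  have hbb : Cm (zpowers b) (zpowers b) := by
    rintro _ ⟨m, rfl⟩ _ ⟨n, rfl⟩
    exact (Commute.refl b).zpow_zpow m n
  have hab := ab_sup hbb (jt_ab sit wd) hbJ
  have hpg : IsPGroup p ↥(zpowers b ⊔ sSup (AT p V T)) := pg_sup hbp (jt_pg sit) hbJ
  have h1 := wd.le _ hpg hab
  have h2 : fx V (sSup (AT p V T)) ≤ fx V (zpowers b ⊔ sSup (AT p V T)) := by
    intro v hv
    have h3 : v ∈ fx V (zpowers b) ⊓ fx V (sSup (AT p V T)) := by
      refine ⟨?_, hv⟩
      have h4 : zpowers b ≤ MulAction.stabilizer H v := by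
        rw [zpowers_le]; exact hfix v hv
      exact fun x hx => h4 hx
    rwa [← fx_sup] at h3
  have h3 : Nat.card (fx V (sSup (AT p V T))) ≤ Nat.card (fx V (zpowers b ⊔ sSup (AT p V T))) :=
    Nat.card_le_card_of_injective _ (AddSubgroup.inclusion_injective h2)
  have h4 := jt_vl (V := V) sit wd
  have h5 : Nat.card ↥(zpowers b ⊔ sSup (AT p V T)) ≤ Nat.card ↥(sSup (AT p V T)) := by
    unfold vl at h1 h4
    apply Nat.le_of_mul_le_mul_right _ (Nat.card_pos (α := fx V (sSup (AT p V T))))
    calc _ ≤ Nat.card ↥(zpowers b ⊔ sSup (AT p V T)) * Nat.card (fx V (zpowers b ⊔ sSup (AT p V T))) :=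
          Nat.mul_le_mul_left _ h3
      _ ≤ _ := h1.trans h4.ge
  have h6 := Subgroup.eq_of_le_of_card_ge (le_sup_right : sSup (AT p V T) ≤ zpowers b ⊔ sSup (AT p V T)) h5
  rw [h6]
  exact Subgroup.mem_sup_left (mem_zpowers b)

end

end

end H53.MS
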