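import Cfsg.Agent.Lib.H53.MS1

/-!
# Best offenders in `T` are contained in the product of the members
-/

set_option autoImplicit false
set_option linter.unusedSectionVars false
set_option linter.unusedVariables false

namespace H53.MS

open Subgroup H51.FF H53.PU H53.FS
open H51.OG (AT offs Sit)

section

variable {p q : ℕ} [hp : Fact p.Prime] {H V : Type*} [Group H] [Finite H] [AddCommGroup V] [Finite V]
  [DistribMulAction H V] {T M : Subgroup H}

/-- best offenders in `T` are generated by root groups -/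
theorem best_le_T (st : St p V T M) (mx : Mx p H V) (hq : 1 < q) (hne : ∃ A, A ∈ (Sg p q V : Set (Subgroup H))) (n : ℕ) :
    ∀ X : Subgroup H, X ≤ T → IsPGroup p X → (∀ a ∈ X, ∀ b ∈ X, a * b = b * a) → Nat.card V ≤ H53.PU.vl V X →
      Nat.card X ≤ n → X ≤ sSup {C : Subgroup H | C ∈ (Sg p q V : Set (Subgroup H)) ∧ C ≤ X} := by
  induction n with
  | zero =>
    intro X _ _ _ _ h
    have : 0 < Nat.card X := Nat.card_pos
    omega
  | succ n ih =>
    intro X hXT hXp hXc hXf hXn
    by_cases hX0 : X = ⊥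
    · rw [hX0]; exact bot_le
    obtain ⟨C, hC, hCX⟩ := exists_sg_le st mx hq hne hX0 hXp hXc hXf
    have hCT := hCX.trans hXT
    obtain ⟨_, _, hs3⟩ := stage3 st hq mx hne
    have s := hs3 C hC hCT
    set L := LL p q V T C with hL
    have hxC : ∀ x ∈ X, ∀ c ∈ C, x * c = c * x := fun x hx c hc => hXc x hx c (hCX hc)
    have hxL : ∀ x ∈ X, cg x L = L := by
      intro x hx
      rw [hL, cg_LL (hXT hx), cg_comm (hxC x hx)]
    let X' : Subgroup H :=
      { carrier := {x | x ∈ X ∧ ∀ v : V, x • v - v ∈ fx V L}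
        one_mem' := ⟨one_mem _, fun v => by rw [one_smul, sub_self]; exact AddSubgroup.zero_mem _⟩
        mul_mem' := by
          rintro a b ⟨ha, ha'⟩ ⟨hb, hb'⟩
          refine ⟨mul_mem ha hb, fun v => ?_⟩
          have e : (a * b) • v - v = (a • (b • v) - b • v) + (b • v - v) := by rw [mul_smul]; abel
          rw [e]
          exact AddSubgroup.add_mem _ (ha' _) (hb' _)
        inv_mem' := by
          rintro a ⟨ha, ha'⟩
          refine ⟨inv_mem ha, fun v => ?_⟩
          have h1 := ha' (a⁻¹ • v)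
          rw [smul_inv_smul] at h1
          have e : a⁻¹ • v - v = -(v - a⁻¹ • v) := by abel
          rw [e]
          exact AddSubgroup.neg_mem _ h1 }
    have hX'X : X' ≤ X := fun x hx => hx.1
    have hXeq : C ⊔ X' = X := by
      apply le_antisymm (sup_le hCX hX'X)
      intro x hx
      obtain ⟨a, ha, h1⟩ := s.tr2 hq st mx hC (hXT hx) (hxL x hx) (hxC x hx)
      have e : x = a * (a⁻¹ * x) := by group
      rw [e]
      exact mul_mem (mem_sup_left ha) (mem_sup_right ⟨mul_mem (inv_mem (hCX ha)) hx, h1⟩)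
    have hinf : C ⊓ X' = ⊥ := by
      rw [eq_bot_iff]
      rintro x ⟨hx1, hx2⟩
      exact Subgroup.mem_bot.2 (s.kern (s.CL hx1) hx2.2)
    have hcard := card_sup_inf_comm hXc hCX hX'X
    rw [hinf, hXeq, Subgroup.card_bot, mul_one, hC.1.card] at hcard
    have hmod : fx V C ⊔ fx V X' = ⊤ := by
      rw [eq_top_iff, ← (s.natSL hq hC).sup]
      apply sup_le
      · exact le_sup_of_le_left s.fxL
      · apply le_sup_of_le_right
        apply cmt_le
        rintro l hl v x hx
        have h1 := s.tr_comm (hxL x hx.1) hx.2 l hl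
        have h2 := hx.2 v l hl
        rw [smul_sub] at h2
        have h3 : l • x • v = x • v - v + l • v := by rw [← h2]; abel
        rw [smul_sub, ← mul_smul, h1, mul_smul, h3]; abel
    have h1 := add_card_sup_inf (fx V C) (fx V X')
    rw [hmod, AddSubgroup.card_top, ← fx_sup, hXeq] at h1
    have h2 := Sg.cardV mx hC
    have h3 : Nat.card (fx V X') = q * Nat.card (fx V X) := by
      apply Nat.eq_of_mul_eq_mul_left (Nat.card_pos (α := fx V C))
      rw [← h1, h2]; ring
    have h4 : H53.PU.vl V X' = H53.PU.vl V X := by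
      unfold H53.PU.vl
      rw [h3, hcard]; ring
    have h5 : Nat.card X' ≤ n := by
      have h6 : 0 < Nat.card X' := Nat.card_pos
      have h7 : 1 * Nat.card X' < q * Nat.card X' := Nat.mul_lt_mul_of_pos_right hq h6
      omega
    have h6 := ih X' (hX'X.trans hXT) (hXp.to_le hX'X) (fun a ha b hb => hXc a (hX'X ha) b (hX'X hb)) (by rw [h4]; exact hXf) h5
    conv_lhs => rw [← hXeq]
    refine sup_le (le_sSup ⟨hC, hCX⟩) (h6.trans (sSup_le_sSup ?_))
    rintro D ⟨hD, hD'⟩
    exact ⟨hD, hD'.trans hX'X⟩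

omit hp in
theorem offs_of_sg (mx : Mx p H V) (hq : 1 < q) {C : Subgroup H} (hC : C ∈ (Sg p q V : Set (Subgroup H))) :
    C ∈ offs p H V := by
  have h1 := Sg.cardV mx hC
  refine ⟨hC.1.pg, hC.1.comm, ?_, ?_, ?_⟩
  · intro h
    have h2 := hC.1.card
    rw [h, Subgroup.card_bot] at h2
    omega
  · unfold H53.PU.vl
    rw [h1, hC.1.card]
  · intro Z hZ hZ1 hZ2
    obtain ⟨z, hz⟩ := ne_bot_iff_exists_ne_one.1 hZ1
    have hz1 : (z : H) ≠ 1 := fun h1 => hz (Subtype.ext h1)
    have h3 : fx V Z = fx V C := by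
      apply le_antisymm
      · intro v hv
        exact hC.2 z (hZ z.2) hz1 v (hv z z.2)
      · exact fx_anti hZ
    unfold H53.PU.vl
    rw [h3, h1]
    apply Nat.mul_lt_mul_of_pos_right _ Nat.card_pos
    rw [← hC.1.card]
    apply lt_of_le_of_ne (Nat.card_le_card_of_injective _ (Subgroup.inclusion_injective hZ))
    intro h4
    exact hZ2 (Subgroup.eq_of_le_of_card_ge hZ h4.ge)

/-- **M3'** best offenders in `T` lie in the product of the members -/
theorem best_le_jt (sit : Sit p V T M) {X : Subgroup H} (hXT : X ≤ T) (hXc : ∀ a ∈ X, ∀ b ∈ X, a * b = b * a)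
    (hXf : Nat.card V ≤ H53.PU.vl V X) : X ≤ sSup (AT p V T) := by
  have st := st_of_sit sit
  obtain ⟨A0, h1, h2, h3, h4⟩ := sit.off
  obtain ⟨q, hq, mx, hne⟩ := stage1 st ⟨A0, h3, h1, h2, h4⟩
  refine (best_le_T st mx hq hne _ X hXT (sit.ms.pgT.to_le hXT) hXc hXf le_rfl).trans (sSup_le_sSup ?_)
  rintro C ⟨hC, hCX⟩
  exact ⟨offs_of_sg mx hq hC, hCX.trans hXT⟩

end

end H53.MS
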