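import Cfsg.Agent.Lib.H52.FrakM
import Cfsg.Agent.S2845
import Cfsg.Agent.S2838

set_option autoImplicit false
set_option linter.unusedSectionVars false
set_option linter.unusedVariables false

/-! Basic facts on members of `𝔐_G(S)`, `G` with a large `p`-subgroup. -/

namespace H53.MSS

open Subgroup Cfsg H52.PCore H52.PRes H52.Cop H52.Syl H52.Red H52.YL H52.YL2 H52.Sub H52.FrakM
open scoped commutatorElement

variable {G : Type*} [Group G] {p : ℕ}

/-- Standing data: `S` Sylow, `M ∈ 𝔐_G(S)`, `Y = Y_M`, `R = O_p(M)`, `D = M†`. -/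
structure Std (p : ℕ) (S M Y R D : Subgroup G) : Prop where
  syl : SylIn p S ⊤
  par : ∀ X : Subgroup G, S ≤ X → pCoreOf p X ≠ ⊥ → centralizer (pCoreOf p X : Set G) ≤ pCoreOf p X
  SM : S ≤ M
  frak : IsInFrakM p M
  hY : Y = largestPReducedOf p M
  hR : R = pCoreOf p M
  hD : D = M ⊔ centralizer (Y : Set G)

variable [Finite G] [Fact p.Prime] {S M Y R D : Subgroup G}

theorem std_of_large (S : Sylow p G) (Q : Subgroup G) (hQp : IsPGroup p ↥Q) (hQ1 : Q ≠ ⊥)
    (hQ : Cfsg.IsLarge Q) (M : Subgroup G) (hSM : (S : Subgroup G) ≤ M) (hM : Cfsg.IsInFrakM p M) :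
    Std p (S : Subgroup G) M (largestPReducedOf p M) (pCoreOf p M)
      (M ⊔ centralizer (largestPReducedOf p M : Set G)) where
  syl := sylIn_top S
  par := by
    intro R hR h1
    exact (Cfsg.Agent.S2845.result Q hQp hQ1 hQ).2.1 R ⟨S, hR⟩ (Cfsg.Agent.S2845.pCore_ne_bot_iff.2 h1)
  SM := hSM
  frak := hM
  hY := rfl
  hR := rfl
  hD := rfl

/-- in a `p`-group normalizers grow -/
theorem eq_of_inf_normalizer_le {L N : Subgroup G} (hL : IsPGroup p L) (hN : N ≤ L)
    (h : L ⊓ normalizer (N : Set G) ≤ N) : N = L := by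
  by_contra hne
  have hlt : N < L := lt_of_le_of_ne hN hne
  have hnil : Group.IsNilpotent L := hL.isNilpotent
  have h2 : N.subgroupOf L < normalizer ((N.subgroupOf L : Subgroup L) : Set L) := by
    apply Group.normalizerCondition_of_isNilpotent
    rw [lt_top_iff_ne_top, Ne, subgroupOf_eq_top]
    exact not_le_of_gt hlt
  obtain ⟨y, hy1, hy2⟩ := SetLike.exists_of_lt h2
  apply hy2
  rw [mem_subgroupOf]
  apply h
  refine mem_inf.2 ⟨y.2, ?_⟩
  rw [mem_normalizer_iff] at hy1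
  rw [mem_normalizer_iff]
  intro z
  constructor
  · intro hz
    have := (hy1 ⟨z, hlt.le hz⟩).1 (by rwa [mem_subgroupOf])
    rw [mem_subgroupOf] at this
    exact this
  · intro hz
    have hzL : z ∈ L := by
      have : z = (y : G)⁻¹ * (y * z * (y : G)⁻¹) * y := by group
      rw [this]
      exact mul_mem (mul_mem (inv_mem y.2) (hlt.le hz)) y.2
    have := (hy1 ⟨z, hzL⟩).2 (by rw [mem_subgroupOf]; exact hz)
    rwa [mem_subgroupOf] at this

namespace Std

variable (h : Std p S M Y R D)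
include h

theorem pred : PRed p M Y := by rw [h.hY]; exact pRed_largestPReducedOf M

theorem R_ne : R ≠ ⊥ := by rw [h.hR]; exact (mem_charPSubgroups_iff.1 h.frak.1).1

theorem CR : centralizer (R : Set G) ≤ R := by
  rw [h.hR]; exact (mem_charPSubgroups_iff.1 h.frak.1).2

theorem S_ne : S ≠ ⊥ := by
  intro h0
  apply h.R_ne
  rw [eq_bot_iff, ← h0, h.hR]
  exact (h.syl.of_le h.SM le_top).pCoreOf_le

theorem Y_ne : Y ≠ ⊥ := by
  rw [h.hY]
  refine Y_ne_bot (h.syl.of_le h.SM le_top) h.S_ne ?_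
  rw [← h.hR]; exact inf_le_right.trans h.CR

theorem MD : M ≤ D := by rw [h.hD]; exact le_sup_left
theorem CD : centralizer (Y : Set G) ≤ D := by rw [h.hD]; exact le_sup_right
theorem SD : S ≤ D := h.SM.trans h.MD
theorem sylM : SylIn p S M := h.syl.of_le h.SM le_top
theorem sylD : SylIn p S D := h.syl.of_le h.SD le_top
theorem Yp : IsPGroup p Y := h.pred.isPGroup
theorem Rp : IsPGroup p R := by rw [h.hR]; exact isPGroup_pCoreOf M
theorem RM : R ≤ M := by rw [h.hR]; exact pCoreOf_le M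
theorem RS : R ≤ S := by rw [h.hR]; exact h.sylM.pCoreOf_le
theorem YR : Y ≤ R := by rw [h.hR]; exact h.pred.le_pCoreOf
theorem YC : Y ≤ centralizer (Y : Set G) := h.pred.comm
theorem RC : R ≤ centralizer (Y : Set G) := by rw [h.hR]; exact h.pred.pCoreOf_le
theorem M_le : M ≤ normalizer (R : Set G) := by rw [h.hR]; exact le_normalizer_pCoreOf M

theorem D_le : D ≤ normalizer (Y : Set G) := by
  rw [h.hD]; exact sup_le h.pred.norm (H52.Syl.centralizer_le_normalizer _)

theorem D_le_C : D ≤ normalizer (centralizer (Y : Set G) : Set G) :=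
  h.D_le.trans (normalizer_le_normalizer_centralizer _)

theorem le_D {X : Subgroup G} (hX : M ≤ X) (h1 : pCoreOf p X ≠ ⊥) : X ≤ D := by
  have h2 : X ∈ charPSubgroups p G := mem_charPSubgroups_iff.2 ⟨h1, h.par X (h.SM.trans hX) h1⟩
  obtain ⟨N, hXN, hN⟩ := (Set.toFinite (charPSubgroups p G)).exists_le_maximal h2
  have h3 : N ∈ maxCharPSubgroups p G := ⟨hN.prop, fun Z hZ hNZ => (hN.eq_of_le hZ hNZ).symm⟩
  have h4 := h.frak.2.2.1 N h3 (hX.trans hXN)
  rw [← h.hY, ← h.hD] at h4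
  rw [← h4]; exact hXN

/-- normalizers of nontrivial normal `p`-subgroups of `M` -/
theorem normalizer_le_D {I : Subgroup G} (hI1 : I ≠ ⊥) (hIp : IsPGroup p I) (hMI : M ≤ normalizer (I : Set G)) :
    normalizer (I : Set G) ≤ D := by
  apply h.le_D hMI
  intro h0
  apply hI1
  rw [eq_bot_iff, ← h0]
  exact le_pCoreOf le_normalizer le_rfl hIp

theorem NR : normalizer (R : Set G) ≤ D := h.normalizer_le_D h.R_ne h.Rp h.M_le

theorem NY : normalizer (Y : Set G) = D :=
  le_antisymm (h.normalizer_le_D h.Y_ne h.Yp h.pred.norm) h.D_le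

theorem SC : S ⊓ centralizer (Y : Set G) = R := by
  obtain ⟨C, hC⟩ : ∃ C : Subgroup G, C = M ⊓ centralizer (Y : Set G) := ⟨_, rfl⟩
  have hCM : C ≤ M := hC ▸ inf_le_left
  have hMC : M ≤ normalizer (C : Set G) := by
    rw [hC]; intro x hx
    exact normalizer_inf_le (mem_inf.2 ⟨le_normalizer hx, h.D_le_C (h.MD hx)⟩)
  have hcl := h.frak.2.2.2.2.1
  rw [← h.hY, ← hC] at hcl
  have h1 : SylIn p (S ⊓ C) C := h.sylM.inf_normal hCM hMC
  obtain ⟨P, hP⟩ := h1
  have h2 := hcl P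
  have h3 : S ⊓ C ≤ pCoreOf p C := by
    rw [← hP]; exact map_mono (le_pCore h2 P.isPGroup')
  have h4 : pCoreOf p C ≤ R := by
    rw [h.hR]
    exact le_pCoreOf ((pCoreOf_le C).trans hCM) (hMC.trans (normalizer_le_normalizer_pCoreOf C))
      (isPGroup_pCoreOf C)
  apply le_antisymm
  · refine le_trans ?_ (h3.trans h4)
    intro x hx
    obtain ⟨hxS, hxC⟩ := mem_inf.1 hx
    rw [hC]
    exact mem_inf.2 ⟨hxS, mem_inf.2 ⟨h.SM hxS, hxC⟩⟩
  · exact le_inf h.RS h.RC

theorem sylR : SylIn p R (centralizer (Y : Set G)) := by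
  have := h.sylD.inf_normal h.CD h.D_le_C
  rwa [h.SC] at this

theorem eq_R {L : Subgroup G} (hL : IsPGroup p L) (hRL : R ≤ L) (hLC : L ≤ centralizer (Y : Set G)) : L = R :=
  h.sylR.max hLC hL hRL

theorem inf_eq_R {L : Subgroup G} (hL : IsPGroup p L) (hRL : R ≤ L) : L ⊓ centralizer (Y : Set G) = R :=
  h.eq_R (hL.to_le inf_le_left) (le_inf hRL h.RC) inf_le_right

theorem factor {d : G} (hd : d ∈ D) : ∃ m ∈ M, ∃ c ∈ centralizer (Y : Set G), d = m * c := by
  rw [h.hD, mem_sup_iff_of_le_normalizer (h.MD.trans h.D_le_C)] at hd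
  obtain ⟨m, hm, c, hc, e⟩ := hd
  exact ⟨m, hm, c, hc, e.symm⟩

theorem predD : PRed p D Y := by
  rw [h.hY]
  have := h.frak.2.2.2.1
  rw [← h.hY, ← h.hD] at this
  rw [← h.hY, this]
  exact pRed_largestPReducedOf D

/-- the weak closure of `R` in `D` -/
theorem wc_D : IsWeaklyClosedSubgroup p (R.subgroupOf D) := by
  obtain ⟨P, hP⟩ := h.sylD.subgroupOf
  refine ⟨P, ?_, ?_⟩
  · rw [hP]; exact fun x hx => h.RS hx
  · intro g hg
    have h1 : cj (g : G) R ≤ S := by
      rintro _ ⟨x, hx, rfl⟩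
      have hxD : x ∈ D := (h.RM.trans h.MD) hx
      have h2 : g * ⟨x, hxD⟩ * g⁻¹ ∈ (P : Subgroup D) :=
        hg ⟨⟨x, hxD⟩, mem_subgroupOf.2 hx, rfl⟩
      rw [hP, mem_subgroupOf] at h2
      exact h2
    have h2 : cj (g : G) R ≤ centralizer (Y : Set G) := by
      calc cj (g : G) R ≤ cj (g : G) (centralizer (Y : Set G)) := cj_mono h.RC
        _ = centralizer (Y : Set G) := cj_eq_of_mem_normalizer (h.D_le_C g.2)
    have h3 : cj (g : G) R ≤ R := by
      conv_rhs => rw [← h.SC]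
      exact le_inf h1 h2
    have h4 := mem_normalizer_of_cj_le h3
    have h5 := cj_eq_of_mem_normalizer h4
    ext x
    constructor
    · rintro ⟨y, hy, rfl⟩
      rw [mem_subgroupOf]
      have : (g : G) * y * (g : G)⁻¹ ∈ cj (g : G) R := conj_mem_cj (mem_subgroupOf.1 hy)
      rw [h5] at this
      exact this
    · intro hx
      rw [mem_subgroupOf, ← h5] at hx
      obtain ⟨y, hy, hyx⟩ := hx
      refine ⟨⟨y, (h.RM.trans h.MD) hy⟩, mem_subgroupOf.2 hy, ?_⟩
      apply Subtype.ext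
      exact hyx

end Std

/-- `Y` is asymmetric: conjugates normalizing each other commute -/
theorem asym_comm {Y : Subgroup G} (hasym : ¬ IsSymmetricIn Y) {g : G} (h1 : Y ≤ normalizer (cj g Y : Set G))
    (h2 : cj g Y ≤ normalizer (Y : Set G)) : cj g Y ≤ centralizer (Y : Set G) := by
  by_contra hne
  apply hasym
  refine ⟨g, ?_, ?_⟩
  · intro h0
    apply hne
    have h3 : ⁅cj g Y, Y⁆ = ⊥ := by rw [commutator_comm]; exact h0
    rwa [commutator_eq_bot_iff_le_centralizer] at h3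
  · apply le_inf
    · exact (le_normalizer_iff_commutator_le_left.1 h2)
    · exact (le_normalizer_iff_commutator_le_right.1 h1)

end H53.MSS
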