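import Cfsg.Agent.Lib.H53.MSS9

set_option autoImplicit false
set_option linter.unusedSectionVars false
set_option linter.unusedVariables false

/-! Minimal subgroups `L` of `H ∈ ℌ_G(O_p(M))` with `Y ≰ O_p(L)`: conclusions. -/

namespace H53.MSS

open Subgroup Cfsg H52.PCore H52.PRes H52.Cop H52.Syl H52.Red H52.YL H52.YL2 H52.Sub H52.FrakM
open H53.CharP (CP cp_iff)
open scoped commutatorElement

variable {G : Type*} [Group G] {p : ℕ} [Finite G] [Fact p.Prime] {S M Y R D : Subgroup G}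
variable {H L L₀ : Subgroup G}

theorem inf_NY_eq (h : Std p S M Y R D) (hasym : ¬ IsSymmetricIn Y) (hf : FH p R Y H) (l : LS p R Y H L L₀) :
    L ⊓ normalizer (Y : Set G) = L₀ := by
  apply le_antisymm
  · apply l.max _ (le_inf l.YL le_normalizer)
    refine lt_of_le_of_ne inf_le_left ?_
    intro he
    apply l.nY
    exact le_pCoreOf l.YL (by rw [← he]; exact inf_le_right) hf.Yp
  · exact le_inf l.lt.le ((L₀_le_NR h hasym hf l).trans h.NR_le_NY)

/-- `L` has characteristic `p` -/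
theorem cp_L (h : Std p S M Y R D) (hasym : ¬ IsSymmetricIn Y) (hf : FH p R Y H) (l : LS p R Y H L L₀) : CP p L := by
  obtain ⟨O, hO⟩ : ∃ O : Subgroup G, O = pCoreOf p H := ⟨_, rfl⟩
  have hHO : H ≤ normalizer (O : Set G) := hO ▸ le_normalizer_pCoreOf H
  have hOH : O ≤ H := hO ▸ pCoreOf_le H
  have hOY : O ≤ normalizer (Y : Set G) := hO ▸ (h.pCoreOf_le_NR hasym hf.RH).trans h.NR_le_NY
  -- `O` normalizes `L`
  have hOL : O ≤ normalizer (L : Set G) := by
    intro x hx
    apply mem_normalizer_of_cj_le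
    conv_lhs => rw [← l.ncl_Y hf.Yp]
    apply ncl_mono_cj_le
    intro k hk
    have h4 : k⁻¹ * x * k ∈ O := by
      have h5 := (mem_normalizer_iff.1 (hHO (inv_mem (l.LH hk))) x).1 hx
      simpa using h5
    have h5 : cj x (cj k Y) = cj k Y := by
      rw [cj_cj, show x * k = k * (k⁻¹ * x * k) by group, ← cj_cj, cj_eq_of_mem_normalizer (hOY h4)]
    rw [h5]
    exact (cj_mono l.YL).trans (cj_of_mem hk).le
  obtain ⟨X, hX⟩ : ∃ X : Subgroup G, X = L ⊓ centralizer (pCoreOf p L : Set G) := ⟨_, rfl⟩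
  have hXL : X ≤ L := hX ▸ inf_le_left
  have hLX : L ≤ normalizer (X : Set G) := by
    rw [hX]; intro x hx
    exact normalizer_inf_le (mem_inf.2 ⟨le_normalizer hx,
      normalizer_le_normalizer_centralizer _ (le_normalizer_pCoreOf L hx)⟩)
  have h1 : ⁅O, X⁆ ≤ pCoreOf p L := by
    have h2 : ⁅O, X⁆ ≤ O ⊓ L := le_inf
      (le_normalizer_iff_commutator_le_left.1 (hXL.trans (l.LH.trans hHO)))
      (commutator_le_of_right hXL hOL)
    refine h2.trans (le_pCoreOf inf_le_right ?_ ?_)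
    · intro x hx
      exact normalizer_inf_le (mem_inf.2 ⟨hHO (l.LH hx), le_normalizer hx⟩)
    · rw [hO]; exact (isPGroup_pCoreOf H).to_le inf_le_left
  have h2 : ⁅pCoreOf p L, X⁆ = ⊥ := by
    rw [commutator_comm, commutator_eq_bot_iff_le_centralizer, hX]; exact inf_le_right
  have h3 : IsPGroup p X := by
    apply isPGroup_of_iter hf.cp (hXL.trans l.LH) (n := 2)
    change ⁅⁅pCoreOf p H, X⁆, X⁆ = ⊥
    rw [← hO, eq_bot_iff, ← h2]
    exact commutator_mono h1 le_rfl
  unfold H53.CharP.CP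
  rw [← hX]
  exact le_pCoreOf hXL hLX h3

/-- `L` is `Y`-minimal -/
theorem minimal_L (hYp : IsPGroup p Y) (l : LS p R Y H L L₀) : IsMinimalOver (Y.subgroupOf L) := by
  have hmap : (Y.subgroupOf L).map L.subtype = Y := map_subgroupOf_eq_of_le l.YL
  have hmapL₀ : (L₀.subgroupOf L).map L.subtype = L₀ := map_subgroupOf_eq_of_le l.lt.le
  have htop : (⊤ : Subgroup L).map L.subtype = L := by
    rw [← MonoidHom.range_eq_map, range_subtype]
  have huniq : ∀ X : Subgroup L, Y.subgroupOf L ≤ X → X ≠ ⊤ → X ≤ L₀.subgroupOf L := by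
    intro X hX hXt
    rw [← map_subtype_le_iff, hmapL₀]
    apply l.max
    · rw [← hmap]; exact map_mono hX
    · refine lt_of_le_of_ne (map_subtype_le _) ?_
      intro he
      apply hXt
      rw [eq_top_iff, ← map_subtype_le_iff, htop, he]
  have hL₀t : L₀.subgroupOf L ≠ ⊤ := by
    rw [Ne, subgroupOf_eq_top]; exact l.lt.not_ge
  have hcoat : IsCoatom (L₀.subgroupOf L) := by
    refine ⟨hL₀t, ?_⟩
    intro X hX
    by_contra hXt
    have h1 : Y.subgroupOf L ≤ L₀.subgroupOf L := by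
      rw [← map_subtype_le_iff, hmap, hmapL₀]; exact l.YL₀
    exact hX.not_ge (huniq X (h1.trans hX.le) hXt)
  constructor
  · rw [eq_top_iff, ← map_subtype_le_iff, htop, map_normalClosure_subgroupOf l.YL, l.ncl_Y hYp]
  · refine ⟨L₀.subgroupOf L, ⟨hcoat, ?_⟩, ?_⟩
    · rw [← map_subtype_le_iff, hmap, hmapL₀]; exact l.YL₀
    · rintro X ⟨hX, hYX⟩
      have h1 := huniq X hYX hX.1
      rcases hX.le_iff.1 h1 with h2 | h2
      · exact absurd h2 hL₀t
      · exact h2.symm

/-- `L = O^p(L) Y` -/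
theorem res_sup_Y (hYp : IsPGroup p Y) (l : LS p R Y H L L₀) : resOf p L ⊔ Y = L := by
  obtain ⟨T, hT, hYT⟩ := exists_sylIn_le l.YL hYp
  by_contra hne
  -- a proper subgroup containing `O^p(L)` is subnormal
  obtain ⟨E, hE⟩ : ∃ E : Subgroup G, E = resOf p L ⊔ Y := ⟨_, rfl⟩
  rw [← hE] at hne
  have hEL : E ≤ L := by rw [hE]; exact sup_le (resOf_le L) l.YL
  apply l.nY
  have hYE : Y ≤ pCoreOf p E := by
    by_contra hn
    exact hne (l.min E hEL (by rw [hE]; exact le_sup_right) hn)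
  exact le_pCoreOf_of_sub hYp l.YL (resOf_le L) (le_normalizer_resOf L) (resOf_mono (ncl_le_self l.YL))
    (by rw [hE]; exact le_sup_left) hYE

/-- a `p`-group modulo the centralizer does not act without fixed points: `[V, X] W < V` -/
theorem commutator_sup_ne {V W X : Subgroup G} (hV : IsPGroup p V) (hX : IsPGroup p X)
    (hXV : X ≤ normalizer (V : Set G)) (hVW : V ≤ normalizer (W : Set G)) (hXW : X ≤ normalizer (W : Set G))
    (hWV : W < V) : ⁅V, X⁆ ⊔ W < V := by
  have hle : ⁅V, X⁆ ⊔ W ≤ V := sup_le (le_normalizer_iff_commutator_le_left.1 hXV) hWV.le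
  refine lt_of_le_of_ne hle ?_
  intro he
  obtain ⟨n, hn⟩ := exists_iter_eq_bot_of_pMod hV hXV (pMod_of_isPGroup hX)
  -- `V = [V,X;n] W` for all `n`
  have key : ∀ n, iterCommutator V X n ≤ V ∧ V ≤ iterCommutator V X n ⊔ W := by
    intro n
    induction n with
    | zero => exact ⟨le_rfl, le_sup_left⟩
    | succ n ih =>
      have h1 : iterCommutator V X (n+1) ≤ V :=
        (commutator_mono ih.1 le_rfl).trans (le_normalizer_iff_commutator_le_left.1 hXV)
      refine ⟨h1, ?_⟩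
      conv_lhs => rw [← he]
      refine sup_le ?_ le_sup_right
      -- `[V, X] ≤ [V_n W, X] ≤ [V_n, X] W`
      obtain ⟨N, hN⟩ : ∃ N : Subgroup G, N = iterCommutator V X (n+1) ⊔ W := ⟨_, rfl⟩
      have hXN : X ≤ normalizer (N : Set G) := by
        rw [hN]; intro x hx
        exact normalizer_sup_le (mem_inf.2 ⟨normalizer_commutator_ge_right _ _ hx, hXW hx⟩)
      have hVnN : iterCommutator V X n ≤ normalizer (N : Set G) := by
        rw [hN]; intro x hx
        exact normalizer_sup_le (mem_inf.2 ⟨normalizer_commutator_ge_left _ _ hx, hVW (ih.1 hx)⟩)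
      have hWN : W ≤ normalizer (N : Set G) := by
        rw [hN]; exact le_sup_right.trans le_normalizer
      rw [← hN, commutator_comm, ← le_cmod_iff (ih.2.trans (sup_le hVnN hWN))]
      refine ih.2.trans (sup_le ?_ ?_)
      · rw [le_cmod_iff hVnN, commutator_comm, hN]; exact le_sup_left
      · rw [le_cmod_iff hWN, commutator_comm, hN]
        exact (le_normalizer_iff_commutator_le_left.1 hXW).trans le_sup_right
  have h1 := (key n).2
  rw [hn, bot_sup_eq] at h1
  exact hWV.not_ge h1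

/-- (c) -/
theorem chief_L (h : Std p S M Y R D) (hf : FH p R Y H) (l : LS p R Y H L L₀)
    {V W : Subgroup G} (hVO : V ≤ pCoreOf p H) (hHV : H ≤ normalizer (V : Set G)) (hHW : H ≤ normalizer (W : Set G))
    (hWV : W < V) (hch : ∀ Z : Subgroup G, H ≤ normalizer (Z : Set G) → W ≤ Z → Z ≤ V → Z = W ∨ Z = V)
    (hnc : ¬ ⁅V, H⁆ ≤ W) : ¬ ⁅V, resOf p L⁆ ≤ W := by
  intro hc
  have hYp := hf.Yp
  have hVp : IsPGroup p V := (isPGroup_pCoreOf H).to_le hVO
  have hVH : V ≤ H := hVO.trans (pCoreOf_le H)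
  -- the fixed points of `Y` modulo `W`
  obtain ⟨F, hF⟩ : ∃ F : Subgroup G, F = V ⊓ cmod Y W := ⟨_, rfl⟩
  have hFV : F ≤ V := hF ▸ inf_le_left
  have hYF : ⁅Y, F⁆ ≤ W := by
    rw [← le_cmod_iff (hFV.trans (hVH.trans hHW)), hF]; exact inf_le_right
  have hWF : W ≤ F := by
    rw [hF]
    apply le_inf hWV.le
    rw [le_cmod_iff le_normalizer]
    exact le_normalizer_iff_commutator_le_right.1 (hf.YH.trans hHW)
  have hRF : R ≤ normalizer (F : Set G) := by
    rw [hF]; intro x hx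
    exact normalizer_inf_le (mem_inf.2 ⟨hHV (hf.RH hx), le_normalizer_cmod hf.RY (hf.RH.trans hHW) hx⟩)
  have hLF : L ≤ normalizer (F : Set G) := by
    rw [← res_sup_Y hYp l]
    apply sup_le
    · rw [le_normalizer_iff_commutator_le_left]
      exact ((commutator_mono hFV le_rfl).trans hc).trans hWF
    · rw [le_normalizer_iff_commutator_le_left, commutator_comm]
      exact hYF.trans hWF
  have hHF : H ≤ normalizer (F : Set G) := by rw [← l.supR]; exact sup_le hLF hRF
  have hne : F ≠ W := by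
    intro he
    -- `Y` acts on `V/W` without fixed points
    classical
    obtain ⟨n, hn⟩ := exists_iter_eq_bot_of_pMod hVp (hf.YH.trans hHV) (pMod_of_isPGroup hYp)
    have hex : ∃ n, iterCommutator V Y n ≤ W := ⟨n, hn ▸ bot_le⟩
    have hm := Nat.find_spec hex
    have hmin := fun m => Nat.find_min hex (m := m)
    obtain ⟨m, hmdef⟩ : ∃ m, m = Nat.find hex := ⟨_, rfl⟩
    rw [← hmdef] at hm hmin
    have hm0 : m ≠ 0 := by
      rintro rfl
      exact hWV.not_ge hm
    obtain ⟨k, rfl⟩ := Nat.exists_eq_succ_of_ne_zero hm0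
    have hkV : ∀ k, iterCommutator V Y k ≤ V := by
      intro k
      induction k with
      | zero => exact le_rfl
      | succ k ih =>
        exact (commutator_mono ih le_rfl).trans
          (le_normalizer_iff_commutator_le_left.1 (hf.YH.trans hHV))
    apply hmin k (Nat.lt_succ_self k)
    rw [← he, hF]
    apply le_inf (hkV k)
    rw [le_cmod_iff ((hkV k).trans (hVH.trans hHW)), commutator_comm]
    exact hm
  have hFV' : F = V := (hch F hHF hWF hFV).resolve_left hne
  have hYV : ⁅V, Y⁆ ≤ W := by rw [← hFV', commutator_comm]; exact hYF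
  have hnV : ⁅V, ncl H Y⁆ ≤ W := commutator_ncl_le hf.YH hHW hHV hYV
  -- `[V, R] W` is `H`-invariant
  obtain ⟨N, hN⟩ : ∃ N : Subgroup G, N = ⁅V, R⁆ ⊔ W := ⟨_, rfl⟩
  have hlt : N < V := by
    rw [hN]
    exact commutator_sup_ne hVp h.Rp (hf.RH.trans hHV) (hVH.trans hHW) (hf.RH.trans hHW) hWV
  have hWN : W ≤ N := hN ▸ le_sup_right
  have hHN : H ≤ normalizer (N : Set G) := by
    rw [← hf.res_sup_R]
    apply sup_le
    · rw [le_normalizer_iff_commutator_le_left]
      exact ((commutator_mono hlt.le hf.res_le_ncl).trans hnV).trans hWN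
    · rw [le_normalizer_iff_commutator_le_left]
      refine (commutator_mono hlt.le le_rfl).trans ?_
      rw [hN]; exact le_sup_left
  have hNW : N = W := (hch N hHN hWN hlt.le).resolve_right hlt.ne
  apply hnc
  rw [← hf.res_sup_R, commutator_sup (by rw [hf.res_sup_R]; exact hHV)]
  apply sup_le
  · exact (commutator_mono le_rfl hf.res_le_ncl).trans hnV
  · rw [← hNW, hN]; exact le_sup_left

/-- (d) -/
theorem ncl_inf_le (h : Std p S M Y R D) (hasym : ¬ IsSymmetricIn Y) (hf : FH p R Y H) (l : LS p R Y H L L₀) :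
    ncl L (pCoreOf p L ⊓ Y) ≤ pCoreOf p H := by
  have hYp := hf.Yp
  obtain ⟨O, hO⟩ : ∃ O : Subgroup G, O = pCoreOf p H := ⟨_, rfl⟩
  have hHO : H ≤ normalizer (O : Set G) := hO ▸ le_normalizer_pCoreOf H
  have hOH : O ≤ H := hO ▸ pCoreOf_le H
  have hOY : O ≤ normalizer (Y : Set G) := hO ▸ (h.pCoreOf_le_NR hasym hf.RH).trans h.NR_le_NY
  obtain ⟨A, hA⟩ : ∃ A : Subgroup G, A = pCoreOf p L ⊓ Y := ⟨_, rfl⟩
  rw [← hA]
  have hAY : A ≤ Y := hA ▸ inf_le_right
  have hAH : A ≤ H := hAY.trans hf.YH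
  have hAO : A ≤ pCoreOf p L := hA ▸ inf_le_left
  obtain ⟨g, hg, hg0⟩ := l.exists_g
  -- stable term
  obtain ⟨n, hn⟩ : ∃ n, ∀ m, Nat.card (iterCommutator O H n) ≤ Nat.card (iterCommutator O H m) := by
    classical
    have hex : ∃ c, ∃ m, Nat.card (iterCommutator O H m) = c := ⟨_, 0, rfl⟩
    obtain ⟨n, hn⟩ := Nat.find_spec hex
    exact ⟨n, fun m => by rw [hn]; exact Nat.find_min' hex ⟨m, rfl⟩⟩
  have hHiter : ∀ k, H ≤ normalizer (iterCommutator O H k : Set G) := by
    intro k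
    cases k with
    | zero => exact hHO
    | succ k => exact normalizer_commutator_ge_right _ _
  have hdec : ∀ k, iterCommutator O H (k+1) ≤ iterCommutator O H k := fun k =>
    le_normalizer_iff_commutator_le_left.1 (hHiter k)
  have hiterO : ∀ k, iterCommutator O H k ≤ O := by
    intro k
    induction k with
    | zero => exact le_rfl
    | succ k ih => exact (hdec k).trans ih
  obtain ⟨V, hV⟩ : ∃ V : Subgroup G, V = iterCommutator O H n := ⟨_, rfl⟩
  have hVO : V ≤ O := hV ▸ hiterO n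
  have hHV : H ≤ normalizer (V : Set G) := hV ▸ hHiter n
  have hVV : ⁅V, H⁆ = V := by
    rw [hV]
    exact eq_of_le_of_card_ge (hdec n) (hn (n+1))
  -- `[V, A] ≤ C(H)`
  have hVA : ⁅V, A⁆ ≤ V ⊓ centralizer (H : Set G) := by
    apply le_inf (le_normalizer_iff_commutator_le_left.1 (hAH.trans hHV))
    rw [commutator_le]
    intro v hv a ha
    have h1 : V = ⁅V, cj g Y⁆ ⊔ ⁅V, R⁆ := by
      conv_lhs => rw [← hVV, ← l.gen_H hYp hf.YR hg hg0]
      apply commutator_sup
      rw [l.gen_H hYp hf.YR hg hg0]; exact hHV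
    have hVR : ⁅V, R⁆ ≤ centralizer (Y : Set G) :=
      comm_le_centralizer ((commutator_mono hVO le_rfl).trans (le_normalizer_iff_commutator_le_right.1 hOY)) h.RC
    have hn' : ⁅V, cj g Y⁆ ≤ normalizer ((⁅V, R⁆ : Subgroup G) : Set G) := by
      refine le_trans ?_ (normalizer_commutator_ge_left V R)
      refine le_normalizer_iff_commutator_le_left.1 ?_
      exact ((cj_mono l.YL).trans (cj_of_mem hg).le).trans (l.LH.trans hHV)
    rw [h1, mem_sup_iff_of_le_normalizer hn'] at hv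
    obtain ⟨k₂, hk₂, k₁, hk₁, rfl⟩ := hv
    have hk₁a : k₁ * a = a * k₁ := (mem_centralizer_iff.1 (hVR hk₁) a (hAY ha)).symm
    have e : ⁅k₂ * k₁, a⁆ = ⁅k₂, a⁆ := by
      simp only [commutatorElement_def, mul_inv_rev]
      calc k₂ * k₁ * a * (k₁⁻¹ * k₂⁻¹) * a⁻¹ = k₂ * (k₁ * a) * k₁⁻¹ * k₂⁻¹ * a⁻¹ := by group
        _ = k₂ * (a * k₁) * k₁⁻¹ * k₂⁻¹ * a⁻¹ := by rw [hk₁a]
        _ = k₂ * a * k₂⁻¹ * a⁻¹ := by group
    rw [e]
    apply inf_cj_le h hf l hg hg0
    have hcjO : cj g O = O := cj_eq_of_mem_normalizer (hHO (l.LH hg))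
    have hk₂O : k₂ ∈ O := by
      refine hVO ?_
      rw [h1]; exact mem_sup_left hk₂
    have hk₂Y : k₂ ∈ cj g Y := by
      have h2 : ⁅V, cj g Y⁆ ≤ cj g Y := by
        rw [← le_normalizer_iff_commutator_le_right, ← cj_normalizer]
        refine hVO.trans ?_
        rw [← hcjO]; exact cj_mono hOY
      exact h2 hk₂
    have haN : a ∈ normalizer (cj g Y : Set G) := by
      rw [← cj_normalizer]
      have h3 : pCoreOf p L ≤ normalizer (Y : Set G) :=
        (l.pCoreOf_le hYp).trans ((L₀_le_NR h hasym hf l).trans h.NR_le_NY)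
      have h4 : cj g (pCoreOf p L) = pCoreOf p L :=
        cj_eq_of_mem_normalizer (le_normalizer_pCoreOf L hg)
      have h5 := cj_mono (g := g) h3
      rw [h4] at h5
      exact h5 (hAO ha)
    refine mem_inf.2 ⟨?_, ?_⟩
    · exact mul_mem ((mem_normalizer_iff.1 (hOY hk₂O) a).1 (hAY ha)) (inv_mem (hAY ha))
    · have h6 := (mem_normalizer_iff.1 haN k₂⁻¹).1 (inv_mem hk₂Y)
      have e2 : ⁅k₂, a⁆ = k₂ * (a * k₂⁻¹ * a⁻¹) := by simp only [commutatorElement_def]; group
      rw [e2]; exact mul_mem hk₂Y h6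
  -- the normal closure of `A` in `H` acts nilpotently on `O`
  obtain ⟨X, hX⟩ : ∃ X : Subgroup G, X = ncl H A := ⟨_, rfl⟩
  have hXH : X ≤ H := by rw [hX]; exact ncl_le_self hAH
  have hHX : H ≤ normalizer (X : Set G) := hX ▸ le_normalizer_ncl H A
  have hZn : H ≤ normalizer ((V ⊓ centralizer (H : Set G) : Subgroup G) : Set G) := by
    intro x hx
    exact normalizer_inf_le (mem_inf.2 ⟨hHV hx, normalizer_le_normalizer_centralizer _ (le_normalizer hx)⟩)
  have h1 : ∀ k, iterCommutator O X k ≤ iterCommutator O H k := fun k =>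
    iterCommutator_mono le_rfl hXH k
  have h2 : ⁅V, X⁆ ≤ V ⊓ centralizer (H : Set G) := by
    rw [hX]; exact commutator_ncl_le hAH hZn hHV hVA
  have h3 : iterCommutator O X (n+2) = ⊥ := by
    change ⁅⁅iterCommutator O X n, X⁆, X⁆ = ⊥
    rw [eq_bot_iff]
    refine (commutator_mono ((commutator_mono ((h1 n).trans hV.ge) le_rfl).trans h2) le_rfl).trans ?_
    rw [le_bot_iff, commutator_eq_bot_iff_le_centralizer]
    exact inf_le_right.trans (centralizer_le hXH)
  have hXp : IsPGroup p X := isPGroup_of_iter hf.cp hXH (hO ▸ h3)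
  refine le_trans ?_ (le_pCoreOf hXH hHX hXp)
  rw [hX]
  exact ncl_mono l.LH le_rfl

end H53.MSS
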