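import Cfsg.Agent.Lib.H53.MSS

set_option autoImplicit false
set_option linter.unusedSectionVars false
set_option linter.unusedVariables false

/-! The asymmetric case: `O_p(M)` is weakly closed in `G`. -/

namespace H53.MSS

open Subgroup Cfsg H52.PCore H52.PRes H52.Cop H52.Syl H52.Red H52.YL H52.YL2 H52.Sub H52.FrakM
open scoped commutatorElement

variable {G : Type*} [Group G] {p : ℕ} [Finite G] [Fact p.Prime] {S M Y R D : Subgroup G}

namespace Std

variable (h : Std p S M Y R D)
include h

/-- the word argument -/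
theorem word (hasym : ¬ IsSymmetricIn Y) {L : Subgroup G} (hL : IsPGroup p L) (hRL : R ≤ L) (hLD : L ≤ D) :
    ∀ n : ℕ, ∀ l : List G, l.length = n → (∀ x ∈ l, x ∈ M ∨ x ∈ normalizer (L : Set G)) →
      cj l.prod Y ≤ R := by
  intro n
  induction n using Nat.strong_induction_on with
  | _ n ih =>
  intro l hl hmem
  rcases l.eq_nil_or_concat with rfl | ⟨l₁, b, rfl⟩
  · rw [List.prod_nil, cj_one]; exact h.YR
  · cases l₁ with
    | nil =>
      simp only [List.concat_eq_append, List.nil_append] at hl hmem ⊢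
      rw [List.prod_singleton]
      rcases hmem b (by simp) with hb | hb
      · rw [cj_eq_of_mem_normalizer (h.pred.norm hb)]; exact h.YR
      · -- both normalize each other
        have h1 : cj b Y ≤ L := by
          calc cj b Y ≤ cj b L := cj_mono (h.YR.trans hRL)
            _ = L := cj_eq_of_mem_normalizer hb
        have h2 : cj b⁻¹ Y ≤ L := by
          calc cj b⁻¹ Y ≤ cj b⁻¹ L := cj_mono (h.YR.trans hRL)
            _ = L := cj_eq_of_mem_normalizer (inv_mem hb)
        have h3 : Y ≤ normalizer (cj b Y : Set G) := by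
          rw [← cj_normalizer, le_cj_iff]
          exact h2.trans (hLD.trans h.D_le)
        have h4 := asym_comm hasym h3 (h1.trans (hLD.trans h.D_le))
        rw [← h.inf_eq_R hL hRL]
        exact le_inf h1 h4
    | cons a l₂ =>
      simp only [List.concat_eq_append, List.cons_append, List.length_cons, List.length_append,
        List.length_nil] at hl hmem ⊢
      have e1 : (a :: (l₂ ++ [b])).prod = a * (l₂ ++ [b]).prod := List.prod_cons
      have e2 : (a :: (l₂ ++ [b])).prod = (a :: l₂).prod * b := by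
        rw [List.prod_cons, List.prod_append, List.prod_singleton, List.prod_cons, mul_assoc]
      have ih1 : cj (l₂ ++ [b]).prod Y ≤ R := by
        apply ih (l₂.length + 1) (by omega) _ (by simp)
        intro x hx
        exact hmem x (List.mem_cons_of_mem _ hx)
      have ih2 : cj (a :: l₂).prod Y ≤ R := by
        apply ih (l₂.length + 1) (by omega) _ (by simp)
        intro x hx
        apply hmem x
        rw [← List.cons_append]
        exact List.mem_append_left _ hx
      rcases hmem a (by simp) with ha | ha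
      · rw [e1, ← cj_cj]
        calc cj a (cj (l₂ ++ [b]).prod Y) ≤ cj a R := cj_mono ih1
          _ = R := cj_eq_of_mem_normalizer (h.M_le ha)
      · rcases hmem b (by simp) with hb | hb
        · rw [e2, ← cj_cj, cj_eq_of_mem_normalizer (h.pred.norm hb)]
          exact ih2
        · have h1 : cj (a :: (l₂ ++ [b])).prod Y ≤ L := by
            rw [e1, ← cj_cj]
            calc cj a (cj (l₂ ++ [b]).prod Y) ≤ cj a L := cj_mono (ih1.trans hRL)
              _ = L := cj_eq_of_mem_normalizer ha
          have ih3 : cj ((a :: l₂).prod)⁻¹ Y ≤ R := by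
            rw [List.prod_inv_reverse]
            apply ih (l₂.length + 1) (by omega) _ (by simp)
            intro x hx
            rw [List.mem_reverse, List.mem_map] at hx
            obtain ⟨y, hy, rfl⟩ := hx
            have : y ∈ a :: (l₂ ++ [b]) := by
              rw [← List.cons_append]; exact List.mem_append_left _ hy
            rcases hmem y this with h5 | h5
            · left; exact inv_mem h5
            · right; exact inv_mem h5
          have h2 : cj ((a :: (l₂ ++ [b])).prod)⁻¹ Y ≤ L := by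
            rw [e2, mul_inv_rev, ← cj_cj]
            calc cj b⁻¹ (cj ((a :: l₂).prod)⁻¹ Y) ≤ cj b⁻¹ L := cj_mono (ih3.trans hRL)
              _ = L := cj_eq_of_mem_normalizer (inv_mem hb)
          have h3 : Y ≤ normalizer (cj (a :: (l₂ ++ [b])).prod Y : Set G) := by
            rw [← cj_normalizer, le_cj_iff]
            exact h2.trans (hLD.trans h.D_le)
          have h4 := asym_comm hasym h3 (h1.trans (hLD.trans h.D_le))
          rw [← h.inf_eq_R hL hRL]
          exact le_inf h1 h4

theorem normalizer_le_of_le_D (hasym : ¬ IsSymmetricIn Y) {L : Subgroup G} (hL : IsPGroup p L) (hRL : R ≤ L)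
    (hLD : L ≤ D) : normalizer (L : Set G) ≤ normalizer (R : Set G) := by
  obtain ⟨X, hX⟩ : ∃ X : Subgroup G, X = M ⊔ normalizer (L : Set G) := ⟨_, rfl⟩
  have h1 : ∀ x ∈ X, cj x Y ≤ R := by
    intro x hx
    rw [hX, sup_eq_closure, ← mem_toSubmonoid, closure_toSubmonoid] at hx
    obtain ⟨l, hl, rfl⟩ := Submonoid.exists_list_of_mem_closure hx
    apply h.word hasym hL hRL hLD l.length l rfl
    intro y hy
    rcases hl y hy with h5 | h5
    · exact h5
    · rcases h5 with h5 | h5
      · left; exact (inv_mem_iff (x := y)).1 h5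
      · right; exact (inv_mem_iff (x := y)).1 h5
  obtain ⟨K, hK⟩ : ∃ K : Subgroup G, K = ncl X Y := ⟨_, rfl⟩
  have hKR : K ≤ R := by rw [hK, ncl_le_iff]; exact h1
  have hYK : Y ≤ K := hK ▸ le_ncl X Y
  have hXK : X ≤ normalizer (K : Set G) := hK ▸ le_normalizer_ncl X Y
  have hK1 : K ≠ ⊥ := by
    intro h0; rw [h0, le_bot_iff] at hYK; exact h.Y_ne hYK
  have hMX : M ≤ X := hX ▸ le_sup_left
  have h2 : normalizer (K : Set G) ≤ D := h.normalizer_le_D hK1 (h.Rp.to_le hKR) (hMX.trans hXK)
  have h3 : normalizer (L : Set G) ≤ D := by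
    refine le_trans ?_ (hXK.trans h2)
    rw [hX]; exact le_sup_right
  rw [← h.inf_eq_R hL hRL]
  intro x hx
  exact normalizer_inf_le (mem_inf.2 ⟨hx, h.D_le_C (h3 hx)⟩)

theorem le_NR (hasym : ¬ IsSymmetricIn Y) {L : Subgroup G} (hL : IsPGroup p L) (hRL : R ≤ L) :
    L ≤ normalizer (R : Set G) := by
  obtain ⟨N, hN⟩ : ∃ N : Subgroup G, N = L ⊓ normalizer (R : Set G) := ⟨_, rfl⟩
  have hNL : N ≤ L := hN ▸ inf_le_left
  have hRN : R ≤ N := hN ▸ le_inf hRL le_normalizer
  have hND : N ≤ D := by rw [hN]; exact inf_le_right.trans h.NR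
  have h1 : N = L := by
    apply eq_of_inf_normalizer_le hL hNL
    conv_rhs => rw [hN]
    exact inf_le_inf_left _ (h.normalizer_le_of_le_D hasym (hL.to_le hNL) hRN hND)
  rw [← h1, hN]; exact inf_le_right

theorem normalizer_le_NR (hasym : ¬ IsSymmetricIn Y) {L : Subgroup G} (hL : IsPGroup p L) (hRL : R ≤ L) :
    normalizer (L : Set G) ≤ normalizer (R : Set G) :=
  h.normalizer_le_of_le_D hasym hL hRL ((h.le_NR hasym hL hRL).trans h.NR)

theorem wc' (hasym : ¬ IsSymmetricIn Y) : IsWeaklyClosedSubgroup p R :=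
  (Cfsg.Agent.S2838.result R h.Rp h.R_ne).2.2 fun L hL hRL => h.normalizer_le_NR hasym hL hRL

theorem wc (hasym : ¬ IsSymmetricIn Y) : H52.WC.WC p R :=
  (H52.WC.iff_WC h.Rp).1 (h.wc' hasym)

/-- subgroups of characteristic `p` between `R` and one of characteristic `p` -/
theorem conj_Y (hasym : ¬ IsSymmetricIn Y) {x g : G} (hx : x ∈ Y) (hg : g * x * g⁻¹ ∈ Y) :
    ∃ m ∈ M, m * x * m⁻¹ = g * x * g⁻¹ := by
  obtain ⟨y, hy⟩ : ∃ y : G, y = g * x * g⁻¹ := ⟨_, rfl⟩
  rw [← hy] at hg ⊢
  have h1 : R ≤ centralizer ({y} : Set G) := by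
    intro r hr
    have := h.RC hr
    rw [mem_centralizer_iff] at this ⊢
    rintro _ rfl
    exact this _ hg
  have h2 : cj g R ≤ centralizer ({y} : Set G) := by
    rintro _ ⟨r, hr, rfl⟩
    have := h.RC hr
    rw [mem_centralizer_iff] at this ⊢
    rintro _ rfl
    have h3 := this _ hx
    rw [hy]
    show g * x * g⁻¹ * (g * r * g⁻¹) = (g * r * g⁻¹) * (g * x * g⁻¹)
    calc g * x * g⁻¹ * (g * r * g⁻¹) = g * (x * r) * g⁻¹ := by group
      _ = g * (r * x) * g⁻¹ := by rw [h3]
      _ = _ := by group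
  obtain ⟨k, hk, he⟩ := (h.wc hasym).conj h.Rp h1 h2
  have h4 : k⁻¹ * g ∈ normalizer (R : Set G) := by
    apply mem_normalizer_of_cj_eq
    rw [← cj_cj, he, cj_inv_cj]
  obtain ⟨m, hm, c, hc, hmc⟩ := h.factor (h.NR h4)
  refine ⟨m, hm, ?_⟩
  have h5 : c * x * c⁻¹ = x := by
    rw [mem_centralizer_iff] at hc
    rw [← hc x hx]; group
  have h6 : k⁻¹ * y * k = y := by
    rw [mem_centralizer_iff] at hk
    have := hk y rfl
    rw [mul_assoc, this]; group
  have hm' : m = k⁻¹ * g * c⁻¹ := by rw [hmc]; group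
  have h5' : c⁻¹ * x * c = x := by
    conv_lhs => rw [← h5]
    group
  calc m * x * m⁻¹ = k⁻¹ * (g * (c⁻¹ * x * c) * g⁻¹) * k := by rw [hm']; group
    _ = k⁻¹ * y * k := by rw [h5', ← hy]
    _ = y := h6

/-- Sylow subgroups containing `R` -/
theorem exists_syl (hasym : ¬ IsSymmetricIn Y) {L : Subgroup G} (hRL : R ≤ L) :
    ∃ T, SylIn p T L ∧ R ≤ T ∧ T ≤ normalizer (R : Set G) := by
  obtain ⟨T, hT, hRT⟩ := exists_sylIn_le hRL h.Rp
  exact ⟨T, hT, hRT, h.le_NR hasym hT.isPGroup hRT⟩

end Std

end H53.MSS
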