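import Cfsg.Agent.Lib.H53.MSS2
import Cfsg.Agent.Lib.H1.Coprime2
import Cfsg.Agent.Lib.H1.Frat

set_option autoImplicit false
set_option linter.unusedSectionVars false
set_option linter.unusedVariables false

/-! More on members of `𝔐_G(S)`. -/

namespace H53.MSS

open Subgroup Cfsg H52.PCore H52.PRes H52.Cop H52.Syl H52.Red H52.YL H52.YL2 H52.Sub H52.FrakM
open scoped commutatorElement

variable {G : Type*} [Group G] {p : ℕ} [Finite G] [Fact p.Prime] {S M Y R D : Subgroup G}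

/-- `O^p(X)` centralizes the `p`-group `A` if `[A, X] ≤ A'`. -/
theorem resOf_le_centralizer_of_derived {A X : Subgroup G} (hA : IsPGroup p A)
    (hX : X ≤ normalizer (A : Set G)) (hc : ⁅A, X⁆ ≤ ⁅A, A⁆) : resOf p X ≤ centralizer (A : Set G) := by
  apply resOf_le_of_primePow
  rintro q hq hqp x hx ⟨k, hk⟩
  have hzX : zpowers x ≤ X := by rwa [zpowers_le]
  have hnil : Group.IsNilpotent A := hA.isNilpotent
  have h1 : zpowers x ≤ centralizer (A : Set G) := by
    apply H1.Coprime2.le_centralizer_of_frattini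
    · obtain ⟨n, hn⟩ := IsPGroup.iff_card.1 (hA.to_subgroup (frattini A))
      rw [Nat.card_zpowers, hk, hn]
      exact Nat.Coprime.pow _ _ ((Nat.coprime_primes hq Fact.out).2 hqp)
    · intro a ha c hc'
      have h2 : a * c * a⁻¹ * c⁻¹ ∈ ⁅A, A⁆ := by
        have h3 : ⁅c, a⁆ ∈ ⁅A, A⁆ := hc (commutator_mem_commutator hc' (hzX ha))
        have h4 := inv_mem h3
        rw [commutatorElement_inv] at h4
        exact h4
      have h5 : ⁅A, A⁆ = (commutator A).map A.subtype := by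
        rw [commutator_def, map_commutator, ← MonoidHom.range_eq_map, range_subtype]
      rw [h5] at h2
      exact (map_mono H1.Frat.commutator_le_frattini) h2
  exact h1 (mem_zpowers x)

/-- if `L ≥ Y` and `[O^p⟨Y^L⟩, Y] ≤ O_p(L)` then `Y ≤ O_p(L)` -/
theorem le_pCoreOf_of_res {Y L : Subgroup G} (hYp : IsPGroup p Y) (hYL : Y ≤ L)
    (hc : ⁅resOf p (ncl L Y), Y⁆ ≤ pCoreOf p L) : Y ≤ pCoreOf p L := by
  obtain ⟨K, hK⟩ : ∃ K : Subgroup G, K = resOf p (ncl L Y) := ⟨_, rfl⟩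
  obtain ⟨P, hP⟩ : ∃ P : Subgroup G, P = pCoreOf p L := ⟨_, rfl⟩
  rw [← hK, ← hP] at hc
  rw [← hP]
  have hPp : IsPGroup p P := hP ▸ isPGroup_pCoreOf L
  have hPL : P ≤ L := hP ▸ pCoreOf_le L
  have hLP : L ≤ normalizer (P : Set G) := hP ▸ le_normalizer_pCoreOf L
  have hL0 : ncl L Y ≤ L := ncl_le_self hYL
  have hKL0 : K ≤ ncl L Y := hK ▸ resOf_le _
  have hLK : L ≤ normalizer (K : Set G) := by
    rw [hK]; exact (le_normalizer_ncl L Y).trans (normalizer_le_normalizer_resOf _)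
  have h1 : ⁅K, ncl L Y⁆ ≤ P := commutator_ncl_le hYL hLP hLK hc
  obtain ⟨N, hN⟩ : ∃ N : Subgroup G, N = ncl L Y ⊔ P := ⟨_, rfl⟩
  have hNL : N ≤ L := by rw [hN]; exact sup_le hL0 hPL
  have hLN : L ≤ normalizer (N : Set G) := by
    rw [hN]; intro x hx
    exact normalizer_sup_le (mem_inf.2 ⟨le_normalizer_ncl L Y hx, hLP hx⟩)
  have hres : resOf p N = K := by
    rw [hK]
    apply resOf_eq_of_pMod (by rw [hN]; exact le_sup_left)
    rw [hN, sup_comm]
    exact pMod_of_sup hPp (hPL.trans (le_normalizer_ncl L Y))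
  obtain ⟨T, hT⟩ := exists_sylIn (p := p) N
  have hPT : P ≤ T := hT.normal_le (by rw [hN]; exact le_sup_right) (hNL.trans hLP) hPp
  have hKN : ⁅K, N⁆ ≤ P := by
    rw [← le_cmod_iff (hNL.trans hLP), hN]
    refine sup_le ?_ ?_
    · rw [le_cmod_iff (hL0.trans hLP)]; exact h1
    · rw [le_cmod_iff le_normalizer]
      exact le_normalizer_iff_commutator_le_right.1 ((hKL0.trans hL0).trans hLP)
  have hKT : K ≤ normalizer (T : Set G) := by
    rw [le_normalizer_iff_commutator_le_right]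
    exact (commutator_mono le_rfl hT.le).trans (hKN.trans hPT)
  have hNT : N ≤ normalizer (T : Set G) := by
    rw [← hT.sup_resOf_eq, hres]
    exact sup_le le_normalizer hKT
  have hTO : T ≤ pCoreOf p N := le_pCoreOf hT.le hNT hT.isPGroup
  have hTP : T ≤ P := by
    rw [hP]
    exact hTO.trans (pCoreOf_le_of_normal hLN hNL)
  have hYN : Y ≤ N := by rw [hN]; exact (le_ncl L Y).trans le_sup_left
  obtain ⟨n, hn, hYn⟩ := hT.exists_conj_le hYN hYp
  rw [cj_eq_of_mem_normalizer (hNT hn)] at hYn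
  exact hYn.trans hTP

namespace Std

variable (h : Std p S M Y R D)
include h

theorem le_pCoreOf_of_comm {I Y' L A : Subgroup G} (hI1 : I ≠ ⊥) (hIp : IsPGroup p I)
    (hMI : M ≤ normalizer (I : Set G)) (hY' : Y' ≤ pCoreOf p D) (hYL : Y' ≤ L) (hA : IsPGroup p A)
    (hAL : A ≤ L) (hLA : L ≤ normalizer (A : Set G)) (hIA : I ≤ A) (hc : ⁅Y', A⁆ ≤ ⁅I, A⁆) :
    Y' ≤ pCoreOf p L := by
  apply le_pCoreOf_of_res ((isPGroup_pCoreOf D).to_le hY') hYL
  obtain ⟨K, hK⟩ : ∃ K : Subgroup G, K = resOf p (ncl L Y') := ⟨_, rfl⟩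
  rw [← hK]
  have hL0 : ncl L Y' ≤ L := ncl_le_self hYL
  have hKL0 : K ≤ ncl L Y' := hK ▸ resOf_le _
  have hLK : L ≤ normalizer (K : Set G) := by
    rw [hK]; exact (le_normalizer_ncl L Y').trans (normalizer_le_normalizer_resOf _)
  have hLA' : L ≤ normalizer ((⁅A, A⁆ : Subgroup G) : Set G) := by
    intro x hx; exact normalizer_commutator_le (mem_inf.2 ⟨hLA hx, hLA hx⟩)
  have h1 : ⁅A, ncl L Y'⁆ ≤ ⁅A, A⁆ := by
    apply commutator_ncl_le hYL hLA' hLA
    rw [commutator_comm]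
    exact hc.trans (commutator_mono hIA le_rfl)
  have h2 : K ≤ centralizer (A : Set G) := by
    rw [hK]; exact resOf_le_centralizer_of_derived hA (hL0.trans hLA) h1
  have h3 : K ≤ D := by
    refine (h2.trans (centralizer_le hIA)).trans ?_
    exact (H52.Syl.centralizer_le_normalizer I).trans (h.normalizer_le_D hI1 hIp hMI)
  have h4 : ⁅K, Y'⁆ ≤ K ⊓ pCoreOf p D := by
    apply le_inf
    · exact le_normalizer_iff_commutator_le_left.1 (hYL.trans hLK)
    · exact (commutator_mono le_rfl hY').trans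
        (le_normalizer_iff_commutator_le_right.1 (h3.trans (le_normalizer_pCoreOf D)))
  refine h4.trans ?_
  have h5 : K ⊓ pCoreOf p D ≤ pCoreOf p K := by
    apply le_pCoreOf inf_le_left
    · intro x hx
      exact normalizer_inf_le (mem_inf.2 ⟨le_normalizer hx, le_normalizer_pCoreOf D (h3 hx)⟩)
    · exact (isPGroup_pCoreOf D).to_le inf_le_right
  exact h5.trans (pCoreOf_le_of_normal hLK (hKL0.trans hL0))

end Std

end H53.MSS
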