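import Cfsg.Agent.Lib.H53.MSS3
import Cfsg.Agent.Lib.H26.Components

set_option autoImplicit false
set_option linter.unusedSectionVars false
set_option linter.unusedVariables false

/-! More on members of `𝔐_G(S)`: the generalized Fitting subgroup of `M† / C(Y)`. -/

namespace H53.MSS

open Subgroup Cfsg H52.PCore H52.PRes H52.Cop H52.Syl H52.Red H52.YL H52.YL2 H52.Sub H52.FrakM
open scoped commutatorElement

variable {G : Type*} [Group G] {p : ℕ} [Finite G] [Fact p.Prime] {S M Y R D : Subgroup G}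

/-- a `p`-subgroup normalized by `F^*` is trivial if `O_p = 1` -/
theorem eq_bot_of_gFitting_le_normalizer {P : Subgroup G} (h0 : pCore p G = ⊥) (hP : IsPGroup p P)
    (hn : generalizedFittingSubgroup G ≤ normalizer (P : Set G)) : P = ⊥ := by
  obtain ⟨F, hF⟩ : ∃ F : Subgroup G, F = generalizedFittingSubgroup G := ⟨_, rfl⟩
  have hFn : F.Normal := by rw [hF]; infer_instance
  rw [← hF] at hn
  have hPF : P ≤ normalizer (F : Set G) := by rw [normalizer_eq_top]; exact le_top
  have h1 : P ⊓ F = ⊥ := by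
    rw [eq_bot_iff, ← h0]
    have h2 : P ⊓ F ≤ pCoreOf p F := by
      apply le_pCoreOf inf_le_right _ (hP.to_le inf_le_left)
      intro x hx
      exact normalizer_inf_le (mem_inf.2 ⟨hn hx, le_normalizer hx⟩)
    refine h2.trans ?_
    have h3 := pCoreOf_le_of_normal (p := p) (H := (⊤ : Subgroup G)) (K := F)
      (normal_iff_top_le_normalizer.1 hFn) le_top
    rwa [pCoreOf_top] at h3
  have h2 : ⁅P, F⁆ = ⊥ := by
    rw [eq_bot_iff, ← h1]
    exact le_inf (le_normalizer_iff_commutator_le_left.1 hn)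
      (le_normalizer_iff_commutator_le_right.1 hPF)
  rw [commutator_eq_bot_iff_le_centralizer] at h2
  rw [← h1, left_eq_inf]
  refine h2.trans ?_
  rw [hF]
  exact H26.Components.centralizer_gFitting_le

/-- relative version -/
theorem le_of_preimage_le_normalizer {C F X : Subgroup G} [hn : (C.subgroupOf D).Normal]
    (h0 : pCore p (↥D ⧸ C.subgroupOf D) = ⊥)
    (hF : F = ((generalizedFittingSubgroup (↥D ⧸ C.subgroupOf D)).comap
      (QuotientGroup.mk' (C.subgroupOf D))).map D.subtype)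
    (hX : X ≤ D) (hXC : PMod p X C) (hFX : F ≤ normalizer (X : Set G)) : X ≤ C := by
  set π := QuotientGroup.mk' (C.subgroupOf D) with hπ
  have hsurj : Function.Surjective π := QuotientGroup.mk'_surjective _
  have h1 : IsPGroup p ((X.subgroupOf D).map π) := by
    rw [← pMod_iff_quotient]
    rintro x hx
    obtain ⟨k, hk⟩ := hXC x (mem_subgroupOf.1 hx)
    exact ⟨k, mem_subgroupOf.2 (by simpa using hk)⟩
  have h2 : (X.subgroupOf D).map π = ⊥ := by
    apply eq_bot_of_gFitting_le_normalizer h0 h1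
    intro f hf
    obtain ⟨d, rfl⟩ := hsurj f
    have hd : (d : G) ∈ F := by rw [hF]; exact ⟨d, hf, rfl⟩
    apply mem_normalizer_of_cj_le
    rintro _ ⟨_, ⟨x, hx, rfl⟩, rfl⟩
    refine ⟨d * x * d⁻¹, ?_, by simp⟩
    rw [SetLike.mem_coe, mem_subgroupOf] at hx ⊢
    exact (mem_normalizer_iff.1 (hFX hd) _).1 hx
  rw [Subgroup.map_eq_bot_iff] at h2
  intro x hx
  have h3 : (⟨x, hX hx⟩ : D) ∈ π.ker := h2 (mem_subgroupOf.2 hx)
  rw [QuotientGroup.ker_mk', mem_subgroupOf] at h3
  exact h3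

theorem pCore_quotient_eq_bot {D Y : Subgroup G} (hp : PRed p D Y)
    [hn : ((centralizer (Y : Set G)).subgroupOf D).Normal] :
    pCore p (↥D ⧸ (centralizer (Y : Set G)).subgroupOf D) = ⊥ := by
  rw [pCore_quotient_eq_bot_iff]
  intro N hN hm
  have h1 := hp.red (N.map D.subtype) (map_subtype_le _) (by
    rw [le_normalizer_iff]
    rintro d hd _ ⟨n, hn', rfl⟩
    exact ⟨⟨d, hd⟩ * n * ⟨d, hd⟩⁻¹, hN.conj_mem n hn' _, rfl⟩) (by
    rintro _ ⟨n, hn', rfl⟩
    obtain ⟨k, hk⟩ := hm n hn'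
    exact ⟨k, by simpa [mem_subgroupOf] using hk⟩)
  intro x hx
  rw [mem_subgroupOf]
  exact h1 ⟨x, hx, rfl⟩

namespace Std

variable (h : Std p S M Y R D)
include h

theorem le_Y_of_F_le (hasym : ¬ IsSymmetricIn Y) [hn : ((centralizer (Y : Set G)).subgroupOf D).Normal]
    {F H : Subgroup G}
    (hF : F = ((generalizedFittingSubgroup (↥D ⧸ (centralizer (Y : Set G)).subgroupOf D)).comap
      (QuotientGroup.mk' ((centralizer (Y : Set G)).subgroupOf D))).map D.subtype)
    (hFH : F ≤ H) (hH : H ⊓ centralizer (pCoreOf p H : Set G) ≤ pCoreOf p H) :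
    Y ≤ largestPReducedOf p H := by
  have h0 := pCore_quotient_eq_bot h.predD
  have hCF : centralizer (Y : Set G) ≤ F := by
    intro c hc
    rw [hF]
    refine ⟨⟨c, h.CD hc⟩, ?_, rfl⟩
    rw [SetLike.mem_coe, mem_comap]
    have : (QuotientGroup.mk' ((centralizer (Y : Set G)).subgroupOf D)) ⟨c, h.CD hc⟩ = 1 := by
      rw [← MonoidHom.mem_ker, QuotientGroup.ker_mk', mem_subgroupOf]; exact hc
    rw [this]; exact one_mem _
  have hYH : Y ≤ H := h.YC.trans (hCF.trans hFH)
  have hRH : R ≤ H := h.RC.trans (hCF.trans hFH)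
  obtain ⟨T, hT, hRT, hTN⟩ := h.exists_syl hasym hRH
  have hTD : T ≤ D := hTN.trans h.NR
  -- `O_p(H)` centralizes `Y`
  have h1 : pCoreOf p H ≤ centralizer (Y : Set G) := by
    apply le_of_preimage_le_normalizer h0 hF (hT.pCoreOf_le.trans hTD)
      (pMod_of_isPGroup (isPGroup_pCoreOf H))
    exact hFH.trans (le_normalizer_pCoreOf H)
  have h2 : Y ≤ pCoreOf p H := by
    refine le_trans (le_inf hYH ?_) hH
    rw [le_centralizer_iff]; exact h1
  -- the normal closure
  obtain ⟨W, hW⟩ : ∃ W : Subgroup G, W = ncl H Y := ⟨_, rfl⟩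
  have hYW : Y ≤ W := hW ▸ le_ncl H Y
  have hWH : H ≤ normalizer (W : Set G) := hW ▸ le_normalizer_ncl H Y
  have hconj : ∀ g ∈ H, cj g Y ≤ pCoreOf p H := by
    intro g hg
    calc cj g Y ≤ cj g (pCoreOf p H) := cj_mono h2
      _ = pCoreOf p H := cj_eq_of_mem_normalizer (le_normalizer_pCoreOf H hg)
  have hWea : IsElementaryAbelian p W := by
    rw [hW]
    unfold ncl
    apply elem_closure
    · rintro x ⟨g, hg, a, ha, rfl⟩ y ⟨k, hk, b, hb, rfl⟩
      have h3 := hconj (g⁻¹ * k) (mul_mem (inv_mem hg) hk) (conj_mem_cj hb)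
      have h4 := h1 h3
      rw [mem_centralizer_iff] at h4
      have h5 := h4 a ha
      calc g * a * g⁻¹ * (k * b * k⁻¹) = g * (a * (g⁻¹ * k * b * (g⁻¹ * k)⁻¹)) * g⁻¹ := by group
        _ = g * ((g⁻¹ * k * b * (g⁻¹ * k)⁻¹) * a) * g⁻¹ := by rw [h5]
        _ = _ := by group
    · rintro x ⟨g, hg, a, ha, rfl⟩
      have h3 := (elem_iff.1 h.pred.ea).2 a ha
      rw [conj_pow, h3]; group
  refine hYW.trans (PRed.le_largestPReducedOf ⟨?_, hWH, hWea, ?_⟩)
  · rw [hW]; exact ncl_le_self hYH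
  · intro E hEH hHE hm
    obtain ⟨E', hE'⟩ : ∃ E' : Subgroup G, E' = E ⊔ (H ⊓ centralizer (W : Set G)) := ⟨_, rfl⟩
    -- `E ≤ T C_H(W) ≤ D`
    have hCn : H ≤ normalizer ((H ⊓ centralizer (W : Set G) : Subgroup G) : Set G) := by
      intro x hx
      exact normalizer_inf_le (mem_inf.2 ⟨le_normalizer hx,
        normalizer_le_normalizer_centralizer _ (hWH hx)⟩)
    have hTE : SylIn p (T ⊓ E) E := hT.inf_normal hEH hHE
    have hED : E ≤ D := by
      refine (hTE.le_sup_of_pMod hm).trans (sup_le (inf_le_left.trans hTD) ?_)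
      exact (centralizer_le hYW).trans h.CD
    have h5 : E ≤ centralizer (Y : Set G) := by
      apply le_of_preimage_le_normalizer h0 hF hED (hm.mono le_rfl (centralizer_le hYW)) (hFH.trans hHE)
    -- conjugates
    rw [le_centralizer_iff, hW, ncl_le_iff]
    intro g hg
    rw [cj_le_iff, le_centralizer_iff, cj_centralizer] at *
    have h6 : cj g⁻¹ E = E := cj_eq_of_mem_normalizer (hHE (inv_mem hg))
    rw [h6]
    exact h5

end Std

end H53.MSS
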