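import Mathlib
import Cfsg.Prelude.Def_LocalStructure
import Cfsg.Agent.Lib.H53.CharP

set_option autoImplicit false
open Cfsg
open scoped commutatorElement

namespace H53.Par

open H53.CharP

variable {G : Type*} [Group G]

/-- A nontrivial subgroup `R` normalized by a finite `p`-group `T ≥ R` contains a central element of order `p`. -/
theorem exists_central_mem [Finite G] {p : ℕ} [hp : Fact p.Prime] {T R : Subgroup G} (hT : IsPGroup p ↥T)
    (hRT : R ≤ T) (hR1 : R ≠ ⊥) (hn : T ≤ Subgroup.normalizer (R : Set G)) :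
    ∃ z ∈ R, orderOf z = p ∧ ∀ t ∈ T, t * z = z * t := by
  classical
  obtain ⟨f, hf0, hfs⟩ : ∃ f : ℕ → Subgroup G, f 0 = R ∧ ∀ n, f (n + 1) = ⁅f n, T⁆ :=
    ⟨iterCommutator R T, rfl, fun n => rfl⟩
  have hfR : ∀ n, f n ≤ R ∧ T ≤ Subgroup.normalizer ((f n : Subgroup G) : Set G) := by
    intro n
    induction n with
    | zero => rw [hf0]; exact ⟨le_rfl, hn⟩
    | succ n ih =>
      rw [hfs]
      refine ⟨?_, Subgroup.normalizer_commutator_ge_right _ _⟩
      exact (Subgroup.le_normalizer_iff_commutator_le_left.mp ih.2).trans ih.1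
  have hle : ∀ n, f n ≤ T.lowerCentralSeries n := by
    intro n
    induction n with
    | zero => rw [hf0]; exact hRT
    | succ n ih => rw [hfs]; exact Subgroup.commutator_mono ih le_rfl
  obtain ⟨N, hN⟩ := (Subgroup.isNilpotent_iff_lowerCentralSeries T).mp hT.isNilpotent
  have hex : ∃ n, f n = ⊥ := ⟨N, by rw [← le_bot_iff, ← hN]; exact hle N⟩
  obtain ⟨m, hm⟩ : ∃ m, Nat.find hex = m + 1 := by
    apply Nat.exists_eq_succ_of_ne_zero
    intro h0
    have := Nat.find_spec hex
    rw [h0, hf0] at this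
    exact hR1 this
  have hm1 : f m ≠ ⊥ := Nat.find_min hex (by omega)
  have hm2 : ⁅f m, T⁆ = ⊥ := by
    have := Nat.find_spec hex
    rw [hm, hfs] at this
    exact this
  obtain ⟨z, hz, hzo⟩ := H53.SPE2.exists_orderOf_eq ((hT.to_le hRT).to_le (hfR m).1) hm1
  refine ⟨z, (hfR m).1 hz, hzo, ?_⟩
  rw [Subgroup.commutator_eq_bot_iff_le_centralizer] at hm2
  exact Subgroup.mem_centralizer_iff.mp (hm2 hz)

theorem le_sylow_of_le_normalizer [Finite G] {p : ℕ} [hp : Fact p.Prime] {R : Subgroup G} (hR : IsPGroup p ↥R)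
    (T : Sylow p G) (hT : (T : Subgroup G) ≤ Subgroup.normalizer (R : Set G)) : R ≤ T := by
  have h1 : IsPGroup p ↥((T : Subgroup G) ⊔ R) := IsPGroup.to_sup_of_normal_right' T.2 hR hT
  have h2 := T.3 h1 le_sup_left
  exact le_sup_right.trans h2.le

theorem centralizer_zpowers (z : G) :
    Subgroup.centralizer ((Subgroup.zpowers z : Subgroup G) : Set G) = Subgroup.centralizer ({z} : Set G) := by
  apply le_antisymm
  · exact Subgroup.centralizer_le (by rintro _ rfl; exact Subgroup.mem_zpowers _)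
  · intro y hy
    rw [Subgroup.mem_centralizer_singleton_iff] at hy
    rw [Subgroup.mem_centralizer_iff]
    rintro _ ⟨k, rfl⟩
    exact (Commute.zpow_left (show Commute z y from hy.symm) k).eq

theorem par_iff [Finite G] {p : ℕ} [hp : Fact p.Prime] :
    IsOfParabolicCharacteristic p G ↔
      ∀ (S : Sylow p G) (z : G), z ∈ (S : Subgroup G) → orderOf z = p → (∀ s ∈ (S : Subgroup G), s * z = z * s) →
        CP p (Subgroup.centralizer ({z} : Set G)) := by
  constructor
  · intro h S z hzS hzo hzc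
    have h1 : (S : Subgroup G) ≤ Subgroup.centralizer ((Subgroup.zpowers z : Subgroup G) : Set G) := by
      rw [centralizer_zpowers]
      intro s hs
      rw [Subgroup.mem_centralizer_singleton_iff]
      exact hzc s hs
    have h2 := h (Subgroup.zpowers z) (H53.SPE2.isPGroup_zpowers hzo)
      (by rw [Ne, Subgroup.zpowers_eq_bot]; exact H53.SPE2.ne_one_of_orderOf hzo)
      ⟨S, h1.trans (Subgroup.centralizer_le_normalizer _)⟩
    rw [← cp_iff] at h2
    have h3 := h2.of_normal (Subgroup.centralizer_le_normalizer _) (by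
      have := inf_centralizer_normal (H := (⊤ : Subgroup G)) (R := Subgroup.zpowers z)
      rwa [top_inf_eq, top_inf_eq] at this)
    rwa [centralizer_zpowers] at h3
  · rintro h R hRp hR1 ⟨T, hT⟩
    rw [← cp_iff]
    have hRT := le_sylow_of_le_normalizer hRp T hT
    obtain ⟨z, hz, hzo, hzc⟩ := exists_central_mem T.2 hRT hR1 hT
    exact CP.normalizer_of_central hRp hz (fun x hx => hzc x (hRT hx)) (h T z (hRT hz) hzo hzc)

/-- Group-isomorphism invariance of characteristic `p`. -/
theorem charP_congr {A B : Type*} [Group A] [Group B] {p : ℕ} (e : A ≃* B)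
    (h : Subgroup.centralizer (pCore p A : Set A) ≤ pCore p A) :
    Subgroup.centralizer (pCore p B : Set B) ≤ pCore p B := by
  have h1 := H1.Cores.map_equiv_pCore p e
  intro b hb
  rw [← h1]
  refine ⟨e.symm b, h ?_, by simp⟩
  rw [Subgroup.mem_centralizer_iff]
  intro a ha
  apply e.injective
  rw [map_mul, map_mul, MulEquiv.apply_symm_apply]
  apply Subgroup.mem_centralizer_iff.mp hb
  rw [SetLike.mem_coe, ← h1]
  exact ⟨a, ha, rfl⟩

/-- `CP` for a subgroup of a subgroup. -/
theorem cp_map_subtype {p : ℕ} {K : Subgroup G} {H : Subgroup ↥K} : CP p (H.map K.subtype) ↔ CP p H := by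
  rw [cp_iff, cp_iff]
  have e : ↥H ≃* ↥(H.map K.subtype) := H.equivMapOfInjective K.subtype K.subtype_injective
  exact ⟨charP_congr e.symm, charP_congr e⟩

end H53.Par
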