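import Cfsg.Agent.Lib.H53.MSS4
import Cfsg.Agent.S2839
import Cfsg.Agent.S2842
import Cfsg.Agent.Lib.H53.Par

set_option autoImplicit false
set_option linter.unusedSectionVars false
set_option linter.unusedVariables false

/-! The family `ℌ_G(O_p(M))`. -/

namespace H53.MSS

open Subgroup Cfsg H52.PCore H52.PRes H52.Cop H52.Syl H52.Red H52.YL H52.YL2 H52.Sub H52.FrakM
open H53.CharP (CP cp_iff)
open scoped commutatorElement

variable {G : Type*} [Group G] {p : ℕ} [Finite G] [Fact p.Prime] {S M Y R D : Subgroup G}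

/-- abstract form of `H ∈ ℌ_G(R)` -/
structure FH (p : ℕ) (R Y H : Subgroup G) : Prop where
  cp : CP p H
  RH : R ≤ H
  nY : ¬ Y ≤ pCoreOf p H
  prop : ∀ P : Subgroup G, R ≤ P → P < H → Y ≤ pCoreOf p P
  Rp : IsPGroup p R
  YR : Y ≤ R
  RY : R ≤ normalizer (Y : Set G)

/-- subgroups of characteristic `p` between a weakly closed `R` and one of characteristic `p` -/
theorem cp_between (hR : IsPGroup p R) (hR1 : R ≠ ⊥) (hwc : IsWeaklyClosedSubgroup p R)
    (hCR : centralizer (R : Set G) ≤ R) {L K : Subgroup G} (hRK : R ≤ K) (hKL : K ≤ L) (hL : CP p L) : CP p K := by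
  have h1 := (Cfsg.Agent.S2839.result R hR hR1 hwc L (hRK.trans hKL) ⊥).1
  have h2 : IsPGroup p (R.subgroupOf L) := hR.comap_subtype
  have h3 : R.subgroupOf L ≠ ⊥ := by
    intro h0
    apply hR1
    rw [← map_subgroupOf_eq_of_le (hRK.trans hKL), h0, Subgroup.map_bot]
  have h4 : centralizer ((R.subgroupOf L : Subgroup L) : Set L) ≤ R.subgroupOf L := by
    intro x hx
    rw [mem_subgroupOf]
    apply hCR
    rw [mem_centralizer_iff] at hx ⊢
    intro r hr
    exact congrArg Subtype.val (hx ⟨r, (hRK.trans hKL) hr⟩ (mem_subgroupOf.2 hr))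
  have h5 := (Cfsg.Agent.S2842.result (R.subgroupOf L) h2 h3 h1 h4 (K.subgroupOf L)
    (fun x hx => hRK hx) (Or.inl (cp_iff.1 hL))).2.2
  rw [← cp_iff, ← H53.Par.cp_map_subtype, map_subgroupOf_eq_of_le hKL] at h5
  exact h5

/-- `Y ≤ O_p(E)` for some `E` containing a large normal subgroup of `H` -/
theorem le_pCoreOf_of_sub {Y H N E : Subgroup G} (hYp : IsPGroup p Y) (hYH : Y ≤ H)
    (hNH : N ≤ H) (hHN : H ≤ normalizer (N : Set G)) (hres : resOf p (ncl H Y) ≤ N) (hNE : N ≤ E)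
    (hYE : Y ≤ pCoreOf p E) : Y ≤ pCoreOf p H := by
  apply le_pCoreOf_of_res hYp hYH
  have h1 : ⁅N, Y⁆ ≤ N ⊓ pCoreOf p E := by
    apply le_inf
    · exact le_normalizer_iff_commutator_le_left.1 (hYH.trans hHN)
    · exact (commutator_mono le_rfl hYE).trans
        (le_normalizer_iff_commutator_le_right.1 (hNE.trans (le_normalizer_pCoreOf E)))
  have h2 : N ⊓ pCoreOf p E ≤ pCoreOf p N := by
    apply le_pCoreOf inf_le_left
    · intro x hx
      exact normalizer_inf_le (mem_inf.2 ⟨le_normalizer hx, le_normalizer_pCoreOf E (hNE hx)⟩)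
    · exact (isPGroup_pCoreOf E).to_le inf_le_right
  exact (commutator_mono hres le_rfl).trans (h1.trans (h2.trans (pCoreOf_le_of_normal hHN hNH)))

namespace FH

variable {H : Subgroup G} (h : FH p R Y H)
include h

theorem Yp : IsPGroup p Y := h.Rp.to_le h.YR
theorem YH : Y ≤ H := h.YR.trans h.RH

/-- key property -/
theorem key {N E : Subgroup G} (hNH : N ≤ H) (hHN : H ≤ normalizer (N : Set G))
    (hres : resOf p (ncl H Y) ≤ N) (hNE : N ≤ E) (hEH : E ≤ H) (hRE : R ≤ E) : E = H := by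
  by_contra hne
  apply h.nY
  exact le_pCoreOf_of_sub h.Yp h.YH hNH hHN hres hNE (h.prop E hRE (lt_of_le_of_ne hEH hne))

theorem ncl_R : ncl H R = H := by
  apply h.key (N := ncl H Y) (ncl_le_self h.YH) (le_normalizer_ncl H Y) (resOf_le _)
    (ncl_mono le_rfl h.YR) (ncl_le_self h.RH) (le_ncl H R)

theorem res_sup_R : resOf p H ⊔ R = H := by
  apply h.key (N := resOf p H) (resOf_le H) (le_normalizer_resOf H) (resOf_mono (ncl_le_self h.YH))
    le_sup_left (sup_le (resOf_le H) h.RH) le_sup_right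

/-- subgroups normalized by `O^p(H)` and `R` -/
theorem le_normalizer_of {X : Subgroup G} (h1 : resOf p H ≤ normalizer (X : Set G))
    (h2 : R ≤ normalizer (X : Set G)) : H ≤ normalizer (X : Set G) := by
  conv_lhs => rw [← h.res_sup_R]
  exact sup_le h1 h2

theorem comm_eq : ⁅resOf p H, Y⁆ = resOf p H := by
  obtain ⟨K, hK⟩ : ∃ K : Subgroup G, K = resOf p H := ⟨_, rfl⟩
  obtain ⟨K₂, hK₂⟩ : ∃ K₂ : Subgroup G, K₂ = ⁅K, Y⁆ := ⟨_, rfl⟩
  rw [← hK]
  have hKH : K ≤ H := hK ▸ resOf_le H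
  have hHK : H ≤ normalizer (K : Set G) := hK ▸ le_normalizer_resOf H
  have hK₂K : K₂ ≤ K := by rw [hK₂]; exact le_normalizer_iff_commutator_le_left.1 (h.YH.trans hHK)
  have hHK₂ : H ≤ normalizer (K₂ : Set G) := by
    apply h.le_normalizer_of
    · rw [← hK, hK₂]; exact normalizer_commutator_ge_left _ _
    · intro x hx
      rw [hK₂]
      exact normalizer_commutator_le (mem_inf.2 ⟨hHK (h.RH hx), h.RY hx⟩)
  have h1 : ncl H Y ≤ K₂ ⊔ Y := by
    apply ncl_le le_sup_right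
    apply h.le_normalizer_of
    · rw [← hK, le_normalizer_iff_commutator_le_right]
      have hc : ⁅K, K₂ ⊔ Y⁆ ≤ K₂ := by
        rw [← le_cmod_iff (sup_le le_normalizer (h.YH.trans hHK₂))]
        apply sup_le
        · rw [le_cmod_iff le_normalizer]
          exact le_normalizer_iff_commutator_le_right.1 (hKH.trans hHK₂)
        · rw [le_cmod_iff (h.YH.trans hHK₂), hK₂]
      exact hc.trans le_sup_left
    · exact fun x hx => normalizer_sup_le (mem_inf.2 ⟨hHK₂ (h.RH hx), h.RY hx⟩)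
  have h2 : resOf p (ncl H Y) ≤ K₂ := by
    apply resOf_le_of_pMod
    refine PMod.mono ?_ h1 le_rfl
    rw [sup_comm]
    exact pMod_of_sup h.Yp (h.YH.trans hHK₂)
  have h3 : K₂ ⊔ R = H := h.key (hK₂K.trans hKH) hHK₂ h2 le_sup_left (sup_le (hK₂K.trans hKH) h.RH) le_sup_right
  rw [← hK₂]
  apply le_antisymm hK₂K
  rw [hK]
  apply resOf_le_of_pMod
  conv_lhs => rw [← h3]
  rw [sup_comm]
  exact pMod_of_sup h.Rp (h.RH.trans hHK₂)

theorem sup_Y_eq : resOf p H ⊔ Y = ncl H Y := by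
  apply le_antisymm
  · refine sup_le ?_ (le_ncl H Y)
    rw [← h.comm_eq]
    exact (commutator_mono le_rfl (le_ncl H Y)).trans
      (le_normalizer_iff_commutator_le_right.1 ((resOf_le H).trans (le_normalizer_ncl H Y)))
  · apply ncl_le le_sup_right
    apply h.le_normalizer_of
    · rw [le_normalizer_iff_commutator_le_right]
      refine le_trans ?_ (le_sup_left : resOf p H ≤ resOf p H ⊔ Y)
      exact le_normalizer_iff_commutator_le_left.1 (sup_le le_normalizer (h.YH.trans (le_normalizer_resOf H)))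
    · exact fun x hx => normalizer_sup_le (mem_inf.2 ⟨le_normalizer_resOf H (h.RH hx), h.RY hx⟩)

theorem res_le_ncl : resOf p H ≤ ncl H Y := by rw [← h.sup_Y_eq]; exact le_sup_left

/-- normal subgroups of `H` -/
theorem normal_dichotomy {N : Subgroup G} (hNH : N ≤ H) (hHN : H ≤ normalizer (N : Set G))
    (hres : ¬ resOf p H ≤ N) : ⁅N, resOf p H⁆ ≤ pCoreOf p N ∧ ∀ T : Subgroup G, SylIn p T N → T ≤ pCoreOf p N := by
  have hne : N ⊔ R ≠ H := by
    intro he
    apply hres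
    apply resOf_le_of_pMod
    rw [← he, sup_comm]
    exact pMod_of_sup h.Rp (h.RH.trans hHN)
  have h1 := h.prop (N ⊔ R) le_sup_right (lt_of_le_of_ne (sup_le hNH h.RH) hne)
  have h2 : ⁅N, Y⁆ ≤ pCoreOf p N := by
    refine le_trans (le_inf (le_normalizer_iff_commutator_le_left.1 (h.YH.trans hHN))
      ((commutator_mono le_rfl h1).trans
        (le_normalizer_iff_commutator_le_right.1 (le_sup_left.trans (le_normalizer_pCoreOf (N ⊔ R)))))) ?_
    apply le_pCoreOf inf_le_left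
    · intro x hx
      exact normalizer_inf_le (mem_inf.2 ⟨le_normalizer hx, le_normalizer_pCoreOf _ (le_sup_left (a := N) hx)⟩)
    · exact (isPGroup_pCoreOf _).to_le inf_le_right
  have h3 : ⁅N, ncl H Y⁆ ≤ pCoreOf p N :=
    commutator_ncl_le h.YH (hHN.trans (normalizer_le_normalizer_pCoreOf N)) hHN h2
  have h4 : ⁅N, resOf p H⁆ ≤ pCoreOf p N := (commutator_mono le_rfl h.res_le_ncl).trans h3
  refine ⟨h4, ?_⟩
  intro T hT
  apply le_pCoreOf hT.le _ hT.isPGroup
  rw [← hT.sup_resOf_eq]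
  refine sup_le le_normalizer ?_
  rw [le_normalizer_iff_commutator_le_right, commutator_comm]
  refine le_trans ?_ hT.pCoreOf_le
  exact (commutator_mono hT.le (resOf_mono hNH)).trans h4

/-- `H U` is `p`-irreducible -/
theorem irreducible {U J : Subgroup G} (hJ : J = H ⊔ U) (hU : U ≤ pCoreOf p J) (hJH : J ≤ normalizer (H : Set G)) :
    IsPIrreducible p J := by
  have hHJ : H ≤ J := hJ ▸ le_sup_left
  have hUp : IsPGroup p U := (isPGroup_pCoreOf J).to_le hU
  have hUJ : U ≤ J := hJ ▸ le_sup_right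
  have hres : resOf p J = resOf p H := by
    apply resOf_eq_of_pMod hHJ
    rw [hJ, sup_comm]
    exact pMod_of_sup hUp (hUJ.trans hJH)
  constructor
  · rw [H52.Irr.isPClosed_iff]
    intro hc
    apply h.nY
    have h1 := hc Y (h.YH.trans hHJ) h.Yp
    refine le_trans (le_inf h.YH h1) ?_
    apply le_pCoreOf inf_le_left
    · intro x hx
      exact normalizer_inf_le (mem_inf.2 ⟨le_normalizer hx, le_normalizer_pCoreOf J (hHJ hx)⟩)
    · exact (isPGroup_pCoreOf J).to_le inf_le_right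
  · intro N₀ hN₀ hc
    obtain ⟨N, hN⟩ : ∃ N : Subgroup G, N = N₀.map J.subtype := ⟨_, rfl⟩
    have hNJ : N ≤ J := hN ▸ map_subtype_le _
    have hJN : J ≤ normalizer (N : Set G) := by
      rw [hN, le_normalizer_iff]
      rintro d hd _ ⟨n, hn', rfl⟩
      exact ⟨⟨d, hd⟩ * n * ⟨d, hd⟩⁻¹, hN₀.conj_mem n hn' _, rfl⟩
    have goal : resOf p J ≤ N → pResidual p ↥J ≤ N₀ := by
      intro h1
      rw [hN] at h1
      exact map_subtype_le_iff.1 h1
    apply goal
    by_contra hnres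
    apply hc
    -- `N` is `p`-closed
    obtain ⟨O, hO⟩ : ∃ O : Subgroup G, O = pCoreOf p J := ⟨_, rfl⟩
    have hOp : IsPGroup p O := hO ▸ isPGroup_pCoreOf J
    have hOJ : O ≤ J := hO ▸ pCoreOf_le J
    have hJO : J ≤ normalizer (O : Set G) := hO ▸ le_normalizer_pCoreOf J
    obtain ⟨N₁, hN₁⟩ : ∃ N₁ : Subgroup G, N₁ = N ⊔ O := ⟨_, rfl⟩
    have hN₁J : N₁ ≤ J := by rw [hN₁]; exact sup_le hNJ hOJ
    have hJN₁ : J ≤ normalizer (N₁ : Set G) := by
      rw [hN₁]; exact fun x hx => normalizer_sup_le (mem_inf.2 ⟨hJN hx, hJO hx⟩)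
    obtain ⟨N₂, hN₂⟩ : ∃ N₂ : Subgroup G, N₂ = N₁ ⊓ H := ⟨_, rfl⟩
    have hN₂H : N₂ ≤ H := hN₂ ▸ inf_le_right
    have hHN₂ : J ≤ normalizer (N₂ : Set G) := by
      rw [hN₂]; exact fun x hx => normalizer_inf_le (mem_inf.2 ⟨hJN₁ hx, hJH hx⟩)
    have h1 : ¬ resOf p H ≤ N₂ := by
      intro h2
      apply hnres
      have h3 : resOf p J ≤ N₁ := by rw [hres]; exact h2.trans (hN₂ ▸ inf_le_left)
      have h4 := resOf_mono (p := p) h3
      rw [resOf_resOf] at h4
      refine h4.trans ?_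
      apply resOf_le_of_pMod
      rw [hN₁, sup_comm]
      exact pMod_of_sup hOp (hOJ.trans hJN)
    have h2 := (h.normal_dichotomy hN₂H (hHJ.trans hHN₂) h1).2
    -- Sylow subgroup of `N₁`
    obtain ⟨T, hT⟩ := exists_sylIn (p := p) N₁
    have hTN₂ : SylIn p (T ⊓ N₂) N₂ := hT.inf_normal (by rw [hN₂]; exact inf_le_left) (hN₁J.trans hHN₂)
    have h3 : T ⊓ N₂ ≤ O := by
      refine (h2 _ hTN₂).trans ?_
      rw [hO]
      exact pCoreOf_le_of_normal hHN₂ (hN₂H.trans hHJ)
    have hOT : O ≤ T := hT.normal_le (by rw [hN₁]; exact le_sup_right) (hN₁J.trans hJO) hOp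
    have h4 : T ≤ O := by
      intro t ht
      have h5 : t ∈ H ⊔ O := by
        have h6 : J ≤ H ⊔ O := by
          rw [hJ, hO, hJ]; rw [hJ] at hU; exact sup_le_sup_left hU _
        exact h6 (hN₁J (hT.le ht))
      rw [sup_comm, mem_sup_iff_of_le_normalizer (hOJ.trans hJH)] at h5
      obtain ⟨o, ho, x, hx, rfl⟩ := h5
      have hxT : x ∈ T := by
        have : x = o⁻¹ * (o * x) := by group
        rw [this]; exact mul_mem (inv_mem (hOT ho)) ht
      exact mul_mem ho (h3 (mem_inf.2 ⟨hxT, by rw [hN₂]; exact mem_inf.2 ⟨hT.le hxT, hx⟩⟩))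
    have h5 : ∀ X : Subgroup G, X ≤ N → IsPGroup p X → X ≤ O := by
      intro X hX hXp
      obtain ⟨n, hn, hXn⟩ := hT.exists_conj_le (hX.trans (by rw [hN₁]; exact le_sup_left)) hXp
      refine hXn.trans ((cj_mono h4).trans ?_)
      rw [cj_eq_of_mem_normalizer (hJO (hN₁J hn))]
    rw [H52.Irr.isPClosed_iff]
    intro X hX hXp
    have h6 := h5 (X.map J.subtype) (by rw [hN]; exact map_mono hX) (hXp.map _)
    have h7 : X ≤ pCore p J := by
      rw [hO] at h6
      exact map_subtype_le_iff.1 h6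
    have h8 := pCoreOf_eq_inf_of_subnormal (p := p) hN₀.isSubnormal
    rw [h8]
    exact le_inf hX h7

end FH

end H53.MSS
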