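import Cfsg.Agent.Lib.H53.MSS5

set_option autoImplicit false
set_option linter.unusedSectionVars false
set_option linter.unusedVariables false

/-! The family `ℌ_G(O_p(M))`: existence and overgroups. -/

namespace H53.MSS

open Subgroup Cfsg H52.PCore H52.PRes H52.Cop H52.Syl H52.Red H52.YL H52.YL2 H52.Sub H52.FrakM
open H53.CharP (CP cp_iff)
open scoped commutatorElement

variable {G : Type*} [Group G] {p : ℕ} [Finite G] [Fact p.Prime] {S M Y R D : Subgroup G}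

theorem pCoreOf_cj (g : G) (L : Subgroup G) : pCoreOf p (cj g L) = cj g (pCoreOf p L) :=
  (H53.Amb.pCoreOf_map_conj p L g).symm

theorem ncl_mono_cj_le {H X K : Subgroup G} {u : G} (h : ∀ l ∈ H, cj u (cj l X) ≤ K) :
    cj u (ncl H X) ≤ K := by
  rw [cj_le_iff, ncl_le_iff]
  intro l hl
  have := h l hl
  rwa [cj_le_iff] at this

namespace Std

variable (h : Std p S M Y R D)
include h

theorem fh {H : Subgroup G} (hH : IsInFrakH p M H) : FH p R Y H where
  cp := cp_iff.2 hH.1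
  RH := by rw [h.hR]; exact hH.2.1
  nY := by rw [h.hY]; exact hH.2.2.1
  prop := by rw [h.hR, h.hY]; exact hH.2.2.2
  Rp := h.Rp
  YR := h.YR
  RY := (h.RM.trans h.MD).trans h.D_le

theorem isInFrakH {H : Subgroup G} (h1 : CP p H) (h2 : R ≤ H) (h3 : ¬ Y ≤ pCoreOf p H)
    (h4 : ∀ P : Subgroup G, R ≤ P → P < H → Y ≤ pCoreOf p P) : IsInFrakH p M H := by
  rw [h.hR, h.hY] at *
  exact ⟨cp_iff.1 h1, h2, h3, h4⟩

theorem exists_frakH (hasym : ¬ IsSymmetricIn Y) (htall : IsCharPTall p Y) : ∃ H, IsInFrakH p M H := by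
  obtain ⟨T, L, hTL, hL, hYL⟩ := htall
  have hT : SylIn p ((T : Subgroup (centralizer (Y : Set G))).map (centralizer (Y : Set G)).subtype)
      (centralizer (Y : Set G)) := ⟨T, rfl⟩
  obtain ⟨c, hc, hRc⟩ := hT.conj h.sylR
  have h1 : R ≤ cj c L := by rw [hRc]; exact cj_mono hTL
  have h2 : CP p (cj c L) := (cp_iff.2 hL).conj c
  have h3 : ¬ Y ≤ pCoreOf p (cj c L) := by
    intro hY
    apply hYL
    rw [pCoreOf_cj, le_cj_iff, cj_eq_of_mem_normalizer (inv_mem (H52.Syl.centralizer_le_normalizer Y hc))] at hY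
    exact hY
  obtain ⟨H, hHL, hH⟩ := (Set.toFinite {X : Subgroup G | R ≤ X ∧ X ≤ cj c L ∧ ¬ Y ≤ pCoreOf p X}).exists_le_minimal
    (show cj c L ∈ _ from ⟨h1, le_rfl, h3⟩)
  refine ⟨H, h.isInFrakH ?_ hH.prop.1 hH.prop.2.2 ?_⟩
  · exact cp_between h.Rp h.R_ne (h.wc' hasym) h.CR hH.prop.1 hHL h2
  · intro P hRP hPH
    by_contra hne
    exact hPH.not_ge (hH.le_of_le ⟨hRP, hPH.le.trans hHL, hne⟩ hPH.le)

theorem large_over (hasym : ¬ IsSymmetricIn Y) {H : Subgroup G} (hH : FH p R Y H) {U : Subgroup G}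
    (hU : IsPGroup p U) (hHU : H ≤ normalizer (U : Set G)) :
    U ≤ pCoreOf p (H ⊔ U) ∧ pCoreOf p (H ⊔ U) ≤ normalizer (R : Set G) ∧ (H ⊔ U ≤ normalizer (H : Set G)) ∧
      resOf p H = resOf p (H ⊔ U) ∧ IsPIrreducible p ↥(H ⊔ U) := by
  obtain ⟨J, hJ⟩ : ∃ J : Subgroup G, J = H ⊔ U := ⟨_, rfl⟩
  rw [← hJ]
  have hHJ : H ≤ J := hJ ▸ le_sup_left
  have hUJ : U ≤ J := hJ ▸ le_sup_right
  have h1 : U ≤ pCoreOf p J := le_pCoreOf hUJ (by rw [hJ]; exact sup_le hHU le_normalizer) hU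
  obtain ⟨T, hT, hRT, hTN⟩ := h.exists_syl hasym (hH.RH.trans hHJ)
  have h2 : pCoreOf p J ≤ normalizer (R : Set G) := hT.pCoreOf_le.trans hTN
  have h3 : J ≤ normalizer (H : Set G) := by
    rw [hJ]
    refine sup_le le_normalizer ?_
    intro u hu
    apply mem_normalizer_of_cj_le
    conv_lhs => rw [← hH.ncl_R]
    apply ncl_mono_cj_le
    intro l hl
    have h4 : l⁻¹ * u * l ∈ U := by
      have h5 := (mem_normalizer_iff.1 (hHU (inv_mem hl)) u).1 hu
      simpa using h5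
    have h5 : cj u (cj l R) = cj l R := by
      rw [cj_cj, show u * l = l * (l⁻¹ * u * l) by group, ← cj_cj,
        cj_eq_of_mem_normalizer (h2 (h1 h4))]
    rw [h5]
    exact (cj_mono hH.RH).trans (cj_of_mem hl).le
  refine ⟨h1, h2, h3, ?_, hH.irreducible hJ h1 h3⟩
  symm
  apply resOf_eq_of_pMod hHJ
  rw [hJ, sup_comm]
  exact pMod_of_sup hU (hUJ.trans h3)

end Std

end H53.MSS
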