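import Cfsg.Agent.Lib.H53.MSS6
import Cfsg.Agent.S2833
import Cfsg.Agent.Lib.H75.Zipper

set_option autoImplicit false
set_option linter.unusedSectionVars false
set_option linter.unusedVariables false

/-! Minimal subgroups `L` of `H ∈ ℌ_G(O_p(M))` with `Y ≰ O_p(L)`. -/

namespace H53.MSS

open Subgroup Cfsg H52.PCore H52.PRes H52.Cop H52.Syl H52.Red H52.YL H52.YL2 H52.Sub H52.FrakM
open H53.CharP (CP cp_iff)
open scoped commutatorElement

variable {G : Type*} [Group G] {p : ℕ} [Finite G] [Fact p.Prime] {S M Y R D : Subgroup G}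

/-- acting nilpotently on `O_p(H)` -/
theorem isPGroup_of_iter {H X : Subgroup G} (hcp : CP p H) (hXH : X ≤ H) {n : ℕ}
    (h : iterCommutator (pCoreOf p H) X n = ⊥) : IsPGroup p X := by
  have h1 := resOf_le_centralizer_of_iter (isPGroup_pCoreOf H) (hXH.trans (le_normalizer_pCoreOf H)) h
  have h2 : resOf p X ≤ pCoreOf p H := le_trans (le_inf ((resOf_le X).trans hXH) h1) hcp
  exact isPGroup_of_pMod (pMod_resOf X) ((isPGroup_pCoreOf H).to_le h2)

theorem pCoreOf_map_subtype {L : Subgroup G} (K : Subgroup L) :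
    (pCoreOf p K).map L.subtype = pCoreOf p (K.map L.subtype) := by
  apply le_antisymm
  · apply le_pCoreOf (map_mono (pCoreOf_le K))
    · rw [← map_subtype_le_normalizer]; exact le_normalizer_pCoreOf K
    · exact (isPGroup_pCoreOf K).map _
  · have h1 : pCoreOf p (K.map L.subtype) ≤ L := (pCoreOf_le _).trans (map_subtype_le K)
    rw [← map_subgroupOf_eq_of_le h1]
    apply map_mono
    apply le_pCoreOf
    · rw [← map_subtype_le_iff, map_subgroupOf_eq_of_le h1]; exact pCoreOf_le _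
    · rw [map_subtype_le_normalizer, map_subgroupOf_eq_of_le h1]; exact le_normalizer_pCoreOf _
    · exact (isPGroup_pCoreOf _).comap_subtype

theorem isSubnormal_of_le_pCore {P : Subgroup G} (h : P ≤ pCore p G) : P.IsSubnormal := by
  have h1 : (P.subgroupOf (pCore p G)).IsSubnormal := isSubnormal_of_isPGroup isPGroup_pCore _
  have h2 := h1.trans' (inferInstance : (pCore p G).Normal).isSubnormal
  rwa [map_subgroupOf_eq_of_le h] at h2

/-- maximal subgroup containing `Y` -/
theorem exists_max {Y L : Subgroup G} (hYp : IsPGroup p Y) (hYL : Y ≤ L) (hYO : ¬ Y ≤ pCoreOf p L)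
    (hmin : ∀ L' : Subgroup G, L' ≤ L → Y ≤ L' → ¬ Y ≤ pCoreOf p L' → L' = L) :
    ∃ L₀ : Subgroup G, Y ≤ L₀ ∧ L₀ < L ∧ ∀ X : Subgroup G, Y ≤ X → X < L → X ≤ L₀ := by
  obtain ⟨P, hP⟩ : ∃ P : Subgroup L, P = Y.subgroupOf L := ⟨_, rfl⟩
  have hPmap : P.map L.subtype = Y := by rw [hP, map_subgroupOf_eq_of_le hYL]
  have hns : ¬ P.IsSubnormal := by
    intro hs
    apply hYO
    have h1 : P ≤ pCore p L := le_pCore_of_subnormal hs (by rw [hP]; exact hYp.comap_subtype)
    rw [← hPmap]
    exact map_mono h1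
  have hsub : ∀ X : Subgroup L, P ≤ X → X ≠ ⊤ → (P.subgroupOf X).IsSubnormal := by
    intro X hPX hX
    apply isSubnormal_of_le_pCore (p := p)
    have h1 : Y ≤ X.map L.subtype := by rw [← hPmap]; exact map_mono hPX
    have h2 : Y ≤ pCoreOf p (X.map L.subtype) := by
      by_contra hne
      have h3 := hmin _ (map_subtype_le X) h1 hne
      apply hX
      rw [eq_top_iff, ← map_subtype_le_iff, h3, ← MonoidHom.range_eq_map, range_subtype]
    rw [← pCoreOf_map_subtype, ← hPmap, map_subtype_le_iff] at h2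
    rw [← map_subtype_le_iff, map_subgroupOf_eq_of_le hPX]
    exact h2
  have hP1 : P ≠ ⊤ := by rintro rfl; exact hns IsSubnormal.top
  obtain ⟨M₁, hM₁, hPM₁⟩ := (eq_top_or_exists_le_coatom P).resolve_left hP1
  have huniq := H75.Zipper.zipper P hsub hns
  refine ⟨M₁.map L.subtype, ?_, ?_, ?_⟩
  · rw [← hPmap]; exact map_mono hPM₁
  · refine lt_of_le_of_ne (map_subtype_le _) ?_
    intro he
    apply hM₁.1
    rw [eq_top_iff, ← map_subtype_le_iff, he, ← MonoidHom.range_eq_map, range_subtype]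
  · intro X hYX hXL
    obtain ⟨X', hX'⟩ : ∃ X' : Subgroup L, X' = X.subgroupOf L := ⟨_, rfl⟩
    have hX'm : X'.map L.subtype = X := by rw [hX', map_subgroupOf_eq_of_le hXL.le]
    have h1 : X' ≠ ⊤ := by
      intro h0
      apply hXL.ne
      rw [← hX'm, h0, ← MonoidHom.range_eq_map, range_subtype]
    obtain ⟨M₂, hM₂, hXM₂⟩ := (eq_top_or_exists_le_coatom X').resolve_left h1
    have hPX' : P ≤ X' := by
      rw [← map_subtype_le_iff, hPmap, hX'm]; exact hYX
    rw [huniq M₁ M₂ hM₁ hM₂ hPM₁ (hPX'.trans hXM₂), ← hX'm]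
    exact map_mono hXM₂

end H53.MSS
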