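import Cfsg.Agent.Lib.H53.MSS7

set_option autoImplicit false
set_option linter.unusedSectionVars false
set_option linter.unusedVariables false

/-! Minimal subgroups `L` of `H ∈ ℌ_G(O_p(M))` with `Y ≰ O_p(L)`: the maximal subgroup is `N_L(Y)`. -/

namespace H53.MSS

open Subgroup Cfsg H52.PCore H52.PRes H52.Cop H52.Syl H52.Red H52.YL H52.YL2 H52.Sub H52.FrakM
open H53.CharP (CP cp_iff)
open scoped commutatorElement

variable {G : Type*} [Group G] {p : ℕ} [Finite G] [Fact p.Prime] {S M Y R D : Subgroup G}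

/-- `L ≤ H` minimal with `Y ≤ L`, `Y ≰ O_p(L)`, and `L₀` its unique maximal subgroup over `Y`. -/
structure LS (p : ℕ) (R Y H L L₀ : Subgroup G) : Prop where
  LH : L ≤ H
  YL : Y ≤ L
  nY : ¬ Y ≤ pCoreOf p L
  min : ∀ L' : Subgroup G, L' ≤ L → Y ≤ L' → ¬ Y ≤ pCoreOf p L' → L' = L
  YL₀ : Y ≤ L₀
  lt : L₀ < L
  max : ∀ X : Subgroup G, Y ≤ X → X < L → X ≤ L₀
  supR : L ⊔ R = H

theorem FH.exists_ls {H L : Subgroup G} (hf : FH p R Y H) (hLH : L ≤ H) (hYL : Y ≤ L) (hYO : ¬ Y ≤ pCoreOf p L)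
    (hmin : ∀ L' : Subgroup G, L' ≤ L → Y ≤ L' → ¬ Y ≤ pCoreOf p L' → L' = L) : ∃ L₀, LS p R Y H L L₀ := by
  obtain ⟨L₀, h1, h2, h3⟩ := exists_max hf.Yp hYL hYO hmin
  refine ⟨L₀, hLH, hYL, hYO, hmin, h1, h2, h3, ?_⟩
  by_contra hne
  apply hYO
  have h4 := hf.prop (L ⊔ R) le_sup_right (lt_of_le_of_ne (sup_le hLH hf.RH) hne)
  refine le_trans (le_inf hYL h4) ?_
  apply le_pCoreOf inf_le_left
  · intro x hx
    exact normalizer_inf_le (mem_inf.2 ⟨le_normalizer hx, le_normalizer_pCoreOf _ (le_sup_left (a := L) hx)⟩)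
  · exact (isPGroup_pCoreOf _).to_le inf_le_right

namespace LS

variable {H L L₀ : Subgroup G} (l : LS p R Y H L L₀)
include l

theorem Y_pCore : Y ≤ pCoreOf p L₀ := by
  by_contra hne
  exact l.lt.ne (l.min L₀ l.lt.le l.YL₀ hne)

/-- `L` is the normal closure of `Y` -/
theorem ncl_Y (hYp : IsPGroup p Y) : ncl L Y = L := by
  by_contra hne
  apply l.nY
  have h1 : Y ≤ pCoreOf p (ncl L Y) := by
    by_contra h
    exact hne (l.min _ (ncl_le_self l.YL) (le_ncl L Y) h)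
  exact h1.trans (pCoreOf_le_of_normal (le_normalizer_ncl L Y) (ncl_le_self l.YL))

theorem normalizer_L₀ (hYp : IsPGroup p Y) : L ⊓ normalizer (L₀ : Set G) = L₀ := by
  apply le_antisymm
  · by_contra hne
    have h1 : L ⊓ normalizer (L₀ : Set G) = L := by
      by_contra h2
      exact hne (l.max _ (le_inf l.YL (l.YL₀.trans le_normalizer)) (lt_of_le_of_ne inf_le_left h2))
    have h2 : L ≤ normalizer (L₀ : Set G) := by rw [← h1]; exact inf_le_right
    have h3 : ncl L Y ≤ L₀ := ncl_le l.YL₀ h2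
    rw [l.ncl_Y hYp] at h3
    exact l.lt.not_ge h3
  · exact le_inf l.lt.le le_normalizer

theorem gen (hYp : IsPGroup p Y) {g : G} (hg : g ∈ L) (hg0 : g ∉ L₀) : Y ⊔ cj g Y = L := by
  by_contra hne
  have h1 : cj g Y ≤ L := (cj_mono l.YL).trans (cj_of_mem hg).le
  have h2 := l.max _ le_sup_left (lt_of_le_of_ne (sup_le l.YL h1) hne)
  have h3 : cj g Y ≤ L₀ := le_sup_right.trans h2
  have h4 : Y ≤ cj g⁻¹ L₀ := by rw [le_cj_iff, inv_inv]; exact h3
  have h5 : cj g⁻¹ L₀ < L := by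
    have h6 : cj g⁻¹ L₀ ≤ L := (cj_mono l.lt.le).trans (cj_of_mem (inv_mem hg)).le
    refine lt_of_le_of_ne h6 ?_
    intro he
    apply l.lt.ne
    rw [← cj_inj (g := g⁻¹), he, cj_of_mem (inv_mem hg)]
  have h6 := l.max _ h4 h5
  have h7 := mem_normalizer_of_cj_le h6
  apply hg0
  rw [← l.normalizer_L₀ hYp]
  exact mem_inf.2 ⟨hg, by simpa using inv_mem h7⟩

theorem exists_g : ∃ g ∈ L, g ∉ L₀ := by
  obtain ⟨g, h1, h2⟩ := SetLike.exists_of_lt l.lt
  exact ⟨g, h1, h2⟩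

theorem gen_H (hYp : IsPGroup p Y) (hYR : Y ≤ R) {g : G} (hg : g ∈ L) (hg0 : g ∉ L₀) : cj g Y ⊔ R = H := by
  apply le_antisymm
  · rw [← l.supR]
    exact sup_le (((cj_mono l.YL).trans (cj_of_mem hg).le).trans le_sup_left) le_sup_right
  · conv_lhs => rw [← l.supR, ← l.gen hYp hg hg0]
    exact sup_le (sup_le (hYR.trans le_sup_right) le_sup_left) le_sup_right

/-- `O_p(L) ≤ L₀` -/
theorem pCoreOf_le (hYp : IsPGroup p Y) : pCoreOf p L ≤ L₀ := by
  have h1 : IsPGroup p ((Y ⊔ pCoreOf p L : Subgroup G)) :=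
    hYp.to_sup_of_normal_right' (isPGroup_pCoreOf L) (l.YL.trans (le_normalizer_pCoreOf L))
  have h2 : Y ⊔ pCoreOf p L ≠ L := by
    intro he
    apply l.nY
    refine l.YL.trans (le_pCoreOf le_rfl le_normalizer ?_)
    rw [← he]; exact h1
  exact le_sup_right.trans (l.max _ le_sup_left
    (lt_of_le_of_ne (sup_le l.YL (H52.PCore.pCoreOf_le L)) h2))

end LS

end H53.MSS
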