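import Cfsg.Agent.Lib.H53.MSS8

set_option autoImplicit false
set_option linter.unusedSectionVars false
set_option linter.unusedVariables false

/-! The maximal subgroup of `L` over `Y` normalizes `Y`. -/

namespace H53.MSS

open Subgroup Cfsg H52.PCore H52.PRes H52.Cop H52.Syl H52.Red H52.YL H52.YL2 H52.Sub H52.FrakM
open H53.CharP (CP cp_iff)
open scoped commutatorElement

variable {G : Type*} [Group G] {p : ℕ} [Finite G] [Fact p.Prime] {S M Y R D : Subgroup G}

theorem commutator_sup {V A B : Subgroup G} (h : A ⊔ B ≤ normalizer (V : Set G)) :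
    ⁅V, A ⊔ B⁆ = ⁅V, A⁆ ⊔ ⁅V, B⁆ := by
  apply le_antisymm
  · have hA : A ≤ normalizer (V : Set G) := le_sup_left.trans h
    have hB : B ≤ normalizer (V : Set G) := le_sup_right.trans h
    have hN : ⁅V, A⁆ ⊔ ⁅V, B⁆ ≤ V := sup_le (le_normalizer_iff_commutator_le_left.1 hA)
      (le_normalizer_iff_commutator_le_left.1 hB)
    have h1 : A ≤ normalizer ((⁅V, A⁆ ⊔ ⁅V, B⁆ : Subgroup G) : Set G) := by
      rw [le_normalizer_iff_commutator_le_left]
      exact (commutator_mono hN le_rfl).trans le_sup_left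
    have h2 : B ≤ normalizer ((⁅V, A⁆ ⊔ ⁅V, B⁆ : Subgroup G) : Set G) := by
      rw [le_normalizer_iff_commutator_le_left]
      exact (commutator_mono hN le_rfl).trans le_sup_right
    rw [← le_cmod_iff (sup_le h1 h2)]
    apply sup_le
    · rw [le_cmod_iff h1]; exact le_sup_left
    · rw [le_cmod_iff h2]; exact le_sup_right
  · exact sup_le (commutator_mono le_rfl le_sup_left) (commutator_mono le_rfl le_sup_right)

theorem comm_le_centralizer {V Y R : Subgroup G} (hV : ⁅V, Y⁆ ≤ Y) (hRC : R ≤ centralizer (Y : Set G)) :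
    ⁅V, R⁆ ≤ centralizer (Y : Set G) := by
  have hYR : ⁅Y, R⁆ = ⊥ := by
    rw [commutator_comm, commutator_eq_bot_iff_le_centralizer]; exact hRC
  have h1 : ⁅⁅V, Y⁆, R⁆ = ⊥ := by
    rw [eq_bot_iff, ← hYR]; exact commutator_mono hV le_rfl
  have h2 : ⁅⁅Y, R⁆, V⁆ = ⊥ := by rw [hYR]; exact commutator_bot_left _
  have h3 := commutator_commutator_eq_bot_of_rotate h1 h2
  rw [commutator_eq_bot_iff_le_centralizer] at h3
  rwa [commutator_comm]

theorem le_centralizer_of_commutator {A B : Subgroup G} (h : ⁅A, B⁆ = ⊥) : B ≤ centralizer (A : Set G) := by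
  rw [commutator_comm, commutator_eq_bot_iff_le_centralizer] at h; exact h

/-- `[A, B] ≤ K` when `B ≤ K` and `A` normalizes `K` -/
theorem commutator_le_of_right {A B K : Subgroup G} (hB : B ≤ K) (hA : A ≤ normalizer (K : Set G)) : ⁅A, B⁆ ≤ K :=
  (commutator_mono le_rfl hB).trans (le_normalizer_iff_commutator_le_right.1 hA)

theorem commutator_le_of_left {A B K : Subgroup G} (hA : A ≤ K) (hB : B ≤ normalizer (K : Set G)) : ⁅A, B⁆ ≤ K :=
  (commutator_mono hA le_rfl).trans (le_normalizer_iff_commutator_le_left.1 hB)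

/-- `cmod A B` is normalized by `N(A) ∩ N(B)` -/
theorem le_normalizer_cmod {A B X : Subgroup G} (hA : X ≤ normalizer (A : Set G)) (hB : X ≤ normalizer (B : Set G)) :
    X ≤ normalizer (cmod A B : Set G) := by
  intro x hx
  apply mem_normalizer_of_cj_le
  rintro _ ⟨g, ⟨hg1, hg2⟩, rfl⟩
  refine ⟨?_, ?_⟩
  · exact mul_mem (mul_mem (hB hx) hg1) (inv_mem (hB hx))
  · intro a ha
    have h1 : x⁻¹ * a * x ∈ A := by
      have := (mem_normalizer_iff.1 (hA (inv_mem hx)) a).1 ha
      simpa using this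
    have h2 := hg2 _ h1
    have h3 := (mem_normalizer_iff.1 (hB hx) _).1 h2
    have e : ⁅a, (MulAut.conj x).toMonoidHom g⁆ = x * ⁅x⁻¹ * a * x, g⁆ * x⁻¹ := by
      simp only [commutatorElement_def, MulEquiv.toMonoidHom_eq_coe, MonoidHom.coe_coe, MulAut.conj_apply]
      group
    rw [e]; exact h3

namespace Std

variable (h : Std p S M Y R D)
include h

theorem pCoreOf_le_NR (hasym : ¬ IsSymmetricIn Y) {P : Subgroup G} (hRP : R ≤ P) :
    pCoreOf p P ≤ normalizer (R : Set G) := by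
  obtain ⟨T, hT, _, hTN⟩ := h.exists_syl hasym hRP
  exact hT.pCoreOf_le.trans hTN

theorem NR_le_NY : normalizer (R : Set G) ≤ normalizer (Y : Set G) := h.NR.trans h.D_le

end Std

section
variable {H L L₀ : Subgroup G}

/-- elements of `Y ∩ Y^g` are central in `H` -/
theorem inf_cj_le (h : Std p S M Y R D) (hf : FH p R Y H) (l : LS p R Y H L L₀) {g : G} (hg : g ∈ L) (hg0 : g ∉ L₀) :
    Y ⊓ cj g Y ≤ centralizer (H : Set G) := by
  rw [← l.gen_H hf.Yp hf.YR hg hg0, centralizer_sup]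
  apply le_inf
  · refine inf_le_right.trans ?_
    rw [← cj_centralizer]; exact cj_mono h.YC
  · refine inf_le_left.trans ?_
    rw [le_centralizer_iff]; exact h.RC

/-- The key argument. -/
theorem L₀_le_NR (h : Std p S M Y R D) (hasym : ¬ IsSymmetricIn Y) (hf : FH p R Y H) (l : LS p R Y H L L₀) :
    L₀ ≤ normalizer (R : Set G) := by
  have hYp := hf.Yp
  obtain ⟨O, hO⟩ : ∃ O : Subgroup G, O = pCoreOf p H := ⟨_, rfl⟩
  have hOp : IsPGroup p O := hO ▸ isPGroup_pCoreOf H
  have hOH : O ≤ H := hO ▸ pCoreOf_le H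
  have hHO : H ≤ normalizer (O : Set G) := hO ▸ le_normalizer_pCoreOf H
  have hLO : L ≤ normalizer (O : Set G) := l.LH.trans hHO
  have hON : O ≤ normalizer (R : Set G) := hO ▸ h.pCoreOf_le_NR hasym hf.RH
  have hOY : O ≤ normalizer (Y : Set G) := hON.trans h.NR_le_NY
  obtain ⟨g, hg, hg0⟩ := l.exists_g
  have hgen := l.gen hYp hg hg0
  have hgi : g⁻¹ ∉ L₀ := fun h' => hg0 (by simpa using inv_mem h')
  obtain ⟨B, hB⟩ : ∃ B : Subgroup G, B = ⁅O, Y⁆ := ⟨_, rfl⟩
  have hBY : B ≤ Y := by rw [hB]; exact le_normalizer_iff_commutator_le_right.1 hOY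
  have hBO : B ≤ O := by rw [hB]; exact le_normalizer_iff_commutator_le_left.1 (hf.YH.trans hHO)
  have hBC : B ≤ centralizer (Y : Set G) := hBY.trans h.YC
  have hBRc : R ≤ centralizer (B : Set G) := h.RC.trans (centralizer_le hBY)
  obtain ⟨W, hW⟩ : ∃ W : Subgroup G, W = ⁅O, L⁆ := ⟨_, rfl⟩
  have hWO : W ≤ O := by rw [hW]; exact le_normalizer_iff_commutator_le_left.1 hLO
  have hLW : L ≤ normalizer (W : Set G) := by rw [hW]; exact normalizer_commutator_ge_right _ _
  have hq : ⁅⁅O, Y⁆, Y⁆ = ⊥ := by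
    rw [← hB, commutator_eq_bot_iff_le_centralizer]; exact hBC
  obtain ⟨hW1, hW2, hW3⟩ := Cfsg.Agent.S2833.result O L hLO Y l.YL g hg hq hgen W hW
  rw [← hB] at hW1 hW2 hW3
  change B ⊔ ⁅O, cj g Y⁆ = W at hW1
  change W ⊓ centralizer (L : Set G) = B ⊓ ⁅O, cj g Y⁆ at hW3
  obtain ⟨Z, hZ⟩ : ∃ Z : Subgroup G, Z = W ⊓ centralizer (L : Set G) := ⟨_, rfl⟩
  have hZB : Z ≤ B := by rw [hZ, hW3]; exact inf_le_left
  have hZL : Z ≤ centralizer (L : Set G) := by rw [hZ]; exact inf_le_right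
  have hcjO : cj g O = O := cj_eq_of_mem_normalizer (hLO hg)
  -- elements of `W` centralized by `Y` modulo `Z`
  have hF11 : ∀ w ∈ W, (∀ y ∈ Y, ⁅w, y⁆ ∈ Z) → w ∈ B := by
    intro w hw hwY
    rw [← hW1] at hw
    have hBn : B ≤ normalizer ((⁅O, cj g Y⁆ : Subgroup G) : Set G) :=
      hBO.trans (normalizer_commutator_ge_left _ _)
    rw [mem_sup_iff_of_le_normalizer hBn] at hw
    obtain ⟨b, hb, b', hb', rfl⟩ := hw
    have hb'Y : b' ∈ cj g Y := by
      have h1 : ⁅O, cj g Y⁆ ≤ cj g Y := by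
        rw [← le_normalizer_iff_commutator_le_right, ← cj_normalizer, ← hcjO]
        exact cj_mono hOY
      exact h1 hb'
    have hb'W : b' ∈ W := by rw [← hW1]; exact mem_sup_right hb'
    have h1 : ∀ y ∈ Y, ⁅b', y⁆ ∈ Z := by
      intro y hy
      have h2 := hwY y hy
      have hby : b * y = y * b := (mem_centralizer_iff.1 (hBC hb) y hy).symm
      have hbL : b ∈ L := (hBY.trans l.YL) hb
      have e : ⁅b * b', y⁆ = b * ⁅b', y⁆ * b⁻¹ := by
        simp only [commutatorElement_def]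
        calc b * b' * y * (b * b')⁻¹ * y⁻¹ = b * b' * y * b'⁻¹ * (b⁻¹ * y⁻¹) := by group
          _ = b * b' * y * b'⁻¹ * (y⁻¹ * b⁻¹) := by
            rw [← mul_inv_rev, ← mul_inv_rev, hby]
          _ = b * (b' * y * b'⁻¹ * y⁻¹) * b⁻¹ := by group
      have h3 : b * ⁅b * b', y⁆ = ⁅b * b', y⁆ * b := mem_centralizer_iff.1 (hZL h2) b hbL
      have e2 : ⁅b', y⁆ = ⁅b * b', y⁆ := by
        have e3 : ⁅b', y⁆ = b⁻¹ * ⁅b * b', y⁆ * b := by rw [e]; group
        rw [e3, mul_assoc, ← h3]; group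
      rw [e2]; exact h2
    -- hence for all of `L`
    have h2 : L ≤ cmod (zpowers b') Z := by
      have hLZ : L ≤ normalizer (Z : Set G) := by
        rw [hZ]; intro x hx
        exact normalizer_inf_le (mem_inf.2 ⟨hLW hx,
          normalizer_le_normalizer_centralizer _ (le_normalizer hx)⟩)
      have h3 : ∀ x : G, x ∈ L → ⁅b', x⁆ ∈ Z → ∀ a ∈ zpowers b', ⁅a, x⁆ ∈ Z := by
        intro x hx hbx a ha
        have hb'L : b' ∈ L := ((cj_mono l.YL).trans (cj_of_mem hg).le) hb'Y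
        obtain ⟨N, hN⟩ : ∃ N : Subgroup G, N = cmod (zpowers x) Z := ⟨_, rfl⟩
        have h4 : b' ∈ N := by
          rw [hN]
          refine ⟨hLZ hb'L, ?_⟩
          rintro _ ⟨k, rfl⟩
          -- `[x^k, b'] ∈ Z`
          have hx' : x ∈ cmod (zpowers b') Z → True := fun _ => trivial
          have key : ∀ k : ℤ, ⁅x ^ k, b'⁆ ∈ Z := by
            have hstep : x * b' * x⁻¹ * b'⁻¹ ∈ Z := by
              have := inv_mem hbx
              rw [commutatorElement_inv] at this
              exact this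
            have hxc : ∀ z ∈ Z, x * z = z * x := fun z hz => mem_centralizer_iff.1 (hZL hz) x hx
            let T : Subgroup G :=
              { carrier := {y | y ∈ L ∧ ⁅y, b'⁆ ∈ Z}
                mul_mem' := by
                  rintro a c ⟨ha, ha'⟩ ⟨hc, hc'⟩
                  refine ⟨mul_mem ha hc, ?_⟩
                  have : ⁅a * c, b'⁆ = (a * ⁅c, b'⁆ * a⁻¹) * ⁅a, b'⁆ := by
                    simp only [commutatorElement_def]; group
                  rw [this]
                  exact mul_mem ((mem_normalizer_iff.1 (hLZ ha) _).1 hc') ha'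
                one_mem' := ⟨one_mem _, by simp⟩
                inv_mem' := by
                  rintro a ⟨ha, ha'⟩
                  refine ⟨inv_mem ha, ?_⟩
                  have : ⁅a⁻¹, b'⁆ = a⁻¹ * ⁅a, b'⁆⁻¹ * a := by
                    simp only [commutatorElement_def]; group
                  rw [this]
                  have := (mem_normalizer_iff.1 (hLZ (inv_mem ha)) _).1 (inv_mem ha')
                  simpa using this }
            intro k
            have : x ^ k ∈ T := T.zpow_mem (show x ∈ T from ⟨hx, hstep⟩) k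
            exact this.2
          exact key k
        have h5 : zpowers b' ≤ N := by rw [zpowers_le]; exact h4
        have h6 := h5 ha
        rw [hN] at h6
        have h7 := h6.2 x (mem_zpowers x)
        have := inv_mem h7
        rwa [commutatorElement_inv] at this
      have h5 : Y ≤ cmod (zpowers b') Z := fun y hy =>
        ⟨hLZ (l.YL hy), h3 y (l.YL hy) (h1 y hy)⟩
      have h6 : cj g Y ≤ cmod (zpowers b') Z := by
        intro y hy
        have hyL : y ∈ L := ((cj_mono l.YL).trans (cj_of_mem hg).le) hy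
        refine ⟨hLZ hyL, h3 y hyL ?_⟩
        have h7 : cj g Y ≤ centralizer (cj g Y : Set G) := by
          rw [← cj_centralizer]; exact cj_mono h.YC
        have h8 : y * b' = b' * y := mem_centralizer_iff.1 (h7 hb'Y) y hy
        have : ⁅b', y⁆ = 1 := by
          rw [commutatorElement_eq_one_iff_mul_comm]; exact h8.symm
        rw [this]; exact one_mem _
      rw [← hgen]; exact sup_le h5 h6
    have h3 : ⁅b', g⁻¹⁆ ∈ Z := (h2 (inv_mem hg)).2 b' (mem_zpowers b')
    have h4 : g⁻¹ * b' * g ∈ Y := by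
      rw [mem_cj] at hb'Y; exact hb'Y
    have h5 : b' = ⁅b', g⁻¹⁆ * (g⁻¹ * b' * g) := by
      simp only [commutatorElement_def]; group
    have hb'Y' : b' ∈ Y := by
      rw [h5]; exact mul_mem ((hZB.trans hBY) h3) h4
    have h6 : b' ∈ B := by
      rw [← hW2]; exact mem_inf.2 ⟨hb'W, h.YC hb'Y'⟩
    exact mul_mem hb h6
  -- `L₀ R ≠ H`
  have hW_not : ¬ W ≤ centralizer (L : Set G) := by
    intro hc
    apply l.nY
    have h1 : IsPGroup p L := by
      apply isPGroup_of_iter hf.cp l.LH (n := 2)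
      change ⁅⁅pCoreOf p H, L⁆, L⁆ = ⊥
      rw [← hO, ← hW, commutator_eq_bot_iff_le_centralizer]
      exact hc
    exact l.YL.trans (le_pCoreOf le_rfl le_normalizer h1)
  have hne : L₀ ⊔ R ≠ H := by
    intro he
    obtain ⟨X₀, hX₀⟩ : ∃ X₀ : Subgroup G, X₀ = ncl L₀ Y := ⟨_, rfl⟩
    have hX₀p : IsPGroup p X₀ := by
      rw [hX₀]
      exact (isPGroup_pCoreOf L₀).to_le (ncl_le l.Y_pCore (le_normalizer_pCoreOf L₀))
    have hX₀L : X₀ ≤ L := by rw [hX₀]; exact (ncl_le_self l.YL₀).trans l.lt.le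
    have hYX₀ : Y ≤ X₀ := hX₀ ▸ le_ncl L₀ Y
    have hL₀X₀ : L₀ ≤ normalizer (X₀ : Set G) := hX₀ ▸ le_normalizer_ncl L₀ Y
    have hWp : IsPGroup p W := hOp.to_le hWO
    obtain ⟨n, hn⟩ := exists_iter_eq_bot_of_pMod hWp (hX₀L.trans hLW) (pMod_of_isPGroup hX₀p)
    classical
    have hex : ∃ n, iterCommutator W X₀ n ≤ Z := ⟨n, hn ▸ bot_le⟩
    have hm := Nat.find_spec hex
    have hmin := fun m => Nat.find_min hex (m := m)
    obtain ⟨m, hmdef⟩ : ∃ m, m = Nat.find hex := ⟨_, rfl⟩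
    rw [← hmdef] at hm hmin
    have hm0 : m ≠ 0 := by
      rintro rfl
      apply hW_not
      change W ≤ Z at hm
      exact hm.trans hZL
    obtain ⟨k, rfl⟩ := Nat.exists_eq_succ_of_ne_zero hm0
    obtain ⟨F, hF⟩ : ∃ F : Subgroup G, F = iterCommutator W X₀ k := ⟨_, rfl⟩
    have hiter : ∀ i, iterCommutator W X₀ i ≤ W ∧ L₀ ≤ normalizer (iterCommutator W X₀ i : Set G) := by
      intro i
      induction i with
      | zero => exact ⟨le_rfl, l.lt.le.trans hLW⟩
      | succ i ih =>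
        refine ⟨?_, ?_⟩
        · exact (commutator_mono ih.1 le_rfl).trans
            (le_normalizer_iff_commutator_le_left.1 (hX₀L.trans hLW))
        · intro x hx
          exact normalizer_commutator_le (mem_inf.2 ⟨ih.2 hx, hL₀X₀ hx⟩)
    have hFW : F ≤ W := hF ▸ (hiter k).1
    have hL₀F : L₀ ≤ normalizer (F : Set G) := hF ▸ (hiter k).2
    have hFZ : ⁅F, X₀⁆ ≤ Z := by rw [hF]; exact hm
    have hFnZ : ¬ F ≤ Z := by rw [hF]; exact hmin k (Nat.lt_succ_self k)
    have hFB : F ≤ B := fun w hw => hF11 w (hFW hw) fun y hy =>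
      hFZ (commutator_mem_commutator hw (hYX₀ hy))
    have hRF : R ≤ centralizer (F : Set G) := hBRc.trans (centralizer_le hFB)
    have hHF : H ≤ normalizer (F : Set G) := by
      rw [← he]
      exact sup_le hL₀F (hRF.trans (H52.Syl.centralizer_le_normalizer F))
    have hHC : H ≤ centralizer (F : Set G) := by
      rw [← hf.ncl_R]
      exact ncl_le hRF (hHF.trans (normalizer_le_normalizer_centralizer F))
    apply hFnZ
    rw [hZ]
    apply le_inf hFW
    rw [le_centralizer_iff]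
    exact l.LH.trans hHC
  -- conjugates of `Y` under `L₀`
  obtain ⟨P, hP⟩ : ∃ P : Subgroup G, P = L₀ ⊔ R := ⟨_, rfl⟩
  have hL₀P : L₀ ≤ P := hP ▸ le_sup_left
  have hRP : R ≤ P := hP ▸ le_sup_right
  have hPH : P < H := by
    rw [hP]; exact lt_of_le_of_ne (sup_le (l.lt.le.trans l.LH) hf.RH) hne
  have hYP : Y ≤ pCoreOf p P := hf.prop P hRP hPH
  have hPN : pCoreOf p P ≤ normalizer (R : Set G) := h.pCoreOf_le_NR hasym hRP
  have hPNY := hPN.trans h.NR_le_NY
  have hcjP : ∀ x ∈ P, cj x Y ≤ pCoreOf p P := by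
    intro x hx
    calc cj x Y ≤ cj x (pCoreOf p P) := cj_mono hYP
      _ = pCoreOf p P := cj_eq_of_mem_normalizer (le_normalizer_pCoreOf P hx)
  have hcjC : ∀ x ∈ P, cj x Y ≤ centralizer (Y : Set G) := by
    intro x hx
    apply asym_comm hasym
    · rw [← cj_normalizer, le_cj_iff]
      exact (hcjP _ (inv_mem hx)).trans hPNY
    · exact (hcjP x hx).trans hPNY
  -- `L₀` normalizes `B`
  have hL₀B : L₀ ≤ normalizer (B : Set G) := by
    intro x hx
    have hxL := l.lt.le hx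
    have h1 : cj x Y ≤ R := by
      have h2 : IsPGroup p ((pCoreOf p P ⊔ R : Subgroup G)) :=
        (isPGroup_pCoreOf P).to_sup_of_normal_right' h.Rp hPN
      rw [← h.inf_eq_R h2 le_sup_right]
      exact le_inf ((hcjP x (hL₀P hx)).trans le_sup_left) (hcjC x (hL₀P hx))
    have h2 : B ≤ cj x B := by
      have h3 : cj x B = W ⊓ centralizer (cj x Y : Set G) := by
        conv_lhs => rw [← hW2]
        rw [cj_inf, cj_centralizer, cj_eq_of_mem_normalizer (hLW hxL)]
      rw [h3]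
      apply le_inf
      · rw [← hW1]; exact le_sup_left
      · rw [le_centralizer_iff]
        exact h1.trans hBRc
    have h3 : cj x⁻¹ B ≤ B := by
      rw [cj_le_iff, inv_inv]; exact h2
    have h4 := mem_normalizer_of_cj_le h3
    simpa using inv_mem h4
  -- `O₁ = [O, H]`
  obtain ⟨O₁, hO₁⟩ : ∃ O₁ : Subgroup G, O₁ = ⁅O, H⁆ := ⟨_, rfl⟩
  have hO₁O : O₁ ≤ O := by rw [hO₁]; exact le_normalizer_iff_commutator_le_left.1 hHO
  have hHO₁ : H ≤ normalizer (O₁ : Set G) := by rw [hO₁]; exact normalizer_commutator_ge_right _ _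
  have hBO₁ : B ≤ O₁ := by rw [hB, hO₁]; exact commutator_mono le_rfl hf.YH
  have hOR : ⁅O, R⁆ ≤ centralizer (Y : Set G) := comm_le_centralizer (hB ▸ hBY) h.RC
  obtain ⟨A, hA⟩ : ∃ A : Subgroup G, A = O₁ ⊓ centralizer (Y : Set G) := ⟨_, rfl⟩
  have hBA : B ≤ A := by rw [hA]; exact le_inf hBO₁ hBC
  have hAL₀ : ∀ c ∈ A, ∀ x ∈ L₀, ⁅c, x⁆ ∈ B := by
    intro c hc x hx
    rw [hA, mem_inf] at hc
    -- `c = b k` with `b ∈ B`, `k ∈ C(L)`
    have h1 : O₁ = ⁅O, cj g⁻¹ Y⁆ ⊔ ⁅O, R⁆ := by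
      rw [hO₁]
      conv_lhs => rw [← l.gen_H hYp hf.YR (inv_mem hg) hgi]
      apply commutator_sup
      rw [l.gen_H hYp hf.YR (inv_mem hg) hgi]; exact hHO
    have h2 : O₁ = B ⊔ cj g ⁅O, R⁆ := by
      calc O₁ = cj g O₁ := (cj_eq_of_mem_normalizer (hHO₁ (l.LH hg))).symm
        _ = cj g (⁅O, cj g⁻¹ Y⁆ ⊔ ⁅O, R⁆) := by rw [← h1]
        _ = B ⊔ cj g ⁅O, R⁆ := by
          rw [cj_sup, cj_commutator, cj_cj_inv, hcjO, ← hB]
    have hc1 := hc.1
    have hn : B ≤ normalizer (cj g ⁅O, R⁆ : Set G) := by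
      rw [cj_commutator, hcjO]
      exact hBO.trans (normalizer_commutator_ge_left _ _)
    rw [h2, mem_sup_iff_of_le_normalizer hn] at hc1
    obtain ⟨b, hb, k, hk, rfl⟩ := hc1
    have hkg : k ∈ centralizer (cj g Y : Set G) := by
      rw [← cj_centralizer]; exact cj_mono hOR hk
    have hkY : k ∈ centralizer (Y : Set G) := by
      have : k = b⁻¹ * (b * k) := by group
      rw [this]; exact mul_mem (inv_mem (hBC hb)) hc.2
    have hkL : k ∈ centralizer (L : Set G) := by
      rw [← hgen, centralizer_sup]; exact mem_inf.2 ⟨hkY, hkg⟩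
    have hkx : x * k = k * x := mem_centralizer_iff.1 hkL x (l.lt.le hx)
    have e : ⁅b * k, x⁆ = b * (x * b⁻¹ * x⁻¹) := by
      simp only [commutatorElement_def, mul_inv_rev]
      calc b * k * x * (k⁻¹ * b⁻¹) * x⁻¹ = b * (k * x) * k⁻¹ * b⁻¹ * x⁻¹ := by group
        _ = b * (x * k) * k⁻¹ * b⁻¹ * x⁻¹ := by rw [hkx]
        _ = b * (x * b⁻¹ * x⁻¹) := by group
    rw [e]
    exact mul_mem hb ((mem_normalizer_iff.1 (hL₀B hx) _).1 (inv_mem hb))
  have hRB : R ≤ normalizer (B : Set G) := hBRc.trans (H52.Syl.centralizer_le_normalizer B)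
  have hL₀A : L₀ ≤ normalizer (A : Set G) := by
    rw [le_normalizer_iff_commutator_le_left, commutator_le]
    exact fun c hc x hx => hBA (hAL₀ c hc x hx)
  have hRA : R ≤ normalizer (A : Set G) := by
    rw [hA]; intro x hx
    exact normalizer_inf_le (mem_inf.2 ⟨hHO₁ (hf.RH hx),
      normalizer_le_normalizer_centralizer _ (hf.RY hx)⟩)
  -- `N₁ = [R, L₀]`
  obtain ⟨N₁, hN₁⟩ : ∃ N₁ : Subgroup G, N₁ = ⁅R, L₀⁆ := ⟨_, rfl⟩
  have hN₁H : N₁ ≤ H := by
    rw [hN₁]
    exact (commutator_mono hf.RH (l.lt.le.trans l.LH)).trans (commutator_le_self H)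
  have c1 : ⁅O, N₁⁆ ≤ O₁ := by rw [hO₁]; exact commutator_mono le_rfl hN₁H
  have c2 : ⁅O₁, N₁⁆ ≤ A := by
    have h1 : R ≤ cmod O₁ A := by
      rw [le_cmod_iff hRA, hA]
      apply le_inf
      · exact le_normalizer_iff_commutator_le_left.1 (hf.RH.trans hHO₁)
      · exact (commutator_mono hO₁O le_rfl).trans hOR
    have h2 : L₀ ≤ normalizer (cmod O₁ A : Set G) :=
      le_normalizer_cmod ((l.lt.le.trans l.LH).trans hHO₁) hL₀A
    have h3 : N₁ ≤ cmod O₁ A := by rw [hN₁]; exact commutator_le_of_left h1 h2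
    have h4 : N₁ ≤ normalizer (A : Set G) := fun x hx => (h3 hx).1
    exact (le_cmod_iff h4).1 h3
  have c3 : ⁅A, N₁⁆ ≤ B := by
    have h1 : L₀ ≤ cmod A B := by
      rw [le_cmod_iff hL₀B, commutator_le]; exact hAL₀
    have h2 : R ≤ normalizer (cmod A B : Set G) := le_normalizer_cmod hRA hRB
    have h3 : N₁ ≤ cmod A B := by rw [hN₁]; exact commutator_le_of_right h1 h2
    have h4 : N₁ ≤ normalizer (B : Set G) := fun x hx => (h3 hx).1
    exact (le_cmod_iff h4).1 h3
  have c4 : ⁅B, N₁⁆ = ⊥ := by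
    have h1 : N₁ ≤ centralizer (B : Set G) := by
      rw [hN₁]
      exact commutator_le_of_left hBRc (hL₀B.trans (normalizer_le_normalizer_centralizer B))
    rw [commutator_comm, commutator_eq_bot_iff_le_centralizer]; exact h1
  have hN₁p : IsPGroup p N₁ := by
    apply isPGroup_of_iter hf.cp hN₁H (n := 4)
    change ⁅⁅⁅⁅pCoreOf p H, N₁⁆, N₁⁆, N₁⁆, N₁⁆ = ⊥
    rw [← hO, eq_bot_iff, ← c4]
    exact commutator_mono ((commutator_mono ((commutator_mono c1 le_rfl).trans c2) le_rfl).trans c3) le_rfl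
  -- conclusion by weak closure
  have hRN₁ : R ≤ normalizer (N₁ : Set G) := by rw [hN₁]; exact normalizer_commutator_ge_left _ _
  have hRNp : IsPGroup p ((R ⊔ N₁ : Subgroup G)) := h.Rp.to_sup_of_normal_right' hN₁p hRN₁
  intro x hx
  apply mem_normalizer_of_cj_eq
  apply h.wc hasym _ hRNp le_sup_left
  rintro _ ⟨r, hr, rfl⟩
  have e : (MulAut.conj x).toMonoidHom r = ⁅x, r⁆ * r := by
    simp only [commutatorElement_def, MulEquiv.toMonoidHom_eq_coe, MonoidHom.coe_coe, MulAut.conj_apply]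
    group
  rw [e]
  refine mul_mem (mem_sup_right ?_) (mem_sup_left hr)
  rw [hN₁, commutator_comm]
  exact commutator_mem_commutator hx hr

end

end H53.MSS
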