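import Cfsg.Agent.Lib.H16.NA1
import Cfsg.Agent.Lib.H63.J2Cent2

set_option autoImplicit false
set_option maxHeartbeats 400000

/-! J2 has nonabelian Sylow 2-subgroups. -/

namespace H53.NA
open Subgroup H16.NA Cfsg Cfsg.Spor

theorem not_extra {G : Type*} [Group G] [Finite G] (hA : AbS G) (H : Subgroup G) (Q : Subgroup H)
    (hQ : Cfsg.IsExtraspecial 2 ↥Q) : False := by
  obtain ⟨⟨hp, -, hc⟩, hcard⟩ := hQ
  have hA' : AbS H := hA.of_injective H.subtype H.subtype_injective
  have h1 : commutator ↥Q = ⊥ := by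
    rw [commutator_def, Subgroup.commutator_eq_bot_iff_le_centralizer]
    intro x _
    rw [Subgroup.mem_centralizer_iff]
    intro y _
    apply Subtype.ext
    exact comm_of_two_group hA' Q hp y.2 x.2
  rw [← hc, h1, Subgroup.card_bot] at hcard
  omega

theorem exists_refl : ∃ f : Equiv.Perm icoLeech, IsIcoReflection f := by
  by_contra hno
  push_neg at hno
  have h1 : twoJ2 = ⊥ := by
    rw [twoJ2, Subgroup.closure_eq_bot_iff]
    intro f hf
    exact absurd hf (hno f)
  have h2 := H63.J2.card_twoJ2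
  rw [h1, Subgroup.card_bot] at h2
  omega

theorem j2 {K : Type*} [Group K] [Finite K] (hK : Cfsg.Spor.IsoJ2 K) (h : H16.NA.AbS K) : False := by
  obtain ⟨φ⟩ := hK
  haveI : Finite Cfsg.Spor.J2 := Finite.of_equiv K φ.toEquiv
  have hA : AbS Cfsg.Spor.J2 := h.of_equiv φ.symm
  obtain ⟨f, hf⟩ := exists_refl
  have hfm : f ∈ twoJ2 := Subgroup.subset_closure hf
  obtain ⟨Q, _, _, hQ, _⟩ := H63.J2.cent_refl f hf hfm
  exact not_extra hA _ Q hQ

end H53.NA
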