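import Cfsg.Agent.Lib.H16.NA1
import Cfsg.Prelude.Def_Spor_Suz

set_option autoImplicit false
set_option maxHeartbeats 400000

/-! Suz has nonabelian Sylow 2-subgroups (from the presentation). -/

namespace H53.NA
open Subgroup H16.NA Cfsg Cfsg.Spor

theorem suz_aux {G : Type*} [Group G] [Finite G] (hA : AbS G) {a b c d e f g : G}
    (ha : a * a = 1) (hb : b * b = 1) (hc : c * c = 1) (hd : d * d = 1) (he : e * e = 1) (hf : f * f = 1) (hg : g * g = 1)
    (hab : (a * b) ^ 5 = 1) (hbc : (b * c) ^ 3 = 1) (hcd : (c * d) ^ 8 = 1) (hde : (d * e) ^ 3 = 1)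
    (hbf : (b * f) ^ 3 = 1) (hfg : (f * g) ^ 4 = 1) (hgb : (g * b) ^ 3 = 1)
    (r2 : a * ((f * g) ^ 2)⁻¹ = 1)
    (r5 : ((b * c * d * c * d) ^ 5 * e) ^ 3 = 1) :
    a = 1 ∧ b = 1 ∧ c = 1 ∧ d = 1 ∧ e = 1 ∧ f = 1 ∧ g = 1 := by
  have inv : ∀ {x : G}, x * x = 1 → x⁻¹ = x := fun h => inv_eq_of_mul_eq_one_left h
  have h1 : (f * g) ^ 2 = 1 := by
    refine sq_of_inv hA (x := f) (y := f * g) (k := 1) (l := 2) (by rw [pow_one, pow_two]; exact hf) (by simpa using hfg) ?_
    rw [mul_inv_rev, inv hf, inv hg, ← mul_assoc, hf, one_mul]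
  have a1 : a = 1 := by
    rw [h1] at r2
    simpa using r2
  have p1 : ∀ {x : G} (n : ℕ), x * x = 1 → x ^ (2 * n + 1) = 1 → x = 1 := by
    intro x n hx h
    rw [pow_succ, pow_mul, pow_two, hx, one_pow, one_mul] at h
    exact h
  have b1 : b = 1 := by
    rw [a1, one_mul] at hab
    exact p1 2 hb hab
  have c1 : c = 1 := by
    rw [b1, one_mul] at hbc
    exact p1 1 hc hbc
  have f1 : f = 1 := by
    rw [b1, one_mul] at hbf
    exact p1 1 hf hbf
  have g1 : g = 1 := by
    rw [b1, mul_one] at hgb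
    exact p1 1 hg hgb
  have e1 : e = 1 := by
    rw [b1, c1] at r5
    simp only [one_mul, mul_one] at r5
    have h2 : (d * d) ^ 5 = 1 := by rw [hd, one_pow]
    rw [h2, one_mul] at r5
    exact p1 1 he r5
  have d1 : d = 1 := by
    rw [e1, mul_one] at hde
    exact p1 1 hd hde
  exact ⟨a1, b1, c1, d1, e1, f1, g1⟩

theorem suz {K : Type*} [Group K] [Finite K] (hnc : ∃ x y : K, x * y ≠ y * x) (hK : Cfsg.Spor.IsoSuz K)
    (h : H16.NA.AbS K) : False := by
  obtain ⟨φ⟩ := hK
  haveI : Finite Cfsg.Spor.Suz := Finite.of_equiv K φ.toEquiv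
  have hA : AbS Cfsg.Spor.Suz := h.of_equiv φ.symm
  let m : FreeGroup Suz.Gen →* Cfsg.Spor.Suz := PresentedGroup.mk _
  have hrel : ∀ r ∈ coxRelators Suz.edges ∪ {r | r ∈ Suz.extra}, m r = 1 := fun r hr =>
    (PresentedGroup.mk_eq_one_iff).2 (Subgroup.subset_normalClosure hr)
  have hcox : ∀ x ∈ coxNodes Suz.edges, ∀ y ∈ coxNodes Suz.edges,
      (m (FreeGroup.of x) * m (FreeGroup.of y)) ^ coxLabel Suz.edges x y = 1 := by
    intro x hx y hy
    rw [← map_mul, ← map_pow]
    exact hrel _ (Or.inl ⟨x, hx, y, hy, rfl⟩)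
  have hex : ∀ r ∈ Suz.extra, m r = 1 := fun r hr => hrel r (Or.inr hr)
  have hsq : ∀ x ∈ coxNodes Suz.edges, m (FreeGroup.of x) * m (FreeGroup.of x) = 1 := by
    intro x hx
    have h1 := hcox x hx x hx
    have h2 : coxLabel Suz.edges x x = 1 := by simp [coxLabel]
    rw [h2, pow_one] at h1
    exact h1
  have hall := suz_aux hA (a := m Suz.a) (b := m Suz.b) (c := m Suz.c) (d := m Suz.d) (e := m Suz.e) (f := m Suz.f) (g := m Suz.g)
    (hsq _ (by decide)) (hsq _ (by decide)) (hsq _ (by decide)) (hsq _ (by decide)) (hsq _ (by decide)) (hsq _ (by decide))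
    (hsq _ (by decide))
    (hcox .a (by decide) .b (by decide)) (hcox .b (by decide) .c (by decide)) (hcox .c (by decide) .d (by decide))
    (hcox .d (by decide) .e (by decide)) (hcox .b (by decide) .f (by decide)) (hcox .f (by decide) .g (by decide))
    (hcox .g (by decide) .b (by decide))
    (by
      have h1 := hex (Suz.a * ((Suz.f * Suz.g) ^ 2)⁻¹) (by simp [Suz.extra])
      simpa only [map_mul, map_pow, map_inv] using h1)
    (by
      have h1 := hex (((Suz.b * Suz.c * Suz.d * Suz.c * Suz.d) ^ 5 * Suz.e) ^ 3) (by simp [Suz.extra])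
      simpa only [map_mul, map_pow, map_inv] using h1)
  obtain ⟨ha, hb, hc, hd, he, hf, hg⟩ := hall
  have hm : ∀ w : FreeGroup Suz.Gen, m w = 1 := by
    intro w
    have h1 : m = 1 := by
      apply FreeGroup.ext_hom
      intro x
      cases x
      · exact ha
      · exact hb
      · exact hc
      · exact hd
      · exact he
      · exact hf
      · exact hg
    rw [h1]; rfl
  obtain ⟨x, y, hxy⟩ := hnc
  apply hxy
  have htriv : ∀ z : Cfsg.Spor.Suz, z = 1 := by
    intro z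
    obtain ⟨w, rfl⟩ := PresentedGroup.mk_surjective _ z
    exact hm w
  apply φ.injective
  rw [htriv (φ (x * y)), htriv (φ (y * x))]

end H53.NA
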