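import Mathlib

set_option autoImplicit false

/-! The nucleus of an oval in an affine plane of even order. -/

namespace H53.BS

open scoped LinearAlgebra.Projectivization

/-- In a finite set of odd size some element is unpaired. -/
theorem exists_unpaired {X : Type*} [Finite X] (hodd : Odd (Nat.card X)) (R : X → X → Prop)
    (hsymm : ∀ x y, R x y → R y x) (hirr : ∀ x, ¬ R x x) (huniq : ∀ x y z, R x y → R x z → y = z) :
    ∃ x, ∀ y, ¬ R x y := by
  classical
  by_contra hno
  push Not at hno
  choose f hf using hno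
  have hinv : Function.Involutive f := by
    intro x
    exact huniq (f x) (f (f x)) x (hf (f x)) (hsymm _ _ (hf x))
  let e : Equiv.Perm X := hinv.toPerm
  have := Fintype.ofFinite X
  have he : e ^ 2 ^ 1 = 1 := by
    rw [pow_one, pow_two]
    ext x
    exact hinv x
  have h2 : Fact (Nat.Prime 2) := ⟨Nat.prime_two⟩
  obtain ⟨x, hx⟩ := Equiv.Perm.exists_fixed_point_of_prime (p := 2) (n := 1) (by
    rw [← Nat.card_eq_fintype_card]
    rw [Nat.odd_iff] at hodd
    omega) he
  have h3 : f x = x := hx
  have h4 := hf x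
  rw [h3] at h4
  exact hirr x h4

section

variable {F A : Type*} [Field F] [Finite F] [CharP F 2] [AddCommGroup A] [Module F A]
  {M : Set A}

/-- the line through `m` with direction `d` meets `M` only in `m` -/
def Tan (M : Set A) (F : Type*) [Field F] [Module F A] (m d : A) : Prop := ∀ c : F, m + c • d ∈ M → c = 0

omit [Finite F] [CharP F 2] in
theorem Tan.smul {m d : A} (h : Tan M F m d) {a : F} (ha : a ≠ 0) : Tan M F m (a • d) := by
  intro c hc
  rw [smul_smul] at hc
  exact (mul_eq_zero.1 (h _ hc)).resolve_right ha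

omit [CharP F 2] in
/-- no three collinear points -/
theorem arc3 (harc : ∀ x d : A, d ≠ 0 → {c : F | x + c • d ∈ M}.ncard ≤ 2) {x d : A} (hd : d ≠ 0) {a b c : F}
    (ha : x + a • d ∈ M) (hb : x + b • d ∈ M) (hc : x + c • d ∈ M) (hab : a ≠ b) (hac : a ≠ c) : b = c := by
  classical
  by_contra hbc
  have h1 : ({a, b, c} : Set F) ⊆ {c : F | x + c • d ∈ M} := by
    intro y hy
    rcases hy with rfl | rfl | rfl
    · exact ha
    · exact hb
    · exact hc
  have h2 := Set.ncard_le_ncard h1 (Set.toFinite _)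
  have h3 : ({a, b, c} : Set F).ncard = 3 := by
    rw [Set.ncard_eq_three]
    exact ⟨a, b, c, hab, hac, hbc, rfl⟩
  have h4 := harc x d hd
  omega

theorem nucleus (hA : Module.finrank F A = 2) (M : Set A) (hM : M.ncard = Nat.card F + 1)
    (harc : ∀ x d : A, d ≠ 0 → {c : F | x + c • d ∈ M}.ncard ≤ 2) :
    ∃ n : A, n ∉ M ∧ (∀ d : A, d ≠ 0 → ∃! c : F, n + c • d ∈ M) ∧
      ∀ x d : A, d ≠ 0 → (∃! c : F, x + c • d ∈ M) → ∃ c : F, x + c • d = n := by
  classical
  have hfd : FiniteDimensional F A := Module.finite_of_finrank_pos (by rw [hA]; norm_num)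
  have hfin : Finite A := Module.finite_of_finite F
  have hPfin : Finite (ℙ F A) := inferInstance
  have hPcard : Nat.card (ℙ F A) = Nat.card F + 1 := Projectivization.card_of_finrank_two F A hA
  have hMcard : Nat.card M = Nat.card F + 1 := by rw [← hM]; rfl
  have h2 : (2 : F) = 0 := CharTwo.two_eq_zero
  have hqe : Even (Nat.card F) := by
    have := Fintype.ofFinite F
    obtain ⟨n, _, hn⟩ := FiniteField.card F 2
    rw [Nat.card_eq_fintype_card, hn]
    exact (Nat.even_pow.2 ⟨even_two, n.ne_zero⟩)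
  have hodd : Odd (Nat.card M) := by
    rw [hMcard]; exact hqe.add_one
  -- Step 1
  have s1 : ∀ m : M, ∃ δ : ℙ F A, ∀ (d : A) (hd : d ≠ 0), Tan M F (m : A) d ↔ Projectivization.mk F d hd = δ := by
    intro m
    let X := {m' : M // m' ≠ m}
    have hsub : ∀ m' : X, ((m'.1 : A) - m) ≠ 0 := fun m' h => m'.2 (Subtype.ext (sub_eq_zero.1 h))
    let f : X → ℙ F A := fun m' => Projectivization.mk F ((m'.1 : A) - m) (hsub m')
    have hf : Function.Injective f := by
      intro x y hxy
      obtain ⟨a, ha⟩ := (Projectivization.mk_eq_mk_iff' F _ _ (hsub x) (hsub y)).1 hxy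
      by_contra hne
      have e0 : (m : A) + (0 : F) • ((y.1 : A) - m) ∈ M := by rw [zero_smul, add_zero]; exact m.2
      have e1 : (m : A) + (1 : F) • ((y.1 : A) - m) ∈ M := by rw [one_smul, add_sub_cancel]; exact y.1.2
      have e2 : (m : A) + a • ((y.1 : A) - m) ∈ M := by rw [ha, add_sub_cancel]; exact x.1.2
      have ha0 : a ≠ 0 := by rintro rfl; rw [zero_smul] at ha; exact hsub x ha.symm
      have h3 := arc3 harc (hsub y) e0 e1 e2 zero_ne_one ha0.symm
      rw [← h3, one_smul] at ha
      apply hne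
      apply Subtype.ext
      apply Subtype.ext
      exact (sub_left_inj.1 ha).symm
    have hXcard : Nat.card X + 1 = Nat.card (ℙ F A) := by
      rw [hPcard, ← hMcard]
      have := Fintype.ofFinite M
      rw [Nat.card_eq_fintype_card, Nat.card_eq_fintype_card]
      have h3 := Fintype.card_subtype_compl (fun x : M => x = m)
      have h4 : Fintype.card {x : M // x = m} = 1 := Fintype.card_subtype_eq m
      have h5 : Fintype.card X = Fintype.card {x : M // ¬ x = m} := Fintype.card_congr (Equiv.refl _)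
      have h6 : 0 < Fintype.card M := Fintype.card_pos_iff.2 ⟨m⟩
      rw [h5, h3, h4]
      omega
    have hr : (Set.range f)ᶜ.ncard = 1 := by
      have h3 := Set.ncard_add_ncard_compl (Set.range f)
      have h4 : (Set.range f).ncard = Nat.card X := by
        rw [← Set.image_univ, Set.ncard_image_of_injective _ hf, Set.ncard_univ]
      rw [h4, ← hXcard] at h3
      omega
    obtain ⟨δ, hδ⟩ := Set.ncard_eq_one.1 hr
    refine ⟨δ, fun d hd => ?_⟩
    have h5 : Projectivization.mk F d hd = δ ↔ Projectivization.mk F d hd ∉ Set.range f := by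
      rw [← Set.mem_compl_iff, hδ, Set.mem_singleton_iff]
    rw [h5]
    constructor
    · rintro hT ⟨m', hm'⟩
      obtain ⟨a, ha⟩ := (Projectivization.mk_eq_mk_iff' F _ _ (hsub m') hd).1 hm'
      have h6 : (m : A) + a • d ∈ M := by rw [ha, add_sub_cancel]; exact m'.1.2
      have h7 := hT a h6
      rw [h7, zero_smul] at ha
      exact hsub m' ha.symm
    · intro hno c hc
      by_contra hc0
      apply hno
      have h6 : (⟨(m : A) + c • d, hc⟩ : M) ≠ m := by
        intro h7
        have h8 := congrArg Subtype.val h7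
        have h9 : (m : A) + c • d = m := h8
        exact (smul_ne_zero hc0 hd) (by simpa using h9)
      refine ⟨⟨⟨(m : A) + c • d, hc⟩, h6⟩, ?_⟩
      apply (Projectivization.mk_eq_mk_iff' F _ _ _ hd).2
      exact ⟨c, by simp⟩
  choose τ hτ using s1
  -- Step 2
  have s2 : Function.Surjective τ := by
    intro δ
    induction δ using Projectivization.ind with
    | h d hd =>
    obtain ⟨m, hm⟩ := exists_unpaired hodd (fun m m' : M => m ≠ m' ∧ ∃ c : F, (m' : A) = m + c • d)
      (by
        rintro x y ⟨hne, c, hc⟩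
        exact ⟨hne.symm, -c, by rw [hc]; simp⟩)
      (fun x h => h.1 rfl)
      (by
        rintro x y z ⟨hxy, a, ha⟩ ⟨hxz, b, hb⟩
        have h3 := arc3 (M := M) harc (x := (x : A)) hd (a := 0) (b := a) (c := b)
          (by rw [zero_smul, add_zero]; exact x.2) (by rw [← ha]; exact y.2) (by rw [← hb]; exact z.2)
          (by rintro rfl; apply hxy; apply Subtype.ext; rw [ha]; simp)
          (by rintro rfl; apply hxz; apply Subtype.ext; rw [hb]; simp)
        apply Subtype.ext
        rw [ha, hb, h3])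
    refine ⟨m, ((hτ m d hd).1 ?_).symm⟩
    intro c hc
    by_contra hc0
    refine hm ⟨_, hc⟩ ⟨?_, c, rfl⟩
    intro h3
    have h4 : (m : A) = m + c • d := congrArg Subtype.val h3
    exact (smul_ne_zero hc0 hd) (by simpa using h4.symm)
  have s2' : Function.Injective τ := by
    have hb : Function.Bijective τ := by
      have := Fintype.ofFinite M
      have := Fintype.ofFinite (ℙ F A)
      rw [Fintype.bijective_iff_surjective_and_card]
      refine ⟨s2, ?_⟩
      rw [← Nat.card_eq_fintype_card, ← Nat.card_eq_fintype_card, hMcard, hPcard]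
    exact hb.1
  -- Step 3
  have s3 : ∀ z : A, z ∉ M → ∃ m : M, Tan M F (m : A) ((m : A) - z) := by
    intro z hz
    have hmz : ∀ m : M, (m : A) - z ≠ 0 := fun m h => hz (by rw [← sub_eq_zero.1 h]; exact m.2)
    obtain ⟨m, hm⟩ := exists_unpaired hodd (fun m m' : M => m ≠ m' ∧ ∃ c : F, (m' : A) - z = c • ((m : A) - z))
      (by
        rintro x y ⟨hne, c, hc⟩
        have hc0 : c ≠ 0 := by rintro rfl; rw [zero_smul] at hc; exact hmz y hc
        exact ⟨hne.symm, c⁻¹, by rw [hc, smul_smul, inv_mul_cancel₀ hc0, one_smul]⟩)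
      (fun x h => h.1 rfl)
      (by
        rintro x y w ⟨hxy, a, ha⟩ ⟨hxw, b, hb⟩
        have h3 := arc3 (M := M) harc (x := z) (hmz x) (a := 1) (b := a) (c := b)
          (by rw [one_smul, add_sub_cancel]; exact x.2) (by rw [← ha, add_sub_cancel]; exact y.2)
          (by rw [← hb, add_sub_cancel]; exact w.2)
          (by rintro rfl; apply hxy; apply Subtype.ext; rw [one_smul] at ha; exact (sub_left_inj.1 ha).symm)
          (by rintro rfl; apply hxw; apply Subtype.ext; rw [one_smul] at hb; exact (sub_left_inj.1 hb).symm)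
        apply Subtype.ext
        rw [h3, ← hb] at ha
        exact sub_left_inj.1 ha)
    refine ⟨m, ?_⟩
    intro c hc
    by_contra hc0
    refine hm ⟨_, hc⟩ ⟨?_, 1 + c, ?_⟩
    · intro h3
      have h4 : (m : A) = m + c • ((m : A) - z) := congrArg Subtype.val h3
      exact (smul_ne_zero hc0 (hmz m)) (by simpa using h4.symm)
    · show (m : A) + c • ((m : A) - z) - z = _
      rw [add_smul, one_smul]; abel
  -- directions of the tangents
  let dd : M → A := fun m => (τ m).rep
  have hdd0 : ∀ m, dd m ≠ 0 := fun m => (τ m).rep_nonzero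
  have hddτ : ∀ m, Projectivization.mk F (dd m) (hdd0 m) = τ m := fun m => (τ m).mk_rep
  have hddT : ∀ m : M, Tan M F (m : A) (dd m) := fun m => (hτ m _ (hdd0 m)).2 (hddτ m)
  -- points on tangents
  have hon : ∀ (z : A) (m : M), z ≠ m → Tan M F (m : A) ((m : A) - z) → ∃ a : F, z = m + a • dd m := by
    intro z m hzm hT
    have h0 : (m : A) - z ≠ 0 := sub_ne_zero.2 hzm.symm
    have h1 := (hτ m _ h0).1 hT
    rw [← hddτ m] at h1
    obtain ⟨a, ha⟩ := (Projectivization.mk_eq_mk_iff' F _ _ h0 (hdd0 m)).1 h1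
    refine ⟨-a, ?_⟩
    rw [neg_smul, ha]; abel
  have hex : ∀ z : A, ∃ m : M, ∃ a : F, z = m + a • dd m := by
    intro z
    by_cases hz : z ∈ M
    · exact ⟨⟨z, hz⟩, 0, by simp⟩
    · obtain ⟨m, hm⟩ := s3 z hz
      exact ⟨m, hon z m (by rintro rfl; exact hz m.2) hm⟩
  -- Step 4
  have s4 : ∀ (m₁ m₂ : M), m₁ ≠ m₂ → ∀ (c : F) (m m' : M) (a a' : F),
      (m₁ : A) + c • ((m₂ : A) - m₁) = m + a • dd m → (m₁ : A) + c • ((m₂ : A) - m₁) = m' + a' • dd m' → m = m' := by
    intro m₁ m₂ h12 c m m' a a' hm hm'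
    set e := (m₂ : A) - m₁ with he
    have he0 : e ≠ 0 := fun h => h12 (Subtype.ext (sub_eq_zero.1 h).symm)
    -- tangents meeting the secant are not parallel to it
    have hnp : ∀ (x : M) (c a : F), (m₁ : A) + c • e = x + a • dd x → Projectivization.mk F e he0 ≠ τ x := by
      intro x c a hx hpar
      rw [← hddτ x] at hpar
      obtain ⟨b, hb⟩ := (Projectivization.mk_eq_mk_iff' F _ _ he0 (hdd0 x)).1 hpar
      -- m₁, m₂ lie on the tangent
      have e1 : (x : A) + (a - c * b) • dd x = m₁ := by
        rw [sub_smul, mul_smul, hb]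
        have : (x : A) + (a • dd x - c • e) = (x + a • dd x) - c • e := by abel
        rw [this, ← hx]; abel
      have e2 : (x : A) + (a - c * b + b) • dd x = m₂ := by
        rw [add_smul, hb, ← add_assoc, e1, he]; abel
      have e3 := hddT x (a - c * b) (by rw [e1]; exact m₁.2)
      have e4 := hddT x (a - c * b + b) (by rw [e2]; exact m₂.2)
      rw [e3, zero_add] at e4
      rw [e4, zero_smul] at hb
      exact he0 hb.symm
    have huni : ∀ (x : M) (c c' a a' : F), (m₁ : A) + c • e = x + a • dd x → (m₁ : A) + c' • e = x + a' • dd x →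
        c = c' := by
      intro x c c' a a' h1 h3
      by_contra hne
      have h4 : (c - c') • e = (a - a') • dd x := by
        have h5 : ((m₁ : A) + c • e) - (m₁ + c' • e) = (x + a • dd x) - (x + a' • dd x) := by rw [h1, h3]
        rw [sub_smul, sub_smul]
        have h6 : ((m₁ : A) + c • e) - (m₁ + c' • e) = c • e - c' • e := by abel
        have h7 : ((x : A) + a • dd x) - (x + a' • dd x) = a • dd x - a' • dd x := by abel
        rw [← h6, h5, h7]
      apply hnp x c a h1
      rw [← hddτ x]
      apply (Projectivization.mk_eq_mk_iff' F _ _ he0 (hdd0 x)).2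
      refine ⟨(c - c')⁻¹ * (a - a'), ?_⟩
      rw [mul_smul, ← h4, smul_smul, inv_mul_cancel₀ (sub_ne_zero.2 hne), one_smul]
    choose g ag hg using fun c : F => hex ((m₁ : A) + c • e)
    let M' := {x : M // τ x ≠ Projectivization.mk F e he0}
    let g' : F → M' := fun c => ⟨g c, fun h => hnp (g c) c (ag c) (hg c) h.symm⟩
    have hg'inj : Function.Injective g' := by
      intro c c' hcc
      have h1 : g c = g c' := congrArg Subtype.val hcc
      have h3 := hg c'
      rw [← h1] at h3
      exact huni (g c) c c' (ag c) (ag c') (hg c) h3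
    have hM'card : Nat.card M' = Nat.card F := by
      have h1 : Nat.card M' + 1 = Nat.card M := by
        obtain ⟨m0, hm0⟩ := s2 (Projectivization.mk F e he0)
        have := Fintype.ofFinite M
        rw [Nat.card_eq_fintype_card, Nat.card_eq_fintype_card]
        have h3 := Fintype.card_subtype_compl (fun x : M => x = m0)
        have h4 : Fintype.card {x : M // x = m0} = 1 := Fintype.card_subtype_eq m0
        have h5 : Fintype.card M' = Fintype.card {x : M // ¬ x = m0} := by
          apply Fintype.card_congr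
          apply Equiv.subtypeEquivRight
          intro x
          rw [← hm0]
          exact not_congr s2'.eq_iff
        have h6 : 0 < Fintype.card M := Fintype.card_pos_iff.2 ⟨m0⟩
        rw [h5, h3, h4]
        omega
      omega
    have hg'surj : Function.Surjective g' := by
      have := Fintype.ofFinite M'
      have := Fintype.ofFinite F
      exact ((Fintype.bijective_iff_injective_and_card g').2
        ⟨hg'inj, by rw [← Nat.card_eq_fintype_card, ← Nat.card_eq_fintype_card, hM'card]⟩).2
    have key : ∀ (x : M) (a : F), (m₁ : A) + c • e = x + a • dd x → x = g c := by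
      intro x a hx
      obtain ⟨c', hc'⟩ := hg'surj ⟨x, fun h => hnp x c a hx h.symm⟩
      have h1 : g c' = x := congrArg Subtype.val hc'
      have h3 := hg c'
      rw [h1] at h3
      have h4 := huni x c c' a (ag c') hx h3
      rw [h4, h1]
    rw [key m a hm, key m' a' hm']
  -- Step 5: two tangents meet
  have hMnt : ∃ m₁ m₂ : M, m₁ ≠ m₂ := by
    have h1 : 1 < Nat.card M := by
      rw [hMcard]
      have : 0 < Nat.card F := Nat.card_pos
      omega
    have : Nontrivial M := (Finite.one_lt_card_iff_nontrivial).1 h1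
    exact exists_pair_ne M
  obtain ⟨m₁, m₂, h12⟩ := hMnt
  obtain ⟨n, a₁, a₂, hn1, hn2⟩ : ∃ (n : A) (a₁ a₂ : F), n = m₁ + a₁ • dd m₁ ∧ n = m₂ + a₂ • dd m₂ := by
    have hli : LinearIndependent F ![dd m₁, dd m₂] := by
      rw [LinearIndependent.pair_iff' (hdd0 m₁)]
      intro a ha
      apply h12
      apply s2'
      rw [← hddτ m₁, ← hddτ m₂, eq_comm]
      exact (Projectivization.mk_eq_mk_iff' F _ _ (hdd0 m₂) (hdd0 m₁)).2 ⟨a, ha⟩
    have hsp : Submodule.span F (Set.range ![dd m₁, dd m₂]) = ⊤ :=
      hli.span_eq_top_of_card_eq_finrank (by rw [hA]; simp)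
    have h1 : (m₂ : A) - m₁ ∈ Submodule.span F (Set.range ![dd m₁, dd m₂]) := by rw [hsp]; trivial
    rw [Matrix.range_cons, Matrix.range_cons, Matrix.range_empty, Set.union_empty, Set.singleton_union,
      Submodule.mem_span_pair] at h1
    obtain ⟨a, b, hab⟩ := h1
    refine ⟨m₁ + a • dd m₁, a, -b, rfl, ?_⟩
    have h3 : a • dd m₁ = (m₂ : A) - m₁ - b • dd m₂ := by rw [← hab]; abel
    rw [h3, neg_smul]; abel
  -- the meeting point is the nucleus
  have hnM : n ∉ M := by
    intro hnM
    have e1 : a₁ = 0 := hddT m₁ a₁ (by rw [← hn1]; exact hnM)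
    have e2 : a₂ = 0 := hddT m₂ a₂ (by rw [← hn2]; exact hnM)
    apply h12
    apply Subtype.ext
    rw [e1, zero_smul, add_zero] at hn1
    rw [e2, zero_smul, add_zero] at hn2
    rw [← hn1, ← hn2]
  have hnm : ∀ m : M, (m : A) - n ≠ 0 := fun m h => hnM (by rw [← sub_eq_zero.1 h]; exact m.2)
  -- no secant through n
  have hT : ∀ m : M, Tan M F (m : A) ((m : A) - n) := by
    intro m c hc
    by_contra hc0
    have hne : m ≠ ⟨_, hc⟩ := by
      intro h
      have h1 : (m : A) = m + c • ((m : A) - n) := congrArg Subtype.val h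
      exact (smul_ne_zero hc0 (hnm m)) (by simpa using h1.symm)
    have h1 : (m : A) + (-c⁻¹) • ((m : A) + c • ((m : A) - n) - m) = n := by
      have : (m : A) + c • ((m : A) - n) - m = c • ((m : A) - n) := by abel
      rw [this, smul_smul, neg_mul, inv_mul_cancel₀ hc0, neg_smul, one_smul]; abel
    apply h12
    exact s4 m ⟨_, hc⟩ hne (-c⁻¹) m₁ m₂ a₁ a₂ (by rw [← hn1]; exact h1) (by rw [← hn2]; exact h1)
  have hτn : ∀ m : M, Projectivization.mk F ((m : A) - n) (hnm m) = τ m := fun m => (hτ m _ (hnm m)).1 (hT m)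
  refine ⟨n, hnM, ?_, ?_⟩
  · intro d hd
    obtain ⟨m, hm⟩ := s2 (Projectivization.mk F d hd)
    rw [← hτn m] at hm
    obtain ⟨c, hc⟩ := (Projectivization.mk_eq_mk_iff' F _ _ (hnm m) hd).1 hm
    have hcm : n + c • d = m := by rw [hc]; abel
    refine ⟨c, by show n + c • d ∈ M; rw [hcm]; exact m.2, ?_⟩
    intro c' hc'
    have hc' : n + c' • d ∈ M := hc'
    have hc0 : c ≠ 0 := by rintro rfl; rw [zero_smul] at hc; exact hnm m hc.symm
    have h1 : (m : A) + ((c' - c) / c) • ((m : A) - n) = n + c' • d := by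
      rw [← hc, smul_smul, div_mul_cancel₀ _ hc0, ← hcm, sub_smul]; abel
    have h3 := hT m ((c' - c) / c) (by rw [h1]; exact hc')
    rw [div_eq_zero_iff] at h3
    exact sub_eq_zero.1 (h3.resolve_right hc0)
  · rintro x d hd ⟨c₀, hc₀, hc₀u⟩
    have hc₀ : x + c₀ • d ∈ M := hc₀
    have hc₀u : ∀ y, x + y • d ∈ M → y = c₀ := hc₀u
    have hTd : Tan M F (x + c₀ • d) d := by
      intro c hc
      rw [add_assoc, ← add_smul] at hc
      have := hc₀u _ hc
      exact add_eq_left.1 this
    have h1 := (hτ ⟨_, hc₀⟩ d hd).1 hTd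
    rw [← hτn] at h1
    obtain ⟨a, ha⟩ := (Projectivization.mk_eq_mk_iff' F _ _ hd (hnm _)).1 h1
    have ha0 : a ≠ 0 := by rintro rfl; rw [zero_smul] at ha; exact hd ha.symm
    refine ⟨c₀ - a⁻¹, ?_⟩
    have h3 : a⁻¹ • d = x + c₀ • d - n := by
      have h4 := congrArg (fun y => a⁻¹ • y) ha
      simp only [smul_smul, inv_mul_cancel₀ ha0, one_smul] at h4
      exact h4.symm
    rw [sub_smul, h3]; abel

end

end H53.BS
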