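import Cfsg.Agent.Lib.H53.SzReal
import Cfsg.Agent.Lib.H42.SuzSol3
import Mathlib

set_option autoImplicit false

/-! Suzuki groups: products of two conjugates of an element of order > 2 cover everything nontrivial. -/

namespace H53.SzCov

open Cfsg H8.SuzOvoid H8.SuzField H8.SuzMat H8.SuzStab H8.SuzGroup H8.SuzSylow H8.SuzCent H8.TICount H8.SuzTorus
open H42.SuzSol

variable {F : Type*} [Field F] [Fintype F] {m : ℕ}

/-- trace of an element -/
def tr (g : Sz F m) : F := Matrix.trace (g : SL F).1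

theorem tr_conj (y g : Sz F m) : tr (y * g * y⁻¹) = tr g := by
  unfold tr
  have h1 : ((y * g * y⁻¹ : Sz F m) : SL F).1 = (y : SL F).1 * (g : SL F).1 * ((y⁻¹ : Sz F m) : SL F).1 := rfl
  rw [h1, Matrix.trace_mul_comm, ← Matrix.mul_assoc]
  have h2 : ((y⁻¹ : Sz F m) : SL F).1 * (y : SL F).1 = 1 := by
    have : (y⁻¹ * y : Sz F m) = 1 := inv_mul_cancel y
    exact congrArg (fun z : Sz F m => (z : SL F).1) this
  rw [h2, Matrix.one_mul]

theorem tr_mul_comm (x y : Sz F m) : tr (x * y) = tr (y * x) := by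
  have := tr_conj (m := m) y (x * y)
  rw [← this]
  congr 1
  group

theorem tr_one (hF : Fintype.card F = 2 ^ (2 * m + 1)) : tr (1 : Sz F m) = 0 := by
  have two := two_eq_zero hF
  show Matrix.trace (1 : Matrix (Fin 4) (Fin 4) F) = 0
  rw [Matrix.trace_one, Fintype.card_fin]
  push_cast
  linear_combination 2 * two

theorem tr_tG (hF : Fintype.card F = 2 ^ (2 * m + 1)) (a b : F) : tr (tG hF a b : Sz F m) = 0 := by
  have two := two_eq_zero hF
  show Matrix.trace (Tm m a b) = 0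
  simp [Tm, Matrix.trace, Fin.sum_univ_four]
  linear_combination 2 * two

theorem tr_inv (hm : 1 ≤ m) (hF : Fintype.card F = 2 ^ (2 * m + 1)) (g : Sz F m) : tr g⁻¹ = tr g := by
  have h1 := form hm hF g.2
  unfold tr
  have h2 : (g : SL F).1 * ((g⁻¹ : Sz F m) : SL F).1 = 1 := by
    have : (g * g⁻¹ : Sz F m) = 1 := mul_inv_cancel g
    exact congrArg (fun z : Sz F m => (z : SL F).1) this
  have hJ : suzukiForm F * suzukiForm F = 1 := congrArg Subtype.val (W_mul_W (F := F))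
  have h3 : ((g⁻¹ : Sz F m) : SL F).1 = suzukiForm F * (g : SL F).1.transpose * suzukiForm F := by
    have h4 : suzukiForm F * (g : SL F).1.transpose * suzukiForm F * (g : SL F).1 = 1 := by
      rw [Matrix.mul_assoc, Matrix.mul_assoc, ← Matrix.mul_assoc (g : SL F).1.transpose]
      erw [h1]
      exact hJ
    calc ((g⁻¹ : Sz F m) : SL F).1 = (suzukiForm F * (g : SL F).1.transpose * suzukiForm F * (g : SL F).1) * ((g⁻¹ : Sz F m) : SL F).1 := by
          rw [h4, Matrix.one_mul]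
      _ = suzukiForm F * (g : SL F).1.transpose * suzukiForm F := by
          rw [Matrix.mul_assoc _ (g : SL F).1, h2, Matrix.mul_one]
  rw [h3, Matrix.trace_mul_comm, ← Matrix.mul_assoc, hJ, Matrix.one_mul, Matrix.trace_transpose]

/-- trace of the product of a translation and an opposite translation -/
theorem tr_TWTW (hF : Fintype.card F = 2 ^ (2 * m + 1)) (a b c d : F) :
    tr (tG hF a b * (wG hF * tG hF c d * wG hF) : Sz F m) =
      a * th m a * d + c * th m c * b + th m a * th m c + f m a b * f m c d := by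
  have two := two_eq_zero hF
  show Matrix.trace (Tm m a b * (Wm F * Tm m c d * Wm F)) = _
  simp [Tm, Wm, suzukiForm, Matrix.trace, Fin.sum_univ_four, Matrix.mul_apply]
  linear_combination (2 + a * c + b * d) * two

/-- trace of `T(0,b) A T(0,b) B` for opposite central translations `A, B` -/
theorem tr_four (hF : Fintype.card F = 2 ^ (2 * m + 1)) (b β γ : F) :
    tr (tG hF 0 b * (wG hF * tG hF 0 β * wG hF) * tG hF 0 b * (wG hF * tG hF 0 γ * wG hF) : Sz F m) =
      th m β * th m γ * th m b ^ 2 := by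
  have two := two_eq_zero hF
  show Matrix.trace (Tm m 0 b * (Wm F * Tm m 0 β * Wm F) * Tm m 0 b * (Wm F * Tm m 0 γ * Wm F)) = _
  simp [Tm, Wm, suzukiForm, Matrix.trace, Fin.sum_univ_four, Matrix.mul_apply, f_eq, th_zero]
  linear_combination (2 + 2 * b * β + b * β * th m b * th m γ + b * th m b * th m β * γ + 2 * b * γ + b ^ 2 * β * γ +
    th m b * th m β + th m b * th m γ) * two

/-- the elements `D(l^θ) W T(a,b)` -/
def yy (hF : Fintype.card F = 2 ^ (2 * m + 1)) (l : Fˣ) (a b : F) : Sz F m :=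
  dG hF (l ^ (2 ^ (m + 1))) * wG hF * tG hF a b

theorem tr_yy (hF : Fintype.card F = 2 ^ (2 * m + 1)) (l : Fˣ) (a b : F) :
    tr (yy hF l a b : Sz F m) = (l * th m (l : F))⁻¹ * f m a b + (l : F)⁻¹ * th m a := by
  show Matrix.trace (Dm m ((l ^ (2 ^ (m + 1)) : Fˣ) : F) * Wm F * Tm m a b) = _
  have h1 : ((l ^ (2 ^ (m + 1)) : Fˣ) : F) ^ (2 ^ m) = l := by
    rw [Units.val_pow_eq_pow_val, ← pow_mul, ← pow_add, show m + 1 + m = 2 * m + 1 by ring, ← hF, FiniteField.pow_card]
  have h2 : ((l ^ (2 ^ (m + 1)) : Fˣ) : F) ^ (2 ^ m + 1) = l * th m (l : F) := by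
    rw [pow_succ, h1, Units.val_pow_eq_pow_val]; rfl
  unfold Dm
  rw [h2, h1]
  simp [Tm, Wm, suzukiForm, Matrix.trace, Fin.sum_univ_four, Matrix.mul_apply]
  ring

theorem yy_mul (hF : Fintype.card F = 2 ^ (2 * m + 1)) (l : Fˣ) (a b c d : F) :
    yy hF l a b * tG hF c d = (yy hF l (a + c) (b + d + th m a * c) : Sz F m) := by
  unfold yy
  rw [mul_assoc, tG_mul]

/-- the index 2 subgroup `{e + e^θ}` -/
abbrev HL (hF : Fintype.card F = 2 ^ (2 * m + 1)) : AddSubgroup F := (Lmap (m := m) hF 1).range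

theorem mem_HL (hF : Fintype.card F = 2 ^ (2 * m + 1)) {x : F} : x ∈ HL (m := m) hF ↔ ∃ e : F, x = e + th m e := by
  constructor
  · rintro ⟨e, rfl⟩
    exact ⟨e, by change th m e * 1 + th m 1 * e = _; rw [th_one]; ring⟩
  · rintro ⟨e, rfl⟩
    exact ⟨e, by change th m e * 1 + th m 1 * e = _; rw [th_one]; ring⟩

theorem one_not_mem (hF : Fintype.card F = 2 ^ (2 * m + 1)) : (1 : F) ∉ HL (m := m) hF := by
  have := not_mem_range (m := m) hF (a := (1 : F)) one_ne_zero
  rwa [th_one, mul_one] at this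

theorem add_one_mem (hF : Fintype.card F = 2 ^ (2 * m + 1)) {x : F} (hx : x ∉ HL (m := m) hF) : x + 1 ∈ HL (m := m) hF := by
  rw [AddSubgroup.add_mem_iff_of_index_two (index_range hF one_ne_zero)]
  exact iff_of_false hx (one_not_mem hF)

/-- `λ F ⊆ H` only for `λ = 0` -/
theorem eq_zero_of_smul (hF : Fintype.card F = 2 ^ (2 * m + 1)) {c : F} (h : ∀ x : F, c * x ∈ HL (m := m) hF) : c = 0 := by
  by_contra hc
  apply one_not_mem (m := m) hF
  have := h c⁻¹
  rwa [mul_inv_cancel₀ hc] at this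

theorem th_surj (hF : Fintype.card F = 2 ^ (2 * m + 1)) : Function.Surjective (th m : F → F) :=
  Finite.surjective_of_injective (th_injective hF)

theorem smul_HL (hF : Fintype.card F = 2 ^ (2 * m + 1)) {c : F} (h : ∀ x ∈ HL (m := m) hF, c * x ∈ HL (m := m) hF) :
    c = 0 ∨ c = 1 := by
  have two := two_eq_zero hF
  have h1 : c + th m c = 0 := by
    apply eq_zero_of_smul hF (m := m)
    intro x
    obtain ⟨e, rfl⟩ := th_surj hF x
    have h2 := h _ ((mem_HL hF).2 ⟨e, rfl⟩)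
    have h3 : c * e + th m (c * e) ∈ HL (m := m) hF := (mem_HL hF).2 ⟨_, rfl⟩
    have h4 := add_mem h2 h3
    rw [th_mul] at h4
    convert h4 using 1
    linear_combination (-(c * e)) * two
  have h2 : th m c = c := by linear_combination h1 - c * two
  exact fix_th hF h2

/-- key lemma 1 -/
theorem key1 (hm : 1 ≤ m) (hF : Fintype.card F = 2 ^ (2 * m + 1)) {t : F} (ht : t ≠ 0) (A : F → F)
    (hA : ∀ x y, A (x + y) = A x + A y) : ∃ s : Fˣ, ∃ e : F, t * (s * th m (s : F)) + A s = 1 + (e + th m e) := by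
  have two := two_eq_zero hF
  by_contra hno
  push Not at hno
  have h0 : ∀ s : F, t * (s * th m s) + A s ∈ HL (m := m) hF := by
    intro s
    by_cases hs : s = 0
    · have hA0 : A 0 = 0 := by
        have := hA 0 0
        rw [add_zero] at this
        linear_combination -this
      rw [hs, hA0, zero_mul, mul_zero, add_zero]
      exact zero_mem _
    · by_contra h1
      obtain ⟨e, he⟩ := (mem_HL hF).1 (add_one_mem hF h1)
      apply hno (Units.mk0 s hs) e
      rw [Units.val_mk0]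
      linear_combination he - two + (1 : F) * two - two + two - (1:F) * two
  have h1 : ∀ s x : F, t * (s * th m x + x * th m s) ∈ HL (m := m) hF := by
    intro s x
    have h2 := add_mem (add_mem (h0 (s + x)) (h0 s)) (h0 x)
    rw [th_add hF, hA] at h2
    convert h2 using 1
    linear_combination (-(t * s * th m s + t * x * th m x + A s + A x)) * two
  have h2 : ∀ s : F, t * s + th m t * s ^ 2 = 0 := by
    intro s
    apply eq_zero_of_smul hF (m := m)
    intro x
    obtain ⟨y, rfl⟩ := th_surj hF x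
    have h3 := h1 s y
    have h4 : t * (y * th m s) + th m (t * (y * th m s)) ∈ HL (m := m) hF := (mem_HL hF).2 ⟨_, rfl⟩
    have h5 := add_mem h3 h4
    rw [th_mul, th_mul, th_th hF] at h5
    convert h5 using 1
    linear_combination (-(t * y * th m s)) * two
  obtain ⟨k, hk⟩ := exists_k hm hF
  have h3 := h2 1
  have h4 := h2 k
  have h5 : (k : F) * (k - 1) * th m t = 0 := by linear_combination h4 - k * h3
  rcases mul_eq_zero.1 h5 with h6 | h6
  · rcases mul_eq_zero.1 h6 with h7 | h7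
    · exact k.ne_zero h7
    · exact hk (Units.ext (sub_eq_zero.1 h7))
  · exact ht (th_eq_zero.1 h6)

/-- key lemma 2 -/
theorem key2 (hm : 1 ≤ m) (hF : Fintype.card F = 2 ^ (2 * m + 1)) {t : F} (ht : t ≠ 0) :
    ∃ s : Fˣ, ∃ e : F, t * ((s : F) ^ 2 * th m (s : F)) + (s : F) ^ 2 = 1 + (e + th m e) := by
  have two := two_eq_zero hF
  by_contra hno
  push Not at hno
  have h0 : ∀ s : F, t * (s ^ 2 * th m s) + s ^ 2 ∈ HL (m := m) hF := by
    intro s
    by_cases hs : s = 0
    · rw [hs, zero_pow two_ne_zero, zero_mul, mul_zero, add_zero]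
      exact zero_mem _
    · by_contra h1
      obtain ⟨e, he⟩ := (mem_HL hF).1 (add_one_mem hF h1)
      apply hno (Units.mk0 s hs) e
      rw [Units.val_mk0]
      linear_combination he - two + (1 : F) * two - two + two - (1:F) * two
  have h1 : ∀ s x : F, t * (s ^ 2 * th m x + x ^ 2 * th m s) ∈ HL (m := m) hF := by
    intro s x
    have h2 := add_mem (add_mem (h0 (s + x)) (h0 s)) (h0 x)
    rw [th_add hF] at h2
    convert h2 using 1
    linear_combination (-(t * s ^ 2 * th m s + t * x ^ 2 * th m x + s ^ 2 + x ^ 2 + s * x + t * s * x * (th m s + th m x))) * two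
  have h2 : ∀ s : F, t * th m s + th m t * th m s ^ 2 = 0 := by
    intro s
    apply eq_zero_of_smul hF (m := m)
    intro x
    obtain ⟨z, rfl⟩ := th_surj hF x
    obtain ⟨y, rfl⟩ := th_surj hF z
    have h3 := h1 s y
    have h4 : t * (s ^ 2 * th m y) + th m (t * (s ^ 2 * th m y)) ∈ HL (m := m) hF := (mem_HL hF).2 ⟨_, rfl⟩
    have h5 := add_mem h3 h4
    rw [th_mul, th_mul, th_th hF, th_pow] at h5
    rw [th_th hF]
    convert h5 using 1
    linear_combination (-(t * s ^ 2 * th m y)) * two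
  obtain ⟨k, hk⟩ := exists_k hm hF
  have h3 := h2 1
  rw [th_one] at h3
  obtain ⟨k', hk'⟩ := th_surj (m := m) hF (k : F)
  have h4 := h2 k'
  rw [hk'] at h4
  have h5 : (k : F) * (k - 1) * th m t = 0 := by linear_combination h4 - k * h3
  rcases mul_eq_zero.1 h5 with h6 | h6
  · rcases mul_eq_zero.1 h6 with h7 | h7
    · exact k.ne_zero h7
    · exact hk (Units.ext (sub_eq_zero.1 h7))
  · exact ht (th_eq_zero.1 h6)

/-- the normal form of elements of odd order -/
def nf (hF : Fintype.card F = 2 ^ (2 * m + 1)) (β : F) : Sz F m := tG hF 0 1 * (wG hF * tG hF 0 β * wG hF)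

theorem tr_nf (hF : Fintype.card F = 2 ^ (2 * m + 1)) (β : F) : tr (nf hF β : Sz F m) = th m β := by
  unfold nf
  rw [tr_TWTW, f_eq, f_eq, th_zero, th_one]
  ring

theorem nf_ne (hF : Fintype.card F = 2 ^ (2 * m + 1)) {β : F} (hβ : β ≠ 0) : tr (nf hF β : Sz F m) ≠ 0 := by
  rw [tr_nf]
  exact fun h => hβ (th_eq_zero.1 h)

/-- an element is a 2-element (trace zero) or has odd order -/
theorem cases_odd (hm : 1 ≤ m) (hF : Fintype.card F = 2 ^ (2 * m + 1)) (g : Sz F m) :
    (∃ y : Sz F m, ∃ a b : F, y * g * y⁻¹ = tG hF a b) ∨ Odd (orderOf g) := by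
  by_cases hg : g = 1
  · left
    exact ⟨1, 0, 0, by rw [hg, tG_one]; group⟩
  have hodd : ∀ (W : Subgroup (Sz F m)) (x : Sz F m), x * g * x⁻¹ ∈ W → ¬ 2 ∣ Nat.card W → Odd (orderOf g) := by
    intro W x hx hW
    rw [← Nat.not_even_iff_odd, even_iff_two_dvd]
    intro h
    apply hW
    have h1 := orderOf_dvd_natCard (⟨_, hx⟩ : W)
    rw [← Subgroup.orderOf_coe] at h1
    rw [← orderOf_conj' x g] at h
    exact h.trans h1
  rcases cases_elem hm hF hg with h1 | h1 | ⟨r, hr, hrg, hrq⟩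
  · obtain ⟨_, x, a, b, hx⟩ := h1
    exact Or.inl ⟨x, a, b, hx⟩
  · right
    obtain ⟨_, x, hx⟩ := h1
    apply hodd _ x hx
    rw [card_HH]
    intro h
    have : 2 ^ (2 * m + 1) = 2 * 2 ^ (2 * m) := by rw [pow_succ]; ring
    have h3 : 0 < 2 ^ (2 * m) := by positivity
    omega
  · right
    obtain ⟨U, V, hU, hV, hcU, hcV, hprod, _⟩ := exists_two_tori hm hF
    have key : ∀ W : Subgroup (Sz F m), Tor W → r ∣ Nat.card W → Odd (orderOf g) := by
      intro W hW hrW
      obtain ⟨_, x, hx⟩ := hW.mem_cl hm hF hr hrW hrg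
      exact hodd _ x hx (fun h2 => ne_two (m := m) Nat.prime_two (hW.dvd_of_prime hm hF Nat.prime_two h2) rfl)
    rw [← hprod] at hrq
    rcases (Nat.Prime.dvd_mul hr).1 hrq with h1 | h1
    · exact key U hU h1
    · exact key V hV h1

theorem odd_of_tr (hm : 1 ≤ m) (hF : Fintype.card F = 2 ^ (2 * m + 1)) {g : Sz F m} (h : tr g ≠ 0) :
    g ≠ 1 ∧ Odd (orderOf g) := by
  constructor
  · rintro rfl
    exact h (tr_one hF)
  · rcases cases_odd hm hF g with ⟨y, a, b, hy⟩ | h1
    · exfalso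
      apply h
      rw [← tr_conj y g, hy, tr_tG]
    · exact h1

theorem exists_nf (hm : 1 ≤ m) (hF : Fintype.card F = 2 ^ (2 * m + 1)) {g : Sz F m} (hg : g ≠ 1) (hodd : Odd (orderOf g)) :
    ∃ y : Sz F m, ∃ β : F, β ≠ 0 ∧ y * g * y⁻¹ = nf hF β := by
  obtain ⟨t, htt, ht1, ht⟩ := H53.SzReal.exists_inverting hm hF hg hodd
  have ht' : t⁻¹ = t := inv_eq_of_mul_eq_one_right htt
  -- g = t * u
  have hu2 : (t * g) * (t * g) = 1 := by
    have : t * g * t = g⁻¹ := by rw [← ht, ht']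
    calc (t * g) * (t * g) = (t * g * t) * g := by group
      _ = 1 := by rw [this, inv_mul_cancel]
  have htne : t * g ≠ 1 := by
    intro h
    have h1 : g = t := by
      calc g = t⁻¹ * (t * g) := by group
        _ = t := by rw [h, mul_one, ht']
    have h2 : orderOf g = 2 := by
      have : Fact (Nat.Prime 2) := ⟨Nat.prime_two⟩
      exact orderOf_eq_prime (by rw [pow_two, h1, htt]) hg
    rw [h2] at hodd
    exact absurd hodd (by decide)
  obtain ⟨x, hx⟩ := H53.SzReal.conj_involutions hm hF ht1 htt (t := tG hF 0 1) (by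
    intro h
    rw [← tG_one hF] at h
    exact one_ne_zero (tG_inj hF h).2) (by rw [← pow_two, tG_sq, mul_zero, tG_one])
  -- u' = x (t g) x⁻¹
  obtain ⟨z, b, hb, hz⟩ := H53.SzReal.exists_conj_tG hm hF htne hu2
  set w := x * z⁻¹ with hw
  have hgu : x * g * x⁻¹ = tG hF 0 1 * (w * tG hF 0 b * w⁻¹) := by
    rw [← hx, ← hz, hw]
    calc x * g * x⁻¹ = x * (t * t) * g * x⁻¹ := by rw [htt]; group
      _ = _ := by group
  rcases bruhat hF hm w.2 with ⟨a, c, k, hk⟩ | ⟨a, c, a', c', k, hk⟩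
  · exfalso
    have hk' : w = tG hF a c * dG hF k := Subtype.ext hk
    have h3 : w * tG hF 0 b * w⁻¹ = tG hF 0 ((k : F) * th m (k : F) * b) := by
      rw [hk']
      calc tG hF a c * dG hF k * tG hF 0 b * (tG hF a c * dG hF k)⁻¹
          = tG hF a c * (dG hF k * tG hF 0 b * (dG hF k)⁻¹) * (tG hF a c)⁻¹ := by group
        _ = _ := by
          rw [D_T, mul_inv_cancel_right, tG_conj_tG]
          congr 1
          · ring
          · change _ + (th m a * ((k : F) * 0) + th m ((k : F) * 0) * a) = _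
            rw [mul_zero, th_zero]; ring
    rw [h3, tG_mul] at hgu
    have h4 : orderOf g ∣ 2 := by
      rw [← orderOf_conj' x g, hgu]
      apply orderOf_dvd_of_pow_eq_one
      rw [tG_sq, ← tG_one hF]
      congr 1
      rw [add_zero, th_zero, mul_zero]
    rcases (Nat.dvd_prime Nat.prime_two).1 h4 with h5 | h5
    · exact hg (orderOf_eq_one_iff.1 h5)
    · rw [h5] at hodd
      exact absurd hodd (by decide)
  · have hk' : w = tG hF a c * wG hF * (tG hF a' c' * dG hF k) := Subtype.ext hk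
    have hwi : (wG (m := m) hF)⁻¹ = wG hF := inv_eq_of_mul_eq_one_right (wG_mul hF)
    have h3 : w * tG hF 0 b * w⁻¹ = tG hF a c * (wG hF * tG hF 0 ((k : F) * th m (k : F) * b) * wG hF) * (tG hF a c)⁻¹ := by
      have h4 : (tG hF a' c' * dG hF k) * tG hF 0 b * (tG hF a' c' * dG hF k)⁻¹ = tG hF 0 ((k : F) * th m (k : F) * b) := by
        calc tG hF a' c' * dG hF k * tG hF 0 b * (tG hF a' c' * dG hF k)⁻¹
            = tG hF a' c' * (dG hF k * tG hF 0 b * (dG hF k)⁻¹) * (tG hF a' c')⁻¹ := by group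
          _ = _ := by
            rw [D_T, mul_inv_cancel_right, tG_conj_tG]
            congr 1
            · ring
            · change _ + (th m a' * ((k : F) * 0) + th m ((k : F) * 0) * a') = _
              rw [mul_zero, th_zero]; ring
      rw [← h4, hk']
      calc _ = tG hF a c * (wG hF * ((tG hF a' c' * dG hF k) * tG hF 0 b * (tG hF a' c' * dG hF k)⁻¹) * (wG hF)⁻¹) *
            (tG hF a c)⁻¹ := by group
        _ = _ := by rw [hwi]
    refine ⟨(tG hF a c)⁻¹ * x, (k : F) * th m (k : F) * b, ?_, ?_⟩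
    · exact mul_ne_zero (mul_ne_zero k.ne_zero (fun h => k.ne_zero (th_eq_zero.1 h))) hb
    · unfold nf
      have hcomm : (tG hF a c)⁻¹ * tG hF 0 1 * tG hF a c = (tG hF 0 1 : Sz F m) := by
        have h5 : (tG hF a c : Sz F m) * tG hF 0 1 = tG hF 0 1 * tG hF a c := by
          rw [tG_mul, tG_mul, th_zero]
          congr 1 <;> ring
        rw [mul_assoc, ← h5, inv_mul_cancel_left]
      calc (tG hF a c)⁻¹ * x * g * ((tG hF a c)⁻¹ * x)⁻¹ = (tG hF a c)⁻¹ * (x * g * x⁻¹) * tG hF a c := by group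
        _ = ((tG hF a c)⁻¹ * tG hF 0 1 * tG hF a c) * (wG hF * tG hF 0 ((k : F) * th m (k : F) * b) * wG hF) := by
          rw [hgu, h3]; group
        _ = _ := by rw [hcomm]

/-- trace determines the class -/
theorem conj_of_tr (hm : 1 ≤ m) (hF : Fintype.card F = 2 ^ (2 * m + 1)) {g h : Sz F m} (hg : tr g ≠ 0)
    (hgh : tr g = tr h) : ∃ y : Sz F m, y * g * y⁻¹ = h := by
  obtain ⟨h1, h2⟩ := odd_of_tr hm hF hg
  obtain ⟨h3, h4⟩ := odd_of_tr hm hF (hgh ▸ hg)
  obtain ⟨x, β, hβ, hx⟩ := exists_nf hm hF h1 h2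
  obtain ⟨z, γ, hγ, hz⟩ := exists_nf hm hF h3 h4
  have h5 : th m β = th m γ := by
    rw [← tr_nf (m := m) hF β, ← tr_nf (m := m) hF γ, ← hx, ← hz, tr_conj, tr_conj, hgh]
  have h6 : β = γ := th_injective hF h5
  refine ⟨z⁻¹ * x, ?_⟩
  calc z⁻¹ * x * g * (z⁻¹ * x)⁻¹ = z⁻¹ * (x * g * x⁻¹) * z := by group
    _ = z⁻¹ * (z * h * z⁻¹) * z := by rw [hx, hz, h6]
    _ = h := by group

/-- the covering property -/
def Cov (x g : Sz F m) : Prop := ∃ u v : Sz F m, g = (u * x * u⁻¹) * (v * x * v⁻¹)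

theorem Cov.of_conj {x g : Sz F m} {y : Sz F m} (h : Cov x (y * g * y⁻¹)) : Cov x g := by
  obtain ⟨u, v, huv⟩ := h
  refine ⟨y⁻¹ * u, y⁻¹ * v, ?_⟩
  calc g = y⁻¹ * (y * g * y⁻¹) * y := by group
    _ = _ := by rw [huv]; group

theorem Cov.of_conj' {x g : Sz F m} {y : Sz F m} (h : Cov (y * x * y⁻¹) g) : Cov x g := by
  obtain ⟨u, v, huv⟩ := h
  refine ⟨u * y, v * y, ?_⟩
  rw [huv]; group

theorem Cov.of_mul {x a b : Sz F m} (ha : ∃ y : Sz F m, y * x * y⁻¹ = a) (hb : ∃ y : Sz F m, y * x * y⁻¹ = b) :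
    Cov x (a * b) := by
  obtain ⟨u, hu⟩ := ha
  obtain ⟨v, hv⟩ := hb
  exact ⟨u, v, by rw [hu, hv]⟩

theorem cov_odd_odd (hm : 1 ≤ m) (hF : Fintype.card F = 2 ^ (2 * m + 1)) {x g : Sz F m} (hx : tr x ≠ 0)
    (hg : tr g ≠ 0) : Cov x g := by
  have two := two_eq_zero hF
  obtain ⟨h3, h4⟩ := odd_of_tr hm hF hg
  obtain ⟨z, γ, hγ, hz⟩ := exists_nf hm hF h3 h4
  apply Cov.of_conj (y := z)
  rw [hz]
  obtain ⟨β, hβ⟩ := th_surj (m := m) hF (tr x)
  -- b² γ = 1
  obtain ⟨b', hb'⟩ := th_surj (m := m) hF γ⁻¹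
  obtain ⟨b, hb⟩ := th_surj (m := m) hF b'
  have hbγ : b ^ 2 * γ = 1 := by
    rw [← th_th hF b, hb, hb', inv_mul_cancel₀ hγ]
  set s : Sz F m := tG hF 0 b * (wG hF * tG hF 0 β * wG hF) * tG hF 0 b with hs
  have hTT : ∀ c : F, (tG hF 0 c * tG hF 0 c : Sz F m) = 1 := by
    intro c
    rw [← pow_two, tG_sq, mul_zero, tG_one]
  have hss : s * s = 1 := by
    calc s * s = tG hF 0 b * (wG hF * tG hF 0 β * wG hF) * (tG hF 0 b * tG hF 0 b) * (wG hF * tG hF 0 β * wG hF) * tG hF 0 b := by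
          rw [hs]; group
      _ = tG hF 0 b * (wG hF * tG hF 0 β * (wG hF * wG hF) * tG hF 0 β * wG hF) * tG hF 0 b := by
          rw [hTT]; group
      _ = tG hF 0 b * (wG hF * (tG hF 0 β * tG hF 0 β) * wG hF) * tG hF 0 b := by
          rw [wG_mul]; group
      _ = tG hF 0 b * (wG hF * wG hF) * tG hF 0 b := by rw [hTT]; group
      _ = 1 := by rw [wG_mul, mul_one, hTT]
  have e1 : nf hF γ = (tG hF 0 1 * s) * (s * (wG hF * tG hF 0 γ * wG hF)) := by
    calc nf hF γ = tG hF 0 1 * (s * s) * (wG hF * tG hF 0 γ * wG hF) := by rw [hss, mul_one]; rfl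
      _ = _ := by group
  rw [e1]
  apply Cov.of_mul
  · apply conj_of_tr hm hF hx
    rw [← hβ, ← tr_nf (m := m) hF β]
    have h5 : tr (tG hF 0 1 * s) = tr (tG hF 0 b * (tG hF 0 1 * s) * (tG hF 0 b)⁻¹) := (tr_conj _ _).symm
    rw [h5]
    congr 1
    unfold nf
    have h6 : (tG hF 0 b : Sz F m) * tG hF 0 1 = tG hF 0 1 * tG hF 0 b := by
      rw [tG_mul, tG_mul, th_zero]
      congr 1 <;> ring
    calc tG hF 0 1 * (wG hF * tG hF 0 β * wG hF) = tG hF 0 1 * (tG hF 0 b * tG hF 0 b) * (wG hF * tG hF 0 β * wG hF) := by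
          rw [hTT, mul_one]
      _ = (tG hF 0 1 * tG hF 0 b) * tG hF 0 b * (wG hF * tG hF 0 β * wG hF) := by group
      _ = tG hF 0 b * tG hF 0 1 * tG hF 0 b * (wG hF * tG hF 0 β * wG hF) := by rw [h6]
      _ = tG hF 0 b * (tG hF 0 1 * s) * (tG hF 0 b)⁻¹ := by rw [hs]; group
  · apply conj_of_tr hm hF hx
    have h7 := tr_four (m := m) hF b β γ
    rw [hs, h7, ← hβ]
    have h8 : th m b ^ 2 * th m γ = 1 := by
      rw [← th_pow, ← th_mul, hbγ, th_one]
    linear_combination (-(th m β)) * h8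

theorem cov_odd_invol (hm : 1 ≤ m) (hF : Fintype.card F = 2 ^ (2 * m + 1)) {x : Sz F m} (hx : tr x ≠ 0) :
    Cov x (tG hF 0 1) := by
  have two := two_eq_zero hF
  obtain ⟨s, e, hse⟩ := key1 hm hF hx (fun z => th m z) (th_add hF)
  set y := yy (m := m) hF s 1 e with hy
  have hs0 : (s : F) ≠ 0 := s.ne_zero
  have hs1 : th m (s : F) ≠ 0 := fun h => hs0 (th_eq_zero.1 h)
  have h1 : tr y = tr x := by
    rw [hy, tr_yy, f_eq, th_one]
    field_simp
    linear_combination (-1 : F) * hse + (th m (s : F) * 1) * two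
  have h2 : tr (y * tG hF 0 1) = tr x := by
    rw [hy, yy_mul, tr_yy, f_eq, th_one, mul_zero, add_zero, add_zero, th_add hF, th_one]
    field_simp
    linear_combination (-1 : F) * hse + (th m (s : F) + 1) * two
  have h3 : (tG hF 0 1 : Sz F m) = y⁻¹ * (y * tG hF 0 1) := by group
  rw [h3]
  apply Cov.of_mul
  · exact conj_of_tr hm hF hx (by rw [tr_inv hm hF, h1])
  · exact conj_of_tr hm hF hx h2.symm

theorem cov_odd_four (hm : 1 ≤ m) (hF : Fintype.card F = 2 ^ (2 * m + 1)) {x : Sz F m} (hx : tr x ≠ 0) (d : F) :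
    Cov x (tG hF 1 d) := by
  have two := two_eq_zero hF
  obtain ⟨s, e, hse⟩ := key1 hm hF hx (fun z => z ^ 2) (fun a b => by
    linear_combination (a * b) * two)
  have hs0 : (s : F) ≠ 0 := s.ne_zero
  have hs1 : th m (s : F) ≠ 0 := fun h => hs0 (th_eq_zero.1 h)
  -- d'
  obtain ⟨d', hd', hdd⟩ : ∃ d' : F, th m d' + th m (th m d') = e + th m e ∧ d' - d ∈ (Lmap (m := m) hF 1).range := by
    obtain ⟨d0, hd0⟩ := th_surj (m := m) hF e
    by_cases h : d0 - d ∈ HL (m := m) hF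
    · exact ⟨d0, by rw [hd0], h⟩
    · refine ⟨d0 + 1, ?_, ?_⟩
      · rw [th_add hF, th_one, hd0, th_add hF, th_one]
        linear_combination two
      · have := add_one_mem hF h
        rwa [show d0 - d + 1 = d0 + 1 - d by ring] at this
  obtain ⟨w, hw⟩ := isConj_iff.1 (conj_of_diff hF hdd)
  apply Cov.of_conj (y := w)
  rw [hw]
  obtain ⟨b, hb⟩ : ∃ b : F, b = 1 + d' + th m d' + th m (s : F) := ⟨_, rfl⟩
  have hbth : th m b = tr x * (s * th m (s : F)) := by
    rw [hb, th_add hF, th_add hF, th_add hF, th_one, th_th hF (s : F)]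
    linear_combination hd' - hse - (s : F) ^ 2 * two + (s : F) ^ 2 * two + 2 * two - 2 * two + (s : F) ^ 2 * two
  set y := yy (m := m) hF s 0 b with hy
  have h1 : tr y = tr x := by
    rw [hy, tr_yy, f_eq, th_zero, hbth]
    field_simp
    ring
  have h2 : tr (y * tG hF 1 d') = tr x := by
    rw [hy, yy_mul, tr_yy, f_eq, th_zero, zero_add, th_one, zero_mul, add_zero, th_add hF, hbth]
    field_simp
    linear_combination hb + (1 + d' + th m d' + th m (s : F)) * two
  have h3 : (tG hF 1 d' : Sz F m) = y⁻¹ * (y * tG hF 1 d') := by group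
  rw [h3]
  apply Cov.of_mul
  · exact conj_of_tr hm hF hx (by rw [tr_inv hm hF, h1])
  · exact conj_of_tr hm hF hx h2.symm

/-- the conjugates of `T(1,b)` among the translations -/
theorem conj_scale (hF : Fintype.card F = 2 ^ (2 * m + 1)) {b b' c : F} (hc : c ≠ 0) (h : b' - b ∈ HL (m := m) hF) :
    ∃ y : Sz F m, y * tG hF 1 b * y⁻¹ = tG hF c (c * th m c * b') := by
  obtain ⟨w, hw⟩ := isConj_iff.1 (conj_of_diff hF h)
  refine ⟨dG hF (Units.mk0 c hc) * w, ?_⟩
  calc dG hF (Units.mk0 c hc) * w * tG hF 1 b * (dG hF (Units.mk0 c hc) * w)⁻¹ =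
        dG hF (Units.mk0 c hc) * (w * tG hF 1 b * w⁻¹) * (dG (m := m) hF (Units.mk0 c hc))⁻¹ := by group
    _ = _ := by
      rw [hw, H8.SuzSimple.dG_conj, Units.val_mk0, mul_one]

theorem cov_four_invol (hF : Fintype.card F = 2 ^ (2 * m + 1)) (b : F) : Cov (tG hF 1 b : Sz F m) (tG hF 0 1) := by
  have h1 : (tG hF 0 1 : Sz F m) = tG hF 1 b * tG hF 1 b := by
    rw [← pow_two, tG_sq, th_one, mul_one]
  rw [h1]
  exact Cov.of_mul ⟨1, by group⟩ ⟨1, by group⟩

theorem cov_four_four (hm : 1 ≤ m) (hF : Fintype.card F = 2 ^ (2 * m + 1)) (b e : F) :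
    Cov (tG hF 1 b : Sz F m) (tG hF 1 e) := by
  have two := two_eq_zero hF
  obtain ⟨k, hk⟩ := exists_k hm hF
  obtain ⟨a, ha⟩ : ∃ a : F, a = k := ⟨_, rfl⟩
  have ha0 : a ≠ 0 := ha ▸ k.ne_zero
  have ha1 : a ≠ 1 := fun h => hk (Units.ext (by rw [← ha, h]; rfl))
  have hc0 : a + 1 ≠ 0 := fun h => ha1 (by linear_combination h - two)
  set c := a + 1 with hc
  have hthc : th m c = th m a + 1 := by rw [hc, th_add hF, th_one]
  -- c θc / (a θa) moves H
  have hla : a * th m a ≠ 0 := mul_ne_zero ha0 (fun h => ha0 (th_eq_zero.1 h))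
  have hmu : c * th m c ≠ 0 := mul_ne_zero hc0 (fun h => hc0 (th_eq_zero.1 h))
  have hne : c * th m c ≠ a * th m a := by
    intro h
    rw [hthc, hc] at h
    apply one_not_mem (m := m) hF
    rw [mem_HL hF]
    exact ⟨a, by linear_combination h - (a + th m a) * two⟩
  obtain ⟨h', hh', hmove⟩ : ∃ h' ∈ HL (m := m) hF, (c * th m c) / (a * th m a) * h' ∉ HL (m := m) hF := by
    by_contra hno
    push Not at hno
    rcases smul_HL hF hno with h1 | h1
    · exact hmu (by rcases div_eq_zero_iff.1 h1 with h2 | h2 <;> [exact h2; exact absurd h2 hla])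
    · exact hne ((div_eq_one_iff_eq hla).1 h1)
  -- solve
  obtain ⟨h1, h2, hh1, hh2, hsum⟩ : ∃ h1 h2 : F, h1 ∈ HL (m := m) hF ∧ h2 ∈ HL (m := m) hF ∧
      e = a * th m a * (b + h1) + c * th m c * (b + h2) + th m a * c := by
    obtain ⟨z, hz⟩ : ∃ z : F, z = (e - (a * th m a * b + c * th m c * b + th m a * c)) / (a * th m a) := ⟨_, rfl⟩
    have hz' : a * th m a * z = e - (a * th m a * b + c * th m c * b + th m a * c) := by
      rw [hz, mul_div_cancel₀ _ hla]
    by_cases hzH : z ∈ HL (m := m) hF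
    · exact ⟨z, 0, hzH, zero_mem _, by linear_combination -hz'⟩
    · refine ⟨z + (c * th m c) / (a * th m a) * h', h', ?_, hh', ?_⟩
      · rw [AddSubgroup.add_mem_iff_of_index_two (index_range hF one_ne_zero)]
        exact iff_of_false hzH hmove
      · have h3 : a * th m a * ((c * th m c) / (a * th m a) * h') = c * th m c * h' := by
          rw [← mul_assoc, mul_div_cancel₀ _ hla]
        linear_combination -hz' - h3 - (c * th m c * h') * two
  have h3 : (tG hF 1 e : Sz F m) = tG hF a (a * th m a * (b + h1)) * tG hF c (c * th m c * (b + h2)) := by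
    rw [tG_mul]
    congr 1
    rw [hc]
    linear_combination -a * two
  rw [h3]
  apply Cov.of_mul
  · exact conj_scale hF ha0 (by rwa [add_sub_cancel_left])
  · exact conj_scale hF hc0 (by rwa [add_sub_cancel_left])

theorem cov_four_odd (hm : 1 ≤ m) (hF : Fintype.card F = 2 ^ (2 * m + 1)) (b : F) {g : Sz F m} (hg : tr g ≠ 0) :
    Cov (tG hF 1 b : Sz F m) g := by
  have two := two_eq_zero hF
  obtain ⟨s, e, hse⟩ := key2 hm hF hg
  -- square root of e
  obtain ⟨e1, he1⟩ := th_surj (m := m) hF e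
  obtain ⟨e2, he2⟩ := th_surj (m := m) hF e1
  have he : e2 ^ 2 = e := by rw [← th_th hF, he2, he1]
  obtain ⟨b', hb', hΦ⟩ : ∃ b' : F, b' - b ∈ HL (m := m) hF ∧ (1 + b' + th m b') ^ 2 = 1 + (e + th m e) := by
    have h0 : (1 + e2 + th m e2) ^ 2 = 1 + (e + th m e) := by
      rw [← he, th_pow]
      linear_combination (e2 + th m e2 + e2 * th m e2) * two
    by_cases h : e2 - b ∈ HL (m := m) hF
    · exact ⟨e2, h, h0⟩
    · refine ⟨e2 + 1, ?_, ?_⟩
      · have := add_one_mem hF h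
        rwa [show e2 - b + 1 = e2 + 1 - b by ring] at this
      · rw [← h0, th_add hF, th_one]
        linear_combination (2 * (1 + e2 + th m e2) + 2) * two
  have hs0 : (s : F) ≠ 0 := s.ne_zero
  have hs1 : th m (s : F) ≠ 0 := fun h => hs0 (th_eq_zero.1 h)
  set z : F := (s : F)⁻¹ with hz
  have hz0 : z ≠ 0 := inv_ne_zero hs0
  have htr : tr (tG hF 1 b' * (wG hF * tG hF z (z * th m z * b') * wG hF) : Sz F m) = tr g := by
    rw [tr_TWTW, f_eq, f_eq, th_mul, th_mul, th_th hF, th_one]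
    have h1 : th m z = (th m (s : F))⁻¹ := by rw [hz, th_inv]
    have h2 : tr g * ((s : F) ^ 2 * th m (s : F)) + (s : F) ^ 2 = (1 + b' + th m b') ^ 2 := by rw [hse, hΦ]
    rw [h1, hz]
    field_simp
    linear_combination (-1 : F) * h2 + (s * b' + s ^ 2) * two
  obtain ⟨w, hw⟩ := conj_of_tr hm hF (g := tG hF 1 b' * (wG hF * tG hF z (z * th m z * b') * wG hF)) (h := g) (by rw [htr]; exact hg) htr
  apply Cov.of_conj (y := w⁻¹)
  have h3 : w⁻¹ * g * w⁻¹⁻¹ = tG hF 1 b' * (wG hF * tG hF z (z * th m z * b') * wG hF) := by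
    rw [← hw]; group
  rw [h3]
  have hwi : (wG (m := m) hF)⁻¹ = wG hF := inv_eq_of_mul_eq_one_right (wG_mul hF)
  apply Cov.of_mul
  · obtain ⟨y, hy⟩ := conj_scale (m := m) hF (b := b) (b' := b') one_ne_zero hb'
    exact ⟨y, by rw [hy, th_one, one_mul, one_mul]⟩
  · obtain ⟨y, hy⟩ := conj_scale (m := m) hF (b := b) (b' := b') hz0 hb'
    refine ⟨wG hF * y, ?_⟩
    calc wG hF * y * tG hF 1 b * (wG hF * y)⁻¹ = wG hF * (y * tG hF 1 b * y⁻¹) * (wG hF)⁻¹ := by group
      _ = _ := by rw [hy, hwi]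

theorem tG_cases (hF : Fintype.card F = 2 ^ (2 * m + 1)) {a b : F} (h : (tG hF a b : Sz F m) ≠ 1) :
    (∃ y : Sz F m, y * tG hF a b * y⁻¹ = tG hF 0 1) ∨ (a ≠ 0 ∧ ∃ y : Sz F m, ∃ d : F, y * tG hF a b * y⁻¹ = tG hF 1 d) := by
  by_cases ha : a = 0
  · left
    have hb : b ≠ 0 := by
      rintro rfl
      exact h (by rw [ha, tG_one])
    rw [ha]
    obtain ⟨k, hk⟩ := H8.SuzSimple.exists_dG_conj (m := m) hF hb one_ne_zero
    exact ⟨_, hk⟩
  · right
    refine ⟨ha, dG hF (Units.mk0 a⁻¹ (inv_ne_zero ha)), a⁻¹ * th m a⁻¹ * b, ?_⟩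
    rw [H8.SuzSimple.dG_conj, Units.val_mk0, inv_mul_cancel₀ ha]

theorem cov (hm : 1 ≤ m) (hF : Fintype.card F = 2 ^ (2 * m + 1)) {x g : Sz F m} (hx : 2 < orderOf x) (hg : g ≠ 1) :
    Cov x g := by
  have hx1 : x ≠ 1 := by
    rintro rfl
    rw [orderOf_one] at hx
    omega
  have htr : ∀ z : Sz F m, z ≠ 1 → Odd (orderOf z) → tr z ≠ 0 := by
    intro z hz hodd
    obtain ⟨y, β, hβ, hy⟩ := exists_nf hm hF hz hodd
    rw [← tr_conj y z, hy]
    exact nf_ne hF hβ
  have hne : ∀ (z y : Sz F m) (a b : F), z ≠ 1 → y * z * y⁻¹ = tG hF a b → (tG hF a b : Sz F m) ≠ 1 := by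
    intro z y a b hz hy h
    rw [h] at hy
    apply hz
    calc z = y⁻¹ * (y * z * y⁻¹) * y := by group
      _ = 1 := by rw [hy]; group
  rcases cases_odd hm hF x with ⟨y, a, b, hy⟩ | hodd
  · -- x of order 4
    rcases tG_cases hF (hne x y a b hx1 hy) with ⟨y', hy'⟩ | ⟨_, y', d, hy'⟩
    · exfalso
      have h1 : orderOf x ∣ 2 := by
        rw [← orderOf_conj' y x, hy, ← orderOf_conj' y', hy']
        apply orderOf_dvd_of_pow_eq_one
        rw [tG_sq, mul_zero, tG_one]
      have := Nat.le_of_dvd (by norm_num) h1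
      omega
    · apply Cov.of_conj' (y := y' * y)
      have h1 : y' * y * x * (y' * y)⁻¹ = tG hF 1 d := by
        rw [← hy', ← hy]; group
      rw [h1]
      rcases cases_odd hm hF g with ⟨w, a', b', hw⟩ | hgodd
      · rcases tG_cases hF (hne g w a' b' hg hw) with ⟨w', hw'⟩ | ⟨_, w', d', hw'⟩
        · apply Cov.of_conj (y := w' * w)
          have h2 : w' * w * g * (w' * w)⁻¹ = tG hF 0 1 := by rw [← hw', ← hw]; group
          rw [h2]
          exact cov_four_invol hF d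
        · apply Cov.of_conj (y := w' * w)
          have h2 : w' * w * g * (w' * w)⁻¹ = tG hF 1 d' := by rw [← hw', ← hw]; group
          rw [h2]
          exact cov_four_four hm hF d d'
      · exact cov_four_odd hm hF d (htr g hg hgodd)
  · have hxt := htr x hx1 hodd
    rcases cases_odd hm hF g with ⟨w, a', b', hw⟩ | hgodd
    · rcases tG_cases hF (hne g w a' b' hg hw) with ⟨w', hw'⟩ | ⟨_, w', d', hw'⟩
      · apply Cov.of_conj (y := w' * w)
        have h2 : w' * w * g * (w' * w)⁻¹ = tG hF 0 1 := by rw [← hw', ← hw]; group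
        rw [h2]
        exact cov_odd_invol hm hF hxt
      · apply Cov.of_conj (y := w' * w)
        have h2 : w' * w * g * (w' * w)⁻¹ = tG hF 1 d' := by rw [← hw', ← hw]; group
        rw [h2]
        exact cov_odd_four hm hF hxt d'
    · exact cov_odd_odd hm hF hxt (htr g hg hgodd)

end H53.SzCov
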