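import Mathlib
import Cfsg.Prelude.Def_Classical
import Cfsg.Agent.Lib.H92.Herm4
import Cfsg.Agent.Lib.H92.UTransv
import Cfsg.Agent.Lib.H92.UInvol
import Cfsg.Agent.Lib.H92.ULift

/-!
S5557, piece P1: involutions of `SU 7 K 2`, `|K| = 4`, with the 3-transposition property are transvections.
-/

set_option autoImplicit false
set_option linter.unusedSectionVars false
set_option linter.unusedVariables false
open Cfsg Matrix

namespace H53.UP1
open H92.Herm H92.UTransv H92.UInvol H92.ULift

variable {K : Type*} [Field K] [Fintype K]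

theorem sum1 {n k : ℕ} (w : Fin k → Fin n → K) (z : Fin n → K) (i0 : Fin k)
    (h : ∀ i, B z (w i) = if i = i0 then 1 else 0) : ∑ i, B z (w i) • w i = w i0 := by
  rw [Finset.sum_eq_single i0]
  · rw [h i0, if_pos rfl, one_smul]
  · intro i _ hi
    rw [h i, if_neg hi, zero_smul]
  · intro hi; exact absurd (Finset.mem_univ _) hi

theorem sum0 {n k : ℕ} (w : Fin k → Fin n → K) (z : Fin n → K)
    (h : ∀ i, B z (w i) = 0) : ∑ i, B z (w i) • w i = 0 :=
  Finset.sum_eq_zero fun i _ => by rw [h i, zero_smul]

theorem invol_class {K : Type*} [Field K] [Fintype K] (hK : Fintype.card K = 4) (X : SU 7 K 2) (h1 : X ≠ 1)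
    (hX : X * X = 1) (h3 : ∀ g : SU 7 K 2, (X * (g * X * g⁻¹)) ^ 2 = 1 ∨ (X * (g * X * g⁻¹)) ^ 3 = 1) :
    ∃ v : Fin 7 → K, B v v = 0 ∧ v ≠ 0 ∧ X = T v := by
  obtain ⟨k, v, hli, hvv, hXT⟩ := decomp hK X hX
  have actX : ∀ z, act X z = z + ∑ i, B z (v i) • v i := by
    intro z
    have e : (List.ofFn (fun i => T (v i))) = (List.ofFn v).map T := by rw [List.map_ofFn]; rfl
    rw [hXT, e, act_prod_T hK _ _ z, List.map_ofFn, List.sum_ofFn]
    · rfl
    · intro p hp q hq
      obtain ⟨i, rfl⟩ := (List.mem_ofFn' _ _).1 hp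
      obtain ⟨j, rfl⟩ := (List.mem_ofFn' _ _).1 hq
      exact hvv i j
  match k, v, hli, hvv, hXT, actX with
  | 0, v, hli, hvv, hXT, actX =>
    exfalso
    apply h1
    rw [hXT]; simp
  | 1, v, hli, hvv, hXT, actX =>
    refine ⟨v 0, hvv 0 0, hli.ne_zero 0, ?_⟩
    rw [hXT]; simp
  | k + 2, v, hli, hvv, hXT, actX =>
    exfalso
    obtain ⟨f, hf⟩ := exists_dual hK v hli hvv
    have h01 : (0 : Fin (k + 2)) ≠ 1 := by
      intro h; exact absurd (congrArg Fin.val h) (by simp)
    have hfe := hf.fe hK
    obtain ⟨e, he0, hee, hev, hea, heb⟩ : ∃ e : Fin 7 → K, e ≠ 0 ∧ B e e = 0 ∧ (∀ i, B e (v i) = 0) ∧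
        B e (f 0) = 0 ∧ B e (f 1) = 0 := by
      rcases Nat.eq_zero_or_pos k with hk | hk
      · subst hk
        obtain ⟨x, hx0, hxx, hx⟩ := exists_iso_perp hK (n := 7) (m := 4) (by norm_num) ![v 0, v 1, f 0, f 1]
        refine ⟨x, hx0, hxx, ?_, by simpa using hx 2, by simpa using hx 3⟩
        intro i
        fin_cases i
        · simpa using hx 0
        · simpa using hx 1
      · refine ⟨v ⟨2, by omega⟩, hli.ne_zero _, hvv _ _, fun i => hvv _ _, ?_, ?_⟩
        · rw [hf.ef, if_neg]
          intro h; exact absurd (congrArg Fin.val h) (by simp)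
        · rw [hf.ef, if_neg]
          intro h; exact absurd (congrArg Fin.val h) (by simp)
    set a := f 0 with ha
    set b := f 1 with hb
    have haa : B a a = 0 := hf.ff 0 0
    have hbb : B b b = 0 := hf.ff 1 1
    have hab : B a b = 0 := hf.ff 0 1
    have hba : B b a = 0 := hf.ff 1 0
    have hae : B a e = 0 := B_symm_zero hK hea
    have hbe : B b e = 0 := B_symm_zero hK heb
    have hve : ∀ i, B (v i) e = 0 := fun i => B_symm_zero hK (hev i)
    have hva : ∀ i, B (v i) a = if i = 0 then 1 else 0 := fun i => hf.ef i 0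
    have hvb : ∀ i, B (v i) b = if i = 1 then 1 else 0 := fun i => hf.ef i 1
    have hav : ∀ i, B a (v i) = if i = 0 then 1 else 0 := fun i => by rw [hfe 0 i]; simp only [eq_comm]
    have hbv : ∀ i, B b (v i) = if i = 1 then 1 else 0 := fun i => by rw [hfe 1 i]; simp only [eq_comm]
    have hcc : B (b + e) (b + e) = 0 := by
      rw [B_add_left, B_add_right hK, B_add_right hK, hbb, hbe, heb, hee]; ring
    set g := T a * (T b * T (b + e)) with hg
    have actg : ∀ z, act g z = act (T a) (act (T b) (act (T (b + e)) z)) := fun z => by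
      rw [hg, act_mul, act_mul]
    have gv0 : act g (v 0) = v 0 + a := by
      rw [actg, act_T hK hcc, B_add_right hK, hvb, hve, if_neg h01, add_zero, zero_smul, add_zero, act_T hK hbb, hvb,
        if_neg h01, zero_smul, add_zero, act_T hK haa, hva, if_pos rfl, one_smul]
    have gv1 : act g (v 1) = v 1 + e := by
      have e1 : act (T (b + e)) (v 1) = v 1 + (b + e) := by
        rw [act_T hK hcc, B_add_right hK, hvb, hve, if_pos rfl, add_zero, one_smul]
      have e2 : act (T b) (v 1 + (b + e)) = v 1 + e := by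
        rw [act_T hK hbb, B_add_left, B_add_left, hvb, hbb, heb, if_pos rfl]
        simp only [add_zero, one_smul]
        have := vec_add_self hK b
        calc v 1 + (b + e) + b = v 1 + e + (b + b) := by abel
          _ = v 1 + e := by rw [this, add_zero]
      rw [actg, e1, e2, act_T hK haa, B_add_left, hva, hea, if_neg (Ne.symm h01)]
      simp
    have gvi : ∀ i, i ≠ 0 → i ≠ 1 → act g (v i) = v i := by
      intro i hi0 hi1
      rw [actg, act_T hK hcc, B_add_right hK, hvb, hve, if_neg hi1, add_zero, zero_smul, add_zero, act_T hK hbb, hvb,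
        if_neg hi1, zero_smul, add_zero, act_T hK haa, hva, if_neg hi0, zero_smul, add_zero]
    set Y := g * X * g⁻¹ with hY
    have hYY : Y * Y = 1 := by
      rw [hY]
      calc g * X * g⁻¹ * (g * X * g⁻¹) = g * (X * X) * g⁻¹ := by group
        _ = 1 := by rw [hX]; group
    have actY : ∀ z, act Y z = z + ∑ i, B z (act g (v i)) • act g (v i) := by
      intro z
      rw [hY, act_mul, act_mul, actX, map_add, act_act_inv, map_sum]
      congr 1
      refine Finset.sum_congr rfl fun i _ => ?_
      rw [map_smul, ← B_act g (act g⁻¹ z) (v i), act_act_inv]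
    have h3g := h3 g
    rw [← hY] at h3g
    clear_value Y
    have vv := fun x : Fin 7 → K => vec_add_self hK x
    have Xv : ∀ i, act X (v i) = v i := fun i => by rw [actX, sum0 v _ (hvv i), add_zero]
    have Xe : act X e = e := by rw [actX, sum0 v _ hev, add_zero]
    have Xa : act X a = a + v 0 := by rw [actX, sum1 v _ 0 hav]
    have Xb : act X b = b + v 1 := by rw [actX, sum1 v _ 1 hbv]
    have Yv0 : act Y (v 0) = a := by
      rw [actY, sum1 (fun i => act g (v i)) _ 0, gv0, ← add_assoc, vv, zero_add]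
      intro i
      by_cases hi0 : i = 0
      · rw [hi0, gv0, B_add_right hK, hvv, hva]; simp
      · by_cases hi1 : i = 1
        · rw [hi1, gv1, B_add_right hK, hvv, hve, if_neg (Ne.symm h01), add_zero]
        · rw [gvi i hi0 hi1, hvv, if_neg hi0]
    have Yb : act Y b = b + (v 1 + e) := by
      rw [actY, sum1 (fun i => act g (v i)) _ 1, gv1]
      intro i
      by_cases hi0 : i = 0
      · rw [hi0, gv0, B_add_right hK, hbv, hba, if_neg h01, add_zero]
      · by_cases hi1 : i = 1
        · rw [hi1, gv1, B_add_right hK, hbv, hbe, if_pos rfl, add_zero]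
        · rw [gvi i hi0 hi1, hbv]
    have Yv1 : act Y (v 1) = v 1 := by
      rw [actY, sum0 (fun i => act g (v i)), add_zero]
      intro i
      by_cases hi0 : i = 0
      · rw [hi0, gv0, B_add_right hK, hvv, hva, if_neg (Ne.symm h01), add_zero]
      · by_cases hi1 : i = 1
        · rw [hi1, gv1, B_add_right hK, hvv, hve, add_zero]
        · rw [gvi i hi0 hi1, hvv]
    have Ye : act Y e = e := by
      rw [actY, sum0 (fun i => act g (v i)), add_zero]
      intro i
      by_cases hi0 : i = 0
      · rw [hi0, gv0, B_add_right hK, hev, hea, add_zero]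
      · by_cases hi1 : i = 1
        · rw [hi1, gv1, B_add_right hK, hev, hee, add_zero]
        · rw [gvi i hi0 hi1, hev]
    have Xinv : X⁻¹ = X := inv_eq_of_mul_eq_one_left hX
    have Yinv : Y⁻¹ = Y := inv_eq_of_mul_eq_one_left hYY
    rcases h3g with h2 | h2
    · rw [pow_two] at h2
      have h4 := eq_inv_of_mul_eq_one_left h2
      rw [_root_.mul_inv_rev, Xinv, Yinv] at h4
      have h5 := congrArg (fun t => act t (v 0)) h4
      simp only [act_mul, Yv0, Xv, Xa] at h5
      exact hli.ne_zero 0 (by simpa using h5)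
    · have h4 : (X * Y * X) * (Y * X * Y) = 1 := by
        rw [← h2, pow_succ, pow_two]; group
      have h5 := eq_inv_of_mul_eq_one_left h4
      rw [_root_.mul_inv_rev, _root_.mul_inv_rev, Xinv, Yinv] at h5
      have h6 := congrArg (fun t => act t b) h5
      simp only [act_mul, Yb, Xb, map_add, Yv1, Xv, Xe, Ye] at h6
      apply he0
      have e1 : b + v 1 + (v 1 + e) + v 1 + 0 = b + v 1 + (v 1 + e) + v 1 + e := by
        rw [add_zero]
        calc b + v 1 + (v 1 + e) + v 1 = b + (v 1 + e) + v 1 + (v 1 + e) := h6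
          _ = b + v 1 + (v 1 + e) + v 1 + e := by abel
      exact (add_left_cancel e1).symm

end H53.UP1
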