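import Cfsg.Agent.Lib.H52.WC
import Cfsg.Agent.Lib.H53.Kfam2
import Mathlib

set_option autoImplicit false
set_option linter.unusedSectionVars false
set_option linter.unusedVariables false

/-! Weakly closed `Q`: factorizations `H° = H₁H₂` with `[H₁, H₂] ≤ N(Q)`. -/

namespace H53.WCP

open Subgroup Cfsg H52.PCore H52.PRes H52.Syl H52.Sub H52.YL2 H52.YL H52.WC
open scoped commutatorElement

variable {G : Type*} [Group G] [Finite G] {p : ℕ} [Fact p.Prime]
variable {Q : Subgroup G}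

theorem normalizer_inf_le_ncl {K : Subgroup G} :
    normalizer (K : Set G) ⊓ normalizer (Q : Set G) ≤ normalizer ((ncl K Q : Subgroup G) : Set G) := by
  rintro n ⟨hnK, hnQ⟩
  apply mem_normalizer_of_cj_le
  rw [cj_le_iff, ncl_le_iff]
  intro k hk
  rw [le_cj_iff, inv_inv, cj_cj]
  have e1 : n * k = (n * k * n⁻¹) * n := by group
  rw [e1, ← cj_cj, cj_eq_of_mem_normalizer hnQ]
  exact cj_le_ncl ((mem_normalizer_iff.1 hnK _).1 hk)

theorem ncl_idem (hQ : IsPGroup p Q) (hwc : WC p Q) {K : Subgroup G} (hQK : Q ≤ K) :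
    ncl (ncl K Q) Q = ncl K Q := by
  apply le_antisymm (ncl_le_self (le_ncl _ _))
  rw [ncl_le_iff]
  intro k hk
  obtain ⟨n, hn, m, hm, rfl⟩ := hwc.frattini hQ (le_ncl K Q) (le_normalizer_ncl K Q) hk
  rw [← cj_cj, cj_eq_of_mem_normalizer hn]
  exact cj_le_ncl hm

/-- `⟨Q^K⟩ = Q O^p(⟨Q^K⟩)` -/
theorem sup_res (hQ : IsPGroup p Q) (hwc : WC p Q) {K : Subgroup G} (hQK : Q ≤ K) :
    Q ⊔ resOf p (ncl K Q) = ncl K Q := by
  obtain ⟨Y, hY⟩ : ∃ Y : Subgroup G, Y = ncl K Q := ⟨_, rfl⟩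
  have hYY : ncl Y Q = Y := by rw [hY]; exact ncl_idem hQ hwc hQK
  have hQY : Q ≤ Y := by rw [hY]; exact le_ncl _ _
  rw [← hY]
  apply le_antisymm (sup_le hQY (resOf_le Y))
  obtain ⟨T, hT, hQT⟩ := exists_sylIn_le hQY hQ
  have hTn : T ≤ normalizer (Q : Set G) := hwc.sylIn_le_normalizer hT.isPGroup hQT
  have hn : Y ≤ normalizer ((Q ⊔ resOf p Y : Subgroup G) : Set G) := by
    conv_lhs => rw [← hT.sup_resOf_eq]
    apply sup_le
    · exact (le_inf hTn (hT.le.trans (le_normalizer_resOf Y))).trans normalizer_sup_le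
    · exact le_sup_right.trans Subgroup.le_normalizer
  conv_lhs => rw [← hYY]
  rw [ncl_le_iff]
  intro l hl
  rw [← cj_eq_of_mem_normalizer (hn hl)]
  exact cj_mono le_sup_left

/-- `O^p(⟨Q^K⟩) = [O^p(⟨Q^K⟩), Q]` -/
theorem res_eq_commutator (hQ : IsPGroup p Q) (hwc : WC p Q) {K : Subgroup G} (hQK : Q ≤ K) :
    ⁅resOf p (ncl K Q), Q⁆ = resOf p (ncl K Q) := by
  obtain ⟨Y, hY⟩ : ∃ Y : Subgroup G, Y = ncl K Q := ⟨_, rfl⟩
  have hYY : ncl Y Q = Y := by rw [hY]; exact ncl_idem hQ hwc hQK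
  have hQY : Q ≤ Y := by rw [hY]; exact le_ncl _ _
  have hs : Q ⊔ resOf p Y = Y := by rw [hY]; exact sup_res hQ hwc hQK
  rw [← hY]
  have hQn : Q ≤ normalizer (resOf p Y : Set G) := hQY.trans (le_normalizer_resOf Y)
  apply le_antisymm (le_normalizer_iff_commutator_le_left.1 hQn)
  rw [commutator_comm]
  have hn : Y ≤ normalizer ((Q ⊔ ⁅Q, resOf p Y⁆ : Subgroup G) : Set G) := by
    conv_lhs => rw [← hs]
    exact sup_le (le_sup_left.trans Subgroup.le_normalizer) (le_normalizer_sup_commutator Q _)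
  have h1 : Y ≤ Q ⊔ ⁅Q, resOf p Y⁆ := by
    conv_lhs => rw [← hYY]
    rw [ncl_le_iff]
    intro l hl
    rw [← cj_eq_of_mem_normalizer (hn hl)]
    exact cj_mono le_sup_left
  have h2 : Y = Q ⊔ ⁅Q, resOf p Y⁆ := by
    apply le_antisymm h1
    refine sup_le hQY ?_
    rw [commutator_comm]
    exact (le_normalizer_iff_commutator_le_left.1 hQn).trans (resOf_le Y)
  apply resOf_le_of_pMod
  have h3 := pMod_of_sup (p := p) hQ (normalizer_commutator_ge_left Q (resOf p Y))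
  rwa [← h2] at h3

section pair

variable {H H₁ H₂ : Subgroup G}

structure Pair (p : ℕ) (Q H H₁ H₂ : Subgroup G) : Prop where
  Qp : IsPGroup p Q
  wc : WC p Q
  eq : H = ncl ⊤ Q
  le₁ : H₁ ≤ H
  n₁ : H ≤ normalizer (H₁ : Set G)
  le₂ : H₂ ≤ H
  n₂ : H ≤ normalizer (H₂ : Set G)
  prod : H₁ ⊔ H₂ = H
  comm : ⁅H₁, H₂⁆ ≤ normalizer (Q : Set G)

namespace Pair

variable (h : Pair p Q H H₁ H₂)
include h

theorem symm : Pair p Q H H₂ H₁ where
  Qp := h.Qp
  wc := h.wc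
  eq := h.eq
  le₁ := h.le₂
  n₁ := h.n₂
  le₂ := h.le₁
  n₂ := h.n₁
  prod := by rw [sup_comm]; exact h.prod
  comm := by rw [commutator_comm]; exact h.comm

theorem QH : Q ≤ H := by rw [h.eq]; exact le_ncl _ _

theorem ncl_eq : ncl H Q = H := by rw [h.eq]; exact ncl_idem h.Qp h.wc le_top

theorem top_le : (⊤ : Subgroup G) ≤ normalizer (H : Set G) := by rw [h.eq]; exact le_normalizer_ncl _ _

theorem PN : pCoreOf p H ≤ normalizer (Q : Set G) :=
  h.wc.le_normalizer h.Qp (isPGroup_pCoreOf H) (h.QH.trans (le_normalizer_pCoreOf H))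

theorem Wn : H ≤ normalizer ((⁅H₁, H₂⁆ : Subgroup G) : Set G) :=
  (le_inf h.n₁ h.n₂).trans normalizer_commutator_le

theorem WH₁ : ⁅H₁, H₂⁆ ≤ H₁ := le_normalizer_iff_commutator_le_left.1 (h.le₂.trans h.n₁)

theorem WQ : ⁅⁅H₁, H₂⁆, Q⁆ ≤ pCoreOf p H := by
  obtain ⟨W, hW⟩ : ∃ W : Subgroup G, W = ⁅H₁, H₂⁆ := ⟨_, rfl⟩
  have hWQ : W ≤ normalizer (Q : Set G) := by rw [hW]; exact h.comm
  have hHW : H ≤ normalizer (W : Set G) := by rw [hW]; exact h.Wn
  have hWH : W ≤ H := by rw [hW]; exact h.WH₁.trans h.le₁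
  rw [← hW]
  have h1 : ⁅W, Q⁆ ≤ Q ⊓ W := le_inf (le_normalizer_iff_commutator_le_right.1 hWQ)
    (le_normalizer_iff_commutator_le_left.1 (h.QH.trans hHW))
  refine h1.trans ?_
  have h2 : Q ⊓ W ≤ pCoreOf p W := le_pCoreOf inf_le_right
    ((le_inf hWQ Subgroup.le_normalizer).trans normalizer_inf_le) (h.Qp.to_le inf_le_left)
  exact h2.trans (le_pCoreOf ((pCoreOf_le W).trans hWH) (hHW.trans (normalizer_le_normalizer_pCoreOf W))
    (isPGroup_pCoreOf W))

theorem WHc : ⁅⁅H₁, H₂⁆, H⁆ ≤ pCoreOf p H := by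
  have h1 := commutator_ncl_le (A := ⁅H₁, H₂⁆) (B := pCoreOf p H) (X := Q) (H := H) h.QH (le_normalizer_pCoreOf H)
    h.Wn h.WQ
  rwa [h.ncl_eq] at h1

theorem QN₁ : Q ≤ normalizer (H₁ : Set G) := h.QH.trans h.n₁

theorem K_le : resOf p (ncl (H₁ ⊔ Q) Q) ≤ H₁ := by
  refine (resOf_mono (ncl_le_self le_sup_right)).trans ?_
  apply resOf_le_of_pMod
  rw [sup_comm]
  exact pMod_of_sup h.Qp h.QN₁

theorem H_K : H₁ ≤ normalizer ((resOf p (ncl (H₁ ⊔ Q) Q) : Subgroup G) : Set G) :=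
  (le_sup_left.trans (le_normalizer_ncl _ _)).trans (normalizer_le_normalizer_resOf _)

theorem N_K : normalizer (H₁ : Set G) ⊓ normalizer (Q : Set G) ≤
    normalizer ((resOf p (ncl (H₁ ⊔ Q) Q) : Subgroup G) : Set G) := by
  refine le_trans ?_ (normalizer_le_normalizer_resOf _)
  exact (le_inf normalizer_sup_le inf_le_right).trans normalizer_inf_le_ncl

theorem KQ : ⁅resOf p (ncl (H₁ ⊔ Q) Q), Q⁆ = resOf p (ncl (H₁ ⊔ Q) Q) :=
  res_eq_commutator h.Qp h.wc le_sup_right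

theorem KH : ⁅resOf p (ncl (H₁ ⊔ Q) Q), H₁⁆ = resOf p (ncl (H₁ ⊔ Q) Q) := by
  obtain ⟨K, hK⟩ : ∃ K : Subgroup G, K = resOf p (ncl (H₁ ⊔ Q) Q) := ⟨_, rfl⟩
  have hKQ : ⁅K, Q⁆ = K := by rw [hK]; exact h.KQ
  have hKH : K ≤ H₁ := by rw [hK]; exact h.K_le
  have hHK : H₁ ≤ normalizer (K : Set G) := by rw [hK]; exact h.H_K
  have hKK : resOf p K = K := by rw [hK]; exact resOf_resOf _
  have hQK : Q ≤ normalizer (K : Set G) := by
    rw [hK]; exact (le_inf h.QN₁ Subgroup.le_normalizer).trans h.N_K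
  rw [← hK]
  obtain ⟨Z, hZ⟩ : ∃ Z : Subgroup G, Z = ⁅K, H₁⁆ := ⟨_, rfl⟩
  obtain ⟨W, hW⟩ : ∃ W : Subgroup G, W = ⁅H₁, H₂⁆ := ⟨_, rfl⟩
  rw [← hZ]
  have hZK : Z ≤ K := by rw [hZ]; exact le_normalizer_iff_commutator_le_left.1 hHK
  have hHZ : H₁ ≤ normalizer (Z : Set G) := by
    rw [hZ]; exact (le_inf hHK Subgroup.le_normalizer).trans normalizer_commutator_le
  have hQZ : Q ≤ normalizer (Z : Set G) := by
    rw [hZ]; exact (le_inf hQK h.QN₁).trans normalizer_commutator_le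
  have hHW : H ≤ normalizer (W : Set G) := by rw [hW]; exact h.Wn
  have hWQ : W ≤ normalizer (Q : Set G) := by rw [hW]; exact h.comm
  apply le_antisymm hZK
  have h1 : K ≤ Z ⊔ W := by
    conv_lhs => rw [← hKQ]
    rw [commutator_le]
    intro k hk q hq
    have hq' : q ∈ H₁ ⊔ H₂ := by rw [h.prod]; exact h.QH hq
    rw [mem_sup_iff_of_le_normalizer (h.le₁.trans h.n₂)] at hq'
    obtain ⟨a, ha, b, hb, rfl⟩ := hq'
    have e1 : ⁅k, a * b⁆ = ⁅k, a⁆ * (a * ⁅k, b⁆ * a⁻¹) := by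
      simp only [commutatorElement_def]; group
    rw [e1]
    apply mul_mem
    · apply mem_sup_left
      rw [hZ]; exact commutator_mem_commutator hk ha
    · apply mem_sup_right
      apply (mem_normalizer_iff.1 (hHW (h.le₁ ha)) _).1
      rw [hW]; exact commutator_mem_commutator (hKH hk) hb
  have h2 : K = Z ⊔ (W ⊓ K) := by
    rw [← H53.Kfam.dedekind' ((hZK.trans hKH).trans (h.le₁.trans hHW)) hZK]
    exact (inf_eq_right.2 h1).symm
  obtain ⟨D, hD⟩ : ∃ D : Subgroup G, D = Q ⊓ W ⊓ K := ⟨_, rfl⟩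
  have h3 : K ≤ D ⊔ Z := by
    have hWKn : W ⊓ K ≤ normalizer ((D ⊔ Z : Subgroup G) : Set G) := by
      refine (le_inf ?_ (inf_le_right.trans (hKH.trans hHZ))).trans normalizer_sup_le
      rw [hD]
      refine (le_inf ?_ (inf_le_right.trans Subgroup.le_normalizer)).trans normalizer_inf_le
      exact ((le_inf hWQ Subgroup.le_normalizer).trans normalizer_inf_le).trans' inf_le_left
    have hZn : Z ≤ normalizer ((D ⊔ Z : Subgroup G) : Set G) := le_sup_right.trans Subgroup.le_normalizer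
    have h4 : K ≤ cmod Q (D ⊔ Z) := by
      rw [h2]
      apply sup_le
      · rw [le_cmod_iff hZn]
        exact (le_normalizer_iff_commutator_le_right.1 hQZ).trans le_sup_right
      · rw [le_cmod_iff hWKn, hD]
        refine le_trans ?_ le_sup_left
        apply le_inf
        · apply le_inf
          · exact le_normalizer_iff_commutator_le_left.1 (inf_le_left.trans hWQ)
          · exact (commutator_mono le_rfl inf_le_left).trans
              (le_normalizer_iff_commutator_le_right.1 (h.QH.trans hHW))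
        · exact (commutator_mono le_rfl inf_le_right).trans (le_normalizer_iff_commutator_le_right.1 hQK)
    have hKn : K ≤ normalizer ((D ⊔ Z : Subgroup G) : Set G) := by rw [h2]; exact sup_le hZn hWKn
    rw [le_cmod_iff hKn, commutator_comm, hKQ] at h4
    exact h4
  have h4 : D ⊔ Z = K := by
    apply le_antisymm _ h3
    apply sup_le _ hZK
    rw [hD]; exact inf_le_right
  rw [← hKK]
  apply resOf_le_of_pMod
  have h5 := pMod_of_sup (p := p) (P := D) (C := Z) (by rw [hD]; exact h.Qp.to_le (inf_le_left.trans inf_le_left))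
    (by rw [hD]; exact inf_le_right.trans (hKH.trans hHZ))
  rwa [h4] at h5

theorem nK : H ≤ normalizer ((resOf p (ncl (H₁ ⊔ Q) Q) : Subgroup G) : Set G) := by
  have hKHe := h.KH
  have hNK := h.N_K
  have hKH := h.K_le
  have hHK := h.H_K
  have hKK := resOf_resOf (p := p) (ncl (H₁ ⊔ Q) Q)
  obtain ⟨K, hK⟩ : ∃ K : Subgroup G, K = resOf p (ncl (H₁ ⊔ Q) Q) := ⟨_, rfl⟩
  rw [← hK] at hKHe hNK hKH hHK hKK ⊢
  obtain ⟨P, hP⟩ : ∃ P : Subgroup G, P = pCoreOf p H := ⟨_, rfl⟩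
  have hPp : IsPGroup p P := by rw [hP]; exact isPGroup_pCoreOf H
  have hHP : H ≤ normalizer (P : Set G) := by rw [hP]; exact le_normalizer_pCoreOf H
  have hPH : P ≤ H := by rw [hP]; exact pCoreOf_le H
  have hPQ : P ≤ normalizer (Q : Set G) := by rw [hP]; exact h.PN
  have hPK : P ≤ normalizer (K : Set G) := (le_inf (hPH.trans h.n₁) hPQ).trans hNK
  have hWP := h.WHc
  obtain ⟨W, hW⟩ : ∃ W : Subgroup G, W = ⁅H₁, H₂⁆ := ⟨_, rfl⟩
  rw [← hP, ← hW] at hWP
  have hHW : H ≤ normalizer (W : Set G) := by rw [hW]; exact h.Wn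
  have hWH : W ≤ H₁ := by rw [hW]; exact h.WH₁
  -- `K W` is normal
  have h1 : H ≤ normalizer ((K ⊔ W : Subgroup G) : Set G) := by
    rw [← h.prod]
    apply sup_le
    · exact (le_inf hHK (h.le₁.trans hHW)).trans normalizer_sup_le
    · intro x hx
      apply mem_normalizer_of_cj_le
      rw [cj_sup]
      apply sup_le
      · intro y hy
        rw [mem_cj] at hy
        have e1 : y = ⁅x, x⁻¹ * y * x⁆ * (x⁻¹ * y * x) := by simp only [commutatorElement_def]; group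
        rw [e1]
        refine mul_mem (mem_sup_right ?_) (mem_sup_left hy)
        rw [hW, commutator_comm]
        exact commutator_mem_commutator hx (hKH hy)
      · rw [cj_eq_of_mem_normalizer (hHW (h.le₂ hx))]; exact le_sup_right
  have h2 : ⁅K ⊔ W, H₁⁆ ⊔ P = K ⊔ P := by
    apply le_antisymm
    · apply sup_le _ le_sup_right
      have hn1 : K ≤ normalizer ((K ⊔ P : Subgroup G) : Set G) := le_sup_left.trans Subgroup.le_normalizer
      have hn2 : W ≤ normalizer ((K ⊔ P : Subgroup G) : Set G) :=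
        (le_inf (hWH.trans hHK) ((hWH.trans h.le₁).trans hHP)).trans normalizer_sup_le
      have h3 : K ⊔ W ≤ cmod H₁ (K ⊔ P) := by
        apply sup_le
        · rw [le_cmod_iff hn1]
          exact (le_normalizer_iff_commutator_le_right.1 hHK).trans le_sup_left
        · rw [le_cmod_iff hn2, commutator_comm]
          exact ((commutator_mono le_rfl h.le₁).trans hWP).trans le_sup_right
      rw [le_cmod_iff (sup_le hn1 hn2), commutator_comm] at h3
      exact h3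
    · apply sup_le _ le_sup_right
      refine le_trans ?_ le_sup_left
      conv_lhs => rw [← hKHe]
      exact commutator_mono le_sup_left le_rfl
  have h3 : H ≤ normalizer ((K ⊔ P : Subgroup G) : Set G) := by
    rw [← h2]
    exact (le_inf ((le_inf h1 h.n₁).trans normalizer_commutator_le) hHP).trans normalizer_sup_le
  have h4 : resOf p (K ⊔ P) = K := by
    apply le_antisymm
    · apply resOf_le_of_pMod
      rw [sup_comm]
      exact pMod_of_sup hPp hPK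
    · conv_lhs => rw [← hKK]
      exact resOf_mono le_sup_left
  rw [← h4]
  exact h3.trans (normalizer_le_normalizer_resOf _)

theorem cover {x : G} (hx : x ∈ H₁) : ∃ k ∈ resOf p (ncl (H₁ ⊔ Q) Q), ∃ n ∈ normalizer (Q : Set G), x = k * n := by
  obtain ⟨n, hn, m, hm, rfl⟩ := h.wc.frattini h.Qp (M := ncl (H₁ ⊔ Q) Q) (X := H₁) (le_ncl _ _)
    (le_sup_left.trans (le_normalizer_ncl _ _)) hx
  rw [← sup_res h.Qp h.wc le_sup_right] at hm
  have hQK : Q ≤ normalizer ((resOf p (ncl (H₁ ⊔ Q) Q) : Subgroup G) : Set G) :=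
    (le_inf h.QN₁ Subgroup.le_normalizer).trans h.N_K
  rw [mem_sup_iff_of_le_normalizer hQK] at hm
  obtain ⟨q, hq, k, hk, rfl⟩ := hm
  refine ⟨q * k * q⁻¹, (mem_normalizer_iff.1 (hQK hq) _).1 hk, q * n, mul_mem (Subgroup.le_normalizer hq) hn, by group⟩

theorem K_le_res : resOf p (ncl (H₁ ⊔ Q) Q) ≤ resOf p H := by
  conv_lhs => rw [← resOf_resOf]
  exact resOf_mono (h.K_le.trans h.le₁)

theorem sup_eq : resOf p (ncl (H₁ ⊔ Q) Q) ⊔ resOf p (ncl (H₂ ⊔ Q) Q) = resOf p H := by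
  apply le_antisymm (sup_le h.K_le_res h.symm.K_le_res)
  have hc1 := fun x (hx : x ∈ H₁) => h.cover hx
  have hc2 := fun x (hx : x ∈ H₂) => h.symm.cover hx
  have hn1 := h.nK
  have hn2 := h.symm.nK
  have hk1 := h.K_le
  have hk2 := h.symm.K_le
  obtain ⟨K₁, hK₁⟩ : ∃ K : Subgroup G, K = resOf p (ncl (H₁ ⊔ Q) Q) := ⟨_, rfl⟩
  obtain ⟨K₂, hK₂⟩ : ∃ K : Subgroup G, K = resOf p (ncl (H₂ ⊔ Q) Q) := ⟨_, rfl⟩
  rw [← hK₁] at hc1 hn1 hk1 ⊢
  rw [← hK₂] at hc2 hn2 hk2 ⊢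
  have hn : H ≤ normalizer ((K₁ ⊔ K₂ : Subgroup G) : Set G) := (le_inf hn1 hn2).trans normalizer_sup_le
  have hL : H ≤ normalizer ((Q ⊔ (K₁ ⊔ K₂) : Subgroup G) : Set G) := by
    conv_lhs => rw [← h.prod]
    apply sup_le
    · intro x hx
      obtain ⟨k, hk, n, hn', rfl⟩ := hc1 x hx
      apply mul_mem
      · exact Subgroup.le_normalizer (mem_sup_right (mem_sup_left hk))
      · apply normalizer_sup_le
        refine mem_inf.2 ⟨hn', hn ?_⟩
        have := H.mul_mem (H.inv_mem (h.le₁ (hk1 hk))) (h.le₁ hx)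
        simpa using this
    · intro x hx
      obtain ⟨k, hk, n, hn', rfl⟩ := hc2 x hx
      apply mul_mem
      · exact Subgroup.le_normalizer (mem_sup_right (mem_sup_right hk))
      · apply normalizer_sup_le
        refine mem_inf.2 ⟨hn', hn ?_⟩
        have := H.mul_mem (H.inv_mem (h.le₂ (hk2 hk))) (h.le₂ hx)
        simpa using this
  have h1 : H ≤ Q ⊔ (K₁ ⊔ K₂) := by
    conv_lhs => rw [← h.ncl_eq]
    rw [ncl_le_iff]
    intro l hl
    rw [← cj_eq_of_mem_normalizer (hL hl)]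
    exact cj_mono le_sup_left
  have h2 : Q ⊔ (K₁ ⊔ K₂) = H :=
    le_antisymm (sup_le h.QH (sup_le (hk1.trans h.le₁) (hk2.trans h.le₂))) h1
  apply resOf_le_of_pMod
  have h3 := pMod_of_sup (p := p) h.Qp (h.QH.trans hn)
  rwa [h2] at h3

theorem comm_le : ⁅resOf p (ncl (H₁ ⊔ Q) Q), resOf p (ncl (H₂ ⊔ Q) Q)⁆ ≤ pCoreOf p H := by
  have hPn : (⊤ : Subgroup G) ≤ normalizer ((pCoreOf p H : Subgroup G) : Set G) :=
    h.top_le.trans (normalizer_le_normalizer_pCoreOf H)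
  have hWP := h.WHc
  have hKH := h.KH
  have hk1 := h.K_le
  have hk2 := h.symm.K_le
  obtain ⟨K₁, hK₁⟩ : ∃ K : Subgroup G, K = resOf p (ncl (H₁ ⊔ Q) Q) := ⟨_, rfl⟩
  obtain ⟨K₂, hK₂⟩ : ∃ K : Subgroup G, K = resOf p (ncl (H₂ ⊔ Q) Q) := ⟨_, rfl⟩
  obtain ⟨P, hP⟩ : ∃ P : Subgroup G, P = pCoreOf p H := ⟨_, rfl⟩
  rw [← hP] at hPn hWP ⊢
  rw [← hK₁] at hk1 hKH ⊢
  rw [← hK₂] at hk2 ⊢
  have hPN : P.Normal := normal_iff_top_le_normalizer.2 hPn
  obtain ⟨f, hfdef⟩ : ∃ f : G →* G ⧸ P, f = QuotientGroup.mk' P := ⟨_, rfl⟩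
  have hker : f.ker = P := by rw [hfdef]; exact QuotientGroup.ker_mk' _
  have hz : ∀ X Y : Subgroup G, ⁅X, Y⁆ ≤ P ↔ ⁅X.map f, Y.map f⁆ = ⊥ := by
    intro X Y
    rw [← map_commutator, Subgroup.map_eq_bot_iff, hker]
  have hz3 : ∀ X Y Z : Subgroup G, ⁅⁅X, Y⁆, Z⁆ ≤ P ↔ ⁅⁅X.map f, Y.map f⁆, Z.map f⁆ = ⊥ := by
    intro X Y Z
    rw [← map_commutator, ← map_commutator, Subgroup.map_eq_bot_iff, hker]
  have h1 : ⁅⁅H₁, K₂⁆, K₁⁆ ≤ P :=
    (commutator_mono (commutator_mono le_rfl hk2) (hk1.trans h.le₁)).trans hWP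
  have h2 : ⁅⁅K₂, K₁⁆, H₁⁆ ≤ P := by
    refine (commutator_mono ?_ h.le₁).trans hWP
    rw [commutator_comm]
    exact commutator_mono hk1 hk2
  have h3 := commutator_commutator_eq_bot_of_rotate ((hz3 _ _ _).1 h1) ((hz3 _ _ _).1 h2)
  rw [← hz3, hKH] at h3
  exact h3

end Pair

end pair

end H53.WCP
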